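import Mathlib
import Cfsg.Agent.Helper5.OmBN.Defs

/-!
# (XIINV) for helper5's S2549 farm: `xMat a b (-t) * xMat a b t = 1` (helper90)
-/

set_option autoImplicit false

namespace Cfsg.Agent.Helper90.OmBN

open Matrix Cfsg.Agent.Helper5.OmBN

variable {F : Type*} [Field F] {m : ℕ} {α β : F}

/-- no position is fixed by `Fin.rev` (the number `2m + 2` of positions is even) -/
theorem rev_ne_self (r : Fin (2 * m + 2)) : Fin.rev r ≠ r := by
  intro h
  have h1 := congrArg Fin.val h
  rw [val_rev] at h1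
  have h2 := r.2
  omega

/-- in any ring, `(1 - N) * (1 + N) = 1` when `N * N = 0` -/
theorem one_sub_mul_one_add_of_sq_zero {R : Type*} [Ring R] (N : R) (h : N * N = 0) :
    (1 - N) * (1 + N) = 1 := by
  have : (1 - N) * (1 + N) = 1 - N * N := by noncomm_ring
  rw [this, h, sub_zero]

/-- (XIINV) -/
theorem xMat_neg_mul (a b : Fin (2 * m + 2)) (hab : a ≠ b) (hab' : a ≠ Fin.rev b) (t : F) :
    xMat a b (-t) * xMat a b t = 1 := by
  have hAA : Matrix.single a b (1 : F) * Matrix.single a b (1 : F) = 0 :=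
    Matrix.single_mul_single_of_ne _ _ _ _ (Ne.symm hab) _
  have hAB : Matrix.single a b (1 : F) * Matrix.single (Fin.rev b) (Fin.rev a) (1 : F) = 0 :=
    Matrix.single_mul_single_of_ne _ _ _ _ (Ne.symm (rev_ne_self b)) _
  have hBA : Matrix.single (Fin.rev b) (Fin.rev a) (1 : F) * Matrix.single a b (1 : F) = 0 :=
    Matrix.single_mul_single_of_ne _ _ _ _ (rev_ne_self a) _
  have hBB : Matrix.single (Fin.rev b) (Fin.rev a) (1 : F) *
      Matrix.single (Fin.rev b) (Fin.rev a) (1 : F) = 0 :=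
    Matrix.single_mul_single_of_ne _ _ _ _ (fun h => hab (Fin.rev_injective h)) _
  set N : Matrix (Fin (2 * m + 2)) (Fin (2 * m + 2)) F :=
    t • Matrix.single a b (1 : F) - t • Matrix.single (Fin.rev b) (Fin.rev a) (1 : F) with hN
  have hNN : N * N = 0 := by
    rw [hN]
    simp only [sub_mul, mul_sub, smul_mul_assoc, mul_smul_comm, hAA, hAB, hBA, hBB, smul_zero,
      sub_zero]
  have h1 : xMat a b t = 1 + N := by
    unfold xMat
    rw [hN]
    abel
  have h2 : xMat a b (-t) = 1 - N := by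
    unfold xMat
    rw [hN, neg_smul, neg_smul]
    abel
  rw [h1, h2]
  exact one_sub_mul_one_add_of_sq_zero N hNN

end Cfsg.Agent.Helper90.OmBN
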