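import Mathlib
import Cfsg.Agent.Helper5.OmBN.Defs

/-!
# (XB) for helper5's S2549 farm: the root elements lie in `Usub` (helper90)
-/

set_option autoImplicit false

namespace Cfsg.Agent.Helper90.OmBN

open Matrix Cfsg.Agent.Helper5.OmBN

variable {F : Type*} [Field F] {m : ℕ} {α β : F}

theorem pos_ib_of_lt (k : Fin m) (hk : k.val + 1 < m) : pos (ib k) = k.val + 1 := by
  unfold pos
  rw [val_ib, if_pos hk]

theorem pos_rev_ib_of_lt (k : Fin m) (hk : k.val + 1 < m) :
    pos (Fin.rev (ib k)) = 2 * m - k.val - 1 := by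
  unfold pos
  rw [val_rev, val_ib]
  split_ifs <;> omega

theorem pos_rev_lo (k : Fin m) : pos (Fin.rev (lo k)) = 2 * m - k.val := by
  rw [rev_lo, pos_hi]

/-- (XB) root elements are in `U` -/
theorem Xset_subset_Usub (k : Fin m) : Xset α β k ⊆ (Usub m α β : Set (OG m α β)) := by
  intro g hg
  have hkm := k.2
  have key : ∀ r s : Fin (2 * m + 2), pos s ≤ pos r → mat g r s = if r = s then 1 else 0 := by
    intro r s hrs
    rcases hg with ⟨hk, t, ht⟩ | ⟨hk, w1, w2, hw⟩
    · have n1 : ¬ (lo k = r ∧ ib k = s) := by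
        rintro ⟨rfl, rfl⟩
        rw [pos_lo, pos_ib_of_lt k hk] at hrs
        omega
      have n2 : ¬ (Fin.rev (ib k) = r ∧ Fin.rev (lo k) = s) := by
        rintro ⟨rfl, rfl⟩
        rw [pos_rev_lo, pos_rev_ib_of_lt k hk] at hrs
        omega
      rw [ht, xMat_apply, if_neg n1, if_neg n2, add_zero, sub_zero]
    · have n1 : ¬ (lo k = r ∧ c1 = s) := by
        rintro ⟨rfl, rfl⟩
        rw [pos_lo, pos_c1] at hrs
        omega
      have n2 : ¬ (lo k = r ∧ c2 = s) := by
        rintro ⟨rfl, rfl⟩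
        rw [pos_lo, pos_c2] at hrs
        omega
      have n3 : ¬ (c1 = r ∧ Fin.rev (lo k) = s) := by
        rintro ⟨rfl, rfl⟩
        rw [pos_rev_lo, pos_c1] at hrs
        omega
      have n4 : ¬ (c2 = r ∧ Fin.rev (lo k) = s) := by
        rintro ⟨rfl, rfl⟩
        rw [pos_rev_lo, pos_c2] at hrs
        omega
      have n5 : ¬ (lo k = r ∧ Fin.rev (lo k) = s) := by
        rintro ⟨rfl, rfl⟩
        rw [pos_rev_lo, pos_lo] at hrs
        omega
      rw [hw, sgMat_apply, if_neg n1, if_neg n2, if_neg n3, if_neg n4, if_neg n5, add_zero,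
        add_zero, sub_zero, sub_zero, sub_zero]
  rw [SetLike.mem_coe, mem_Usub_iff]
  refine ⟨fun r s h => ?_, fun r s h => key r s h.ge⟩
  rw [key r s h.le, if_neg]
  rintro rfl
  exact lt_irrefl _ h

end Cfsg.Agent.Helper90.OmBN
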