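import Cfsg.Agent.Helper16.PC.Defs
import Cfsg.Agent.Helper74.CharCount
import Cfsg.Agent.Helper79.Linear
import Cfsg.Agent.S0961
import Cfsg.Agent.Helper75.FrobeniusKernel

/-!
# S4427 piece (IVe) for helper16 (helper90)

If `theta = p^a · 1_{p-regular}` is a non-negative integral combination of irreducible characters, it is
a character; its kernel is the set of `p`-regular elements, which is therefore a normal subgroup.
-/

set_option autoImplicit false
set_option linter.unusedSectionVars false
set_option linter.unusedVariables false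

namespace Cfsg.Agent.Helper90.PC

open Cfsg Cfsg.Agent.Helper16 Cfsg.Agent.Helper16.PC Polynomial
open scoped ComplexConjugate

universe u

variable {G : Type u} [Group G] [Fintype G] {M : Ideal AlgInt} {p : ℕ}

/-- (IVe) if `theta` is a character, the `p`-regular elements form a normal subgroup. -/
theorem PC_IVe [Fact p.Prime] [Fintype (IrrCharacter G)] (φ : IrrCharacter G → ℕ)
    (hθ : ∀ g, theta p G g = ∑ χ : IrrCharacter G, (φ χ : ℂ) * (χ : G → ℂ) g) :
    ∃ N : Subgroup G, N.Normal ∧ ∀ g, g ∈ N ↔ ¬ p ∣ orderOf g := by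
  classical
  have hp : p.Prime := Fact.out
  -- `theta` is a character
  have hfun : theta p G = ∑ χ : IrrCharacter G, φ χ • (χ : G → ℂ) := by
    funext g
    rw [hθ g, Finset.sum_apply]
    refine Finset.sum_congr rfl (fun χ _ => ?_)
    rw [Pi.smul_apply, nsmul_eq_mul]
  have hmem : theta p G ∈ Helper74.irrSpanNat G := by
    rw [hfun]
    refine AddSubmonoid.sum_mem _ (fun χ _ => ?_)
    have hχ : (χ : G → ℂ) ∈ Helper74.irrSpanNat G :=
      AddSubmonoid.subset_closure (show (χ : G → ℂ) ∈ {ψ | IsIrrCharacter G ψ} from χ.2)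
    exact nsmul_mem hχ _
  have hchar : IsCharacter G (theta p G) := Helper74.isCharacter_of_mem_irrSpanNat hmem
  obtain ⟨N, hN, hmemN⟩ := Helper75.fk_exists_normal_kernel hchar
  refine ⟨N, hN, fun g => ?_⟩
  rw [hmemN g]
  have h1 : theta p G 1 = ((p ^ (Nat.card G).factorization p : ℕ) : ℂ) := by
    unfold theta
    rw [orderOf_one, if_neg]
    intro h
    exact hp.one_lt.ne' (Nat.dvd_one.mp h)
  have hne : ((p ^ (Nat.card G).factorization p : ℕ) : ℂ) ≠ 0 := by
    exact_mod_cast (pow_pos hp.pos _).ne'
  rw [h1]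
  unfold theta
  by_cases hg : p ∣ orderOf g
  · rw [if_pos hg]
    constructor
    · intro h
      exact absurd h.symm hne
    · intro h
      exact absurd hg h
  · rw [if_neg hg]
    exact ⟨fun _ => hg, fun _ => rfl⟩

end Cfsg.Agent.Helper90.PC
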