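import Cfsg.Agent.Helper16.PC.Defs
import Cfsg.Agent.Helper74.CharCount
import Cfsg.Agent.Helper79.Linear
import Cfsg.Agent.S0961

/-!
# S4427 piece (Ib) for helper16 (helper90)

An element `τ` of the convolution algebra such that `N τ` is integer valued (`p ∤ N`) is annihilated
by a product of linear factors whose roots lie in the local ring at `M`.

The integer valued functions form a subring of `CAlg G` which is a finitely generated `ℤ`-module
(spanned by the `CAlg.single g`), so `σ = N τ` is integral over `ℤ`: `m(σ) = 0` with `m ∈ ℤ[X]` monic.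
Then `P = m(N X) ∈ ℂ[X]` annihilates `τ`; `P` splits over `ℂ`, and every root `λ` of `P` has `N λ` an
algebraic integer, so `λ = (N λ) / N` is in the local ring.
-/

set_option autoImplicit false
set_option linter.unusedSectionVars false
set_option linter.unusedVariables false

namespace Cfsg.Agent.Helper90.PC

open Cfsg Cfsg.Agent.Helper16 Cfsg.Agent.Helper16.PC Polynomial
open scoped ComplexConjugate

universe u

variable {G : Type u} [Group G] [Fintype G] {M : Ideal AlgInt} {p : ℕ}

/-- evaluation at a group element, as an additive homomorphism -/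
def Ib_evalHom (x : G) : CAlg G →+ ℂ where
  toFun a := CAlg.fn a x
  map_zero' := rfl
  map_add' _ _ := rfl

theorem Ib_evalHom_apply (x : G) (a : CAlg G) : Ib_evalHom x a = CAlg.fn a x := rfl

/-- the subring of integer valued functions -/
def Ib_intSubring (G : Type u) [Group G] [Fintype G] : Subring (CAlg G) where
  carrier := {a | ∀ g, ∃ z : ℤ, CAlg.fn a g = z}
  mul_mem' := by
    intro a b ha hb g
    choose za hza using ha
    choose zb hzb using hb
    refine ⟨∑ x : G, za x * zb (x⁻¹ * g), ?_⟩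
    rw [CAlg.fn_mul, conv_apply]
    push_cast
    exact Finset.sum_congr rfl (fun x _ => by rw [hza, hzb])
  one_mem' := by
    classical
    intro g
    by_cases h : g = 1
    · refine ⟨1, ?_⟩
      rw [CAlg.fn_one]
      simp [deltaOne, h]
    · refine ⟨0, ?_⟩
      rw [CAlg.fn_one]
      simp [deltaOne, h]
  add_mem' := by
    intro a b ha hb g
    obtain ⟨za, hza⟩ := ha g
    obtain ⟨zb, hzb⟩ := hb g
    refine ⟨za + zb, ?_⟩
    rw [CAlg.fn_add, Pi.add_apply, hza, hzb]
    push_cast
    rfl
  zero_mem' := by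
    intro g
    exact ⟨0, by rw [CAlg.fn_zero]; simp⟩
  neg_mem' := by
    intro a ha g
    obtain ⟨za, hza⟩ := ha g
    refine ⟨-za, ?_⟩
    rw [CAlg.fn_neg, Pi.neg_apply, hza]
    push_cast
    rfl

theorem Ib_mem_intSubring {a : CAlg G} :
    a ∈ Ib_intSubring G ↔ ∀ g, ∃ z : ℤ, CAlg.fn a g = z := Iff.rfl

theorem Ib_single_mem [DecidableEq G] (g : G) : CAlg.single g ∈ Ib_intSubring G := by
  intro x
  by_cases h : x = g
  · exact ⟨1, by rw [CAlg.fn_single, if_pos h]; simp⟩
  · exact ⟨0, by rw [CAlg.fn_single, if_neg h]; simp⟩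

theorem Ib_eq_sum_single [DecidableEq G] (a : CAlg G) (z : G → ℤ) (hz : ∀ g, CAlg.fn a g = z g) :
    a = ∑ g : G, z g • CAlg.single g := by
  apply CAlg.ext
  intro x
  rw [← Ib_evalHom_apply x (∑ g : G, z g • CAlg.single g), map_sum, hz x,
    Finset.sum_eq_single x]
  · rw [map_zsmul, Ib_evalHom_apply, CAlg.fn_single, if_pos rfl, zsmul_eq_mul, mul_one]
  · intro g _ hg
    rw [map_zsmul, Ib_evalHom_apply, CAlg.fn_single, if_neg (Ne.symm hg), smul_zero]
  · intro h
    exact absurd (Finset.mem_univ x) h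

theorem Ib_fg : (subalgebraOfSubring (Ib_intSubring G)).toSubmodule.FG := by
  classical
  refine ⟨Finset.univ.image (fun g : G => CAlg.single g), le_antisymm ?_ ?_⟩
  · rw [Submodule.span_le]
    intro a ha
    rw [Finset.coe_image, Finset.coe_univ, Set.image_univ] at ha
    obtain ⟨g, rfl⟩ := ha
    exact Ib_single_mem g
  · intro a ha
    have ha' : ∀ g, ∃ z : ℤ, CAlg.fn a g = z := ha
    choose z hz using ha'
    rw [Ib_eq_sum_single a z hz]
    refine Submodule.sum_mem _ (fun g _ => Submodule.smul_mem _ _ (Submodule.subset_span ?_))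
    rw [Finset.coe_image, Finset.coe_univ, Set.image_univ]
    exact ⟨g, rfl⟩

/-- an integer valued element of the convolution algebra is integral over `ℤ` -/
theorem Ib_isIntegral {a : CAlg G} (ha : ∀ g, ∃ z : ℤ, CAlg.fn a g = z) : IsIntegral ℤ a :=
  IsIntegral.of_mem_of_fg (subalgebraOfSubring (Ib_intSubring G)) Ib_fg a ha

/-- (Ib) an element of the group algebra that becomes integer valued after multiplication by a
natural number prime to `p` is annihilated by a product of linear factors with roots in the local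
ring. -/
theorem PC_Ib (hM : IsPModular p M) (τ : CAlg G) (N : ℕ) (hN : ¬ p ∣ N)
    (hτ : ∀ g, ∃ z : ℤ, (N : ℂ) * CAlg.fn τ g = z) :
    ∃ Λ : Multiset ℂ, (∀ l ∈ Λ, MemLocalRing M l) ∧
      Polynomial.aeval τ ((Λ.map (fun l => (X : ℂ[X]) - C l)).prod) = 0 := by
  classical
  haveI : M.IsPrime := hM.2.1.isPrime
  have hN0 : (N : ℂ) ≠ 0 := by
    intro h
    apply hN
    have h0 : N = 0 := by exact_mod_cast h
    rw [h0]
    exact dvd_zero p
  -- `σ = N τ` is integral over `ℤ`
  have hσ : IsIntegral ℤ ((N : ℂ) • τ) := Ib_isIntegral (fun g => hτ g)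
  obtain ⟨m, hmonic, hm⟩ := hσ
  set mC : ℂ[X] := m.map (algebraMap ℤ ℂ) with hmC
  have hmCmonic : mC.Monic := hmonic.map _
  set P : ℂ[X] := mC.comp (C (N : ℂ) * X) with hP
  -- `P` annihilates `τ`
  have hlin : Polynomial.aeval τ (C (N : ℂ) * X) = (N : ℂ) • τ := by
    rw [map_mul, Polynomial.aeval_C, Polynomial.aeval_X, Algebra.smul_def]
  have hPτ : Polynomial.aeval τ P = 0 := by
    rw [hP, Polynomial.aeval_comp, hlin, hmC, Polynomial.aeval_map_algebraMap,
      Polynomial.aeval_def]
    exact hm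
  -- `P ≠ 0`
  have hback : P.comp (C ((N : ℂ)⁻¹) * X) = mC := by
    rw [hP, Polynomial.comp_assoc]
    have : (C (N : ℂ) * X).comp (C ((N : ℂ)⁻¹) * X) = X := by
      rw [Polynomial.mul_comp, Polynomial.C_comp, Polynomial.X_comp, ← mul_assoc, ← C_mul,
        mul_inv_cancel₀ hN0, C_1, one_mul]
    rw [this, Polynomial.comp_X]
  have hP0 : P ≠ 0 := by
    intro h0
    rw [h0, Polynomial.zero_comp] at hback
    exact hmCmonic.ne_zero hback.symm
  have hlead : P.leadingCoeff ≠ 0 := Polynomial.leadingCoeff_ne_zero.mpr hP0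
  -- the factorisation of `P`
  have hsplit : P = C P.leadingCoeff * (P.roots.map (fun l => (X : ℂ[X]) - C l)).prod :=
    (IsAlgClosed.splits P).eq_prod_roots
  refine ⟨P.roots, ?_, ?_⟩
  · intro l hl
    have hroot : P.eval l = 0 := (Polynomial.mem_roots hP0).mp hl
    rw [hP, Polynomial.eval_comp, Polynomial.eval_mul, Polynomial.eval_C, Polynomial.eval_X,
      hmC, Polynomial.eval_map] at hroot
    have hint : IsIntegral ℤ ((N : ℂ) * l) := ⟨m, hmonic, hroot⟩
    have h1 : MemLocalRing M ((N : ℂ) * l) := memLocalRing_of_isIntegral hint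
    have h2 : MemLocalRing M ((N : ℂ)⁻¹) := memLocalRing_inv_natCast hM hN
    have h3 := memLocalRing_mul h2 h1
    rwa [← mul_assoc, inv_mul_cancel₀ hN0, one_mul] at h3
  · have h1 : Polynomial.aeval τ (C P.leadingCoeff *
        (P.roots.map (fun l => (X : ℂ[X]) - C l)).prod) = 0 := by
      rw [← hsplit]
      exact hPτ
    rw [map_mul, Polynomial.aeval_C, ← Algebra.smul_def] at h1
    have h2 := congrArg (fun a => (P.leadingCoeff)⁻¹ • a) h1
    simp only [smul_smul, inv_mul_cancel₀ hlead, one_smul, smul_zero] at h2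
    exact h2

end Cfsg.Agent.Helper90.PC
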