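import Mathlib
import Cfsg.Prelude.Def_MonsterType

set_option autoImplicit false

namespace Cfsg.Agent.Helper90

open Cfsg

/-- The `p`-core is a `p`-group. -/
theorem pCore_isPGroup (p : ℕ) (G : Type*) [Group G] : IsPGroup p (Cfsg.pCore p G) := by
  unfold Cfsg.pCore
  exact Sylow.sSup_of_normal _ (fun H hH => hH.2) (fun H hH => hH.1)

/-- A `2`-group and a group of odd order inside a finite group meet trivially. -/
theorem inf_eq_bot_of_two_group_of_odd {G : Type*} [Group G] [Finite G] {P K : Subgroup G}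
    (hP : IsPGroup 2 P) (hK : Odd (Nat.card K)) : P ⊓ K = ⊥ := by
  have : Fact (Nat.Prime 2) := ⟨Nat.prime_two⟩
  obtain ⟨n, hn⟩ := hP.exists_card_eq
  have hc : (Nat.card P).Coprime (Nat.card K) := by
    rw [hn]
    exact Nat.Coprime.pow_left n (Nat.coprime_two_left.mpr hK)
  exact (Subgroup.disjoint_of_coprime_natCard hc).eq_bot

/-- An extraspecial group is a `p`-group. -/
theorem isPGroup_of_isExtraspecial {p : ℕ} {P : Type*} [Group P] (h : Cfsg.IsExtraspecial p P) :
    IsPGroup p P := h.1.1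

/-- A subgroup that is a `p`-group as a type is a `p`-group in the ambient group; elementwise version. -/
theorem exists_pow_eq_one_of_isPGroup {p : ℕ} {G : Type*} [Group G] {H : Subgroup G}
    (h : IsPGroup p H) {x : G} (hx : x ∈ H) : ∃ k : ℕ, x ^ p ^ k = 1 := by
  obtain ⟨k, hk⟩ := h ⟨x, hx⟩
  refine ⟨k, ?_⟩
  have := congrArg Subtype.val hk
  simpa using this

/-- Core of the "largeness" arguments: if `K` has odd order, is normalized by the `2`-group `Q`,
and `K` normalizes `Q`, and the centralizer of `Q` lies in `Q`, then `K` is trivial. -/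
theorem eq_bot_of_odd_of_normalizes {G : Type*} [Group G] [Finite G] {Q K : Subgroup G}
    (hQ : IsPGroup 2 Q) (hK : Odd (Nat.card K))
    (hQK : Q ≤ Subgroup.normalizer (K : Set G)) (hKQ : K ≤ Subgroup.normalizer (Q : Set G))
    (hC : Subgroup.centralizer (Q : Set G) ≤ Q) : K = ⊥ := by
  have hinf : Q ⊓ K = ⊥ := inf_eq_bot_of_two_group_of_odd hQ hK
  have hcomm : ∀ q ∈ Q, ∀ k ∈ K, q * k = k * q := by
    intro q hq k hk
    have h1 : q * k * q⁻¹ * k⁻¹ ∈ K := by
      have := (Subgroup.mem_normalizer_iff.mp (hQK hq) k).mp hk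
      exact K.mul_mem this (K.inv_mem hk)
    have h2 : q * k * q⁻¹ * k⁻¹ ∈ Q := by
      have := (Subgroup.mem_normalizer_iff.mp (hKQ hk) q⁻¹).mp (Q.inv_mem hq)
      have h3 : q * (k * q⁻¹ * k⁻¹) ∈ Q := Q.mul_mem hq this
      simpa [mul_assoc] using h3
    have h3 : q * k * q⁻¹ * k⁻¹ ∈ Q ⊓ K := ⟨h2, h1⟩
    rw [hinf, Subgroup.mem_bot] at h3
    have : q * k = (q * k * q⁻¹ * k⁻¹) * (k * q) := by group
    rw [this, h3, one_mul]
  have hKle : K ≤ Q := by
    intro k hk
    apply hC
    rw [Subgroup.mem_centralizer_iff]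
    intro q hq
    exact hcomm q hq k hk
  have : K ≤ Q ⊓ K := le_inf hKle le_rfl
  rw [hinf] at this
  exact le_bot_iff.mp this

end Cfsg.Agent.Helper90
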