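import Mathlib
import Cfsg.Prelude.Def_MonsterType
import Cfsg.Agent.Helper90.Basic

set_option autoImplicit false

namespace Cfsg.Agent.Helper90

open Cfsg

/-- In a subgroup of order two, any two non-identity elements coincide. -/
theorem eq_of_card_two {G : Type*} [Group G] {Z : Subgroup G} (h : Nat.card Z = 2) {a b : G}
    (ha : a ∈ Z) (hb : b ∈ Z) (ha1 : a ≠ 1) (hb1 : b ≠ 1) : a = b := by
  obtain ⟨x, y, hxy, huniv⟩ := Nat.card_eq_two_iff.mp h
  have mem : ∀ w : Z, w = x ∨ w = y := by
    intro w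
    have : w ∈ ({x, y} : Set Z) := by rw [huniv]; exact Set.mem_univ w
    simpa using this
  have ha' : (⟨a, ha⟩ : Z) ≠ 1 := fun e => ha1 (by simpa using congrArg Subtype.val e)
  have hb' : (⟨b, hb⟩ : Z) ≠ 1 := fun e => hb1 (by simpa using congrArg Subtype.val e)
  have hab : (⟨a, ha⟩ : Z) = ⟨b, hb⟩ := by
    rcases mem 1 with h1 | h1 <;> rcases mem ⟨a, ha⟩ with h2 | h2 <;> rcases mem ⟨b, hb⟩ with h3 | h3
    all_goals first
      | exact h2.trans h3.symm
      | exact absurd (h2.trans h1.symm) ha'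
      | exact absurd (h3.trans h1.symm) hb'
  exact congrArg Subtype.val hab

/-- The image in `G` of the centre of `Q` has the same order as the centre. -/
theorem card_center_map {G : Type*} [Group G] (Q : Subgroup G) :
    Nat.card ((Subgroup.center ↥Q).map Q.subtype) = Nat.card (Subgroup.center ↥Q) :=
  (Nat.card_congr (Subgroup.equivMapOfInjective _ _ Q.subtype_injective).toEquiv).symm

/-- The image of the centre of `Q` lies in `Q`. -/
theorem center_map_le {G : Type*} [Group G] (Q : Subgroup G) :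
    (Subgroup.center ↥Q).map Q.subtype ≤ Q := by
  intro x hx
  obtain ⟨y, _, rfl⟩ := hx
  exact y.2

/-- Membership in the image of the centre. -/
theorem mem_center_map_iff {G : Type*} [Group G] (Q : Subgroup G) (x : G) :
    x ∈ (Subgroup.center ↥Q).map Q.subtype ↔ x ∈ Q ∧ ∀ q ∈ Q, q * x = x * q := by
  constructor
  · rintro ⟨y, hy, rfl⟩
    refine ⟨y.2, fun q hq => ?_⟩
    have := Subgroup.mem_center_iff.mp hy ⟨q, hq⟩
    exact congrArg Subtype.val this
  · rintro ⟨hx, hc⟩
    refine ⟨⟨x, hx⟩, ?_, rfl⟩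
    show (⟨x, hx⟩ : Q) ∈ Subgroup.center ↥Q
    rw [Subgroup.mem_center_iff]
    intro q
    exact Subtype.ext (hc q.1 q.2)

/-- If `Q` satisfies the first two "large extraspecial" conditions with centre of order two, then any
`2`-subgroup `T` containing `Q` has its normalizer inside the normalizer of `Q`. -/
theorem normalizer_le_of_two_group {G : Type*} [Group G] [Finite G] {Q T : Subgroup G}
    (hZcard : Nat.card ((Subgroup.center ↥Q).map Q.subtype) = 2)
    (hL2 : Subgroup.centralizer (Q : Set G) = (Subgroup.center ↥Q).map Q.subtype)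
    (hL3 : Subgroup.centralizer (((Subgroup.center ↥Q).map Q.subtype : Subgroup G) : Set G)
      ≤ Subgroup.normalizer (Q : Set G))
    (hT : IsPGroup 2 T) (hQT : Q ≤ T) :
    Subgroup.normalizer (T : Set G) ≤ Subgroup.normalizer (Q : Set G) := by
  have : Fact (Nat.Prime 2) := ⟨Nat.prime_two⟩
  -- `T` is nontrivial
  have hZne : ∃ z ∈ (Subgroup.center ↥Q).map Q.subtype, z ≠ 1 := by
    obtain ⟨x, y, hxy, -⟩ := Nat.card_eq_two_iff.mp hZcard
    by_cases hx : (x : G) = 1
    · refine ⟨y, y.2, fun hy => hxy ?_⟩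
      exact Subtype.ext (hx.trans hy.symm)
    · exact ⟨x, x.2, hx⟩
  obtain ⟨z, hzZ, hz1⟩ := hZne
  have hzT : z ∈ T := hQT (center_map_le Q hzZ)
  have hTnt : Nontrivial T := ⟨⟨⟨z, hzT⟩, 1, fun e => hz1 (by simpa using congrArg Subtype.val e)⟩⟩
  have hcent := hT.center_nontrivial
  obtain ⟨c, hc1⟩ := exists_ne (1 : Subgroup.center ↥T)
  -- `c` as an element of `G`
  have hcT : ((c : T) : G) ∈ T := (c : T).2
  have hc_comm : ∀ t ∈ T, t * ((c : T) : G) = ((c : T) : G) * t := by
    intro t ht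
    have := Subgroup.mem_center_iff.mp c.2 ⟨t, ht⟩
    exact congrArg Subtype.val this
  have hc_ne : ((c : T) : G) ≠ 1 := by
    intro e
    apply hc1
    apply Subtype.ext
    apply Subtype.ext
    simpa using e
  -- `c ∈ Z`
  have hcZ : ((c : T) : G) ∈ (Subgroup.center ↥Q).map Q.subtype := by
    rw [← hL2, Subgroup.mem_centralizer_iff]
    intro q hq
    exact hc_comm q (hQT hq)
  intro n hn
  apply hL3
  rw [Subgroup.mem_centralizer_iff]
  -- `n c n⁻¹` is central in `T`, hence in `Z`, hence equals `c`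
  have hncT : n * ((c : T) : G) * n⁻¹ ∈ T := (Subgroup.mem_normalizer_iff.mp hn _).mp hcT
  have hncZ : n * ((c : T) : G) * n⁻¹ ∈ (Subgroup.center ↥Q).map Q.subtype := by
    rw [← hL2, Subgroup.mem_centralizer_iff]
    intro q hq
    have hq' : n⁻¹ * q * n ∈ T := by
      have := (Subgroup.mem_normalizer_iff.mp (Subgroup.inv_mem _ hn) q).mp (hQT hq)
      simpa using this
    have := hc_comm _ hq'
    calc q * (n * ((c : T) : G) * n⁻¹) = n * ((n⁻¹ * q * n) * ((c : T) : G)) * n⁻¹ := by group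
      _ = n * (((c : T) : G) * (n⁻¹ * q * n)) * n⁻¹ := by rw [this]
      _ = n * ((c : T) : G) * n⁻¹ * q := by group
  have hnc_ne : n * ((c : T) : G) * n⁻¹ ≠ 1 := by
    intro e
    apply hc_ne
    have : ((c : T) : G) = n⁻¹ * (n * ((c : T) : G) * n⁻¹) * n := by group
    rw [this, e]; group
  have hnc_eq : n * ((c : T) : G) * n⁻¹ = ((c : T) : G) := eq_of_card_two hZcard hncZ hcZ hnc_ne hc_ne
  intro w hw
  by_cases hw1 : w = 1
  · subst hw1; simp
  · have : w = ((c : T) : G) := eq_of_card_two hZcard hw hcZ hw1 hc_ne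
    rw [this]
    calc ((c : T) : G) * n = (n * ((c : T) : G) * n⁻¹) * n := by rw [hnc_eq]
      _ = n * ((c : T) : G) := by group

end Cfsg.Agent.Helper90
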