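import Mathlib
import Cfsg.Prelude.Def_MonsterType
import Cfsg.Agent.Helper90.Large

set_option autoImplicit false

/-!
An elementwise criterion for a subgroup to be an extraspecial 2-group.
(The two Frattini lemmas are copies of lemmas of helper47 / helper2.)
-/

namespace Cfsg.Agent.Helper90

open scoped commutatorElement

/-- In a finite commutative group of prime exponent `p`, the Frattini subgroup is trivial. -/
theorem frattini_eq_bot_of_elementary' {Q : Type*} [Group Q] [Finite Q] {p : ℕ} [hp : Fact p.Prime]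
    (hcomm : ∀ a b : Q, a * b = b * a) (hexp : ∀ a : Q, a ^ p = 1) : frattini Q = ⊥ := by
  rw [eq_bot_iff]
  intro x hx
  rw [Subgroup.mem_bot]
  by_contra hx1
  obtain ⟨M, hxM, hMmax⟩ : ∃ M : Subgroup Q, x ∉ M ∧ ∀ M' : Subgroup Q, x ∉ M' → M ≤ M' → M' = M := by
    have hne : {M : Subgroup Q | x ∉ M}.Nonempty := ⟨⊥, by simpa [Subgroup.mem_bot] using hx1⟩
    obtain ⟨M, hM⟩ := (Set.toFinite {M : Subgroup Q | x ∉ M}).exists_maximal hne
    exact ⟨M, hM.1, fun M' h1 h2 => le_antisymm (hM.2 h1 h2) h2⟩
  have hcoatom : IsCoatom M := by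
    refine ⟨fun h => hxM (h ▸ Subgroup.mem_top x), fun M' hlt => ?_⟩
    have hxM' : x ∈ M' := by
      by_contra h
      exact hlt.ne (hMmax M' h hlt.le).symm
    rw [eq_top_iff]
    intro y _
    by_cases hyM : y ∈ M
    · exact hlt.le hyM
    · have hx_sup : x ∈ M ⊔ Subgroup.zpowers y := by
        by_contra h
        have h1 := hMmax _ h le_sup_left
        exact hyM (h1 ▸ Subgroup.mem_sup_right (Subgroup.mem_zpowers y))
      have hMn : M.Normal := ⟨fun n hn g => by rw [hcomm g n, mul_inv_cancel_right]; exact hn⟩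
      obtain ⟨m, hm, z, hz, hmz⟩ := Subgroup.mem_sup_of_normal_left.mp hx_sup
      obtain ⟨k, rfl⟩ := Subgroup.mem_zpowers_iff.mp hz
      have hpk : ¬ (p : ℤ) ∣ k := by
        rintro ⟨j, rfl⟩
        apply hxM
        rw [← hmz, zpow_mul, zpow_natCast, hexp, one_zpow, mul_one]
        exact hm
      have hcop : IsCoprime k (p : ℤ) := by
        rw [isCoprime_comm]
        exact (Nat.prime_iff_prime_int.mp hp.out).coprime_iff_not_dvd.mpr hpk
      obtain ⟨a, b, hab⟩ := hcop
      have hy : y = (y ^ k) ^ a := by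
        have h1 : y ^ (a * k + b * (p : ℤ)) = y := by rw [hab, zpow_one]
        rw [zpow_add, mul_comm b, zpow_mul y (p : ℤ) b, zpow_natCast, hexp, one_zpow, mul_one,
          mul_comm a, zpow_mul] at h1
        exact h1.symm
      have hyk : y ^ k = m⁻¹ * x := by rw [← hmz]; group
      rw [hy, hyk]
      exact zpow_mem (mul_mem (inv_mem (hlt.le hm)) hxM') a
  exact hxM (frattini_le_coatom hcoatom hx)

/-- If a subgroup `N` of a finite group `P` contains all commutators and all `p`-th powers, then
`Φ(P) ≤ N`. -/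
theorem frattini_le_of_commutator_pow_mem' {P : Type*} [Group P] [Finite P] {p : ℕ} [Fact p.Prime]
    (N : Subgroup P) (hcomm : ∀ a b : P, ⁅a, b⁆ ∈ N) (hpow : ∀ a : P, a ^ p ∈ N) :
    frattini P ≤ N := by
  have hN : N.Normal := by
    refine ⟨fun n hn g => ?_⟩
    have : g * n * g⁻¹ = ⁅g, n⁆ * n := by rw [commutatorElement_def]; group
    rw [this]
    exact mul_mem (hcomm g n) hn
  have h1 : frattini (P ⧸ N) = ⊥ := by
    apply frattini_eq_bot_of_elementary' (p := p)
    · intro a b
      obtain ⟨a, rfl⟩ := QuotientGroup.mk_surjective a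
      obtain ⟨b, rfl⟩ := QuotientGroup.mk_surjective b
      have := (QuotientGroup.eq_one_iff (N := N) ⁅a, b⁆).mpr (hcomm a b)
      rw [commutatorElement_def, QuotientGroup.mk_mul, QuotientGroup.mk_mul, QuotientGroup.mk_mul,
        QuotientGroup.mk_inv, QuotientGroup.mk_inv] at this
      have h2 := congrArg (fun t => t * ((b : P ⧸ N) * (a : P ⧸ N))) this
      simp only [one_mul] at h2
      rw [← h2]; group
    · intro a
      obtain ⟨a, rfl⟩ := QuotientGroup.mk_surjective a
      rw [← QuotientGroup.mk_pow]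
      exact (QuotientGroup.eq_one_iff _).mpr (hpow a)
  have h2 := frattini_le_comap_frattini_of_surjective (QuotientGroup.mk'_surjective N)
  rw [h1] at h2
  intro x hx
  have := h2 hx
  rw [Subgroup.mem_comap, Subgroup.mem_bot, QuotientGroup.mk'_apply, QuotientGroup.eq_one_iff] at this
  exact this

/-- In a finite nilpotent group the derived subgroup lies in every maximal subgroup. -/
theorem commutator_le_of_isCoatom' {G : Type*} [Group G] [Finite G] [Group.IsNilpotent G]
    (M : Subgroup G) (hM : IsCoatom M) : commutator G ≤ M := by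
  have hMn : M.Normal := Subgroup.NormalizerCondition.normal_of_coatom M
    Group.normalizerCondition_of_isNilpotent hM
  -- the quotient has no proper non-trivial subgroup, hence is cyclic of prime order, hence abelian
  have hsimple : ∀ K : Subgroup (G ⧸ M), K = ⊥ ∨ K = ⊤ := by
    intro K
    have h1 : M ≤ K.comap (QuotientGroup.mk' M) := by
      intro x hx
      rw [Subgroup.mem_comap, QuotientGroup.mk'_apply, (QuotientGroup.eq_one_iff x).mpr hx]
      exact one_mem _
    rcases hM.le_iff.mp h1 with h2 | h2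
    · right
      rw [eq_top_iff]
      intro y _
      obtain ⟨x, rfl⟩ := QuotientGroup.mk'_surjective M y
      have : x ∈ K.comap (QuotientGroup.mk' M) := by rw [h2]; trivial
      exact this
    · left
      rw [eq_bot_iff]
      intro y hy
      obtain ⟨x, rfl⟩ := QuotientGroup.mk'_surjective M y
      have : x ∈ K.comap (QuotientGroup.mk' M) := hy
      rw [h2] at this
      rw [Subgroup.mem_bot, QuotientGroup.mk'_apply, QuotientGroup.eq_one_iff]
      exact this
  have hab : ∀ a b : G ⧸ M, a * b = b * a := by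
    intro a b
    rcases hsimple (Subgroup.zpowers a) with h | h
    · have : a = 1 := by
        have := Subgroup.mem_zpowers a
        rw [h, Subgroup.mem_bot] at this
        exact this
      rw [this]; simp
    · have hb : b ∈ Subgroup.zpowers a := by rw [h]; trivial
      obtain ⟨k, rfl⟩ := Subgroup.mem_zpowers_iff.mp hb
      exact (Commute.self_zpow a k).eq
  rw [commutator_def, Subgroup.commutator_le]
  intro x _ y _
  rw [← QuotientGroup.eq_one_iff, commutatorElement_def]
  simp only [QuotientGroup.mk_mul, QuotientGroup.mk_inv]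
  rw [hab (x : G ⧸ M) (y : G ⧸ M)]
  group

/-- In a finite nilpotent group the derived subgroup lies in the Frattini subgroup. -/
theorem commutator_le_frattini' {G : Type*} [Group G] [Finite G] [Group.IsNilpotent G] :
    commutator G ≤ frattini G := by
  unfold frattini Order.radical
  simp only [le_iInf_iff]
  intro M hM
  exact commutator_le_of_isCoatom' M hM

/-- Elementwise criterion for a subgroup to be an extraspecial `2`-group. -/
theorem isExtraspecial_of_data {G : Type*} [Group G] [Finite G] (D : Subgroup G) (z : G)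
    (hzD : z ∈ D) (hz1 : z ≠ 1) (h2 : IsPGroup 2 D)
    (hcen : ∀ x ∈ D, (∀ d ∈ D, d * x = x * d) → x = 1 ∨ x = z)
    (hzc : ∀ d ∈ D, d * z = z * d)
    (hcomm : ∀ x ∈ D, ∀ y ∈ D, x * y * x⁻¹ * y⁻¹ = 1 ∨ x * y * x⁻¹ * y⁻¹ = z)
    (hsq : ∀ x ∈ D, x * x = 1 ∨ x * x = z)
    (hnc : ∃ x ∈ D, ∃ y ∈ D, x * y ≠ y * x) : Cfsg.IsExtraspecial 2 ↥D := by
  haveI : Fact (Nat.Prime 2) := ⟨Nat.prime_two⟩
  haveI : Group.IsNilpotent ↥D := h2.isNilpotent
  obtain ⟨zD, hzD'⟩ : ∃ zD : ↥D, (zD : G) = z := ⟨⟨z, hzD⟩, rfl⟩
  have hzD1 : zD ≠ 1 := by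
    intro h
    apply hz1
    rw [← hzD', h]; rfl
  have hcenter : ∀ x : ↥D, x ∈ Subgroup.center ↥D ↔ x = 1 ∨ x = zD := by
    intro x
    rw [Subgroup.mem_center_iff]
    constructor
    · intro hx
      rcases hcen x x.2 (fun d hd => congrArg Subtype.val (hx ⟨d, hd⟩)) with h | h
      · left; exact Subtype.ext h
      · right; exact Subtype.ext (h.trans hzD'.symm)
    · rintro (rfl | rfl) g
      · simp
      · apply Subtype.ext
        rw [Subgroup.coe_mul, Subgroup.coe_mul, hzD']
        exact hzc g g.2
  have hcommD : ∀ a b : ↥D, ⁅a, b⁆ ∈ Subgroup.center ↥D := by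
    intro a b
    rw [hcenter, commutatorElement_def]
    rcases hcomm a a.2 b b.2 with h | h
    · left; apply Subtype.ext; simpa using h
    · right; apply Subtype.ext; rw [hzD']; simpa using h
  have hzcomm : zD ∈ commutator ↥D := by
    obtain ⟨x, hx, y, hy, hxy⟩ := hnc
    have h1 : (⁅(⟨x, hx⟩ : ↥D), (⟨y, hy⟩ : ↥D)⁆ : ↥D) = zD := by
      rw [commutatorElement_def]
      apply Subtype.ext
      rw [hzD']
      rcases hcomm x hx y hy with h | h
      · exfalso
        apply hxy
        calc x * y = (x * y * x⁻¹ * y⁻¹) * (y * x) := by group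
          _ = y * x := by rw [h, one_mul]
      · simpa using h
    rw [← h1, commutator_def]
    exact Subgroup.commutator_mem_commutator (Subgroup.mem_top _) (Subgroup.mem_top _)
  have hcomm_eq : commutator ↥D = Subgroup.center ↥D := by
    apply le_antisymm
    · rw [commutator_def, Subgroup.commutator_le]
      intro a _ b _
      exact hcommD a b
    · intro x hx
      rcases (hcenter x).mp hx with rfl | rfl
      · exact Subgroup.one_mem _
      · exact hzcomm
  have hfrat : frattini ↥D = Subgroup.center ↥D := by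
    apply le_antisymm
    · apply frattini_le_of_commutator_pow_mem' (p := 2) _ hcommD
      intro a
      rw [hcenter, pow_two]
      rcases hsq a a.2 with h | h
      · left; apply Subtype.ext; simpa using h
      · right; apply Subtype.ext; rw [hzD']; simpa using h
    · rw [← hcomm_eq]
      exact commutator_le_frattini'
  refine ⟨⟨h2, hfrat, hcomm_eq⟩, ?_⟩
  rw [Nat.card_eq_two_iff]
  refine ⟨⟨1, Subgroup.one_mem _⟩, ⟨zD, (hcenter zD).mpr (Or.inr rfl)⟩, ?_, ?_⟩
  · intro h
    apply hzD1
    exact (congrArg Subtype.val h).symm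
  · rw [Set.eq_univ_iff_forall]
    intro w
    rcases (hcenter w.1).mp w.2 with h | h
    · left; exact Subtype.ext h
    · right; exact Subtype.ext h

end Cfsg.Agent.Helper90
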