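import Mathlib
import Cfsg.Prelude.Def_Transfer
import Cfsg.Agent.Lib.Cores
import Cfsg.Agent.Helper90.ExtraCrit

set_option autoImplicit false

/-!
Glue lemmas for S5435: maximal subgroups of 2-groups, `O^2` of simple groups and of 2-groups.
-/

namespace Cfsg.Agent.Helper90

/-- membership in `zpowers z` for an involution. -/
theorem mem_zpowers_of_sq_eq_one {G : Type*} [Group G] {z : G} (hzz : z * z = 1) (x : G) :
    x ∈ Subgroup.zpowers z ↔ x = 1 ∨ x = z := by
  constructor
  · intro hx
    obtain ⟨k, rfl⟩ := Subgroup.mem_zpowers_iff.mp hx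
    rcases Int.even_or_odd' k with ⟨m, hm | hm⟩
    · left
      rw [hm, zpow_mul, zpow_ofNat, pow_two, hzz, one_zpow]
    · right
      rw [hm, zpow_add, zpow_mul, zpow_ofNat, pow_two, hzz, one_zpow, one_mul, zpow_one]
  · rintro (rfl | rfl)
    · exact Subgroup.one_mem _
    · exact Subgroup.mem_zpowers _

/-- a maximal subgroup of a finite 2-group has index 2. -/
theorem index_eq_two_of_isCoatom {P : Type*} [Group P] [Finite P] (hP : IsPGroup 2 P)
    (M : Subgroup P) (hM : IsCoatom M) : M.index = 2 := by
  have : Fact (Nat.Prime 2) := ⟨Nat.prime_two⟩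
  have : Group.IsNilpotent P := hP.isNilpotent
  have hMn : M.Normal := Subgroup.NormalizerCondition.normal_of_coatom M
    Group.normalizerCondition_of_isNilpotent hM
  have hsimple : ∀ K : Subgroup (P ⧸ M), K = ⊥ ∨ K = ⊤ := by
    intro K
    have h1 : M ≤ K.comap (QuotientGroup.mk' M) := by
      intro x hx
      rw [Subgroup.mem_comap, QuotientGroup.mk'_apply, (QuotientGroup.eq_one_iff x).mpr hx]
      exact one_mem _
    rcases hM.le_iff.mp h1 with h2 | h2
    · right
      rw [eq_top_iff]
      intro y _
      obtain ⟨x, rfl⟩ := QuotientGroup.mk'_surjective M y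
      have : x ∈ K.comap (QuotientGroup.mk' M) := by rw [h2]; trivial
      exact this
    · left
      rw [eq_bot_iff]
      intro y hy
      obtain ⟨x, rfl⟩ := QuotientGroup.mk'_surjective M y
      have : x ∈ K.comap (QuotientGroup.mk' M) := hy
      rw [h2] at this
      rw [Subgroup.mem_bot, QuotientGroup.mk'_apply, QuotientGroup.eq_one_iff]
      exact this
  -- the quotient is a nontrivial 2-group
  have hQ : IsPGroup 2 (P ⧸ M) := hP.to_quotient M
  have hne : M.index ≠ 1 := by
    intro h
    exact hM.1 (Subgroup.index_eq_one.mp h)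
  have hdvd : 2 ∣ Nat.card (P ⧸ M) := by
    obtain ⟨k, hk⟩ := IsPGroup.iff_card.mp hQ
    rw [hk]
    rcases Nat.eq_zero_or_pos k with rfl | hpos
    · exfalso
      apply hne
      rw [Subgroup.index_eq_card, hk, pow_zero]
    · exact dvd_pow_self 2 hpos.ne'
  obtain ⟨y, hy⟩ := exists_prime_orderOf_dvd_card' 2 hdvd
  have hztop : Subgroup.zpowers y = ⊤ := by
    rcases hsimple (Subgroup.zpowers y) with h | h
    · exfalso
      have h1 : y = 1 := by
        have := Subgroup.mem_zpowers y
        rw [h, Subgroup.mem_bot] at this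
        exact this
      rw [h1, orderOf_one] at hy
      norm_num at hy
    · exact h
  rw [Subgroup.index_eq_card, ← Nat.card_congr (Subgroup.topEquiv (G := P ⧸ M)).toEquiv, ← hztop,
    Nat.card_zpowers, hy]

/-- an element outside the Frattini subgroup of a finite 2-group lies outside a subgroup of
index 2. -/
theorem exists_index_two_not_mem {P : Type*} [Group P] [Finite P] (hP : IsPGroup 2 P) {d : P}
    (hd : d ∉ frattini P) : ∃ M : Subgroup P, M.index = 2 ∧ d ∉ M := by
  unfold frattini Order.radical at hd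
  simp only [Subgroup.mem_iInf, not_forall] at hd
  obtain ⟨M, hM, hdM⟩ := hd
  exact ⟨M, index_eq_two_of_isCoatom hP M hM, hdM⟩

/-- `O^2` of a 2-group is trivial. -/
theorem pResidual_two_eq_bot {R : Type*} [Group R] [Finite R] (hR : IsPGroup 2 R) :
    Cfsg.pResidual 2 R = ⊥ := by
  unfold Cfsg.pResidual
  rw [eq_bot_iff, Subgroup.closure_le]
  intro g hg
  have hg' : (orderOf g).Coprime 2 := hg
  obtain ⟨k, hk⟩ := (IsPGroup.iff_orderOf.mp hR) g
  rw [hk] at hg'
  rcases Nat.eq_zero_or_pos k with rfl | hpos
  · rw [pow_zero] at hk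
    simpa using orderOf_eq_one_iff.mp hk
  · exfalso
    have := (Nat.coprime_pow_left_iff hpos 2 2).mp hg'
    norm_num at this

/-- `O^2` of a finite non-abelian simple group is the whole group. -/
theorem pResidual_two_eq_top {L : Type*} [Group L] [Finite L] [IsSimpleGroup L]
    (hL : ¬ IsMulCommutative L) : Cfsg.pResidual 2 L = ⊤ := by
  have : Fact (Nat.Prime 2) := ⟨Nat.prime_two⟩
  rcases (Cfsg.Agent.Lib.pResidual_normal (G := L) 2).eq_bot_or_eq_top with h | h
  · exfalso
    have hq := Cfsg.Agent.Lib.isPGroup_quotient_pResidual (G := L) 2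
    have h2 : IsPGroup 2 L := by
      intro g
      obtain ⟨k, hk⟩ := hq (g : L ⧸ Cfsg.pResidual 2 L)
      refine ⟨k, ?_⟩
      rw [← QuotientGroup.mk_pow, QuotientGroup.eq_one_iff, h, Subgroup.mem_bot] at hk
      exact hk
    have hc : Nontrivial (Subgroup.center L) := h2.center_nontrivial
    rcases (Subgroup.normal_of_characteristic (Subgroup.center L)).eq_bot_or_eq_top with h3 | h3
    · rw [h3] at hc
      exact not_nontrivial _ hc
    · exact hL (Subgroup.center_eq_top_iff.mp h3)
  · exact h

/-- homomorphisms from a finite non-abelian simple group to `ℤˣ` are trivial. -/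
theorem hom_units_trivial {L : Type*} [Group L] [IsSimpleGroup L]
    (hL : ¬ IsMulCommutative L) (φ : L →* ℤˣ) (x : L) : φ x = 1 := by
  rcases (MonoidHom.normal_ker φ).eq_bot_or_eq_top with h | h
  · exfalso
    apply hL
    have hinj : Function.Injective φ := (MonoidHom.ker_eq_bot_iff φ).mp h
    refine ⟨⟨fun a b => hinj ?_⟩⟩
    rw [map_mul, map_mul, mul_comm]
  · have : x ∈ φ.ker := by rw [h]; trivial
    exact MonoidHom.mem_ker.mp this

end Cfsg.Agent.Helper90
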