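import Mathlib
import Cfsg.Agent.Helper77.Blk.Defs

/-!
# S3888 (Blackburn), piece (AG): the agemo bound in `p`-central `p`-groups (hedge copy, helper90)
-/

set_option autoImplicit false

universe u

namespace Cfsg.Agent.Helper90.Blk

open Subgroup Cfsg.Agent.Helper77.Blk

section pcentral
variable {p : ℕ} [hp : Fact p.Prime]

/-- `Ω = {c | c^p = 1}` in a `p`-central group -/
def AG_Om (p : ℕ) (C : Type u) [Group C] (hc : PCentral p C) : Subgroup C where
  carrier := {c | c ^ p = 1}
  one_mem' := one_pow p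
  mul_mem' := by
    intro a b ha hb
    have hab : Commute a b := (Subgroup.mem_center_iff.1 (hc a ha) b).symm
    show (a * b) ^ p = 1
    rw [hab.mul_pow, ha, hb, one_mul]
  inv_mem' := by
    intro a ha
    show (a⁻¹) ^ p = 1
    rw [inv_pow, ha, inv_one]

theorem AG_mem_Om {C : Type u} [Group C] (hc : PCentral p C) (c : C) :
    c ∈ AG_Om p C hc ↔ c ^ p = 1 := Iff.rfl

theorem AG_Om_le_center {C : Type u} [Group C] (hc : PCentral p C) :
    AG_Om p C hc ≤ Subgroup.center C := fun c h => hc c h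

instance AG_Om_normal {C : Type u} [Group C] (hc : PCentral p C) : (AG_Om p C hc).Normal := by
  refine ⟨fun c h g => ?_⟩
  have : g * c * g⁻¹ = c := by
    have := Subgroup.mem_center_iff.1 (hc c h) g
    rw [this, mul_inv_cancel_right]
  rw [this]
  exact h

/-- the main step -/
theorem AG_aux (hK : PropK.{u} p) (hK2 : PropK2.{u} p) :
    ∀ n : ℕ, ∀ (C : Type u) [Group C] [Finite C], Nat.card C = n → IsPGroup p C → PCentral p C →
      ∀ E : Subgroup C, (∀ c : C, c ^ p = 1 → c ∈ E) →
        (Cfsg.powerClosure p 1 (⊤ : Subgroup C)).index ≤ Nat.card E := by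
  intro n
  induction n using Nat.strong_induction_on with
  | _ n ih =>
    intro C _ _ hn hC hc E hE
    obtain ⟨A, hA⟩ : ∃ A : Subgroup C, A = Cfsg.powerClosure p 1 (⊤ : Subgroup C) := ⟨_, rfl⟩
    rw [← hA]
    have hEpos : 0 < Nat.card E := Nat.card_pos
    by_cases htriv : Nat.card C = 1
    · have : A.index ∣ Nat.card C := Subgroup.index_dvd_card A
      rw [htriv, Nat.dvd_one] at this
      omega
    -- `Ω`
    obtain ⟨Ω, hΩ⟩ : ∃ Ω : Subgroup C, Ω = AG_Om p C hc := ⟨_, rfl⟩
    have memΩ : ∀ c, c ∈ Ω ↔ c ^ p = 1 := fun c => by rw [hΩ]; exact AG_mem_Om hc c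
    have hΩn : Ω.Normal := by rw [hΩ]; infer_instance
    have hΩc : ∀ c ∈ Ω, ∀ g : C, g * c = c * g := by
      intro c h g
      exact Subgroup.mem_center_iff.1 (hc c ((memΩ c).1 h)) g
    have hΩE : Ω ≤ E := fun c h => hE c ((memΩ c).1 h)
    -- `Ω ≠ ⊥`
    have hΩcard : 1 < Nat.card Ω := by
      have hpd : p ∣ Nat.card C := by
        obtain ⟨k, hk⟩ := hC.exists_card_eq
        have hk0 : k ≠ 0 := by
          intro h0
          rw [h0, pow_zero] at hk
          exact htriv hk
        rw [hk]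
        exact dvd_pow_self p hk0
      obtain ⟨x, hx⟩ := exists_prime_orderOf_dvd_card' p hpd
      have hx1 : x ≠ 1 := by
        intro h1
        rw [h1, orderOf_one] at hx
        exact hp.out.one_lt.ne hx
      have hxΩ : x ∈ Ω := (memΩ x).2 (by rw [← hx]; exact pow_orderOf_eq_one x)
      have : Nontrivial Ω := ⟨⟨⟨x, hxΩ⟩, 1, fun h => hx1 (congrArg Subtype.val h)⟩⟩
      exact Finite.one_lt_card
    -- the set `D`
    have hD : ∀ u : C, (u ^ p) ^ p = 1 → ∀ g : C, u⁻¹ * g⁻¹ * u * g ∈ Ω := by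
      intro u hu g
      exact (memΩ _).2 (hK C hC hc u g hu)
    have hmul : ∀ u v : C, (u ^ p) ^ p = 1 → (v ^ p) ^ p = 1 → (u * v) ^ p = u ^ p * v ^ p :=
      fun u v hu hv => hK2 C hC hc u v hu hv
    -- the quotient
    obtain ⟨q, hq⟩ : ∃ q : C →* C ⧸ Ω, q = QuotientGroup.mk' Ω := ⟨_, rfl⟩
    have hqs : Function.Surjective q := by rw [hq]; exact QuotientGroup.mk'_surjective Ω
    have hqk : q.ker = Ω := by rw [hq]; exact QuotientGroup.ker_mk' Ω
    have hq1 : ∀ c, q c = 1 ↔ c ∈ Ω := fun c => by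
      have h := MonoidHom.mem_ker (f := q) (x := c)
      rw [hqk] at h
      exact h.symm
    have hcardQ : Nat.card (C ⧸ Ω) < n := by
      have h1 := Subgroup.card_eq_card_quotient_mul_card_subgroup Ω
      rw [hn] at h1
      have h2 : 0 < Nat.card (C ⧸ Ω) := Nat.card_pos
      nlinarith
    have hCq : IsPGroup p (C ⧸ Ω) := hC.to_quotient Ω
    have hD' : ∀ c : C, (q c) ^ p = 1 → (c ^ p) ^ p = 1 := by
      intro c h
      rw [← map_pow, hq1, memΩ] at h
      exact h
    have hcq : PCentral p (C ⧸ Ω) := by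
      intro cb hcb
      obtain ⟨c, rfl⟩ := hqs cb
      rw [Subgroup.mem_center_iff]
      intro gb
      obtain ⟨g, rfl⟩ := hqs gb
      have h1 := hD c (hD' c hcb) g
      rw [← hq1, map_mul, map_mul, map_mul, map_inv, map_inv] at h1
      -- (q c)⁻¹ (q g)⁻¹ (q c) (q g) = 1
      have h2 : q c * q g = q g * q c := by
        calc q c * q g = q g * q c * ((q c)⁻¹ * (q g)⁻¹ * q c * q g) := by group
          _ = q g * q c := by rw [h1, mul_one]
      exact h2.symm
    -- `D` as a subgroup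
    let D : Subgroup C :=
      { carrier := {u | (u ^ p) ^ p = 1}
        one_mem' := by simp
        mul_mem' := by
          intro a b ha hb
          show ((a * b) ^ p) ^ p = 1
          rw [hmul a b ha hb]
          have hcom : Commute (a ^ p) (b ^ p) := (hΩc (b ^ p) ((memΩ _).2 hb) (a ^ p))
          rw [hcom.mul_pow, ha, hb, one_mul]
        inv_mem' := by
          intro a ha
          show ((a⁻¹) ^ p) ^ p = 1
          rw [inv_pow, inv_pow, ha, inv_one] }
    have memD : ∀ u, u ∈ D ↔ (u ^ p) ^ p = 1 := fun u => Iff.rfl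
    -- induction hypothesis for the quotient
    have hIH := ih (Nat.card (C ⧸ Ω)) hcardQ (C ⧸ Ω) rfl hCq hcq (D.map q) (by
      intro cb hcb
      obtain ⟨c, rfl⟩ := hqs cb
      exact ⟨c, (memD c).2 (hD' c hcb), rfl⟩)
    -- the agemo of the quotient is the image of `A`
    have hAq : Cfsg.powerClosure p 1 (⊤ : Subgroup (C ⧸ Ω)) = A.map q := by
      rw [hA]
      unfold Cfsg.powerClosure
      rw [MonoidHom.map_closure]
      congr 1
      ext yb
      constructor
      · rintro ⟨xb, -, rfl⟩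
        obtain ⟨x, rfl⟩ := hqs xb
        exact ⟨x ^ p ^ 1, ⟨x, Subgroup.mem_top x, rfl⟩, by rw [map_pow]⟩
      · rintro ⟨y, ⟨x, -, rfl⟩, rfl⟩
        exact ⟨q x, Subgroup.mem_top _, by rw [map_pow]⟩
    rw [hAq, Subgroup.index_map, MonoidHom.range_eq_top.2 hqs, Subgroup.index_top, mul_one,
      hqk] at hIH
    -- `|D.map q| ≤ |Ω ⊓ A|`
    have hcard2 : Nat.card (D.map q) ≤ Nat.card (Ω ⊓ A : Subgroup C) := by
      have hex : ∀ db : D.map q, ∃ d : C, d ∈ D ∧ q d = db.1 := by
        rintro ⟨db, d, hd, rfl⟩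
        exact ⟨d, hd, rfl⟩
      choose f hfD hfq using hex
      have hmem : ∀ db : D.map q, (f db) ^ p ∈ (Ω ⊓ A : Subgroup C) := by
        intro db
        refine ⟨(memΩ _).2 ((memD _).1 (hfD db)), ?_⟩
        rw [hA]
        exact Subgroup.subset_closure ⟨f db, Subgroup.mem_top _, by rw [pow_one]⟩
      refine Nat.card_le_card_of_injective (fun db => (⟨(f db) ^ p, hmem db⟩ : (Ω ⊓ A : Subgroup C))) ?_
      intro d1 d2 h12
      have h1 : (f d1) ^ p = (f d2) ^ p := congrArg Subtype.val h12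
      have h2 : (f d1 * (f d2)⁻¹) ^ p = 1 := by
        rw [hmul _ _ ((memD _).1 (hfD d1)) ((memD _).1 (D.inv_mem (hfD d2))), inv_pow, h1,
          mul_inv_cancel]
      have h3 : q (f d1 * (f d2)⁻¹) = 1 := (hq1 _).2 ((memΩ _).2 h2)
      rw [map_mul, map_inv, mul_inv_eq_one, hfq, hfq] at h3
      exact Subtype.ext h3
    -- index arithmetic
    have hAn : A.Normal := by
      rw [hA]
      refine ⟨fun n hn g => ?_⟩
      unfold Cfsg.powerClosure at hn ⊢
      induction hn using Subgroup.closure_induction with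
      | mem y hy =>
        obtain ⟨x, -, rfl⟩ := hy
        apply Subgroup.subset_closure
        exact ⟨g * x * g⁻¹, Subgroup.mem_top _, by rw [conj_pow]⟩
      | one => simp
      | mul a b _ _ ha hb =>
        have : g * (a * b) * g⁻¹ = (g * a * g⁻¹) * (g * b * g⁻¹) := by group
        rw [this]
        exact Subgroup.mul_mem _ ha hb
      | inv a _ ha =>
        have : g * a⁻¹ * g⁻¹ = (g * a * g⁻¹)⁻¹ := by group
        rw [this]
        exact Subgroup.inv_mem _ ha
    have e1 : A.relIndex (A ⊔ Ω) * (A ⊔ Ω).index = A.index :=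
      Subgroup.relIndex_mul_index le_sup_left
    have e2 : A.relIndex (A ⊔ Ω) = A.relIndex Ω := Subgroup.relIndex_sup_left Ω A
    have e3 : (Ω ⊓ A).relIndex Ω = A.relIndex Ω := by
      rw [inf_comm]
      exact Subgroup.inf_relIndex_right A Ω
    have e4 : (⊥ : Subgroup C).relIndex (Ω ⊓ A) * (Ω ⊓ A).relIndex Ω = (⊥ : Subgroup C).relIndex Ω :=
      Subgroup.relIndex_mul_relIndex _ _ _ bot_le inf_le_left
    rw [Subgroup.relIndex_bot_left, Subgroup.relIndex_bot_left, e3] at e4
    have e5 : Nat.card Ω ≤ Nat.card E := Subgroup.card_le_of_le hΩE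
    calc A.index = A.relIndex Ω * (A ⊔ Ω).index := by rw [← e1, e2]
      _ ≤ A.relIndex Ω * Nat.card (Ω ⊓ A : Subgroup C) :=
        Nat.mul_le_mul_left _ (hIH.trans hcard2)
      _ = Nat.card Ω := by rw [mul_comm]; exact e4
      _ ≤ Nat.card E := e5

/-- **(AG)**: the agemo bound in `p`-central `p`-groups. -/
theorem propAG (hp2 : p ≠ 2) (hK : PropK.{u} p) (hK2 : PropK2.{u} p) : PropAG.{u} p := by
  intro C _ _ hC hc E hE
  exact AG_aux hK hK2 _ C rfl hC hc E hE

end pcentral

end Cfsg.Agent.Helper90.Blk
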