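import Mathlib
import Cfsg.Prelude.Def_SporadicCombinatorics
import Cfsg.Agent.Helper8.CrossStab
import Cfsg.Agent.Helper8.Co0Center
import Cfsg.Agent.Helper8.Co0Order
import Cfsg.Agent.Helper7.M24Simple

set_option autoImplicit false

/-!
The stabilizer in the automorphism group of the Leech lattice of the class modulo twice the lattice
of a vector of sum of squares 64: its normal 2-subgroups have order at most `2 ^ 12`.
-/

namespace Cfsg.Agent.Helper90

open Cfsg Cfsg.Agent.Helper8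

theorem co0_smul_add (g : ↥Co0) (a b : ↥leechLattice) : g • (a + b) = g • a + g • b := g.2.1 a b

/-- automorphisms fixing the class of `w` modulo twice the lattice -/
def classStab (w : ↥leechLattice) : Subgroup ↥Co0 where
  carrier := {γ | ∃ u : ↥leechLattice, γ • w = w + (u + u)}
  one_mem' := ⟨0, by simp⟩
  mul_mem' := by
    rintro γ γ' ⟨u, hu⟩ ⟨u', hu'⟩
    refine ⟨u + γ • u', ?_⟩
    rw [mul_smul, hu', co0_smul_add, co0_smul_add, hu]
    abel
  inv_mem' := by
    rintro γ ⟨u, hu⟩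
    refine ⟨-(γ⁻¹ • u), ?_⟩
    have h1 : γ⁻¹ • (γ • w) = γ⁻¹ • (w + (u + u)) := by rw [hu]
    rw [inv_smul_smul, co0_smul_add, co0_smul_add] at h1
    have h2 : γ⁻¹ • w = w - (γ⁻¹ • u + γ⁻¹ • u) := eq_sub_of_add_eq h1.symm
    rw [h2]
    abel

theorem mem_classStab (w : ↥leechLattice) (γ : ↥Co0) :
    γ ∈ classStab w ↔ ∃ u : ↥leechLattice, γ • w = w + (u + u) := Iff.rfl

theorem negCo0_mem_classStab (w : ↥leechLattice) : negCo0 ∈ classStab w := by
  refine ⟨-w, ?_⟩
  rw [negCo0_smul]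
  abel

/-- conjugation of class stabilizers -/
theorem conj_mem_classStab {w v : ↥leechLattice} {γ₁ : ↥Co0} (h : γ₁ • w = v) {γ : ↥Co0}
    (hγ : γ ∈ classStab w) : γ₁ * γ * γ₁⁻¹ ∈ classStab v := by
  obtain ⟨u, hu⟩ := hγ
  refine ⟨γ₁ • u, ?_⟩
  rw [mul_smul, mul_smul, ← h, inv_smul_smul, hu, co0_smul_add, co0_smul_add]

theorem mem_cross_iff (v y : ↥leechLattice) :
    (y : GolayPt → ℤ) ∈ cross (v : GolayPt → ℤ) ↔
      sqNorm (y : GolayPt → ℤ) = sqNorm (v : GolayPt → ℤ) ∧ ∃ u : ↥leechLattice, y = v + (u + u) := by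
  constructor
  · rintro ⟨-, hn, z, hz, hvy⟩
    refine ⟨hn, ⟨-z, leechLattice.neg_mem hz⟩, ?_⟩
    apply Subtype.ext
    rw [AddSubgroup.coe_add, AddSubgroup.coe_add]
    change (y : GolayPt → ℤ) = v + (-z + -z)
    have : (2 : ℕ) • z = z + z := two_smul ℕ z
    rw [this] at hvy
    have h2 : (y : GolayPt → ℤ) = (v : GolayPt → ℤ) - ((v : GolayPt → ℤ) - y) := by abel
    rw [h2, hvy]
    abel
  · rintro ⟨hn, u, hu⟩
    refine ⟨y.2, hn, -(u : GolayPt → ℤ), leechLattice.neg_mem u.2, ?_⟩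
    rw [hu, AddSubgroup.coe_add, AddSubgroup.coe_add, two_smul]
    abel

/-- elements of the class stabilizer of `8 e_∞` fix the standard cross -/
theorem fixesCross_of_mem_classStab {γ : ↥Co0} (hγ : γ ∈ classStab (vec8 none)) : FixesCross γ := by
  rw [fixesCross_iff γ none]
  obtain ⟨u, hu⟩ := hγ
  have hp : ((vec8 none : ↥leechLattice) : GolayPt → ℤ) ∈ stdCross := ⟨none, 8, Or.inl rfl, rfl⟩
  rw [← cross_std hp, mem_cross_iff]
  exact ⟨co0_sqNorm γ _, u, hu⟩

theorem mem_classStab_of_fixesCross {γ : ↥Co0} (hγ : FixesCross γ) : γ ∈ classStab (vec8 none) := by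
  rw [fixesCross_iff γ none] at hγ
  have hp : ((vec8 none : ↥leechLattice) : GolayPt → ℤ) ∈ stdCross := ⟨none, 8, Or.inl rfl, rfl⟩
  rw [← cross_std hp, mem_cross_iff] at hγ
  exact hγ.2

/-! ### the permutation part of a monomial automorphism -/

theorem signedPerm_unique {σ σ' : Equiv.Perm GolayPt} {c c' : Finset GolayPt}
    (h : ∀ i : GolayPt, signedPerm σ c (Pi.single i 8) = signedPerm σ' c' (Pi.single i 8)) :
    σ = σ' ∧ c = c' := by
  have key : ∀ i : GolayPt, σ i = σ' i ∧ (σ i ∈ c ↔ σ i ∈ c') := by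
    intro i
    have h2 := h i
    rw [signedPerm_single, signedPerm_single] at h2
    have h3 := congrFun h2 (σ i)
    rw [Pi.single_eq_same] at h3
    have hσi : σ i = σ' i := by
      by_contra hne
      rw [Pi.single_eq_of_ne hne] at h3
      split_ifs at h3 <;> norm_num at h3
    refine ⟨hσi, ?_⟩
    rw [← hσi, Pi.single_eq_same] at h3
    constructor
    · intro hi
      by_contra hi'
      rw [if_pos hi, if_neg hi'] at h3
      norm_num at h3
    · intro hi'
      by_contra hi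
      rw [if_neg hi, if_pos hi'] at h3
      norm_num at h3
  have hσσ' : σ = σ' := Equiv.ext fun i => (key i).1
  refine ⟨hσσ', ?_⟩
  ext j
  have := (key (σ.symm j)).2
  rwa [Equiv.apply_symm_apply] at this

open Classical in
theorem signedPerm_comp (σ σ' : Equiv.Perm GolayPt) (c c' : Finset GolayPt) (x : GolayPt → ℤ) :
    signedPerm σ c (signedPerm σ' c' x) =
      signedPerm (σ * σ') (Finset.univ.filter fun i => Xor (i ∈ c) (σ.symm i ∈ c')) x := by
  ext i
  unfold signedPerm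
  have e : (σ * σ').symm i = σ'.symm (σ.symm i) := rfl
  rw [e]
  have hm : i ∈ (Finset.univ.filter fun i => Xor (i ∈ c) (σ.symm i ∈ c')) ↔
      Xor (i ∈ c) (σ.symm i ∈ c') := by
    rw [Finset.mem_filter]
    exact ⟨fun h => h.2, fun h => ⟨Finset.mem_univ _, h⟩⟩
  by_cases h1 : i ∈ c <;> by_cases h2 : σ.symm i ∈ c'
  · have : ¬ Xor (i ∈ c) (σ.symm i ∈ c') := by simp [Xor, h1, h2]
    rw [if_pos h1, if_pos h2, if_neg (fun h => this (hm.1 h)), neg_neg]
  · have : Xor (i ∈ c) (σ.symm i ∈ c') := by simp [Xor, h1, h2]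
    rw [if_pos h1, if_neg h2, if_pos (hm.2 this)]
  · have : Xor (i ∈ c) (σ.symm i ∈ c') := by simp [Xor, h1, h2]
    rw [if_neg h1, if_pos h2, if_pos (hm.2 this)]
  · have : ¬ Xor (i ∈ c) (σ.symm i ∈ c') := by simp [Xor, h1, h2]
    rw [if_neg h1, if_neg h2, if_neg (fun h => this (hm.1 h))]

/-- the permutation part of an element of the class stabilizer -/
noncomputable def rhoFun (γ : classStab (vec8 none)) : ↥M24 :=
  ⟨(exists_mono_of_fixesCross γ.1 (fixesCross_of_mem_classStab γ.2)).choose,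
    (exists_mono_of_fixesCross γ.1 (fixesCross_of_mem_classStab γ.2)).choose_spec.1⟩

theorem rhoFun_spec (γ : classStab (vec8 none)) :
    ∃ c ∈ supports (golayCode : Set (GolayPt → ZMod 2)), ∀ v : ↥leechLattice,
      (((γ : ↥Co0) • v : ↥leechLattice) : GolayPt → ℤ) =
        signedPerm (rhoFun γ : Equiv.Perm GolayPt) c v.1 :=
  (exists_mono_of_fixesCross γ.1 (fixesCross_of_mem_classStab γ.2)).choose_spec.2

theorem rhoFun_eq {γ : classStab (vec8 none)} {σ : Equiv.Perm GolayPt} {c : Finset GolayPt}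
    (h : ∀ v : ↥leechLattice,
      (((γ : ↥Co0) • v : ↥leechLattice) : GolayPt → ℤ) = signedPerm σ c v.1) :
    (rhoFun γ : Equiv.Perm GolayPt) = σ ∧ ∀ c' : Finset GolayPt, (∀ v : ↥leechLattice,
      (((γ : ↥Co0) • v : ↥leechLattice) : GolayPt → ℤ) =
        signedPerm (rhoFun γ : Equiv.Perm GolayPt) c' v.1) → c' = c := by
  obtain ⟨c₀, -, h₀⟩ := rhoFun_spec γ
  have h1 := signedPerm_unique (σ := (rhoFun γ : Equiv.Perm GolayPt)) (c := c₀) (σ' := σ) (c' := c)
    (fun i => by rw [← vec8_val i, ← h₀ (vec8 i), ← h (vec8 i)])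
  refine ⟨h1.1, fun c' hc' => ?_⟩
  exact (signedPerm_unique (σ := (rhoFun γ : Equiv.Perm GolayPt)) (c := c') (σ' := σ) (c' := c)
    (fun i => by rw [← vec8_val i, ← hc' (vec8 i), ← h (vec8 i)])).2

/-- the permutation part as a homomorphism -/
noncomputable def rho : classStab (vec8 none) →* ↥M24 :=
  MonoidHom.mk' rhoFun (by
    classical
    intro γ γ'
    obtain ⟨c, -, h⟩ := rhoFun_spec γ
    obtain ⟨c', -, h'⟩ := rhoFun_spec γ'
    apply Subtype.ext
    rw [Subgroup.coe_mul]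
    refine (rhoFun_eq (γ := γ * γ')
      (c := Finset.univ.filter fun i =>
        Xor (i ∈ c) ((rhoFun γ : Equiv.Perm GolayPt).symm i ∈ c')) ?_).1
    intro v
    rw [Subgroup.coe_mul, mul_smul, h, h', signedPerm_comp])

theorem rho_apply (γ : classStab (vec8 none)) : rho γ = rhoFun γ := rfl

theorem rho_surjective : Function.Surjective rho := by
  rintro ⟨σ, hσ⟩
  have hc := Cfsg.Agent.S0390.empty_mem_supports
  have hfix : FixesCross (monoCo0 hσ hc) := monoPerm_fixesCross hσ hc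
  refine ⟨⟨monoCo0 hσ hc, mem_classStab_of_fixesCross hfix⟩, ?_⟩
  apply Subtype.ext
  rw [rho_apply]
  exact (rhoFun_eq (γ := ⟨monoCo0 hσ hc, mem_classStab_of_fixesCross hfix⟩) (σ := σ) (c := ∅)
    (fun v => monoCo0_smul hσ hc v)).1

theorem card_ker_rho_le : Nat.card rho.ker ≤ 4096 := by
  have hspec : ∀ γ : rho.ker, ∃ c : {c : Finset GolayPt //
      c ∈ supports (golayCode : Set (GolayPt → ZMod 2))}, ∀ v : ↥leechLattice,
      ((((γ : classStab (vec8 none)) : ↥Co0) • v : ↥leechLattice) : GolayPt → ℤ) =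
        signedPerm 1 c.1 v.1 := by
    intro γ
    obtain ⟨c, hc, h⟩ := rhoFun_spec (γ : classStab (vec8 none))
    have h1 : rhoFun (γ : classStab (vec8 none)) = 1 := by
      rw [← rho_apply]
      exact γ.2
    rw [h1] at h
    exact ⟨⟨c, hc⟩, h⟩
  choose f hf using hspec
  have hinj : Function.Injective f := by
    intro γ γ' h
    apply Subtype.ext
    apply Subtype.ext
    apply co0_ext
    intro v
    apply Subtype.ext
    rw [hf γ v, hf γ' v, h]
  have h1 := Nat.card_le_card_of_injective f hinj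
  rw [card_supports_golay] at h1
  exact h1

theorem sqNorm_vec8 (i : GolayPt) : sqNorm ((vec8 i : ↥leechLattice) : GolayPt → ℤ) = 64 :=
  (stdCross_subset _ ⟨i, 8, Or.inl rfl, rfl⟩).2

/-- normal 2-subgroups of the class stabilizer of `8 e_∞` -/
theorem card_le_of_normal_two_std (P : Subgroup (classStab (vec8 none))) [hPn : P.Normal]
    (hP2 : IsPGroup 2 P) : Nat.card P ≤ 4096 := by
  have hN : (P.map rho).Normal := hPn.map rho rho_surjective
  rcases Cfsg.Agent.Helper7.m24_simple.eq_bot_or_eq_top_of_normal _ hN with h0 | h1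
  · have hle : P ≤ rho.ker := (Subgroup.map_eq_bot_iff P).1 h0
    haveI : Finite rho.ker := by
      apply Nat.finite_of_card_ne_zero
      intro h
      have hfin : Finite (classStab (vec8 none)) := by
        haveI : Finite ↥Co0 := Nat.finite_of_card_ne_zero (by rw [card_co0]; norm_num)
        infer_instance
      have := Nat.card_pos (α := rho.ker)
      omega
    exact (Subgroup.card_le_of_le hle).trans card_ker_rho_le
  · exfalso
    have hp : IsPGroup 2 (P.map rho) := hP2.map rho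
    rw [h1] at hp
    have hp' : IsPGroup 2 ↥M24 := by
      intro g
      obtain ⟨k, hk⟩ := hp ⟨g, Subgroup.mem_top g⟩
      exact ⟨k, congrArg Subtype.val hk⟩
    haveI : Finite ↥M24 := Nat.finite_of_card_ne_zero (by rw [Cfsg.Agent.Helper7.card_M24]; norm_num)
    obtain ⟨k, hk⟩ := hp'.exists_card_eq
    rw [Cfsg.Agent.Helper7.card_M24] at hk
    have h3 : (3 : ℕ) ∣ 2 ^ k := by rw [← hk]; norm_num
    have := (Nat.Prime.dvd_of_dvd_pow Nat.prime_three h3)
    omega

/-- normal 2-subgroups of the class stabilizer of a vector of sum of squares 64 -/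
theorem card_le_of_normal_two (w : ↥leechLattice) (hw : sqNorm (w : GolayPt → ℤ) = 64)
    (P : Subgroup ↥Co0) (hPle : P ≤ classStab w)
    (hPn : ∀ γ ∈ classStab w, ∀ p ∈ P, γ * p * γ⁻¹ ∈ P) (hP2 : IsPGroup 2 P) :
    Nat.card P ≤ 4096 := by
  obtain ⟨γ₁, hγ₁⟩ := co0_transitive_norm64 w (vec8 none) hw (sqNorm_vec8 none)
  have hγ₁' : γ₁⁻¹ • vec8 none = w := by rw [← hγ₁, inv_smul_smul]
  set P₁ : Subgroup ↥Co0 := P.map (MulAut.conj γ₁).toMonoidHom with hP₁
  have hcard : Nat.card P₁ = Nat.card P :=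
    Subgroup.card_map_of_injective (MulAut.conj γ₁).injective
  have hP₁le : P₁ ≤ classStab (vec8 none) := by
    rintro _ ⟨p, hp, rfl⟩
    exact conj_mem_classStab hγ₁ (hPle hp)
  have hP₁2 : IsPGroup 2 P₁ := hP2.map _
  have hnorm : (P₁.subgroupOf (classStab (vec8 none))).Normal := by
    refine ⟨fun n hn δ => ?_⟩
    rw [Subgroup.mem_subgroupOf] at hn ⊢
    obtain ⟨p, hp, hpn⟩ := hn
    have hδ : γ₁⁻¹ * (δ : ↥Co0) * γ₁⁻¹⁻¹ ∈ classStab w := conj_mem_classStab hγ₁' δ.2
    rw [inv_inv] at hδ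
    have h1 := hPn _ hδ p hp
    refine ⟨_, h1, ?_⟩
    rw [Subgroup.coe_mul, Subgroup.coe_mul, Subgroup.coe_inv, ← hpn]
    simp only [MulEquiv.coe_toMonoidHom, MulAut.conj_apply]
    group
  have h2 := card_le_of_normal_two_std (P₁.subgroupOf (classStab (vec8 none)))
    (hP₁2.comap_subtype)
  rw [← hcard]
  rw [Nat.card_congr (Subgroup.subgroupOfEquivOfLe hP₁le).toEquiv] at h2
  exact h2

end Cfsg.Agent.Helper90
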