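import Cfsg.Agent.Helper8.GlaubDefs

/-!
# S4359 (Glauberman-type lemma), leaf (GA3): `chain_exists` (piece for helper8)
-/

set_option autoImplicit false

namespace Cfsg.Agent.Helper90.Glaub

open Cfsg.Agent.Helper8.Sims3 Cfsg.Agent.Helper8.Glaub Pointwise

variable {G : Type*} [Group G]

/-- (GA3) `t` := first `j` with `E P h 0 (j+1) = E P h 0 j`; `t ≥ 1` by `Chain.idx`. -/
theorem chain_exists [Finite G] {p : ℕ} (hp : p.Prime) {P : Subgroup G} {h : G}
    (hc : Chain p P h)
    (hstep : ∀ (i : ℤ) (m : ℕ), ((E P h i (m + 1)).subgroupOf (E P h (i + 1) m)).Normal ∧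
      (Nat.card ↥(E P h (i + 1) m) = Nat.card ↥(E P h i (m + 1)) ∨
        Nat.card ↥(E P h (i + 1) m) = p * Nat.card ↥(E P h i (m + 1))))
    (hstable : ∀ j : ℕ, E P h 0 (j + 1) = E P h 0 j →
      (∀ m, m < j → E P h 0 (m + 1) ≠ E P h 0 m) → E P h 0 j = ⊥) :
    ∃ t : ℕ, 1 ≤ t ∧ ∀ m, m ≤ t → Nat.card ↥(E P h 0 m) = p ^ (t - m) := by
  classical
  have hanti : ∀ m : ℕ, E P h 0 (m + 1) ≤ E P h 0 m :=
    fun m => E_anti le_rfl (by push_cast; omega)
  have hex : ∃ j : ℕ, E P h 0 (j + 1) = E P h 0 j := by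
    by_contra hne
    rw [not_exists] at hne
    have hlt : ∀ j : ℕ, Nat.card ↥(E P h 0 (j + 1)) < Nat.card ↥(E P h 0 j) := by
      intro j
      have hle : Nat.card ↥(E P h 0 (j + 1)) ≤ Nat.card ↥(E P h 0 j) :=
        Subgroup.card_le_of_le (hanti j)
      rcases hle.lt_or_eq with h1 | h1
      · exact h1
      · exact absurd (eq_of_le_of_card_le (hanti j) h1.ge) (hne j)
    have hbound : ∀ j : ℕ, Nat.card ↥(E P h 0 j) + j ≤ Nat.card ↥(E P h 0 0) := by
      intro j
      induction j with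
      | zero => simp
      | succ j ih =>
        have := hlt j
        omega
    have := hbound (Nat.card ↥(E P h 0 0) + 1)
    omega
  obtain ⟨t, htstab, hmin⟩ : ∃ t : ℕ, E P h 0 (t + 1) = E P h 0 t ∧
      ∀ m, m < t → E P h 0 (m + 1) ≠ E P h 0 m :=
    ⟨Nat.find hex, Nat.find_spec hex, fun m hm => Nat.find_min hex hm⟩
  have hbot : E P h 0 t = ⊥ := hstable t htstab hmin
  have hdrop : ∀ m, m < t → Nat.card ↥(E P h 0 m) = p * Nat.card ↥(E P h 0 (m + 1)) := by
    intro m hm
    have h1 := (hstep 0 m).2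
    rw [card_E (0 + 1) m] at h1
    rcases h1 with h1 | h1
    · exact absurd (eq_of_le_of_card_le (hanti m) h1.le) (hmin m hm)
    · exact h1
  refine ⟨t, ?_, ?_⟩
  · by_contra h0
    have ht0 : t = 0 := by omega
    rw [ht0] at htstab
    have e1 : E P h 0 (0 + 1) = P ⊓ MulAut.conj h • P := E_zero_one
    rw [e1, E_zero_zero] at htstab
    have hle : P ≤ MulAut.conj h • P := by
      intro x hx
      rw [← htstab] at hx
      exact hx.2
    have hPQ : P = MulAut.conj h • P :=
      eq_of_le_of_card_le hle (card_conj_smul h P).le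
    have hidx := hc.idx
    rw [htstab, ← hPQ, Subgroup.relIndex_self] at hidx
    exact hp.one_lt.ne hidx
  · have key : ∀ k, k ≤ t → Nat.card ↥(E P h 0 (t - k)) = p ^ k := by
      intro k
      induction k with
      | zero =>
        intro _
        rw [Nat.sub_zero, hbot, Subgroup.card_bot, pow_zero]
      | succ k ih =>
        intro hk
        have h2 := hdrop (t - (k + 1)) (by omega)
        rw [show t - (k + 1) + 1 = t - k by omega, ih (by omega)] at h2
        rw [h2, pow_succ']
    intro m hm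
    have h3 := key (t - m) (by omega)
    rwa [show t - (t - m) = m by omega] at h3
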