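import Cfsg.Agent.Helper8.GlaubDefs

/-!
# S4359 (Glauberman-type lemma), leaf (GB3): `ptower_lam_upper` (piece for helper8)
-/

set_option autoImplicit false

namespace Cfsg.Agent.Helper90.Glaub

open Cfsg.Agent.Helper8.Sims3 Cfsg.Agent.Helper8.Glaub Pointwise

variable {G : Type*} [Group G]

/-- (GB3) if `l ≥ n+1` and `2l ≥ t+n+1` then `i := t+n-l` satisfies `0 ≤ i ≤ t-1` and
`|k - i| < l` for all `0 ≤ k < t+n`; so `y i ∈ U y 0 t` commutes with all these `y k`
(`IsLam.commute`), hence `y i = 1` by `hZ`: contradiction with `card` (`m = 1`). -/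
theorem ptower_lam_upper {p t : ℕ} (hp : p.Prime) {y : ℤ → G} (h : PTower p t y) (ht : 1 ≤ t)
    (n : ℕ) (hn : 1 ≤ n)
    (hZ : ∀ x ∈ U y 0 t, (∀ k : ℤ, 0 ≤ k → k < t + n → Commute x (y k)) → x = 1)
    {l : ℕ} (hl : IsLam y l) (hl1 : 1 ≤ l) (hlt : l < t + n) :
    l ≤ n ∨ 2 * l ≤ t + n := by
  by_contra hcon
  rw [not_or] at hcon
  obtain ⟨h1, h2⟩ := hcon
  rw [not_le] at h1 h2
  have hy1 : y ((t : ℤ) + n - l) = 1 := by
    apply hZ
    · exact mem_U_self y (by omega) (by omega)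
    · intro k hk0 hk1
      apply hl.commute
      rw [abs_lt]
      constructor <;> omega
  have hcard := h.card ((t : ℤ) + n - l) 1 ht
  rw [U_one, hy1, Subgroup.zpowers_one_eq_bot, Subgroup.card_bot, pow_one] at hcard
  exact hp.one_lt.ne hcard
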