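import Mathlib

/-!
# S2500 part 7, piece (U3), abstract part

An alternating form `B`, an isometry `f` with `f³ = 1`, characteristic 3.
`T = 1 + f + f²`.  From `B x₁ (T x₂) ≠ 0` we produce `y₁, y₂` such that the orbits
`f^i y₁`, `f^i y₂` are totally isotropic and `B (f^i y₁) (f^j y₂) = t₀` or `t₁` according to
`i = j` or not, with `t₀ ≠ t₁`; such a family of six vectors is linearly independent.
-/

set_option autoImplicit false

namespace Cfsg.Agent.Helper90.Cov2.P7

section abstract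

variable {F V : Type*} [Field F] [AddCommGroup V] [Module F V]

/-- hypotheses: alternating form, isometry of order 3, characteristic 3 -/
structure O3 (B : LinearMap.BilinForm F V) (f : V →ₗ[F] V) : Prop where
  alt : ∀ x, B x x = 0
  isom : ∀ x y, B (f x) (f y) = B x y
  cube : ∀ x, f (f (f x)) = x
  three : (3 : F) = 0

variable {B : LinearMap.BilinForm F V} {f : V →ₗ[F] V}

theorem O3.skew (h : O3 B f) (x y : V) : B y x = - B x y := by
  have := h.alt (x + y)
  simp only [map_add, LinearMap.add_apply, h.alt] at this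
  linear_combination this

theorem O3.m1 (h : O3 B f) (x y : V) : B (f x) y = B x (f (f y)) := by
  conv_lhs => rw [← h.cube y]
  exact h.isom _ _

theorem O3.m2 (h : O3 B f) (x y : V) : B (f (f x)) y = B x (f y) := by
  rw [h.m1, h.m1, h.cube]

theorem O3.q2 (h : O3 B f) (x : V) : B x (f (f x)) = - B x (f x) := by
  rw [← h.m1, h.skew]

theorem O3.adjust (h : O3 B f) (x w : V) (hw : B w (x + f x + f (f x)) ≠ 0) :
    ∃ x' : V, B x' (f x') = 0 ∧ x' + f x' + f (f x') = x + f x + f (f x) := by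
  have hD : B w x + B w (f x) + B w (f (f x)) ≠ 0 := by
    simpa only [map_add] using hw
  obtain ⟨c, hc⟩ : ∃ c : F, c * (B w x + B w (f x) + B w (f (f x))) = - B x (f x) :=
    ⟨- B x (f x) / (B w x + B w (f x) + B w (f (f x))), by field_simp⟩
  refine ⟨x + c • (f w - w), ?_, ?_⟩
  · have e1 : B x (f (f w)) = - B w (f x) := by rw [h.skew, h.m2]
    have e2 : B x (f w) = - B w (f (f x)) := by rw [h.skew, h.m1]
    have e3 : B (f w) (f x) = B w x := h.isom _ _
    have e4 : B (f w) (f (f w)) = B w (f w) := h.isom _ _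
    have e5 : B (f w) (f w) = 0 := h.alt _
    have e6 : B w (f (f w)) = - B w (f w) := h.q2 _
    simp only [map_add, map_sub, map_smul, LinearMap.add_apply, LinearMap.sub_apply,
      LinearMap.smul_apply, smul_eq_mul, e1, e2, e3, e4, e5, e6]
    linear_combination hc + (c ^ 2 * B w (f w) - c * B w (f x)) * h.three
  · simp only [map_add, map_sub, map_smul, h.cube]
    module

theorem O3.twist (h : O3 B f) (x₁ x₂ : V) (h2 : B x₂ (f x₂) = 0)
    (hS : B x₁ (x₂ + f x₂ + f (f x₂)) ≠ 0) :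
    ∃ y₂ : V, ∃ t₀ t₁ : F, t₀ ≠ t₁ ∧ B y₂ (f y₂) = 0 ∧ B x₁ y₂ = t₀ ∧ B x₁ (f y₂) = t₁ ∧
      B x₁ (f (f y₂)) = t₁ := by
  have hS' : B x₁ x₂ + B x₁ (f x₂) + B x₁ (f (f x₂)) ≠ 0 := by
    simpa only [map_add] using hS
  set l0 := B x₁ x₂ with hl0
  set l1 := B x₁ (f x₂) with hl1
  set l2 := B x₁ (f (f x₂)) with hl2
  refine ⟨(l2 - l0) • x₂ + (l2 - l1) • f x₂, (l2 - l0) * l0 + (l2 - l1) * l1,
    (l2 - l0) * l1 + (l2 - l1) * l2, ?_, ?_, ?_, ?_, ?_⟩
  · intro heq
    apply hS'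
    have : (l0 + l1 + l2) ^ 2 = 0 := by
      linear_combination (-1 : F) * heq + (l0 * l1 + l1 * l2 + l0 * l2) * h.three
    exact pow_eq_zero_iff (two_ne_zero) |>.1 this
  · have e1 : B x₂ (f (f x₂)) = 0 := by rw [h.q2, h2, neg_zero]
    have e2 : B (f x₂) (f x₂) = 0 := h.alt _
    have e3 : B (f x₂) (f (f x₂)) = 0 := by rw [h.isom, h2]
    simp only [map_add, map_smul, LinearMap.add_apply, LinearMap.smul_apply, smul_eq_mul,
      e1, e2, e3, h2]
    ring
  · simp only [map_add, map_smul, smul_eq_mul, ← hl0, ← hl1]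
  · simp only [map_add, map_smul, smul_eq_mul, ← hl1, ← hl2]
  · simp only [map_add, map_smul, smul_eq_mul, h.cube, ← hl0, ← hl2]
    ring

theorem O3.main (h : O3 B f) (x₁ x₂ : V) (hS : B x₁ (x₂ + f x₂ + f (f x₂)) ≠ 0) :
    ∃ y₁ y₂ : V, ∃ t₀ t₁ : F, t₀ ≠ t₁ ∧ B y₁ (f y₁) = 0 ∧ B y₂ (f y₂) = 0 ∧ B y₁ y₂ = t₀ ∧
      B y₁ (f y₂) = t₁ ∧ B y₁ (f (f y₂)) = t₁ := by
  -- `T` is self-adjoint
  have hT : ∀ v x : V, B (v + f v + f (f v)) x = B v (x + f x + f (f x)) := by
    intro v x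
    simp only [map_add, LinearMap.add_apply, h.m1, h.cube]
    ring
  have hβ : ∀ v x : V, B v (x + f x + f (f x)) = - B x (v + f v + f (f v)) := by
    intro v x
    rw [← hT, h.skew]
  -- adjust `x₁`
  have hw1 : B x₂ (x₁ + f x₁ + f (f x₁)) ≠ 0 := by
    rw [hβ]; exact neg_ne_zero.2 hS
  obtain ⟨y₁, hQ1, hT1⟩ := h.adjust x₁ x₂ hw1
  have hw2 : B y₁ (x₂ + f x₂ + f (f x₂)) ≠ 0 := by
    rw [hβ, hT1]; exact neg_ne_zero.2 hw1
  obtain ⟨z₂, hQ2, hT2⟩ := h.adjust x₂ y₁ hw2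
  have hS2 : B y₁ (z₂ + f z₂ + f (f z₂)) ≠ 0 := by rw [hT2]; exact hw2
  obtain ⟨y₂, t₀, t₁, ht, hQ, e0, e1, e2⟩ := h.twist y₁ z₂ hQ2 hS2
  exact ⟨y₁, y₂, t₀, t₁, ht, hQ1, hQ, e0, e1, e2⟩

/-- the orbit of a vector -/
def orb (f : V →ₗ[F] V) (x : V) : Fin 3 → V := ![x, f x, f (f x)]

theorem O3.orb_succ (h : O3 B f) (x : V) (i : Fin 3) : f (orb f x i) = orb f x (i + 1) := by
  fin_cases i
  · rfl
  · rfl
  · exact h.cube x

theorem O3.gram_self (h : O3 B f) (x : V) (hQ : B x (f x) = 0) (i j : Fin 3) :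
    B (orb f x i) (orb f x j) = 0 := by
  have e1 : B x (f (f x)) = 0 := by rw [h.q2, hQ, neg_zero]
  fin_cases i <;> fin_cases j <;>
    simp [orb, h.alt, h.m1, h.cube, hQ, e1]

theorem O3.gram_cross (h : O3 B f) (x y : V) (t₀ t₁ : F) (e0 : B x y = t₀) (e1 : B x (f y) = t₁)
    (e2 : B x (f (f y)) = t₁) (i j : Fin 3) :
    B (orb f x i) (orb f y j) = if i = j then t₀ else t₁ := by
  fin_cases i <;> fin_cases j <;>
    simp [orb, h.m1, h.cube, e0, e1, e2]

/-- a family with this Gram matrix is linearly independent -/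
theorem linearIndependent_of_gram (B : LinearMap.BilinForm F V) (h3 : (3 : F) = 0)
    (y : Fin 3 × Fin 2 → V) (t₀ t₁ : F) (ht : t₀ ≠ t₁)
    (h00 : ∀ i j, B (y (i, 0)) (y (j, 0)) = 0)
    (h11 : ∀ i j, B (y (i, 1)) (y (j, 1)) = 0)
    (h01 : ∀ i j, B (y (i, 0)) (y (j, 1)) = if i = j then t₀ else t₁) :
    LinearIndependent F y := by
  rw [Fintype.linearIndependent_iff]
  intro c hc
  rw [Fintype.sum_prod_type] at hc
  simp only [Fin.sum_univ_three, Fin.sum_univ_two] at hc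
  have hd : t₀ - t₁ ≠ 0 := sub_ne_zero.2 ht
  -- pair with `y (j, 1)` on the right
  have hR : ∀ j : Fin 3, (t₀ - t₁) * c (j, 0) + t₁ * (c (0, 0) + c (1, 0) + c (2, 0)) = 0 := by
    intro j
    have := congrArg (fun v => B v (y (j, 1))) hc
    simp only [map_add, map_smul, LinearMap.add_apply, LinearMap.smul_apply, smul_eq_mul,
      h11, h01, map_zero, LinearMap.zero_apply, mul_zero, add_zero] at this
    fin_cases j <;> simp at this ⊢ <;> linear_combination this
  have hL : ∀ j : Fin 3, (t₀ - t₁) * c (j, 1) + t₁ * (c (0, 1) + c (1, 1) + c (2, 1)) = 0 := by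
    intro j
    have := congrArg (fun v => B (y (j, 0)) v) hc
    simp only [map_add, map_smul, smul_eq_mul,
      h00, h01, map_zero, mul_zero, zero_add] at this
    fin_cases j <;> simp at this ⊢ <;> linear_combination this
  have key : ∀ b : Fin 2, (∀ j : Fin 3, (t₀ - t₁) * c (j, b) +
      t₁ * (c (0, b) + c (1, b) + c (2, b)) = 0) → ∀ j : Fin 3, c (j, b) = 0 := by
    intro b hb j
    have hσ : (t₀ - t₁) * (c (0, b) + c (1, b) + c (2, b)) = 0 := by
      linear_combination hb 0 + hb 1 + hb 2 - t₁ * (c (0, b) + c (1, b) + c (2, b)) * h3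
    have hσ' : c (0, b) + c (1, b) + c (2, b) = 0 := (mul_eq_zero.1 hσ).resolve_left hd
    have := hb j
    rw [hσ', mul_zero, add_zero] at this
    exact (mul_eq_zero.1 this).resolve_left hd
  rintro ⟨j, b⟩
  fin_cases b
  · exact key 0 hR j
  · exact key 1 hL j

end abstract

end Cfsg.Agent.Helper90.Cov2.P7
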