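import Cfsg.Agent.Helper43.Cov2.P7Defs
import Cfsg.Agent.Helper13.SympTrans
import Cfsg.Agent.Helper90.Cov2P7U3a

/-!
# S2500 part 7, piece (U3), with the tensor model (TM) as an explicit hypothesis
-/

set_option autoImplicit false

namespace Cfsg.Agent.Helper90.Cov2.P7

open Matrix Cfsg.Agent.Helper43.Cov2.P7 Cfsg.Agent.Helper13

variable {F : Type*} [Field F]

/-- the symplectic form as a bilinear form -/
noncomputable def sympB (F : Type*) [Field F] : LinearMap.BilinForm F (V6 F) :=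
  LinearMap.mk₂ F (Cfsg.sympForm 3 F) sympForm_add_left
    (fun c u v => sympForm_smul_left c u v) sympForm_add_right
    (fun c u v => sympForm_smul_right c u v)

theorem sympB_apply (x y : V6 F) : sympB F x y = Cfsg.sympForm 3 F x y := rfl

theorem charP3 [Fintype F] (a : ℕ) (hF : Fintype.card F = 3 ^ a) : CharP F 3 := by
  obtain ⟨p, hp⟩ := CharP.exists F
  have := hp
  have : Fact p.Prime := ⟨CharP.char_is_prime F p⟩
  have h1 : p ∣ Fintype.card F := by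
    have : ((Fintype.card F : ℕ) : F) = 0 := Nat.cast_card_eq_zero F
    exact (CharP.cast_eq_zero_iff F p _).1 this
  rw [hF] at h1
  have h2 : p ∣ 3 := (Fact.out : p.Prime).dvd_of_dvd_pow h1
  have h3 : p = 3 := (Nat.prime_dvd_prime_iff_eq Fact.out Nat.prime_three).1 h2
  exact h3 ▸ hp

/-- (U3) modulo (TM) -/
theorem normCubic_of_33_of_model [Fintype F] (a : ℕ) (hF : Fintype.card F = 3 ^ a)
    (TM : ∀ (g : M6 F) (y : Fin 3 × Fin 2 → V6 F) (_ : LinearIndependent F y) (t₀ t₁ : F)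
      (g₀ : Matrix (Fin 2) (Fin 2) F)
      (_ : ∀ i j, Cfsg.sympForm 3 F (y (i, 0)) (y (j, 0)) = 0)
      (_ : ∀ i j, Cfsg.sympForm 3 F (y (i, 1)) (y (j, 1)) = 0)
      (_ : ∀ i j, Cfsg.sympForm 3 F (y (i, 0)) (y (j, 1)) = if i = j then t₀ else t₁)
      (_ : ∀ i b, g *ᵥ y (i, b) = ∑ c, g₀ c b • y (i + 1, c)), NormCubic g)
    (u : Sp6 F) (h3 : ((u : M6 F) - 1) ^ 3 = 0) (h2 : ((u : M6 F) - 1) ^ 2 ≠ 0) :
    NormCubic (u : M6 F) := by
  have := charP3 a hF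
  have : Fact (Nat.Prime 3) := ⟨Nat.prime_three⟩
  have h3F : (3 : F) = 0 := by
    have := CharP.cast_eq_zero F 3
    exact_mod_cast this
  set U : M6 F := (u : M6 F) with hU
  have h3M : (3 : M6 F) = 0 := by
    have := CharP.cast_eq_zero (M6 F) 3
    exact_mod_cast this
  -- `U³ = 1`
  have hU3 : U ^ 3 = 1 := by
    have := sub_pow_char_of_commute (p := 3) (Commute.one_right U)
    rw [h3, one_pow] at this
    exact (sub_eq_zero.1 this.symm)
  -- `(U - 1)² = 1 + U + U²`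
  have hT : (U - 1) ^ 2 = 1 + U + U ^ 2 := by
    have e : (U - 1) ^ 2 = 1 + U + U ^ 2 - 3 * U := by noncomm_ring
    rw [e, h3M, zero_mul, sub_zero]
  -- the isometry
  set f : V6 F →ₗ[F] V6 F := Matrix.mulVecLin U with hf
  have hfa : ∀ x, f x = U *ᵥ x := fun x => rfl
  have hO : O3 (sympB F) f := by
    refine ⟨fun x => ?_, fun x y => ?_, fun x => ?_, h3F⟩
    · rw [sympB_apply, sympForm_self]
    · rw [sympB_apply, sympB_apply, hfa, hfa]
      exact (mem_symplecticGroup_iff_preserves U).1 u.2 x y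
    · rw [hfa, hfa, hfa, Matrix.mulVec_mulVec, Matrix.mulVec_mulVec, ← pow_two, ← pow_succ, hU3,
        Matrix.one_mulVec]
  -- vectors with `B x₁ (T x₂) ≠ 0`
  obtain ⟨x₂, hx₂⟩ : ∃ x₂ : V6 F, (1 + U + U ^ 2) *ᵥ x₂ ≠ 0 := by
    by_contra hcon
    push Not at hcon
    apply h2
    rw [hT]
    apply matrix_eq_of_mulVec
    intro x
    rw [hcon x, Matrix.zero_mulVec]
  obtain ⟨x₁, hx₁⟩ := sympForm_nondeg_left hx₂
  have hS : sympB F x₁ (x₂ + f x₂ + f (f x₂)) ≠ 0 := by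
    rw [sympB_apply, hfa, hfa]
    have : (1 + U + U ^ 2) *ᵥ x₂ = x₂ + U *ᵥ x₂ + U *ᵥ (U *ᵥ x₂) := by
      rw [Matrix.add_mulVec, Matrix.add_mulVec, Matrix.one_mulVec, pow_two, Matrix.mulVec_mulVec]
    rw [← this]
    exact hx₁
  obtain ⟨y₁, y₂, t₀, t₁, ht, hQ1, hQ2, e0, e1, e2⟩ := hO.main x₁ x₂ hS
  -- the family
  set y : Fin 3 × Fin 2 → V6 F := fun p => ![orb f y₁ p.1, orb f y₂ p.1] p.2 with hy
  have y0 : ∀ i, y (i, 0) = orb f y₁ i := fun i => rfl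
  have y1 : ∀ i, y (i, 1) = orb f y₂ i := fun i => rfl
  have h00 : ∀ i j, Cfsg.sympForm 3 F (y (i, 0)) (y (j, 0)) = 0 := by
    intro i j
    rw [y0, y0, ← sympB_apply]
    exact hO.gram_self y₁ hQ1 i j
  have h11 : ∀ i j, Cfsg.sympForm 3 F (y (i, 1)) (y (j, 1)) = 0 := by
    intro i j
    rw [y1, y1, ← sympB_apply]
    exact hO.gram_self y₂ hQ2 i j
  have h01 : ∀ i j, Cfsg.sympForm 3 F (y (i, 0)) (y (j, 1)) = if i = j then t₀ else t₁ := by
    intro i j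
    rw [y0, y1, ← sympB_apply]
    exact hO.gram_cross y₁ y₂ t₀ t₁ e0 e1 e2 i j
  have hli : LinearIndependent F y :=
    linearIndependent_of_gram (sympB F) h3F y t₀ t₁ ht h00 h11 h01
  have hg0 : ∀ i, U *ᵥ y (i, 0) = ∑ c, (1 : Matrix (Fin 2) (Fin 2) F) c 0 • y (i + 1, c) := by
    intro i
    rw [Fin.sum_univ_two, Matrix.one_apply_eq, Matrix.one_apply_ne (by decide : (1 : Fin 2) ≠ 0),
      one_smul, zero_smul, add_zero, y0, y0, ← hfa]
    exact hO.orb_succ y₁ i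
  have hg1 : ∀ i, U *ᵥ y (i, 1) = ∑ c, (1 : Matrix (Fin 2) (Fin 2) F) c 1 • y (i + 1, c) := by
    intro i
    rw [Fin.sum_univ_two, Matrix.one_apply_eq, Matrix.one_apply_ne (by decide : (0 : Fin 2) ≠ 1),
      one_smul, zero_smul, zero_add, y1, y1, ← hfa]
    exact hO.orb_succ y₂ i
  have hg : ∀ i b, U *ᵥ y (i, b) = ∑ c, (1 : Matrix (Fin 2) (Fin 2) F) c b • y (i + 1, c) := by
    intro i
    rw [Fin.forall_fin_two]
    exact ⟨hg0 i, hg1 i⟩
  exact TM U y hli t₀ t₁ 1 h00 h11 h01 hg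

end Cfsg.Agent.Helper90.Cov2.P7
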