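import Cfsg.Agent.Helper80.Cov2P7TM
import Cfsg.Agent.Helper90.Cov2P7U3b

/-!
# S2500 part 7, piece (U3): `N³ = 0 ≠ N²` implies `NormCubic u` (verbatim skeleton statement)
-/

set_option autoImplicit false

namespace Cfsg.Agent.Helper90.Cov2.P7

open Matrix Cfsg.Agent.Helper43.Cov2.P7

variable {F : Type*} [Field F]

/-- (U3) -/
theorem normCubic_of_33 [Fintype F] (a : ℕ) (ha : 1 ≤ a) (hF : Fintype.card F = 3 ^ a) (u : Sp6 F)
    (h3 : ((u : M6 F) - 1) ^ 3 = 0) (h2 : ((u : M6 F) - 1) ^ 2 ≠ 0) : NormCubic (u : M6 F) :=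
  normCubic_of_33_of_model a hF
    (fun g y hy t₀ t₁ g₀ h00 h11 h01 hg =>
      Cfsg.Agent.Helper80.Cov2.P7.normCubic_of_model a ha hF g y hy t₀ t₁ g₀ h00 h11 h01 hg)
    u h3 h2

end Cfsg.Agent.Helper90.Cov2.P7
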