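import Cfsg.Agent.Helper43.PsuM.EvDefs
import Cfsg.Agent.Helper96.StLift.Basic
import Cfsg.Agent.Helper33.PsuM_AI
import Cfsg.Agent.Helper55.PsuM_ANORM
import Cfsg.Agent.Helper61.PsuM_AQ
import Cfsg.Agent.Helper14.AutSylow
import Cfsg.Agent.Helper84.PSLnGenU

/-!
helper90 for helper43 (S2089 block I-even, farm #14748): piece (EIDX1) `pow_dvd_card_Usub` of
`tools/helper43_psum/EvSkelB.lean.txt`: `q ^ (m * (2 * m - 1))` divides `|Usub|`.

`|Qsub| = |SkewH| = q ^ m * (q ^ 2) ^ (m (m - 1) / 2)`, the image `U₀` of the upper unitriangular group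
of `SL_m(K)` under `iE` lies in `USsub` and has order `(q ^ 2) ^ (m (m - 1) / 2)`, `U₀` normalises `Qsub`
and meets it trivially, so `|U₀ ⊔ Qsub| = |U₀| |Qsub|` divides `|Usub|`.
-/

set_option autoImplicit false

namespace Cfsg.Agent.Helper90.PsuM

open Matrix
open scoped commutatorElement
open Cfsg.Agent.Helper96.StLift
open Cfsg.Agent.Helper43.PsuM.Ev

universe u

variable {K : Type u} [Field K] [Fintype K] {q : ℕ} {σ : K →+* K} {m : ℕ}

/-! ### counting the solutions of `σ c + c = 0` -/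

/-- the number of roots of a nonzero polynomial -/
theorem EIDX1_ncard_le (P : Polynomial K) (hP : P ≠ 0) (S : Set K) (hS : ∀ x ∈ S, P.IsRoot x) :
    S.ncard ≤ P.natDegree := by
  classical
  have h1 : S ⊆ (↑P.roots.toFinset : Set K) := by
    intro x hx
    rw [Finset.mem_coe, Multiset.mem_toFinset, Polynomial.mem_roots hP]
    exact hS x hx
  calc S.ncard ≤ (↑P.roots.toFinset : Set K).ncard := Set.ncard_le_ncard h1 (Finset.finite_toSet _)
    _ = P.roots.toFinset.card := Set.ncard_coe_finset _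
    _ ≤ P.roots.card := Multiset.toFinset_card_le _
    _ ≤ P.natDegree := Polynomial.card_roots' P

/-- the trace-type map `c ↦ σ c + c` -/
def EIDX1_tr (σ : K →+* K) : K →+ K := σ.toAddMonoidHom + AddMonoidHom.id K

theorem EIDX1_tr_apply (c : K) : EIDX1_tr σ c = σ c + c := rfl

theorem EIDX1_card_ker (hK : Fintype.card K = q ^ 2) (hσq : ∀ x, σ x = x ^ q) :
    Nat.card (EIDX1_tr σ).ker = q := by
  classical
  have hq2 : 2 ≤ q := by
    by_contra h
    have h1 : q ≤ 1 := by omega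
    have h2 : 1 < Fintype.card K := Fintype.one_lt_card
    rw [hK] at h2
    have h3 : q ^ 2 ≤ 1 := by
      calc q ^ 2 ≤ 1 ^ 2 := Nat.pow_le_pow_left h1 2
        _ = 1 := one_pow 2
    omega
  have hσ : ∀ x, σ (σ x) = x := by
    intro x
    rw [hσq, hσq, ← pow_mul, ← sq, ← hK, FiniteField.pow_card]
  -- the kernel has at most `q` elements
  have hker : Nat.card (EIDX1_tr σ).ker ≤ q := by
    have hdeg : (Polynomial.X ^ q + Polynomial.X : Polynomial K).natDegree = q := by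
      rw [Polynomial.natDegree_add_eq_left_of_natDegree_lt, Polynomial.natDegree_X_pow]
      rw [Polynomial.natDegree_X_pow, Polynomial.natDegree_X]
      omega
    have hne : (Polynomial.X ^ q + Polynomial.X : Polynomial K) ≠ 0 := by
      apply Polynomial.ne_zero_of_natDegree_gt (n := 0)
      rw [hdeg]
      omega
    have h1 := EIDX1_ncard_le (Polynomial.X ^ q + Polynomial.X : Polynomial K) hne
      ((EIDX1_tr σ).ker : Set K) (by
        intro x hx
        have hx' : σ x + x = 0 := hx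
        rw [Polynomial.IsRoot.def, Polynomial.eval_add, Polynomial.eval_pow, Polynomial.eval_X,
          ← hσq]
        exact hx')
    rw [hdeg] at h1
    rw [← Nat.card_coe_set_eq] at h1
    exact h1
  -- the range has at most `q` elements
  have hrange : Nat.card (EIDX1_tr σ).range ≤ q := by
    have hdeg : (Polynomial.X ^ q - Polynomial.X : Polynomial K).natDegree = q :=
      FiniteField.X_pow_card_sub_X_natDegree_eq K (by omega)
    have hne : (Polynomial.X ^ q - Polynomial.X : Polynomial K) ≠ 0 :=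
      FiniteField.X_pow_card_sub_X_ne_zero K (by omega)
    have h1 := EIDX1_ncard_le (Polynomial.X ^ q - Polynomial.X : Polynomial K) hne
      ((EIDX1_tr σ).range : Set K) (by
        rintro x ⟨c, rfl⟩
        rw [Polynomial.IsRoot.def, Polynomial.eval_sub, Polynomial.eval_pow, Polynomial.eval_X,
          ← hσq, EIDX1_tr_apply, map_add, hσ]
        ring)
    rw [hdeg] at h1
    rw [← Nat.card_coe_set_eq] at h1
    exact h1
  have hmul : Nat.card (EIDX1_tr σ).range * Nat.card (EIDX1_tr σ).ker = q ^ 2 := by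
    rw [← AddSubgroup.index_ker, AddSubgroup.index_mul_card, Nat.card_eq_fintype_card, hK]
  have hge : q ≤ Nat.card (EIDX1_tr σ).ker := by
    by_contra h
    push Not at h
    have h1 : Nat.card (EIDX1_tr σ).range * Nat.card (EIDX1_tr σ).ker < q * q := by
      calc Nat.card (EIDX1_tr σ).range * Nat.card (EIDX1_tr σ).ker
          ≤ q * Nat.card (EIDX1_tr σ).ker := Nat.mul_le_mul_right _ hrange
        _ < q * q := Nat.mul_lt_mul_of_pos_left h (by omega)
    rw [hmul, sq] at h1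
    exact lt_irrefl _ h1
  exact le_antisymm hker hge

/-! ### counting `SkewH` -/

theorem EIDX1_mem_SkewH_iff (B : Matrix (Fin m) (Fin m) K) :
    B ∈ SkewH m σ ↔ ∀ i j, σ (B i j) + B j i = 0 := by
  show B.map σ + Bᵀ = 0 ↔ _
  constructor
  · intro h i j
    have := congrFun (congrFun h i) j
    exact this
  · intro h
    ext i j
    exact h i j

/-- the parametrisation of `SkewH` by the diagonal and the entries above it -/
noncomputable def EIDX1_skewEquiv (hσ : ∀ x, σ (σ x) = x) :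
    SkewH m σ ≃ (Fin m → (EIDX1_tr σ).ker) × (Cfsg.Agent.Helper14.AutPSL.UPairs m → K) where
  toFun B := (fun i => ⟨B.1 i i, (EIDX1_mem_SkewH_iff B.1).mp B.2 i i⟩, fun p => B.1 p.1.1 p.1.2)
  invFun zu := ⟨Matrix.of fun i j => if h : i < j then zu.2 ⟨(i, j), h⟩
      else if h' : j < i then -σ (zu.2 ⟨(j, i), h'⟩) else (zu.1 i : K), by
    rw [EIDX1_mem_SkewH_iff]
    intro i j
    simp only [Matrix.of_apply]
    rcases lt_trichotomy i j with h | h | h
    · rw [dif_pos h, dif_neg (not_lt.mpr h.le), dif_pos h]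
      ring
    · subst h
      rw [dif_neg (lt_irrefl _), dif_neg (lt_irrefl _)]
      exact (zu.1 i).2
    · rw [dif_neg (not_lt.mpr h.le), dif_pos h, dif_pos h, map_neg, hσ]
      ring⟩
  left_inv B := by
    apply Subtype.ext
    ext i j
    show (if h : i < j then B.1 i j else if h' : j < i then -σ (B.1 j i) else B.1 i i) = B.1 i j
    rcases lt_trichotomy i j with h | h | h
    · rw [dif_pos h]
    · subst h
      rw [dif_neg (lt_irrefl _), dif_neg (lt_irrefl _)]
    · rw [dif_neg (not_lt.mpr h.le), dif_pos h]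
      have := (EIDX1_mem_SkewH_iff B.1).mp B.2 j i
      rw [neg_eq_iff_add_eq_zero]
      exact this
  right_inv zu := by
    apply Prod.ext
    · funext i
      apply Subtype.ext
      show (if h : i < i then zu.2 ⟨(i, i), h⟩
        else if h' : i < i then -σ (zu.2 ⟨(i, i), h'⟩) else (zu.1 i : K)) = zu.1 i
      rw [dif_neg (lt_irrefl _), dif_neg (lt_irrefl _)]
    · funext p
      show (if h : p.1.1 < p.1.2 then zu.2 ⟨(p.1.1, p.1.2), h⟩
        else if h' : p.1.2 < p.1.1 then -σ (zu.2 ⟨(p.1.2, p.1.1), h'⟩) else (zu.1 p.1.1 : K)) = zu.2 p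
      rw [dif_pos p.2]

theorem EIDX1_card_SkewH (hK : Fintype.card K = q ^ 2) (hσq : ∀ x, σ x = x ^ q) :
    Nat.card (SkewH m σ) = q ^ m * (q ^ 2) ^ (∑ i : Fin m, (i : ℕ)) := by
  have hσ : ∀ x, σ (σ x) = x := by
    intro x
    rw [hσq, hσq, ← pow_mul, ← sq, ← hK, FiniteField.pow_card]
  rw [Nat.card_congr (EIDX1_skewEquiv hσ), Nat.card_prod, Nat.card_fun, Nat.card_fun,
    EIDX1_card_ker hK hσq, Nat.card_eq_fintype_card (α := Fin m), Fintype.card_fin,
    Nat.card_eq_fintype_card (α := K), hK,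
    Nat.card_eq_fintype_card (α := Cfsg.Agent.Helper14.AutPSL.UPairs m),
    Cfsg.Agent.Helper14.AutPSL.card_UPairs]

theorem EIDX1_card_Qsub (hK : Fintype.card K = q ^ 2) (hσq : ∀ x, σ x = x ^ q) :
    Nat.card (Qsub m σ) = q ^ m * (q ^ 2) ^ (∑ i : Fin m, (i : ℕ)) := by
  rw [← EIDX1_card_SkewH hK hσq]
  symm
  apply Nat.card_congr
  refine Equiv.ofBijective (fun B : SkewH m σ => (⟨qE σ B.1,
    (Cfsg.Agent.Helper61.PsuM.mem_Qsub_iff _).mpr ⟨B.1, B.2, rfl⟩⟩ : Qsub m σ)) ⟨?_, ?_⟩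
  · intro B B' h
    have h1 : qE σ B.1 = qE σ B'.1 := congrArg Subtype.val h
    exact Subtype.ext (Cfsg.Agent.Helper61.PsuM.qE_injOn B.2 B'.2 h1)
  · rintro ⟨g, hg⟩
    obtain ⟨B, hB, rfl⟩ := (Cfsg.Agent.Helper61.PsuM.mem_Qsub_iff g).mp hg
    exact ⟨⟨B, hB⟩, rfl⟩

/-! ### the unitriangular part -/

theorem EIDX1_tv_eq {i j : Fin m} (hij : i ≠ j) (r : K) :
    Cfsg.Agent.Helper14.AutPSL.tv (r • Pi.single i 1) (Pi.single j 1)
      (Cfsg.Agent.Helper14.AutPSL.single_dot_smul_single hij r) =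
      SpecialLinearGroup.transvection hij r := by
  apply Subtype.ext
  rw [Cfsg.Agent.Helper14.AutPSL.tv_coe, SpecialLinearGroup.transvection_coe]
  congr 1
  ext k l
  rw [Matrix.vecMulVec_apply, Pi.smul_apply, Matrix.single_apply, Pi.single_apply, Pi.single_apply]
  by_cases hk : k = i
  · by_cases hl : l = j
    · subst hk hl
      simp
    · have hl' : ¬ j = l := fun h => hl h.symm
      simp [hk, hl, hl']
  · have hk' : ¬ i = k := fun h => hk h.symm
    simp [hk, hk']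

/-- the image of the upper unitriangular group in the Levi subgroup -/
noncomputable def EIDX1_U0 (hσ : ∀ x, σ (σ x) = x) : Subgroup (SUe m σ) :=
  (Cfsg.Agent.Helper14.AutPSL.UT m K).map (Cfsg.Agent.Helper33.PsuM.AI_hom (m := m) (σ := σ) hσ)

theorem EIDX1_U0_le_USsub (hσ : ∀ x, σ (σ x) = x) : EIDX1_U0 (m := m) hσ ≤ USsub m σ := by
  unfold EIDX1_U0
  rw [Subgroup.map_le_iff_le_comap]
  refine Cfsg.Agent.Helper84.PSLn.UT_le_closure_rootSet.trans ?_
  rw [Subgroup.closure_le]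
  rintro x ⟨i, j, hij, r, rfl⟩
  rw [SetLike.mem_coe, Subgroup.mem_comap]
  unfold USsub
  apply Subgroup.subset_closure
  refine ⟨i, j, hij, r, ?_⟩
  show iE σ _ = xE σ i j r
  unfold xE
  rw [dif_pos (ne_of_lt hij), EIDX1_tv_eq]

theorem EIDX1_card_U0 (hK : Fintype.card K = q ^ 2) (hσ : ∀ x, σ (σ x) = x) :
    Nat.card (EIDX1_U0 (m := m) hσ) = (q ^ 2) ^ (∑ i : Fin m, (i : ℕ)) := by
  unfold EIDX1_U0
  rw [Subgroup.card_map_of_injective (Cfsg.Agent.Helper33.PsuM.AI_hom_injective hσ),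
    Cfsg.Agent.Helper14.AutPSL.card_UT, hK]

theorem EIDX1_arith (m : ℕ) : m + 2 * (∑ i : Fin m, (i : ℕ)) + 2 * (∑ i : Fin m, (i : ℕ)) =
    m * (2 * m - 1) := by
  have h1 : (∑ i : Fin m, (i : ℕ)) * 2 = m * (m - 1) := by
    rw [Fin.sum_univ_eq_sum_range (fun i => i) m]
    exact Finset.sum_range_id_mul_two m
  cases m with
  | zero => simp
  | succ k =>
    have h2 : 2 * (k + 1) - 1 = 2 * k + 1 := by omega
    have h3 : k + 1 - 1 = k := by omega
    rw [h2]
    rw [h3] at h1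
    nlinarith

/-- (EIDX1) -/
theorem pow_dvd_card_Usub (hK : Fintype.card K = q ^ 2) (hσq : ∀ x, σ x = x ^ q) :
    q ^ (m * (2 * m - 1)) ∣ Nat.card (Usub m σ) := by
  have hσ : ∀ x, σ (σ x) = x := by
    intro x
    rw [hσq, hσq, ← pow_mul, ← sq, ← hK, FiniteField.pow_card]
  set U0 := EIDX1_U0 (m := m) hσ with hU0
  have hU0S : U0 ≤ Ssub m σ := (EIDX1_U0_le_USsub hσ).trans (Cfsg.Agent.Helper33.PsuM.USsub_le_Ssub hσ)
  -- `U0` normalises `Qsub`
  have hnorm : U0 ≤ Subgroup.normalizer (Qsub m σ : Set (SUe m σ)) := by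
    intro s hs
    rw [Subgroup.mem_normalizer_iff]
    intro x
    constructor
    · intro hx
      exact Cfsg.Agent.Helper55.PsuM.Ssub_normalizes_Qsub hσ s x (hU0S hs) hx
    · intro hx
      have h1 := Cfsg.Agent.Helper55.PsuM.Ssub_normalizes_Qsub hσ s⁻¹ _
        ((Ssub m σ).inv_mem (hU0S hs)) hx
      have e : s⁻¹ * (s * x * s⁻¹) * s⁻¹⁻¹ = x := by group
      rw [e] at h1
      exact h1
  have hinf : (Qsub m σ).subgroupOf U0 = ⊥ := by
    rw [Subgroup.subgroupOf_eq_bot, disjoint_iff, eq_bot_iff]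
    calc Qsub m σ ⊓ U0 ≤ Qsub m σ ⊓ Ssub m σ := inf_le_inf_left _ hU0S
      _ = ⊥ := Cfsg.Agent.Helper55.PsuM.Qsub_inf_Ssub hσ
  -- the order of `U0 ⊔ Qsub`
  haveI := Subgroup.normal_subgroupOf_of_le_normalizer hnorm
  haveI := Subgroup.normal_subgroupOf_sup_of_le_normalizer hnorm
  have e1 := QuotientGroup.quotientInfEquivProdNormalizerQuotient U0 (Qsub m σ) hnorm
  have hc1 : Nat.card (↥U0 ⧸ (Qsub m σ).subgroupOf U0) = Nat.card U0 := by
    rw [hinf]
    exact Nat.card_congr (QuotientGroup.quotientBot (G := ↥U0)).toEquiv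
  have hc2 : Nat.card (↥(U0 ⊔ Qsub m σ) ⧸ (Qsub m σ).subgroupOf (U0 ⊔ Qsub m σ)) = Nat.card U0 := by
    rw [← hc1]
    exact (Nat.card_congr e1.toEquiv).symm
  have hc3 : Nat.card ((Qsub m σ).subgroupOf (U0 ⊔ Qsub m σ)) = Nat.card (Qsub m σ) :=
    Nat.card_congr (Subgroup.subgroupOfEquivOfLe le_sup_right).toEquiv
  have hc4 : Nat.card ↥(U0 ⊔ Qsub m σ) = Nat.card U0 * Nat.card (Qsub m σ) := by
    rw [Subgroup.card_eq_card_quotient_mul_card_subgroup
      ((Qsub m σ).subgroupOf (U0 ⊔ Qsub m σ)), hc2, hc3]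
  have hle : U0 ⊔ Qsub m σ ≤ Usub m σ := by
    unfold Usub
    exact sup_le ((EIDX1_U0_le_USsub hσ).trans le_sup_right) le_sup_left
  have hdvd := Subgroup.card_dvd_of_le hle
  rw [hc4, EIDX1_card_U0 hK hσ, EIDX1_card_Qsub hK hσq] at hdvd
  have e : q ^ (m * (2 * m - 1)) =
      (q ^ 2) ^ (∑ i : Fin m, (i : ℕ)) * (q ^ m * (q ^ 2) ^ (∑ i : Fin m, (i : ℕ))) := by
    rw [← EIDX1_arith m, ← pow_mul, pow_add, pow_add]
    ring
  rw [e]
  exact hdvd

end Cfsg.Agent.Helper90.PsuM
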