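import Cfsg.Agent.Helper90.PsuM_EWApi
import Cfsg.Agent.Helper96.StLift.Basic

/-!
helper90 for helper43 (S2089 block I-even, farm #14748): piece (EW2) `Qsub_le_comm_Tij_33` of
`tools/helper43_psum/EvSkelB.lean.txt`.
-/

set_option autoImplicit false

namespace Cfsg.Agent.Helper90.PsuM

open Matrix
open scoped commutatorElement
open Cfsg.Agent.Helper96.StLift
open Cfsg.Agent.Helper43.PsuM.Ev

universe u

variable {K : Type u} [Field K] [Fintype K] {q : ℕ} {σ : K →+* K} {m : ℕ}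

/-- (EW2) the case `(m, q) = (3, 3)`. -/
theorem Qsub_le_comm_Tij_33 (hK : Fintype.card K = q ^ 2) (hσq : ∀ x, σ x = x ^ q) (hm : m = 3)
    (hq : q = 3) (i j c : Fin m) (hij : i ≠ j) (hci : c ≠ i) (hcj : c ≠ j) :
    Qsub m σ ≤ ⁅Qsub m σ, Tij σ i j⁆ ⊔ ⁅Xl σ c, Tsub m σ⁆ :=
  EW2_core (EW_api (EW_field hK hσq (by omega : 3 ≤ q)).1) hK hσq hm hq i j c hij hci hcj

end Cfsg.Agent.Helper90.PsuM
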