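import Mathlib
import Cfsg.Agent.Helper45.VL.Defs

/-!
# S3777 (Vaughan-Lee), helper45's farm, leaf (LA2): `la_count`

Double counting of the pairs `(z, α)` with `α₀ z ≠ 0`, `α ≠ 0`, `α z = 0`, `z ∉ R α`.
-/

set_option autoImplicit false

universe u

namespace Cfsg.Agent.Helper90.VL

open Cfsg.Agent.Helper1.HKK Cfsg.Agent.Helper93.HKKLG Cfsg.Agent.Helper45.VL

section LA

variable {K V W : Type*} [Field K] [Fintype K] [AddCommGroup V] [Module K V] [Finite V]
  [AddCommGroup W] [Module K W]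

/-- the number of elements of a subspace of a finite vector space -/
theorem LA2_card_filter_mem {E : Type*} [AddCommGroup E] [Module K E] [Fintype E]
    (U : Submodule K E) [DecidablePred fun v : E => v ∈ U] :
    (Finset.univ.filter fun v : E => v ∈ U).card = Fintype.card K ^ Module.finrank K U := by
  have : Module.Finite K E := Module.Finite.of_finite
  have h1 : Nat.card U = Fintype.card K ^ Module.finrank K U := by
    rw [Module.natCard_eq_pow_finrank (K := K), Nat.card_eq_fintype_card]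
  calc (Finset.univ.filter fun v : E => v ∈ U).card
      = Fintype.card {v : E // v ∈ U} := (Fintype.card_subtype _).symm
    _ = Nat.card {v : E // v ∈ U} := Nat.card_eq_fintype_card.symm
    _ = Fintype.card K ^ Module.finrank K U := h1

/-- splitting a filter by a further predicate -/
theorem LA2_split {E : Type*} [Fintype E] (P Q : E → Prop) [DecidablePred P] [DecidablePred Q] :
    (Finset.univ.filter fun v : E => P v).card =
      (Finset.univ.filter fun v : E => P v ∧ Q v).card +
        (Finset.univ.filter fun v : E => P v ∧ ¬ Q v).card := by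
  rw [← Finset.card_filter_add_card_filter_not (s := Finset.univ.filter fun v : E => P v) Q,
    Finset.filter_filter, Finset.filter_filter]

/-- the count for one functional `α` not vanishing on `ker α₀` -/
theorem LA2_one [Fintype V] (α α₀ : Module.Dual K V) (hα₀ : α₀ ≠ 0) (Rα : Submodule K V)
    (hRle : Rα ≤ LinearMap.ker α) (hRrk : Module.finrank K Rα + 2 = Module.finrank K V)
    (hd : 3 ≤ Module.finrank K V)
    (hα : ¬ LinearMap.ker α₀ ≤ LinearMap.ker α)
    [DecidablePred fun z : V => α₀ z ≠ 0 ∧ α z = 0 ∧ z ∉ Rα] :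
    Fintype.card K ^ (Module.finrank K V - 1) + Fintype.card K ^ (Module.finrank K V - 3) ≤
      (Finset.univ.filter fun z : V => α₀ z ≠ 0 ∧ α z = 0 ∧ z ∉ Rα).card +
        2 * Fintype.card K ^ (Module.finrank K V - 2) := by
  classical
  have hfin : Module.Finite K V := Module.Finite.of_finite
  have hα0 : α ≠ 0 := by
    rintro rfl
    apply hα
    intro v _
    simp
  have hk : Module.finrank K (LinearMap.ker α) + 1 = Module.finrank K V :=
    Module.Dual.finrank_ker_add_one_of_ne_zero hα0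
  have hk0 : Module.finrank K (LinearMap.ker α₀) + 1 = Module.finrank K V :=
    Module.Dual.finrank_ker_add_one_of_ne_zero hα₀
  -- `ker α ⊔ ker α₀ = ⊤`
  have hsup : Module.finrank K (LinearMap.ker α ⊔ LinearMap.ker α₀ : Submodule K V) =
      Module.finrank K V := by
    have hlt : LinearMap.ker α < LinearMap.ker α ⊔ LinearMap.ker α₀ := by
      refine lt_of_le_of_ne le_sup_left ?_
      intro h
      apply hα
      rw [h]
      exact le_sup_right
    have h1 := Submodule.finrank_lt_finrank_of_lt hlt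
    have h2 := Submodule.finrank_le (LinearMap.ker α ⊔ LinearMap.ker α₀ : Submodule K V)
    omega
  have hinf : Module.finrank K (LinearMap.ker α ⊓ LinearMap.ker α₀ : Submodule K V) + 2 =
      Module.finrank K V := by
    have := Submodule.finrank_sup_add_finrank_inf_eq (LinearMap.ker α) (LinearMap.ker α₀)
    omega
  have hRinf : Module.finrank K V ≤
      Module.finrank K (Rα ⊓ LinearMap.ker α₀ : Submodule K V) + 3 := by
    have := Submodule.finrank_sup_add_finrank_inf_eq Rα (LinearMap.ker α₀)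
    have h2 := Submodule.finrank_le (Rα ⊔ LinearMap.ker α₀ : Submodule K V)
    omega
  -- the cardinalities
  have c1 := LA2_card_filter_mem (K := K) (LinearMap.ker α)
  have c2 := LA2_card_filter_mem (K := K) (LinearMap.ker α ⊓ LinearMap.ker α₀ : Submodule K V)
  have c3 := LA2_card_filter_mem (K := K) Rα
  have c4 := LA2_card_filter_mem (K := K) (Rα ⊓ LinearMap.ker α₀ : Submodule K V)
  have e1 : Module.finrank K (LinearMap.ker α) = Module.finrank K V - 1 := by omega
  have e2 : Module.finrank K (LinearMap.ker α ⊓ LinearMap.ker α₀ : Submodule K V) =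
      Module.finrank K V - 2 := by omega
  have e3 : Module.finrank K Rα = Module.finrank K V - 2 := by omega
  rw [e1] at c1
  rw [e2] at c2
  rw [e3] at c3
  have c4' : Fintype.card K ^ (Module.finrank K V - 3) ≤
      (Finset.univ.filter fun v : V => v ∈ (Rα ⊓ LinearMap.ker α₀ : Submodule K V)).card := by
    rw [c4]
    exact Nat.pow_le_pow_right Fintype.card_pos (by omega)
  -- splittings
  have s1 := LA2_split (fun v : V => v ∈ LinearMap.ker α) (fun v : V => α₀ v = 0)
  have s2 := LA2_split (fun v : V => v ∈ LinearMap.ker α ∧ ¬ α₀ v = 0) (fun v : V => v ∈ Rα)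
  have s3 := LA2_split (fun v : V => v ∈ Rα) (fun v : V => α₀ v = 0)
  have t1 : (Finset.univ.filter fun v : V => v ∈ LinearMap.ker α ∧ α₀ v = 0) =
      (Finset.univ.filter fun v : V => v ∈ (LinearMap.ker α ⊓ LinearMap.ker α₀ : Submodule K V)) := by
    apply Finset.filter_congr
    intro v _
    rw [Submodule.mem_inf, LinearMap.mem_ker, LinearMap.mem_ker]
  have t2 : (Finset.univ.filter fun v : V => (v ∈ LinearMap.ker α ∧ ¬ α₀ v = 0) ∧ v ∈ Rα) =
      (Finset.univ.filter fun v : V => v ∈ Rα ∧ ¬ α₀ v = 0) := by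
    apply Finset.filter_congr
    intro v _
    constructor
    · rintro ⟨⟨_, h2⟩, h3⟩
      exact ⟨h3, h2⟩
    · rintro ⟨h3, h2⟩
      exact ⟨⟨hRle h3, h2⟩, h3⟩
  have t3 : (Finset.univ.filter fun v : V => (v ∈ LinearMap.ker α ∧ ¬ α₀ v = 0) ∧ ¬ v ∈ Rα) =
      (Finset.univ.filter fun z : V => α₀ z ≠ 0 ∧ α z = 0 ∧ z ∉ Rα) := by
    apply Finset.filter_congr
    intro v _
    rw [LinearMap.mem_ker]
    constructor
    · rintro ⟨⟨h1, h2⟩, h3⟩
      exact ⟨h2, h1, h3⟩
    · rintro ⟨h2, h1, h3⟩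
      exact ⟨⟨h1, h2⟩, h3⟩
  have t4 : (Finset.univ.filter fun v : V => v ∈ Rα ∧ α₀ v = 0) =
      (Finset.univ.filter fun v : V => v ∈ (Rα ⊓ LinearMap.ker α₀ : Submodule K V)) := by
    apply Finset.filter_congr
    intro v _
    rw [Submodule.mem_inf, LinearMap.mem_ker]
  rw [t1] at s1
  rw [t2, t3] at s2
  rw [t4] at s3
  omega

/-- (LA2) the counting: outside every hyperplane there is a vector lying in `ker α \ R α`
for at least `q^(d-2)` nonzero functionals `α`. -/
theorem la_count (R : Module.Dual K V → Submodule K V)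
    (hR : ∀ α : Module.Dual K V, α ≠ 0 →
      R α ≤ LinearMap.ker α ∧ Module.finrank K (R α) + 2 = Module.finrank K V)
    (hd : 3 ≤ Module.finrank K V) (α₀ : Module.Dual K V) (hα₀ : α₀ ≠ 0) :
    ∃ z : V, α₀ z ≠ 0 ∧
      Fintype.card K ^ (Module.finrank K V - 2) ≤
        Nat.card {α : Module.Dual K V // α ≠ 0 ∧ α z = 0 ∧ z ∉ R α} := by
  classical
  have hfinV : Module.Finite K V := Module.Finite.of_finite
  have hfinD : Finite (Module.Dual K V) := Module.finite_of_finite K
  let _ : Fintype V := Fintype.ofFinite V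
  let _ : Fintype (Module.Dual K V) := Fintype.ofFinite _
  by_contra hcon
  rw [not_exists] at hcon
  simp only [not_and, not_le] at hcon
  obtain ⟨q, hq⟩ : ∃ q, q = Fintype.card K := ⟨_, rfl⟩
  obtain ⟨d, hd'⟩ : ∃ d, d = Module.finrank K V := ⟨_, rfl⟩
  have hq2 : 2 ≤ q := by rw [hq]; exact Fintype.one_lt_card
  obtain ⟨a, ha⟩ : ∃ a, a = q ^ (d - 3) := ⟨_, rfl⟩
  have hd3 : 3 ≤ d := by rw [hd']; exact hd
  have hp2 : q ^ (d - 2) = q * a := by
    rw [ha, ← pow_succ']
    congr 1
    omega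
  have hp1 : q ^ (d - 1) = q ^ 2 * a := by
    rw [ha, ← pow_add]
    congr 1
    omega
  have hp0 : q ^ d = q ^ 3 * a := by
    rw [ha, ← pow_add]
    congr 1
    omega
  have ha1 : 1 ≤ a := by
    rw [ha]
    exact Nat.one_le_pow _ _ (by omega)
  rw [← hd', ← hq] at hcon
  -- the numbers `N z`
  have hN : ∀ z : V, α₀ z ≠ 0 →
      (Finset.univ.filter fun α : Module.Dual K V => α ≠ 0 ∧ α z = 0 ∧ z ∉ R α).card + 1 ≤
        q * a := by
    intro z hz
    have h1 := hcon z hz
    rw [Nat.card_eq_fintype_card, Fintype.card_subtype, hp2] at h1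
    omega
  -- the set `Z`
  obtain ⟨Z, hZ⟩ : ∃ Z : Finset V, Z = Finset.univ.filter fun z : V => α₀ z ≠ 0 := ⟨_, rfl⟩
  have hZcard : Z.card + q ^ 2 * a = q ^ 3 * a := by
    have h1 := Finset.card_filter_add_card_filter_not (s := (Finset.univ : Finset V))
      (fun z : V => α₀ z = 0)
    have h2 := LA2_card_filter_mem (K := K) (LinearMap.ker α₀)
    have h3 : (Finset.univ.filter fun v : V => v ∈ LinearMap.ker α₀) =
        (Finset.univ.filter fun z : V => α₀ z = 0) := by
      apply Finset.filter_congr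
      intro v _
      rw [LinearMap.mem_ker]
    have h4 : Module.finrank K (LinearMap.ker α₀) = d - 1 := by
      have := Module.Dual.finrank_ker_add_one_of_ne_zero hα₀
      omega
    rw [h3, h4, ← hq, hp1] at h2
    have h5 : (Finset.univ : Finset V).card = q ^ 3 * a := by
      rw [Finset.card_univ, Module.card_eq_pow_finrank (K := K) (V := V), ← hq, ← hd', hp0]
    rw [h2, h5, add_comm] at h1
    rw [hZ]
    exact h1
  -- the set `𝒜`
  obtain ⟨𝒜, h𝒜⟩ : ∃ 𝒜 : Finset (Module.Dual K V), 𝒜 = Finset.univ.filter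
      fun α : Module.Dual K V => ¬ LinearMap.ker α₀ ≤ LinearMap.ker α := ⟨_, rfl⟩
  have h𝒜card : 𝒜.card + q = q ^ 3 * a := by
    have h1 := Finset.card_filter_add_card_filter_not (s := (Finset.univ : Finset (Module.Dual K V)))
      (fun α : Module.Dual K V => LinearMap.ker α₀ ≤ LinearMap.ker α)
    have h2 := LA2_card_filter_mem (K := K) (LinearMap.ker α₀).dualAnnihilator
    have h3 : (Finset.univ.filter fun α : Module.Dual K V =>
          α ∈ (LinearMap.ker α₀).dualAnnihilator) =
        (Finset.univ.filter fun α : Module.Dual K V => LinearMap.ker α₀ ≤ LinearMap.ker α) := by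
      apply Finset.filter_congr
      intro α _
      rw [Submodule.mem_dualAnnihilator]
      constructor
      · intro h w hw
        exact LinearMap.mem_ker.2 (h w hw)
      · intro h w hw
        exact LinearMap.mem_ker.1 (h hw)
    have h4 : Module.finrank K (LinearMap.ker α₀).dualAnnihilator = 1 := by
      have e1 := Module.Dual.finrank_ker_add_one_of_ne_zero hα₀
      have e2 := Subspace.finrank_add_finrank_dualAnnihilator_eq (LinearMap.ker α₀)
      omega
    rw [h3, h4, ← hq, pow_one] at h2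
    have h5 : (Finset.univ : Finset (Module.Dual K V)).card = q ^ 3 * a := by
      rw [Finset.card_univ, Module.card_eq_pow_finrank (K := K) (V := Module.Dual K V), ← hq,
        Subspace.dual_finrank_eq, ← hd', hp0]
    rw [h2, h5, add_comm] at h1
    rw [h𝒜]
    exact h1
  -- the numbers `T α`
  have hT : ∀ α ∈ 𝒜, q ^ 2 * a + a ≤
      (Finset.univ.filter fun z : V => α₀ z ≠ 0 ∧ α z = 0 ∧ z ∉ R α).card + 2 * (q * a) := by
    intro α hα
    rw [h𝒜, Finset.mem_filter] at hα
    have hα0 : α ≠ 0 := by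
      rintro rfl
      apply hα.2
      intro v _
      simp
    have h1 := LA2_one α α₀ hα₀ (R α) (hR α hα0).1 (hR α hα0).2 hd hα.2
    rw [← hq, ← hd', hp1, hp2, ← ha] at h1
    exact h1
  -- upper bound
  have hup : (∑ z ∈ Z, (Finset.univ.filter
      fun α : Module.Dual K V => α ≠ 0 ∧ α z = 0 ∧ z ∉ R α).card) + Z.card ≤ Z.card * (q * a) := by
    have h1 := Finset.sum_le_card_nsmul Z (fun z => (Finset.univ.filter
      fun α : Module.Dual K V => α ≠ 0 ∧ α z = 0 ∧ z ∉ R α).card + 1) (q * a) (by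
        intro z hz
        rw [hZ, Finset.mem_filter] at hz
        exact hN z hz.2)
    rw [Finset.sum_add_distrib, Finset.sum_const, smul_eq_mul, mul_one, smul_eq_mul] at h1
    exact h1
  -- double counting
  have hdc : (∑ α ∈ 𝒜, (Finset.univ.filter fun z : V => α₀ z ≠ 0 ∧ α z = 0 ∧ z ∉ R α).card) ≤
      ∑ z ∈ Z, (Finset.univ.filter
        fun α : Module.Dual K V => α ≠ 0 ∧ α z = 0 ∧ z ∉ R α).card := by
    calc (∑ α ∈ 𝒜, (Finset.univ.filter fun z : V => α₀ z ≠ 0 ∧ α z = 0 ∧ z ∉ R α).card)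
        = ∑ α ∈ 𝒜, ∑ z ∈ Z, (if (α ≠ 0 ∧ α z = 0 ∧ z ∉ R α) then 1 else 0) := by
          apply Finset.sum_congr rfl
          intro α hα
          rw [h𝒜, Finset.mem_filter] at hα
          have hα0 : α ≠ 0 := by
            rintro rfl
            apply hα.2
            intro v _
            simp
          rw [← Finset.card_filter, hZ, Finset.filter_filter]
          congr 1
          apply Finset.filter_congr
          intro z _
          constructor
          · rintro ⟨h1, h2, h3⟩
            exact ⟨h1, hα0, h2, h3⟩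
          · rintro ⟨h1, _, h2, h3⟩
            exact ⟨h1, h2, h3⟩
      _ ≤ ∑ α : Module.Dual K V, ∑ z ∈ Z, (if (α ≠ 0 ∧ α z = 0 ∧ z ∉ R α) then 1 else 0) := by
          apply Finset.sum_le_sum_of_subset
          exact Finset.subset_univ _
      _ = ∑ z ∈ Z, ∑ α : Module.Dual K V, (if (α ≠ 0 ∧ α z = 0 ∧ z ∉ R α) then 1 else 0) :=
          Finset.sum_comm
      _ = ∑ z ∈ Z, (Finset.univ.filter
            fun α : Module.Dual K V => α ≠ 0 ∧ α z = 0 ∧ z ∉ R α).card := by
          apply Finset.sum_congr rfl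
          intro z _
          rw [Finset.card_filter]
  -- lower bound
  have hlow : 𝒜.card * (q ^ 2 * a + a) ≤
      (∑ α ∈ 𝒜, (Finset.univ.filter fun z : V => α₀ z ≠ 0 ∧ α z = 0 ∧ z ∉ R α).card) +
        𝒜.card * (2 * (q * a)) := by
    have h1 := Finset.card_nsmul_le_sum 𝒜 (fun α => (Finset.univ.filter
      fun z : V => α₀ z ≠ 0 ∧ α z = 0 ∧ z ∉ R α).card + 2 * (q * a)) (q ^ 2 * a + a) hT
    rw [Finset.sum_add_distrib, Finset.sum_const, smul_eq_mul, smul_eq_mul] at h1
    exact h1
  -- arithmetic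
  obtain ⟨S, hS⟩ : ∃ S : ℕ, S = ∑ z ∈ Z, (Finset.univ.filter
      fun α : Module.Dual K V => α ≠ 0 ∧ α z = 0 ∧ z ∉ R α).card := ⟨_, rfl⟩
  obtain ⟨TT, hTT⟩ : ∃ TT : ℕ, TT = ∑ α ∈ 𝒜, (Finset.univ.filter
      fun z : V => α₀ z ≠ 0 ∧ α z = 0 ∧ z ∉ R α).card := ⟨_, rfl⟩
  rw [← hS] at hup hdc
  rw [← hTT] at hdc hlow
  obtain ⟨A, hA⟩ : ∃ A : ℕ, A = 𝒜.card := ⟨_, rfl⟩
  obtain ⟨Zc, hZc⟩ : ∃ Zc : ℕ, Zc = Z.card := ⟨_, rfl⟩
  rw [← hA] at h𝒜card hlow
  rw [← hZc] at hZcard hup
  have i1 : (Zc : ℤ) = q ^ 3 * a - q ^ 2 * a := by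
    have : (Zc : ℤ) + q ^ 2 * a = q ^ 3 * a := by exact_mod_cast hZcard
    linarith
  have i2 : (A : ℤ) = q ^ 3 * a - q := by
    have : (A : ℤ) + q = q ^ 3 * a := by exact_mod_cast h𝒜card
    linarith
  have i3 : (A : ℤ) * (q ^ 2 * a + a) ≤ TT + A * (2 * (q * a)) := by exact_mod_cast hlow
  have i4 : (TT : ℤ) ≤ S := by exact_mod_cast hdc
  have i5 : (S : ℤ) + Zc ≤ Zc * (q * a) := by exact_mod_cast hup
  have i6 : (A : ℤ) * (q ^ 2 * a + a) + Zc ≤ Zc * (q * a) + A * (2 * (q * a)) := by linarith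
  rw [i1, i2] at i6
  have hkey : ((q : ℤ) ^ 3 * a - q) * (q ^ 2 * a + a) + (q ^ 3 * a - q ^ 2 * a) -
      ((q ^ 3 * a - q ^ 2 * a) * (q * a) + (q ^ 3 * a - q) * (2 * (q * a))) =
      a * (q - 1) * q * (q ^ 2 * a * (q - 2) + 1) := by ring
  have hq2' : (2 : ℤ) ≤ q := by exact_mod_cast hq2
  have ha1' : (1 : ℤ) ≤ a := by exact_mod_cast ha1
  have hpos : (0 : ℤ) < a * (q - 1) * q * (q ^ 2 * a * (q - 2) + 1) := by
    have h1 : (0 : ℤ) < a := by linarith
    have h2 : (0 : ℤ) < q - 1 := by linarith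
    have h3 : (0 : ℤ) < q := by linarith
    have h4 : (0 : ℤ) ≤ q ^ 2 * a * (q - 2) :=
      mul_nonneg (mul_nonneg (by positivity) h1.le) (by linarith)
    exact mul_pos (mul_pos (mul_pos h1 h2) h3) (by linarith)
  linarith

end LA

end Cfsg.Agent.Helper90.VL
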