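import Mathlib
import Cfsg.Agent.Helper45.VL.Defs

/-!
# S3777 (Vaughan-Lee), helper45's farm, leaf (LA3): `la_isolated_of_count`
-/

set_option autoImplicit false

universe u

namespace Cfsg.Agent.Helper90.VL

open Cfsg.Agent.Helper1.HKK Cfsg.Agent.Helper93.HKKLG Cfsg.Agent.Helper45.VL

section LA

variable {K V W : Type*} [Field K] [Fintype K] [AddCommGroup V] [Module K V] [Finite V]
  [AddCommGroup W] [Module K W]

/-- (LA3) many functionals vanishing at `z` cut out the line through `z`. -/
theorem la_isolated_of_count (z : V) (hz : z ≠ 0) (S : Set (Module.Dual K V))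
    (hS : ∀ α ∈ S, α ≠ 0 ∧ α z = 0)
    (hcard : Fintype.card K ^ (Module.finrank K V - 2) ≤ Nat.card S)
    (hd : 2 ≤ Module.finrank K V)
    (y : V) (hy : ∀ α ∈ S, α y = 0) : y ∈ Submodule.span K {z} := by
  classical
  by_contra hyz
  have : Module.Finite K V := Module.Finite.of_finite
  have : Finite (Module.Dual K V) := Module.finite_of_finite K
  obtain ⟨U, hU⟩ : ∃ U : Submodule K V, U = Submodule.span K {z, y} := ⟨_, rfl⟩
  have hli : LinearIndependent K ![z, y] := by
    rw [LinearIndependent.pair_iff' hz]
    intro a ha
    exact hyz (Submodule.mem_span_singleton.2 ⟨a, ha⟩)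
  have hUrank : Module.finrank K U = 2 := by
    have h1 := finrank_span_eq_card hli
    have h2 : Set.range ![z, y] = {z, y} := by
      ext v
      simp [eq_comm, or_comm]
    rw [h2, ← hU] at h1
    rw [h1]
    simp
  have hann : Module.finrank K U.dualAnnihilator + 2 = Module.finrank K V := by
    have := Subspace.finrank_add_finrank_dualAnnihilator_eq U
    omega
  have hcardann : Nat.card U.dualAnnihilator = Fintype.card K ^ (Module.finrank K V - 2) := by
    rw [Module.natCard_eq_pow_finrank (K := K), Nat.card_eq_fintype_card]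
    congr 1
    omega
  have hsub : insert (0 : Module.Dual K V) S ⊆ (U.dualAnnihilator : Set (Module.Dual K V)) := by
    intro α hα
    rcases hα with rfl | hα
    · exact Submodule.zero_mem _
    · rw [SetLike.mem_coe, Submodule.mem_dualAnnihilator]
      have hle : U ≤ LinearMap.ker α := by
        rw [hU, Submodule.span_le]
        intro v hv
        rcases hv with rfl | hv
        · exact LinearMap.mem_ker.2 (hS α hα).2
        · rw [Set.mem_singleton_iff] at hv
          rw [hv]
          exact LinearMap.mem_ker.2 (hy α hα)
      intro w hw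
      exact LinearMap.mem_ker.1 (hle hw)
  have h0 : (0 : Module.Dual K V) ∉ S := fun h => (hS 0 h).1 rfl
  have h1 : (insert (0 : Module.Dual K V) S).ncard = S.ncard + 1 :=
    Set.ncard_insert_of_notMem h0 (Set.toFinite S)
  have h2 : (insert (0 : Module.Dual K V) S).ncard ≤
      (U.dualAnnihilator : Set (Module.Dual K V)).ncard :=
    Set.ncard_le_ncard hsub (Set.toFinite _)
  have h3 : (U.dualAnnihilator : Set (Module.Dual K V)).ncard = Nat.card U.dualAnnihilator :=
    (Nat.card_coe_set_eq _).symm
  have h4 : Nat.card S = S.ncard := Nat.card_coe_set_eq S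
  omega

end LA

end Cfsg.Agent.Helper90.VL
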