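import Cfsg.Agent.Helper56.T2T.Defs

/-!
# S2197 (Tits group has no faithful 2-transitive action), piece (AR3) (for helper56)
-/

set_option autoImplicit false

namespace Cfsg.Agent.Helper90.T2T

open Cfsg.Agent.Helper56.T2T

universe u v
variable {G : Type u} [Group G] {Ω : Type v} [MulAction G Ω]

/-- (AR3) a faithful action embeds `G` in `Perm Ω`. -/
theorem card_dvd_factorial [Finite G] [Fintype Ω] [FaithfulSMul G Ω] :
    Nat.card G ∣ (Fintype.card Ω).factorial := by
  classical
  have h1 : Nat.card G ∣ Nat.card (Equiv.Perm Ω) :=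
    Subgroup.card_dvd_of_injective (MulAction.toPermHom G Ω) MulAction.toPerm_injective
  have h2 : Nat.card (Equiv.Perm Ω) = (Fintype.card Ω).factorial := by
    rw [Nat.card_eq_fintype_card, Fintype.card_perm]
  rwa [h2] at h1
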