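import Cfsg.Agent.Helper56.U35.Defs

/-!
# S2149 farm of helper56 (#14426), piece (DAT): the certificates give the data
-/

set_option autoImplicit false

namespace Cfsg.Agent.Helper90.U35

open MulAction Cfsg.Agent.Helper56.U35

variable {G : Type*} [Group G] {Ω : Type*} [MulAction G Ω]

/-- in a group of order `1000` the elements of order dividing `5` lie in a normal subgroup of
order `125` -/
theorem dat_sylow {B : Type*} [Group B] (hB : Nat.card B = 1000) :
    ∃ Q : Subgroup B, Q.Normal ∧ Nat.card Q = 125 ∧ ∀ b : B, b ^ 5 = 1 → b ∈ Q := by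
  classical
  haveI : Fact (Nat.Prime 5) := ⟨by norm_num⟩
  haveI : Finite B := Nat.finite_of_card_ne_zero (by rw [hB]; norm_num)
  let Q : Sylow 5 B := default
  have hQcard : Nat.card Q = 125 := by
    obtain ⟨k, hk⟩ := IsPGroup.iff_card.mp Q.isPGroup'
    have h1 : 5 ^ 3 ∣ Nat.card Q :=
      Q.pow_dvd_card_of_pow_dvd_card (by rw [hB]; norm_num)
    have h2 : Nat.card Q ∣ 1000 := hB ▸ Subgroup.card_subgroup_dvd_card _
    rw [hk] at h1 h2 ⊢
    have h3 : 3 ≤ k := (Nat.pow_dvd_pow_iff_le_right (by norm_num : 1 < 5)).mp h1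
    have h4 : k < 4 := by
      by_contra h
      push Not at h
      have : 5 ^ 4 ∣ 1000 := (pow_dvd_pow 5 h).trans h2
      norm_num at this
    have : k = 3 := by omega
    rw [this]
    norm_num
  have hidx : (Q : Subgroup B).index = 8 := by
    have := Subgroup.index_mul_card (Q : Subgroup B)
    rw [hB, hQcard] at this
    omega
  have hn : Nat.card (Sylow 5 B) = 1 := by
    have h1 : Nat.card (Sylow 5 B) ∣ 8 := hidx ▸ Q.card_dvd_index
    have h2 : Nat.card (Sylow 5 B) ≡ 1 [MOD 5] := card_sylow_modEq_one 5 B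
    have h3 : Nat.card (Sylow 5 B) ≤ 8 := Nat.le_of_dvd (by norm_num) h1
    have h4 : 0 < Nat.card (Sylow 5 B) := Nat.pos_of_dvd_of_pos h1 (by norm_num)
    generalize Nat.card (Sylow 5 B) = n at h1 h2 h3 h4
    interval_cases n <;> first | rfl | (exfalso; revert h1 h2; decide)
  haveI : Subsingleton (Sylow 5 B) := (Nat.card_eq_one_iff_unique.mp hn).1
  refine ⟨(Q : Subgroup B), Q.normal_of_subsingleton, hQcard, ?_⟩
  intro b hb
  have hz : IsPGroup 5 (Subgroup.zpowers b) := by
    rintro ⟨g, hg⟩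
    obtain ⟨n, rfl⟩ := Subgroup.mem_zpowers_iff.mp hg
    refine ⟨1, Subtype.ext ?_⟩
    rw [pow_one]
    show (b ^ n) ^ 5 = 1
    rw [← zpow_natCast, ← zpow_mul, mul_comm, zpow_mul, zpow_natCast, hb, one_zpow]
  obtain ⟨Q', hQ'⟩ := hz.exists_le_sylow
  have : Q' = Q := Subsingleton.elim _ _
  exact this ▸ hQ' (Subgroup.mem_zpowers b)

/-- (DAT) the certificates give the data -/
theorem exists_tiData (hG : Nat.card G = 126000) (hΩ : Nat.card Ω = 126)
    (o w0 : Ω) (x y s : G) (hx : x • o = o) (hy : y • o = o) (hs : s • o ≠ o)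
    (hx5 : x ^ 5 = 1) (hy5 : y ^ 5 = 1)
    (hP : ∀ w : Ω, w ≠ o → ∃ u ∈ Subgroup.closure ({x, y} : Set G), u • w0 = w) :
    ∃ D : TIData G Ω, D.o = o ∧ D.P = Subgroup.closure ({x, y} : Set G) := by
  classical
  haveI : Finite G := Nat.finite_of_card_ne_zero (by rw [hG]; norm_num)
  haveI : Finite Ω := Nat.finite_of_card_ne_zero (by rw [hΩ]; norm_num)
  have hPB : Subgroup.closure ({x, y} : Set G) ≤ stabilizer G o := by
    rw [Subgroup.closure_le]
    intro g hg
    rcases hg with rfl | hg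
    · exact hx
    · rw [Set.mem_singleton_iff] at hg
      subst hg
      exact hy
  -- transitivity
  have htrans : ∀ w : Ω, ∃ g : G, g • o = w := by
    obtain ⟨u0, hu0, hu0w⟩ := hP (s • o) hs
    have hw0' : w0 = (u0⁻¹ * s) • o := by rw [mul_smul, ← hu0w, inv_smul_smul]
    intro w
    by_cases hw : w = o
    · exact ⟨1, by rw [one_smul, hw]⟩
    · obtain ⟨u, hu, huw⟩ := hP w hw
      exact ⟨u * (u0⁻¹ * s), by rw [mul_smul, ← hw0', huw]⟩
  haveI : IsPretransitive G Ω := by
    constructor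
    intro a b
    obtain ⟨g, hg⟩ := htrans a
    obtain ⟨h, hh⟩ := htrans b
    exact ⟨h * g⁻¹, by rw [mul_smul, ← hg, inv_smul_smul, hh]⟩
  -- the stabiliser has order 1000
  have hBcard : Nat.card (stabilizer G o) = 1000 := by
    have h1 := index_stabilizer_of_transitive G o
    have h2 := Subgroup.index_mul_card (stabilizer G o)
    rw [h1, hΩ, hG] at h2
    omega
  obtain ⟨Q, hQn, hQcard, hQ5⟩ := dat_sylow hBcard
  -- `P` lies in the image of `Q`
  have hPQ : Subgroup.closure ({x, y} : Set G) ≤ Q.map (stabilizer G o).subtype := by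
    rw [Subgroup.closure_le]
    intro g hg
    rcases hg with rfl | hg
    · exact ⟨⟨g, hx⟩, hQ5 _ (Subtype.ext hx5), rfl⟩
    · rw [Set.mem_singleton_iff] at hg
      subst hg
      exact ⟨⟨g, hy⟩, hQ5 _ (Subtype.ext hy5), rfl⟩
  have hQmap : Nat.card (Q.map (stabilizer G o).subtype) = 125 := by
    rw [Subgroup.card_map_of_injective (stabilizer G o).subtype_injective, hQcard]
  -- the orbit of `w0` under `P` covers the `125` points other than `o`
  have hcompl : Nat.card {w : Ω // w ≠ o} = 125 := by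
    have e : Option {w : Ω // w ≠ o} ≃ Ω := Equiv.optionSubtypeNe o
    have h1 := Nat.card_congr e
    rw [Finite.card_option, hΩ] at h1
    omega
  choose f hf1 hf2 using hP
  let ψ : {w : Ω // w ≠ o} → Subgroup.closure ({x, y} : Set G) :=
    fun w => ⟨f w.1 w.2, hf1 w.1 w.2⟩
  have hψinj : Function.Injective ψ := by
    intro a b hab
    have h1 : f a.1 a.2 = f b.1 b.2 := congrArg Subtype.val hab
    apply Subtype.ext
    rw [← hf2 a.1 a.2, ← hf2 b.1 b.2, h1]
  have hPge : 125 ≤ Nat.card (Subgroup.closure ({x, y} : Set G)) := by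
    rw [← hcompl]
    exact Nat.card_le_card_of_injective ψ hψinj
  have hPle : Nat.card (Subgroup.closure ({x, y} : Set G)) ≤ 125 := by
    rw [← hQmap]
    exact Subgroup.card_le_of_le hPQ
  have hPcard : Nat.card (Subgroup.closure ({x, y} : Set G)) = 125 := le_antisymm hPle hPge
  have hPeq : Subgroup.closure ({x, y} : Set G) = Q.map (stabilizer G o).subtype :=
    Subgroup.eq_of_le_of_card_ge hPQ (by rw [hQmap, hPcard])
  have hψbij : Function.Bijective ψ :=
    hψinj.bijective_of_nat_card_le (by rw [hPcard, hcompl])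
  have hw0 : w0 ≠ o := by
    intro h
    have h1 := hf2 (s • o) hs
    rw [h] at h1
    exact hs (h1 ▸ hPB (hf1 (s • o) hs))
  -- the map `u ↦ u • w0` is injective on `P`
  have hinj : ∀ u ∈ Subgroup.closure ({x, y} : Set G), ∀ u' ∈ Subgroup.closure ({x, y} : Set G),
      u • w0 = u' • w0 → u = u' := by
    intro u hu u' hu' h
    obtain ⟨a, ha⟩ := hψbij.2 ⟨u, hu⟩
    obtain ⟨b, hb⟩ := hψbij.2 ⟨u', hu'⟩
    have ha' : f a.1 a.2 = u := congrArg Subtype.val ha
    have hb' : f b.1 b.2 = u' := congrArg Subtype.val hb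
    have h1 : a.1 = b.1 := by
      rw [← hf2 a.1 a.2, ← hf2 b.1 b.2, ha', hb', h]
    have h2 : a = b := Subtype.ext h1
    rw [← ha', ← hb', h2]
  refine ⟨{ o := o
            P := Subgroup.closure ({x, y} : Set G)
            cardG := hG
            cardΩ := hΩ
            trans := htrans
            cardP := hPcard
            P_le := hPB
            P_normal := ?_
            semireg := ?_ }, rfl, rfl⟩
  · intro b hb u hu
    rw [hPeq] at hu ⊢
    obtain ⟨q, hq, rfl⟩ := hu
    exact ⟨⟨b, hb⟩ * q * ⟨b, hb⟩⁻¹, hQn.conj_mem q hq ⟨b, hb⟩, rfl⟩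
  · intro u hu hu1 w hw
    by_contra hwo
    apply hu1
    have hv := hf1 w hwo
    have hvw := hf2 w hwo
    have h1 : (u * f w hwo) • w0 = (f w hwo) • w0 := by
      rw [mul_smul, hvw, hw]
    have h2 := hinj _ (Subgroup.mul_mem _ hu hv) _ hv h1
    exact mul_eq_right.mp h2

end Cfsg.Agent.Helper90.U35
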