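import Cfsg.Agent.Helper56.U35.Defs

/-!
# S2149 farm of helper56 (#14426), piece (P3): a nonabelian group of order `125`
-/

set_option autoImplicit false

namespace Cfsg.Agent.Helper90.U35

open MulAction Cfsg.Agent.Helper56.U35

variable {G : Type*} [Group G] {Ω : Type*} [MulAction G Ω]

/-- (P3) a nonabelian group of order `125` -/
theorem center_facts {P : Type*} [Group P] (hP : Nat.card P = 125) (hna : ∃ a b : P, a * b ≠ b * a) :
    Nat.card (Subgroup.center P) = 5 ∧ commutator P ≤ Subgroup.center P := by
  haveI : Fact (Nat.Prime 5) := ⟨by norm_num⟩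
  haveI : Finite P := Nat.finite_of_card_ne_zero (by rw [hP]; norm_num)
  have hP' : Nat.card P = 5 ^ 3 := by rw [hP]; norm_num
  have hPp : IsPGroup 5 P := IsPGroup.of_card hP'
  obtain ⟨a, b, hab⟩ := hna
  have hidx : (Subgroup.center P).index * Nat.card (Subgroup.center P) = 5 ^ 3 := by
    rw [← hP']
    exact Subgroup.index_mul_card _
  have hcard : Nat.card (Subgroup.center P) = 5 := by
    have hdvd : Nat.card (Subgroup.center P) ∣ 5 ^ 3 := hP' ▸ Subgroup.card_subgroup_dvd_card _
    obtain ⟨k, hk3, hk⟩ := (Nat.dvd_prime_pow (by norm_num : Nat.Prime 5)).mp hdvd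
    interval_cases k
    · exfalso
      haveI : Nontrivial P := by
        apply (Finite.one_lt_card_iff_nontrivial).mp
        rw [hP]
        norm_num
      haveI := hPp.center_nontrivial
      have h1 : 1 < Nat.card (Subgroup.center P) := Finite.one_lt_card
      rw [hk, pow_zero] at h1
      exact lt_irrefl _ h1
    · simpa using hk
    · exfalso
      have hi : (Subgroup.center P).index = 5 := by
        rw [hk] at hidx
        omega
      haveI : IsCyclic (P ⧸ Subgroup.center P) := by
        apply isCyclic_of_prime_card (p := 5)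
        rw [← Subgroup.index_eq_card]
        exact hi
      exact hab (commutative_of_cyclic_center_quotient (QuotientGroup.mk' (Subgroup.center P))
        (by rw [QuotientGroup.ker_mk']) a b)
    · exfalso
      have htop : Subgroup.center P = ⊤ := by
        apply Subgroup.eq_top_of_card_eq
        rw [hk, hP']
      have hbm : b ∈ Subgroup.center P := htop ▸ Subgroup.mem_top _
      exact hab (Subgroup.mem_center_iff.mp hbm a)
  refine ⟨hcard, ?_⟩
  have hq : Nat.card (P ⧸ Subgroup.center P) = 5 ^ 2 := by
    rw [← Subgroup.index_eq_card]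
    rw [hcard] at hidx
    omega
  have hcomm := IsPGroup.commutative_of_card_eq_prime_sq hq
  rw [commutator_def, Subgroup.commutator_le]
  intro g₁ _ g₂ _
  rw [← QuotientGroup.eq_one_iff, commutatorElement_def]
  simp only [QuotientGroup.mk_mul, QuotientGroup.mk_inv]
  rw [hcomm (g₁ : P ⧸ Subgroup.center P) _]
  group

end Cfsg.Agent.Helper90.U35
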