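import Mathlib
import Cfsg.Agent.Helper79.Mult.Defs
import Cfsg.Agent.Helper69.TorCYC

/-!
# S4756 (helper79's farm), leaf (CYC): an abelian group acting fixed point freely on a
non-trivial normal `p`-subgroup, of order prime to `p`, is cyclic
-/

set_option autoImplicit false

universe u

namespace Cfsg.Agent.Helper90.Mult

open Cfsg Cfsg.Agent.Helper79.Mult

/-- the norm `∏_{i<ℓ} c^i • v` is fixed by `c` when `c ^ ℓ = 1` -/
theorem cyc_norm_fixed {B M : Type*} [Group B] [CommGroup M] (φ : B →* MulAut M) (c : B) (ℓ : ℕ)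
    (hc : c ^ ℓ = 1) (v : M) :
    φ c (∏ i ∈ Finset.range ℓ, φ (c ^ i) v) = ∏ i ∈ Finset.range ℓ, φ (c ^ i) v := by
  rw [map_prod]
  have h1 : ∀ i, φ c (φ (c ^ i) v) = φ (c ^ (i + 1)) v := by
    intro i
    rw [pow_succ', map_mul]
    rfl
  simp only [h1]
  have h2 := Finset.prod_range_succ' (fun i => φ (c ^ i) v) ℓ
  have h3 := Finset.prod_range_succ (fun i => φ (c ^ i) v) ℓ
  rw [h2] at h3
  simp only [hc, pow_zero] at h3
  exact mul_right_cancel h3

/-- the averaging argument: two independent elements of order `ℓ` acting fixed point freely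
force `v ^ ℓ = 1` -/
theorem cyc_pow_eq_one {B M : Type*} [CommGroup B] [CommGroup M] (φ : B →* MulAut M) (ℓ : ℕ)
    (hℓ : 0 < ℓ)
    (hfpf : ∀ c : B, c ≠ 1 → ∀ v : M, φ c v = v → v = 1)
    (a b : B) (ha : a ^ ℓ = 1) (hb : b ^ ℓ = 1)
    (hab : ∀ j, j < ℓ → a * b ^ j ≠ 1) (hbi : ∀ i, 0 < i → i < ℓ → b ^ i ≠ 1) (v : M) :
    v ^ ℓ = 1 := by
  have NT : ∀ c : B, c ≠ 1 → c ^ ℓ = 1 → ∀ w : M, ∏ i ∈ Finset.range ℓ, φ (c ^ i) w = 1 := by
    intro c hc hcl w
    exact hfpf c hc _ (cyc_norm_fixed φ c ℓ hcl w)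
  have hS : ∏ j ∈ Finset.range ℓ, ∏ i ∈ Finset.range ℓ, φ ((a * b ^ j) ^ i) v = 1 := by
    apply Finset.prod_eq_one
    intro j hj
    apply NT _ (hab j (Finset.mem_range.mp hj))
    rw [mul_pow, ha, one_mul, ← pow_mul, mul_comm j, pow_mul, hb, one_pow]
  rw [Finset.prod_comm] at hS
  obtain ⟨k, rfl⟩ : ∃ k, ℓ = k + 1 := ⟨ℓ - 1, by omega⟩
  rw [Finset.prod_range_succ'] at hS
  have h0 : ∏ j ∈ Finset.range (k + 1), φ ((a * b ^ j) ^ 0) v = v ^ (k + 1) := by
    simp
  have hi : ∀ i ∈ Finset.range k,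
      ∏ j ∈ Finset.range (k + 1), φ ((a * b ^ j) ^ (i + 1)) v = 1 := by
    intro i hi
    have hi' := Finset.mem_range.mp hi
    have e : ∀ j, φ ((a * b ^ j) ^ (i + 1)) v = φ (a ^ (i + 1)) (φ ((b ^ (i + 1)) ^ j) v) := by
      intro j
      have e0 : (a * b ^ j) ^ (i + 1) = a ^ (i + 1) * (b ^ (i + 1)) ^ j := by
        rw [mul_pow, ← pow_mul, mul_comm j, pow_mul]
      rw [e0, map_mul]
      rfl
    simp only [e]
    rw [← map_prod, NT (b ^ (i + 1)) (hbi _ (by omega) (by omega))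
      (by rw [← pow_mul, mul_comm (i + 1), pow_mul, hb, one_pow]), map_one]
  rw [Finset.prod_eq_one hi, one_mul, h0] at hS
  exact hS

variable {G : Type u} [Group G] [Finite G]

/-- (CYC) -/
theorem isCyclic_of_fpf (p : ℕ) (hp : p.Prime) (A D : Subgroup G) [D.Normal] (hD : IsPGroup p D) (hD1 : D ≠ ⊥)
    (hA : ∀ a ∈ A, ∀ b ∈ A, a * b = b * a) (hcop : (Nat.card A).Coprime p)
    (hfpf : ∀ a ∈ A, a ≠ 1 → ∀ d ∈ D, a * d = d * a → d = 1) : IsCyclic A := by
  classical
  haveI : Fact p.Prime := ⟨hp⟩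
  letI instA : CommGroup ↥A := { (inferInstance : Group ↥A) with
    mul_comm := fun a b => Subtype.ext (hA a a.2 b b.2) }
  -- the centre of `D`, as a normal subgroup of `G`
  let V : Subgroup G := D ⊓ Subgroup.centralizer (D : Set G)
  have hVn : V.Normal := Subgroup.normal_inf_normal _ _
  letI instV : CommGroup ↥V := { (inferInstance : Group ↥V) with
    mul_comm := fun x y => Subtype.ext (Subgroup.mem_centralizer_iff.mp y.2.2 x x.2.1) }
  -- `V` is non-trivial
  obtain ⟨v0, hv0V, hv01⟩ : ∃ v0 : G, v0 ∈ V ∧ v0 ≠ 1 := by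
    haveI : Nontrivial ↥D := (Subgroup.nontrivial_iff_ne_bot D).mpr hD1
    haveI := hD.center_nontrivial
    obtain ⟨z, hz⟩ := exists_ne (1 : Subgroup.center ↥D)
    refine ⟨((z : ↥D) : G), Subgroup.mem_inf.mpr ⟨(z : ↥D).2, ?_⟩, ?_⟩
    · rw [Subgroup.mem_centralizer_iff]
      intro h hh
      have := Subgroup.mem_center_iff.mp z.2 ⟨h, hh⟩
      exact congrArg Subtype.val this
    · intro h
      apply hz
      apply Subtype.ext
      apply Subtype.ext
      exact h
  let φ : ↥A →* MulAut ↥V := (MulAut.conjNormal (H := V)).comp A.subtype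
  have hφ : ∀ (c : ↥A) (v : ↥V), ((φ c v : ↥V) : G) = (c : G) * (v : G) * (c : G)⁻¹ := by
    intro c v
    exact MulAut.conjNormal_apply _ _
  have hfpf' : ∀ c : ↥A, c ≠ 1 → ∀ v : ↥V, φ c v = v → v = 1 := by
    intro c hc v hv
    have h1 : (c : G) * (v : G) * (c : G)⁻¹ = (v : G) := by
      rw [← hφ, hv]
    have h2 : (c : G) * (v : G) = (v : G) * (c : G) := by
      calc (c : G) * (v : G) = ((c : G) * (v : G) * (c : G)⁻¹) * (c : G) := by group
        _ = (v : G) * (c : G) := by rw [h1]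
    have := hfpf c c.2 (fun h => hc (Subtype.ext h)) v v.2.1 h2
    exact Subtype.ext this
  refine Cfsg.Agent.Helper69.Tor.isCyclic_of_card_torsion_le (A := ↥A) ?_
  intro ℓ hℓ
  by_cases hb : ∃ b : ↥A, b ≠ 1 ∧ b ^ ℓ = 1
  · obtain ⟨b, hb1, hbl⟩ := hb
    have hob : orderOf b = ℓ := by
      haveI : Fact ℓ.Prime := ⟨hℓ⟩
      exact orderOf_eq_prime hbl hb1
    by_cases ha : ∃ a : ↥A, a ^ ℓ = 1 ∧ a ∉ Subgroup.zpowers b
    · exfalso
      obtain ⟨a, hal, hab⟩ := ha
      have hlp : ℓ ≠ p := by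
        rintro rfl
        have h1 : ℓ ∣ Nat.card ↥A := hob ▸ orderOf_dvd_natCard b
        have h2 : ℓ ∣ 1 := by
          have := Nat.dvd_gcd h1 (dvd_refl ℓ)
          rwa [hcop] at this
        exact hℓ.one_lt.ne' (Nat.dvd_one.mp h2)
      have key := cyc_pow_eq_one φ ℓ hℓ.pos hfpf' a b hal hbl
        (by
          intro j _ h
          apply hab
          have : a = (b ^ j)⁻¹ := eq_inv_of_mul_eq_one_left h
          rw [this]
          exact (Subgroup.zpowers b).inv_mem (Subgroup.npow_mem_zpowers b j))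
        (by
          intro i hi0 hil
          exact pow_ne_one_of_lt_orderOf hi0.ne' (hob ▸ hil))
        ⟨v0, hv0V⟩
      have hv0l : v0 ^ ℓ = 1 := congrArg Subtype.val key
      obtain ⟨k, hk⟩ := IsPGroup.iff_orderOf.mp hD ⟨v0, hv0V.1⟩
      have hk' : orderOf v0 = p ^ k := by
        rw [← hk]
        exact (Subgroup.orderOf_mk v0 hv0V.1).symm
      have hdvd : orderOf v0 ∣ ℓ := orderOf_dvd_of_pow_eq_one hv0l
      rcases (Nat.dvd_prime hℓ).mp hdvd with h | h
      · exact hv01 (orderOf_eq_one_iff.mp h)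
      · rw [hk'] at h
        have : p ∣ ℓ := by
          rw [← h]
          apply dvd_pow_self
          rintro rfl
          rw [pow_zero] at h
          exact hℓ.one_lt.ne h
        exact hlp ((Nat.prime_dvd_prime_iff_eq hp hℓ).mp this).symm
    · have ha' : ∀ a : ↥A, a ^ ℓ = 1 → a ∈ Subgroup.zpowers b := by
        intro a hal
        by_contra h
        exact ha ⟨a, hal, h⟩
      calc Nat.card {a : ↥A // a ^ ℓ = 1} ≤ Nat.card (Subgroup.zpowers b) :=
            Nat.card_le_card_of_injective (fun a => ⟨a.1, ha' a.1 a.2⟩)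
              (by
                intro x y h
                have h' : (x.1 : ↥A) = y.1 :=
                  congrArg (fun t : Subgroup.zpowers b => (t : ↥A)) h
                exact Subtype.ext h')
        _ = ℓ := by rw [Nat.card_zpowers, hob]
  · have hb' : ∀ b : ↥A, b ≠ 1 → b ^ ℓ ≠ 1 := by
      intro b h1 hbl
      exact hb ⟨b, h1, hbl⟩
    have : Subsingleton {a : ↥A // a ^ ℓ = 1} := by
      constructor
      intro x y
      apply Subtype.ext
      have hx : x.1 = 1 := by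
        by_contra h
        exact hb' x.1 h x.2
      have hy : y.1 = 1 := by
        by_contra h
        exact hb' y.1 h y.2
      rw [hx, hy]
    exact (Finite.card_le_one_iff_subsingleton.mpr this).trans hℓ.one_lt.le

end Cfsg.Agent.Helper90.Mult
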