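import Mathlib
import Cfsg.Agent.Helper79.Mult.Defs

/-!
# S4756 (helper79's farm), leaf (GP): `G'` is a `p`-group
-/

set_option autoImplicit false

universe u

namespace Cfsg.Agent.Helper90.Mult

open Cfsg Cfsg.Agent.Helper79.Mult

variable {G : Type u} [Group G] [Finite G]

/-- (GP) `G'` is a `p`-group. -/
theorem isPGroup_commutator (p : ℕ) (hp : p.Prime)
    (h : ∀ y : G, y ≠ 1 → OffP p y →
      Nat.card (Subgroup.centralizer ({y} : Set G)) = (commutator G).index) :
    IsPGroup p (commutator G) := by
  haveI : Fact p.Prime := ⟨hp⟩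
  have hc0 : Nat.card (commutator G) ≠ 0 := Nat.card_pos.ne'
  have hi0 : (commutator G).index ≠ 0 := Subgroup.index_ne_zero_of_finite
  have hmul : (commutator G).index * Nat.card (commutator G) = Nat.card G :=
    Subgroup.index_mul_card _
  have key : ∀ q : ℕ, q.Prime → q ∣ Nat.card (commutator G) → q = p := by
    intro q hq hqd
    by_contra hqp
    haveI : Fact q.Prime := ⟨hq⟩
    obtain ⟨Q⟩ : Nonempty (Sylow q G) := inferInstance
    have hQcard : Nat.card Q = q ^ (Nat.card G).factorization q := Sylow.card_eq_multiplicity Q
    have hqG : q ∣ Nat.card G := by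
      rw [← hmul]
      exact Dvd.dvd.mul_left hqd _
    have hvpos : 0 < (Nat.card G).factorization q :=
      hq.factorization_pos_of_dvd Nat.card_pos.ne' hqG
    have hQnt : Nontrivial Q := by
      rw [← Finite.one_lt_card_iff_nontrivial, hQcard]
      exact Nat.one_lt_pow hvpos.ne' hq.one_lt
    have hcn : Nontrivial (Subgroup.center Q) := IsPGroup.center_nontrivial Q.2
    obtain ⟨z, hz1⟩ := exists_ne (1 : Subgroup.center Q)
    have hy1 : ((z : Q) : G) ≠ 1 := by
      intro h1
      apply hz1
      apply Subtype.ext
      apply Subtype.ext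
      simpa using h1
    have hoff : OffP p ((z : Q) : G) := by
      obtain ⟨k, hk⟩ := Q.2 (z : Q)
      have h2 : orderOf ((z : Q) : G) ∣ q ^ k := by
        rw [Subgroup.orderOf_coe]
        exact orderOf_dvd_of_pow_eq_one hk
      obtain ⟨b, -, hb⟩ := (Nat.dvd_prime_pow hq).1 h2
      exact ⟨q, b, hq, hqp, hb⟩
    have hcent := h _ hy1 hoff
    have hle : (Q : Subgroup G) ≤ Subgroup.centralizer ({((z : Q) : G)} : Set G) := by
      intro x hx
      rw [Subgroup.mem_centralizer_iff]
      intro w hw
      rw [Set.mem_singleton_iff] at hw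
      rw [hw]
      have h3 := Subgroup.mem_center_iff.1 z.2 ⟨x, hx⟩
      have h4 := congrArg (Subtype.val : Q → G) h3
      simpa using h4.symm
    have hdvd : Nat.card Q ∣ (commutator G).index := by
      rw [← hcent]
      exact Subgroup.card_dvd_of_le hle
    rw [hQcard] at hdvd
    have h5 : (Nat.card G).factorization q ≤ ((commutator G).index).factorization q :=
      (hq.pow_dvd_iff_le_factorization hi0).1 hdvd
    have h6 : (Nat.card G).factorization q =
        ((commutator G).index).factorization q + (Nat.card (commutator G)).factorization q := by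
      rw [← hmul, Nat.factorization_mul hi0 hc0]
      rfl
    have h7 : 0 < (Nat.card (commutator G)).factorization q :=
      hq.factorization_pos_of_dvd hc0 hqd
    omega
  have hcard : Nat.card (commutator G) = p ^ (Nat.card (commutator G)).primeFactorsList.length :=
    Nat.eq_prime_pow_of_unique_prime_dvd hc0 (fun {q} hq hqd => key q hq hqd)
  exact IsPGroup.of_card hcard

end Cfsg.Agent.Helper90.Mult
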