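import Mathlib
import Cfsg.Agent.Helper81.ResA2.Defs

/-!
# S5289 (ALL2) sub-farm of helper81, leaf (G4): `|G| = p⁴`
-/

set_option autoImplicit false
universe u
namespace Cfsg.Agent.Helper90.ResA2
open Cfsg.Agent.Helper81.ResA2
variable {G : Type u} [Group G] {p : ℕ} [hp : Fact p.Prime] {N : Subgroup G}

/-- (G4) -/
theorem card_top (hc : Cf p N) (A : Subgroup G) (hAi : A.index = p) (hAc : Nat.card A ≤ p ^ 3) : Nat.card G = p ^ 4 := by
  haveI := hc.fin
  have hG : Nat.card G = p * Nat.card A := by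
    rw [← hAi]
    exact (Subgroup.index_mul_card A).symm
  obtain ⟨n, hn⟩ := IsPGroup.iff_card.mp hc.pgrp
  have hle : Nat.card G ≤ p ^ 4 := by
    rw [hG, pow_succ']
    exact Nat.mul_le_mul_left p hAc
  have hlt : p ^ 3 < Nat.card G := by
    obtain ⟨t, ht⟩ := hc.ne
    rw [← hc.card]
    have hNtop : N ≠ ⊤ := fun h => ht (h ▸ Subgroup.mem_top t)
    exact lt_of_le_of_ne (Subgroup.card_le_card_group N)
      (fun h => hNtop (Subgroup.eq_top_of_card_eq N h))
  rw [hn] at hle hlt ⊢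
  have h1 : 3 < n := (Nat.pow_lt_pow_iff_right hp.out.one_lt).mp hlt
  have h2 : n ≤ 4 := (Nat.pow_le_pow_iff_right hp.out.one_lt).mp hle
  have h3 : n = 4 := by omega
  rw [h3]

end Cfsg.Agent.Helper90.ResA2
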