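import Mathlib
import Cfsg.Agent.Helper81.ResA2.Defs

/-!
# S5289 (ALL2) sub-farm of helper81, leaf (ZC): `|Z(N)| = p`
-/

set_option autoImplicit false
universe u
namespace Cfsg.Agent.Helper90.ResA2
open Cfsg.Agent.Helper81.ResA2
variable {G : Type u} [Group G] {p : ℕ} [hp : Fact p.Prime] {N : Subgroup G}

/-- `zN N` is the image of the centre of `↥N` -/
theorem zN_eq_map_center (N : Subgroup G) : zN N = (Subgroup.center ↥N).map N.subtype := by
  ext z
  rw [mem_zN, Subgroup.mem_map]
  constructor
  · rintro ⟨hzN, hz⟩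
    refine ⟨⟨z, hzN⟩, ?_, rfl⟩
    rw [Subgroup.mem_center_iff]
    intro g
    exact Subtype.ext (hz g g.2)
  · rintro ⟨w, hw, rfl⟩
    refine ⟨w.2, fun g hg => ?_⟩
    have := Subgroup.mem_center_iff.mp hw ⟨g, hg⟩
    exact congrArg Subtype.val this

theorem card_zN_eq_card_center (N : Subgroup G) :
    Nat.card (zN N) = Nat.card (Subgroup.center ↥N) := by
  rw [zN_eq_map_center]
  exact Subgroup.card_map_of_injective N.subtype_injective

/-- (ZC) -/
theorem card_zN (hc : Cf p N) : Nat.card (zN N) = p := by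
  haveI := hc.fin
  have hNp : IsPGroup p ↥N := hc.pgrp.to_subgroup N
  rw [card_zN_eq_card_center]
  have hdvd : Nat.card (Subgroup.center ↥N) ∣ p ^ 3 :=
    hc.card ▸ Subgroup.card_subgroup_dvd_card _
  obtain ⟨k, hk3, hk⟩ := (Nat.dvd_prime_pow hp.out).mp hdvd
  obtain ⟨a, ha, b, hb, hab⟩ := hc.na
  have hidx : (Subgroup.center ↥N).index * Nat.card (Subgroup.center ↥N) = p ^ 3 := by
    rw [← hc.card]
    exact Subgroup.index_mul_card _
  interval_cases k
  · exfalso
    haveI : Nontrivial ↥N := by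
      apply (Finite.one_lt_card_iff_nontrivial).mp
      rw [hc.card]
      exact Nat.one_lt_pow (by norm_num) hp.out.one_lt
    haveI := hNp.center_nontrivial
    have h1 : 1 < Nat.card (Subgroup.center ↥N) := Finite.one_lt_card
    rw [hk, pow_zero] at h1
    exact lt_irrefl _ h1
  · simpa using hk
  · exfalso
    have hi : (Subgroup.center ↥N).index = p := by
      rw [hk] at hidx
      have hp0 : 0 < p ^ 2 := pow_pos hp.out.pos 2
      exact Nat.eq_of_mul_eq_mul_right hp0 (by rw [hidx]; ring)
    haveI : IsCyclic (↥N ⧸ Subgroup.center ↥N) := by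
      apply isCyclic_of_prime_card (p := p)
      rw [← Subgroup.index_eq_card]
      exact hi
    have := commutative_of_cyclic_center_quotient (QuotientGroup.mk' (Subgroup.center ↥N))
      (by rw [QuotientGroup.ker_mk']) (⟨a, ha⟩ : ↥N) ⟨b, hb⟩
    exact hab (congrArg Subtype.val this)
  · exfalso
    have htop : Subgroup.center ↥N = ⊤ := by
      apply Subgroup.eq_top_of_card_eq
      rw [hk, hc.card]
    have hbm : (⟨b, hb⟩ : ↥N) ∈ Subgroup.center ↥N := htop ▸ Subgroup.mem_top _
    have := Subgroup.mem_center_iff.mp hbm ⟨a, ha⟩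
    exact hab (congrArg Subtype.val this)

end Cfsg.Agent.Helper90.ResA2
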