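import Mathlib
import Cfsg.Agent.Helper81.ResA2.Defs

/-!
# S5289 (ALL2) sub-farm of helper81, leaf (ZG): `Z(N)` is central in `G`
-/

set_option autoImplicit false
universe u
namespace Cfsg.Agent.Helper90.ResA2
open Cfsg.Agent.Helper81.ResA2
variable {G : Type u} [Group G] {p : ℕ} [hp : Fact p.Prime] {N : Subgroup G}

/-- `Z(N)` is normal in `G` when `N` is -/
theorem zN_normal (hN : N.Normal) : (zN N).Normal := by
  constructor
  intro z hz t
  rw [mem_zN] at hz ⊢
  obtain ⟨hzN, hzc⟩ := hz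
  refine ⟨hN.conj_mem z hzN t, fun g hg => ?_⟩
  have hg' : t⁻¹ * g * t ∈ N := by
    have := hN.conj_mem g hg t⁻¹
    simpa using this
  have h := hzc _ hg'
  calc g * (t * z * t⁻¹) = t * ((t⁻¹ * g * t) * z) * t⁻¹ := by group
    _ = t * (z * (t⁻¹ * g * t)) * t⁻¹ := by rw [h]
    _ = t * z * t⁻¹ * g := by group

/-- (ZG) -/
theorem zN_central (hc : Cf p N) (hZ : Nat.card (zN N) = p)
    (hcen : ∀ H : Subgroup G, H.Normal → Nat.card H = p → H ≤ Subgroup.center G) :
    ∀ z ∈ zN N, ∀ t : G, t * z = z * t := by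
  intro z hz t
  have := hcen (zN N) (zN_normal hc.nrm) hZ hz
  exact Subgroup.mem_center_iff.mp this t

end Cfsg.Agent.Helper90.ResA2
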