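import Mathlib
import Cfsg.Agent.Helper81.ResA2.Defs
import Cfsg.Agent.Helper90.ResA2_ZC

/-!
# S5289 (ALL2) sub-farm of helper81, leaf (ZK): commutators of `N` lie in `Z(N)`
-/

set_option autoImplicit false
universe u
namespace Cfsg.Agent.Helper90.ResA2
open Cfsg.Agent.Helper81.ResA2
variable {G : Type u} [Group G] {p : ℕ} [hp : Fact p.Prime] {N : Subgroup G}

/-- (ZK) -/
theorem comm_mem_zN (hc : Cf p N) (hZ : Nat.card (zN N) = p) :
    ∀ x ∈ N, ∀ y ∈ N, x * y * x⁻¹ * y⁻¹ ∈ zN N := by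
  haveI := hc.fin
  intro x hx y hy
  have hcz : Nat.card (Subgroup.center ↥N) = p := by
    rw [← card_zN_eq_card_center, hZ]
  have hidx : (Subgroup.center ↥N).index * Nat.card (Subgroup.center ↥N) = p ^ 3 := by
    rw [← hc.card]
    exact Subgroup.index_mul_card _
  have hq : Nat.card (↥N ⧸ Subgroup.center ↥N) = p ^ 2 := by
    rw [← Subgroup.index_eq_card]
    rw [hcz] at hidx
    exact Nat.eq_of_mul_eq_mul_right hp.out.pos (by rw [hidx]; ring)
  have hcomm := IsPGroup.commutative_of_card_eq_prime_sq hq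
  have hmem : ((⟨x, hx⟩ : ↥N) * ⟨y, hy⟩ * (⟨x, hx⟩ : ↥N)⁻¹ * (⟨y, hy⟩ : ↥N)⁻¹) ∈
      Subgroup.center ↥N := by
    rw [← QuotientGroup.eq_one_iff]
    simp only [QuotientGroup.mk_mul, QuotientGroup.mk_inv]
    rw [hcomm (((⟨x, hx⟩ : ↥N) : ↥N ⧸ Subgroup.center ↥N)) _]
    group
  rw [mem_zN]
  refine ⟨N.mul_mem (N.mul_mem (N.mul_mem hx hy) (N.inv_mem hx)) (N.inv_mem hy), fun g hg => ?_⟩
  have := Subgroup.mem_center_iff.mp hmem ⟨g, hg⟩
  exact congrArg Subtype.val this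

end Cfsg.Agent.Helper90.ResA2
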