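import Mathlib
import Cfsg.Agent.Helper88.SimsD.Defs

/-!
# S2772 farm (helper88), leaf (JQ)
-/

set_option autoImplicit false

namespace Cfsg.Agent.Helper90.SimsD

open Subgroup Cfsg.Agent.Helper88.SimsD

/-- a finite group has an abelian subgroup of largest order inside `S` -/
theorem JQ_exists_maxAb {Γ : Type*} [Group Γ] [Finite Γ] (S : Subgroup Γ) : ∃ A, A ∈ maxAb S := by
  have hbot : IsMulCommutative (⊥ : Subgroup Γ) := by
    refine ⟨⟨fun a b => ?_⟩⟩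
    have ha : a = 1 := Subtype.ext (Subgroup.mem_bot.1 a.2)
    have hb : b = 1 := Subtype.ext (Subgroup.mem_bot.1 b.2)
    rw [ha, hb]
  have : Nonempty {A : Subgroup Γ // A ≤ S ∧ IsMulCommutative A} := ⟨⟨⊥, bot_le, hbot⟩⟩
  obtain ⟨A, hA⟩ := Finite.exists_max
    (fun A : {A : Subgroup Γ // A ≤ S ∧ IsMulCommutative A} => Nat.card A.1)
  exact ⟨A.1, A.2.1, A.2.2, fun B hB hBc => hA ⟨B, hB, hBc⟩⟩

/-- (JQ) if all abelian subgroups of largest order of `S` lie in `Q ≤ S` then `S` and `Q` have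
the same ones. -/
theorem maxAb_eq_of_le {Γ : Type*} [Group Γ] [Finite Γ] (S Q : Subgroup Γ) (hQS : Q ≤ S)
    (h : ∀ A ∈ maxAb S, A ≤ Q) : maxAb S = maxAb Q := by
  obtain ⟨A₀, hA₀⟩ := JQ_exists_maxAb S
  have hA₀Q := h A₀ hA₀
  ext A
  constructor
  · intro hA
    exact ⟨h A hA, hA.2.1, fun B hB hBc => hA.2.2 B (hB.trans hQS) hBc⟩
  · intro hA
    refine ⟨hA.1.trans hQS, hA.2.1, fun B hB hBc => ?_⟩
    exact (hA₀.2.2 B hB hBc).trans (hA.2.2 A₀ hA₀Q hA₀.2.1)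

end Cfsg.Agent.Helper90.SimsD
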