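import Mathlib
import Cfsg.Agent.Helper88.SimsD.Defs

/-!
# S2772 farm (helper88), leaf (NZ1)
-/

set_option autoImplicit false

namespace Cfsg.Agent.Helper90.SimsD

open Subgroup Cfsg.Agent.Helper88.SimsD

/-- (NZ1) a nontrivial finite 2-group has `Ω₁ Z ≠ 1`. -/
theorem omegaZ_ne_bot {H : Type*} [Group H] [Finite H] (T : Subgroup H) (hT : IsPGroup 2 T)
    (hT1 : T ≠ ⊥) : omegaZ T ≠ ⊥ := by
  have : Fact (Nat.Prime 2) := ⟨Nat.prime_two⟩
  have : Nontrivial ↥T := (Subgroup.nontrivial_iff_ne_bot T).2 hT1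
  have : Nontrivial ↥(Subgroup.center ↥T) := hT.center_nontrivial
  -- the centre is a nontrivial 2-group: it has an element of order 2
  have hZ : IsPGroup 2 ↥(Subgroup.center ↥T) := hT.to_subgroup _
  obtain ⟨k, hk⟩ := hZ.exists_card_eq
  have hk0 : k ≠ 0 := by
    intro h0
    rw [h0, pow_zero] at hk
    have : 1 < Nat.card ↥(Subgroup.center ↥T) := Finite.one_lt_card
    omega
  have h2 : 2 ∣ Nat.card ↥(Subgroup.center ↥T) := by
    rw [hk]; exact dvd_pow_self 2 hk0
  obtain ⟨z, hz⟩ := exists_prime_orderOf_dvd_card' 2 h2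
  have hz1 : z ≠ 1 := by
    intro h1
    rw [h1, orderOf_one] at hz
    omega
  have hz2 : z ^ 2 = 1 := by rw [← hz]; exact pow_orderOf_eq_one z
  intro hbot
  have hmem : ((z : ↥T) : H) ∈ omegaZ T := by
    refine ⟨(z : ↥T).2, fun y hy => ?_, ?_⟩
    · have := Subgroup.mem_center_iff.1 z.2 ⟨y, hy⟩
      exact congrArg Subtype.val this
    · have := congrArg (fun w : ↥(Subgroup.center ↥T) => ((w : ↥T) : H)) hz2
      simpa using this
  rw [hbot, Subgroup.mem_bot] at hmem
  apply hz1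
  apply Subtype.ext
  apply Subtype.ext
  simpa using hmem

end Cfsg.Agent.Helper90.SimsD
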