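import Mathlib
import Cfsg.Prelude.Def_MonsterType
import Cfsg.Agent.Helper90.ExtraCrit
import Cfsg.Agent.Helper49.FStar
import Cfsg.Agent.Lib.Cores

set_option autoImplicit false

/-!
Recognition of the Baby Monster type from data on a group `H` mapping onto the centralizer of
an involution: an abstract pull-back lemma.
-/

namespace Cfsg.Agent.Helper90

open Cfsg

/-- membership in the four-group generated by two commuting involutions -/
def InV4 {H : Type*} [Group H] (z t c : H) : Prop := c = 1 ∨ c = z ∨ c = t ∨ c = z * t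

/-- data on a group `H` mapping onto the centralizer of `zb` -/
structure BabyData {X : Type*} [Group X] {zb : X} {H : Type*} [Group H]
    (Φ : H →* ↥(Subgroup.centralizer ({zb} : Set X))) (zH tH : H) (R : Subgroup H)
    (θ : H →* ↥Spor.Co2) (lam : leechPerpU → H) : Prop where
  surj : Function.Surjective Φ
  val_z : ((Φ zH : ↥(Subgroup.centralizer ({zb} : Set X))) : X) = zb
  ker : ∀ h : H, Φ h = 1 ↔ h = 1 ∨ h = tH
  z1 : zH ≠ 1
  t1 : tH ≠ 1
  zt : zH ≠ tH
  zz : zH * zH = 1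
  tt : tH * tH = 1
  zc : ∀ h : H, h * zH = zH * h
  tc : ∀ h : H, h * tH = tH * h
  zR : zH ∈ R
  tR : tH ∈ R
  normal : R.Normal
  card : Nat.card R = 2 ^ 24
  comm : ∀ x ∈ R, ∀ y ∈ R, x * y * x⁻¹ * y⁻¹ = 1 ∨ x * y * x⁻¹ * y⁻¹ = zH
  sq : ∀ x ∈ R, x * x = 1 ∨ x * x = zH
  nc : ∃ x ∈ R, ∃ y ∈ R, x * y * x⁻¹ * y⁻¹ = zH
  cen : ∀ x ∈ R, (∀ r ∈ R, r * x = x * r) → InV4 zH tH x
  θsurj : Function.Surjective θ
  θker : ∀ h, θ h = 1 ↔ h ∈ R
  self : ∀ h : H, (∀ r ∈ R, h * r * h⁻¹ * r⁻¹ = 1 ∨ h * r * h⁻¹ * r⁻¹ = tH) → h ∈ R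
  nwc : ∃ g : X, (∃ r ∈ R, g * zb * g⁻¹ =
    ((Φ r : ↥(Subgroup.centralizer ({zb} : Set X))) : X)) ∧ g * zb * g⁻¹ ≠ zb
  lamR : ∀ x, lam x ∈ R
  lam_add : ∀ x y, ∃ c, InV4 zH tH c ∧ lam (x + y) = lam x * lam y * c
  lam_surj : ∀ r ∈ R, ∃ x c, InV4 zH tH c ∧ r = lam x * c
  lam_ker : ∀ x : leechPerpU, InV4 zH tH (lam x) ↔
    ((∃ w : leechLattice, (x : leechLattice) = w + w) ∨
      ∃ w : leechLattice, (x : leechLattice) = Spor.leechU + (w + w))
  lam_act : ∀ (h : H) (x y : leechPerpU), θ h • (x : leechLattice) = (y : leechLattice) →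
    ∃ c, InV4 zH tH c ∧ lam y = h * lam x * h⁻¹ * c

namespace BabyData

variable {X : Type*} [Group X] {zb : X} {H : Type*} [Group H]
  {Φ : H →* ↥(Subgroup.centralizer ({zb} : Set X))} {zH tH : H} {R : Subgroup H}
  {θ : H →* ↥Spor.Co2} {lam : leechPerpU → H}

theorem Φt (hD : BabyData Φ zH tH R θ lam) : Φ tH = 1 := (hD.ker tH).2 (Or.inr rfl)

theorem Φz_ne (hD : BabyData Φ zH tH R θ lam) : Φ zH ≠ 1 := by
  intro h
  rcases (hD.ker zH).1 h with h1 | h1
  · exact hD.z1 h1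
  · exact hD.zt h1

theorem Φz_sq (hD : BabyData Φ zH tH R θ lam) : Φ zH * Φ zH = 1 := by
  rw [← map_mul, hD.zz, map_one]

theorem Φz_inv (hD : BabyData Φ zH tH R θ lam) : (Φ zH)⁻¹ = Φ zH :=
  inv_eq_of_mul_eq_one_right hD.Φz_sq

theorem Φz_comm (hD : BabyData Φ zH tH R θ lam) (d : ↥(Subgroup.centralizer ({zb} : Set X))) :
    d * Φ zH = Φ zH * d := by
  obtain ⟨h, rfl⟩ := hD.surj d
  rw [← map_mul, ← map_mul, hD.zc]

theorem Φ_of_V4 (hD : BabyData Φ zH tH R θ lam) {c : H} (hc : InV4 zH tH c) :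
    Φ c = 1 ∨ Φ c = Φ zH := by
  rcases hc with rfl | rfl | rfl | rfl
  · left; exact map_one _
  · right; rfl
  · left; exact hD.Φt
  · right; rw [map_mul, hD.Φt, mul_one]

theorem V4_of_Φ (hD : BabyData Φ zH tH R θ lam) {c : H} (hc : Φ c = 1 ∨ Φ c = Φ zH) :
    InV4 zH tH c := by
  rcases hc with h | h
  · rcases (hD.ker c).1 h with h1 | h1
    · exact Or.inl h1
    · exact Or.inr (Or.inr (Or.inl h1))
  · have h1 : Φ (c * zH) = 1 := by rw [map_mul, h, hD.Φz_sq]
    have h2 : c = (c * zH) * zH := by rw [mul_assoc, hD.zz, mul_one]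
    rcases (hD.ker _).1 h1 with h3 | h3
    · right; left
      rw [h2, h3, one_mul]
    · right; right; right
      rw [h2, h3, hD.tc zH]

/-- a set with two elements closed under the relevant products -/
theorem two_cases (hD : BabyData Φ zH tH R θ lam)
    {a b : ↥(Subgroup.centralizer ({zb} : Set X))} (ha : a = 1 ∨ a = Φ zH)
    (hb : b = 1 ∨ b = Φ zH) : a⁻¹ * b = 1 ∨ a⁻¹ * b = Φ zH := by
  rcases ha with rfl | rfl <;> rcases hb with rfl | rfl
  · left; simp
  · right; simp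
  · right; rw [mul_one, hD.Φz_inv]
  · left; simp

theorem orderOf_zb (hD : BabyData Φ zH tH R θ lam) : orderOf zb = 2 := by
  apply orderOf_eq_prime
  · rw [pow_two]
    have := congrArg Subtype.val hD.Φz_sq
    rwa [Subgroup.coe_mul, hD.val_z, Subgroup.coe_one] at this
  · intro h
    apply hD.Φz_ne
    apply Subtype.ext
    rw [hD.val_z, h, Subgroup.coe_one]

theorem isPGroup_R (hD : BabyData Φ zH tH R θ lam) : IsPGroup 2 R := by
  haveI : Fact (Nat.Prime 2) := ⟨Nat.prime_two⟩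
  exact IsPGroup.of_card hD.card

/-- commuting images: the commutator is trivial -/
theorem comm_of_Φ_comm (hD : BabyData Φ zH tH R θ lam) {x y : H} (hx : x ∈ R) (hy : y ∈ R)
    (h : Φ x * Φ y = Φ y * Φ x) : x * y = y * x := by
  have h1 : Φ (x * y * x⁻¹ * y⁻¹) = 1 := by
    rw [map_mul, map_mul, map_mul, map_inv, map_inv, h]
    group
  have h2 : x * y * x⁻¹ * y⁻¹ = 1 := by
    rcases (hD.ker _).1 h1 with h2 | h2
    · exact h2
    · rcases hD.comm x hx y hy with h3 | h3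
      · exact h3
      · exfalso
        exact hD.zt (h3.symm.trans h2)
  calc x * y = (x * y * x⁻¹ * y⁻¹) * (y * x) := by group
    _ = y * x := by rw [h2, one_mul]

/-- the centre of the image of `R` -/
theorem center_cases (hD : BabyData Φ zH tH R θ lam) {r₀ : H} (hr₀ : r₀ ∈ R)
    (h : ∀ r ∈ R, Φ r * Φ r₀ = Φ r₀ * Φ r) : Φ r₀ = 1 ∨ Φ r₀ = Φ zH := by
  apply hD.Φ_of_V4
  apply hD.cen r₀ hr₀
  intro r hr
  exact hD.comm_of_Φ_comm hr hr₀ (h r hr)

theorem isExtraspecial_map [Finite X] (hD : BabyData Φ zH tH R θ lam) :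
    IsExtraspecial 2 ↥(R.map Φ) := by
  apply isExtraspecial_of_data (R.map Φ) (Φ zH) (Subgroup.mem_map_of_mem Φ hD.zR) hD.Φz_ne
    (hD.isPGroup_R.map Φ)
  · rintro _ ⟨r₀, hr₀, rfl⟩ h
    apply hD.center_cases hr₀
    intro r hr
    exact h _ (Subgroup.mem_map_of_mem Φ hr)
  · intro d _
    exact hD.Φz_comm d
  · rintro _ ⟨x, hx, rfl⟩ _ ⟨y, hy, rfl⟩
    rcases hD.comm x hx y hy with h | h
    · left
      rw [← map_inv, ← map_inv, ← map_mul, ← map_mul, ← map_mul, h, map_one]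
    · right
      rw [← map_inv, ← map_inv, ← map_mul, ← map_mul, ← map_mul, h]
  · rintro _ ⟨x, hx, rfl⟩
    rcases hD.sq x hx with h | h
    · left
      rw [← map_mul, h, map_one]
    · right
      rw [← map_mul, h]
  · obtain ⟨x, hx, y, hy, hxy⟩ := hD.nc
    refine ⟨Φ x, Subgroup.mem_map_of_mem Φ hx, Φ y, Subgroup.mem_map_of_mem Φ hy, ?_⟩
    intro h
    have := hD.comm_of_Φ_comm hx hy h
    apply hD.z1
    rw [← hxy, this]
    group

theorem card_map (hD : BabyData Φ zH tH R θ lam) [Finite H] : Nat.card ↥(R.map Φ) = 2 ^ 23 := by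
  have h1 := Subgroup.card_mul_index (Φ.domRestrict R).ker
  rw [Subgroup.index_ker, MonoidHom.domRestrict_range, hD.card] at h1
  have h2 : Nat.card ↥(Φ.domRestrict R).ker = 2 := by
    rw [Nat.card_eq_two_iff]
    refine ⟨⟨1, Subgroup.one_mem _⟩, ⟨⟨tH, hD.tR⟩, ?_⟩, ?_, ?_⟩
    · rw [MonoidHom.mem_ker]
      exact hD.Φt
    · intro h
      have := congrArg (fun x : ↥(Φ.domRestrict R).ker => ((x : ↥R) : H)) h
      exact hD.t1 this.symm
    · ext ⟨⟨r, hr⟩, hk⟩
      simp only [Set.mem_insert_iff, Set.mem_singleton_iff, Set.mem_univ, iff_true]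
      have h3 : Φ r = 1 := hk
      rcases (hD.ker r).1 h3 with h4 | h4
      · left
        apply Subtype.ext
        apply Subtype.ext
        exact h4
      · right
        apply Subtype.ext
        apply Subtype.ext
        exact h4
  rw [h2] at h1
  have : (2 : ℕ) ^ 24 = 2 * 2 ^ 23 := by norm_num
  omega

end BabyData

end Cfsg.Agent.Helper90
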