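import Mathlib
import Cfsg.Prelude.Def_MonsterType
import Cfsg.Agent.Helper90.BabyAbs

set_option autoImplicit false

/-!
Recognition of the Baby Monster type from data on a group `H` mapping onto the centralizer of
an involution: the generalized Fitting subgroup and the module identification.
-/

namespace Cfsg.Agent.Helper90

open Cfsg

namespace BabyData

variable {X : Type*} [Group X] {zb : X} {H : Type*} [Group H]
  {Φ : H →* ↥(Subgroup.centralizer ({zb} : Set X))} {zH tH : H} {R : Subgroup H}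
  {θ : H →* ↥Spor.Co2} {lam : leechPerpU → H}

theorem ker_le (hD : BabyData Φ zH tH R θ lam) : Φ.ker ≤ θ.ker := by
  intro h hh
  rw [MonoidHom.mem_ker] at hh ⊢
  rcases (hD.ker h).1 hh with rfl | rfl
  · exact map_one _
  · exact (hD.θker _).2 hD.tR

/-- the induced homomorphism onto the second Conway group -/
noncomputable def Theta (hD : BabyData Φ zH tH R θ lam) :
    ↥(Subgroup.centralizer ({zb} : Set X)) →* ↥Spor.Co2 :=
  Φ.liftOfSurjective hD.surj ⟨θ, hD.ker_le⟩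

theorem Theta_Φ (hD : BabyData Φ zH tH R θ lam) (h : H) : hD.Theta (Φ h) = θ h :=
  MonoidHom.liftOfRightInverse_comp_apply _ _ _ ⟨θ, hD.ker_le⟩ h

theorem Theta_surjective (hD : BabyData Φ zH tH R θ lam) : Function.Surjective hD.Theta := by
  intro g
  obtain ⟨h, rfl⟩ := hD.θsurj g
  exact ⟨Φ h, hD.Theta_Φ h⟩

theorem ker_Theta (hD : BabyData Φ zH tH R θ lam) : R.map Φ = hD.Theta.ker := by
  ext d
  rw [MonoidHom.mem_ker]
  constructor
  · rintro ⟨r, hr, rfl⟩
    rw [hD.Theta_Φ]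
    exact (hD.θker r).2 hr
  · intro h
    obtain ⟨h₀, rfl⟩ := hD.surj d
    rw [hD.Theta_Φ] at h
    exact Subgroup.mem_map_of_mem Φ ((hD.θker h₀).1 h)

theorem normal_map (hD : BabyData Φ zH tH R θ lam) : (R.map Φ).Normal :=
  Subgroup.Normal.map hD.normal Φ hD.surj

theorem pCore_eq [Finite X] (hD : BabyData Φ zH tH R θ lam)
    (hsimple : IsSimpleGroup ↥Spor.Co2) (hnot2 : ¬ IsPGroup 2 ↥Spor.Co2) :
    pCore 2 ↥(Subgroup.centralizer ({zb} : Set X)) = R.map Φ := by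
  apply le_antisymm
  · have hn : ((pCore 2 ↥(Subgroup.centralizer ({zb} : Set X))).map hD.Theta).Normal :=
      Subgroup.Normal.map (Cfsg.Agent.Helper49.pCore_normal' 2 _) hD.Theta hD.Theta_surjective
    have hp : IsPGroup 2 ↥((pCore 2 ↥(Subgroup.centralizer ({zb} : Set X))).map hD.Theta) :=
      (Cfsg.Agent.Lib.isPGroup_pCore 2).map hD.Theta
    rcases hsimple.eq_bot_or_eq_top_of_normal _ hn with h | h
    · rw [hD.ker_Theta]
      intro d hd
      rw [MonoidHom.mem_ker]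
      have : hD.Theta d ∈ (pCore 2 ↥(Subgroup.centralizer ({zb} : Set X))).map hD.Theta :=
        Subgroup.mem_map_of_mem _ hd
      rw [h, Subgroup.mem_bot] at this
      exact this
    · exfalso
      apply hnot2
      rw [h] at hp
      exact hp.of_equiv Subgroup.topEquiv
  · exact Cfsg.Agent.Lib.le_pCore hD.normal_map (hD.isPGroup_R.map Φ)

theorem gfs_eq [Finite X] (hD : BabyData Φ zH tH R θ lam)
    (hsimple : IsSimpleGroup ↥Spor.Co2) (hnot2 : ¬ IsPGroup 2 ↥Spor.Co2) :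
    generalizedFittingSubgroup ↥(Subgroup.centralizer ({zb} : Set X)) = R.map Φ := by
  haveI : Fact (Nat.Prime 2) := ⟨Nat.prime_two⟩
  have h1 := hD.pCore_eq hsimple hnot2
  rw [← h1]
  rw [Cfsg.Agent.Helper49.gfs_eq_pCore_iff, h1]
  intro d hd
  rw [Subgroup.mem_centralizer_iff] at hd
  obtain ⟨h, rfl⟩ := hD.surj d
  apply Subgroup.mem_map_of_mem Φ
  apply hD.self
  intro r hr
  have h2 := hd (Φ r) (Subgroup.mem_map_of_mem Φ hr)
  have h3 : Φ (h * r * h⁻¹ * r⁻¹) = 1 := by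
    rw [map_mul, map_mul, map_mul, map_inv, map_inv, ← h2]
    group
  exact (hD.ker _).1 h3

/-- the image in `Φ R` of an element of `R` -/
def qb (Φ : H →* ↥(Subgroup.centralizer ({zb} : Set X))) (R : Subgroup H) (r : H)
    (hr : r ∈ R) : ↥(R.map Φ) := ⟨Φ r, Subgroup.mem_map_of_mem Φ hr⟩

theorem mem_center_iff (hD : BabyData Φ zH tH R θ lam) (q : ↥(R.map Φ)) :
    q ∈ Subgroup.center ↥(R.map Φ) ↔
      (q : ↥(Subgroup.centralizer ({zb} : Set X))) = 1 ∨
        (q : ↥(Subgroup.centralizer ({zb} : Set X))) = Φ zH := by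
  rw [Subgroup.mem_center_iff]
  constructor
  · intro h
    obtain ⟨d, r₀, hr₀, rfl⟩ := q
    apply hD.center_cases hr₀
    intro r hr
    have := h (qb Φ R r hr)
    exact congrArg Subtype.val this
  · intro h g
    apply Subtype.ext
    rw [Subgroup.coe_mul, Subgroup.coe_mul]
    rcases h with h | h
    · rw [h, mul_one, one_mul]
    · rw [h]
      exact hD.Φz_comm _

theorem mk_eq_iff (hD : BabyData Φ zH tH R θ lam) (a b : ↥(R.map Φ)) :
    (QuotientGroup.mk a : ↥(R.map Φ) ⧸ Subgroup.center ↥(R.map Φ)) = QuotientGroup.mk b ↔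
      (a : ↥(Subgroup.centralizer ({zb} : Set X)))⁻¹ * b = 1 ∨
        (a : ↥(Subgroup.centralizer ({zb} : Set X)))⁻¹ * b = Φ zH := by
  rw [QuotientGroup.eq, hD.mem_center_iff]
  rfl

theorem mk_qb_eq (hD : BabyData Φ zH tH R θ lam) {r₁ r₂ c : H} (hr₁ : r₁ ∈ R) (hr₂ : r₂ ∈ R)
    (hc : InV4 zH tH c) (h : r₂ = r₁ * c) :
    (QuotientGroup.mk (qb Φ R r₁ hr₁) : ↥(R.map Φ) ⧸ Subgroup.center ↥(R.map Φ)) =
      QuotientGroup.mk (qb Φ R r₂ hr₂) := by
  rw [hD.mk_eq_iff]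
  show (Φ r₁)⁻¹ * Φ r₂ = 1 ∨ (Φ r₁)⁻¹ * Φ r₂ = Φ zH
  rw [h, map_mul, inv_mul_cancel_left]
  exact hD.Φ_of_V4 hc

/-- the module map -/
def psiB (hD : BabyData Φ zH tH R θ lam) (x : leechPerpU) :
    ↥(R.map Φ) ⧸ Subgroup.center ↥(R.map Φ) :=
  QuotientGroup.mk (qb Φ R (lam x) (hD.lamR x))

/-- the identification of the quotient with the second Conway group -/
noncomputable def eB (hD : BabyData Φ zH tH R θ lam) :
    letI := hD.normal_map
    ↥(Subgroup.centralizer ({zb} : Set X)) ⧸ R.map Φ ≃* ↥Spor.Co2 :=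
  letI := hD.normal_map
  (QuotientGroup.quotientMulEquivOfEq hD.ker_Theta).trans
    (QuotientGroup.quotientKerEquivOfSurjective hD.Theta hD.Theta_surjective)

theorem eB_mk (hD : BabyData Φ zH tH R θ lam) (d : ↥(Subgroup.centralizer ({zb} : Set X))) :
    letI := hD.normal_map
    hD.eB (QuotientGroup.mk d) = hD.Theta d := rfl

theorem isLeechPerp (hD : BabyData Φ zH tH R θ lam) :
    letI := hD.normal_map
    IsLeechPerpModTwoIso (R.map Φ) hD.eB hD.psiB := by
  let _ := hD.normal_map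
  refine ⟨?_, ?_, ?_, ?_⟩
  · intro x y
    obtain ⟨c, hc, hlam⟩ := hD.lam_add x y
    have h1 : hD.psiB x * hD.psiB y =
        QuotientGroup.mk (qb Φ R (lam x * lam y) (R.mul_mem (hD.lamR x) (hD.lamR y))) := by
      unfold psiB
      rw [← QuotientGroup.mk_mul]
      congr 1
      apply Subtype.ext
      show Φ (lam x) * Φ (lam y) = Φ (lam x * lam y)
      rw [map_mul]
    rw [h1]
    exact (hD.mk_qb_eq _ (hD.lamR (x + y)) hc hlam).symm
  · intro y
    obtain ⟨⟨_, r, hr, rfl⟩, rfl⟩ := QuotientGroup.mk_surjective y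
    obtain ⟨x, c, hc, hrc⟩ := hD.lam_surj r hr
    exact ⟨x, hD.mk_qb_eq (hD.lamR x) hr hc hrc⟩
  · intro x
    rw [← hD.lam_ker x]
    unfold psiB
    rw [QuotientGroup.eq_one_iff, hD.mem_center_iff]
    constructor
    · intro h
      exact hD.V4_of_Φ h
    · intro h
      exact hD.Φ_of_V4 h
  · intro d g hdg x y hxy q hq
    obtain ⟨h, rfl⟩ := hD.surj d
    have hg : g = θ h := by
      rw [← hdg, hD.eB_mk, hD.Theta_Φ]
    subst hg
    obtain ⟨c, hc, hlam⟩ := hD.lam_act h x y hxy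
    have hq' := (hD.mk_eq_iff _ _).1 hq
    have hc' := hD.Φ_of_V4 hc
    unfold psiB
    rw [hD.mk_eq_iff]
    show (Φ (lam y))⁻¹ * (Φ h * (q : ↥(Subgroup.centralizer ({zb} : Set X))) * (Φ h)⁻¹) = 1 ∨
      (Φ (lam y))⁻¹ * (Φ h * (q : ↥(Subgroup.centralizer ({zb} : Set X))) * (Φ h)⁻¹) = Φ zH
    have hq'' : (Φ (lam x))⁻¹ * (q : ↥(Subgroup.centralizer ({zb} : Set X))) = 1 ∨
      (Φ (lam x))⁻¹ * (q : ↥(Subgroup.centralizer ({zb} : Set X))) = Φ zH := hq'
    set w := (Φ (lam x))⁻¹ * (q : ↥(Subgroup.centralizer ({zb} : Set X))) with hw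
    have hqw : (q : ↥(Subgroup.centralizer ({zb} : Set X))) = Φ (lam x) * w := by
      rw [hw, mul_inv_cancel_left]
    have hwc : Φ h * w = w * Φ h := by
      rcases hq'' with h1 | h1
      · rw [h1, mul_one, one_mul]
      · rw [h1]
        exact hD.Φz_comm _
    have hcc : Φ h * Φ c = Φ c * Φ h := by
      rcases hc' with h1 | h1
      · rw [h1, mul_one, one_mul]
      · rw [h1]
        exact hD.Φz_comm _
    have hmain : (Φ (lam y))⁻¹ * (Φ h * (q : ↥(Subgroup.centralizer ({zb} : Set X))) * (Φ h)⁻¹) =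
        (Φ c)⁻¹ * w := by
      rw [hlam, hqw, map_mul, map_mul, map_mul, map_inv]
      calc (Φ h * Φ (lam x) * (Φ h)⁻¹ * Φ c)⁻¹ * (Φ h * (Φ (lam x) * w) * (Φ h)⁻¹)
          = (Φ c)⁻¹ * (Φ h * (Φ (lam x))⁻¹ * ((Φ h)⁻¹ * Φ h) * Φ (lam x) * w * (Φ h)⁻¹) := by
            group
        _ = (Φ c)⁻¹ * (Φ h * w * (Φ h)⁻¹) := by
            rw [inv_mul_cancel, mul_one, mul_assoc (Φ h), inv_mul_cancel, mul_one]
        _ = (Φ c)⁻¹ * w := by rw [hwc, mul_inv_cancel_right]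
    rw [hmain]
    exact hD.two_cases hc' hq''

/-- the abstract recognition lemma -/
theorem isOfBabyMonsterType [Finite X] [Finite H] (hD : BabyData Φ zH tH R θ lam)
    (hsimple : IsSimpleGroup ↥Spor.Co2) (hnot2 : ¬ IsPGroup 2 ↥Spor.Co2) :
    IsOfBabyMonsterType X := by
  refine ⟨zb, R.map Φ, hD.normal_map, ⟨hD.orderOf_zb, hD.gfs_eq hsimple hnot2,
    hD.isExtraspecial_map, by rw [hD.card_map], ?_⟩, hD.eB, hD.psiB, hD.isLeechPerp⟩
  obtain ⟨g, ⟨r, hr, hgr⟩, hgz⟩ := hD.nwc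
  refine ⟨g, ⟨?_, ?_⟩, hgz⟩
  · rw [hgr]
    exact (Φ r).2
  · have : (⟨g * zb * g⁻¹, by rw [hgr]; exact (Φ r).2⟩ :
        ↥(Subgroup.centralizer ({zb} : Set X))) = Φ r := Subtype.ext hgr
    rw [this]
    exact Subgroup.mem_map_of_mem Φ hr

end BabyData

end Cfsg.Agent.Helper90
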