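import Mathlib

set_option autoImplicit false

namespace Cfsg.Agent.Helper90

/-- membership in a conjugate subgroup -/
theorem mem_map_conj_iff {G : Type*} [Group G] (H : Subgroup G) (g x : G) :
    x ∈ H.map (MulAut.conj g).toMonoidHom ↔ g⁻¹ * x * g ∈ H := by
  constructor
  · rintro ⟨y, hy, rfl⟩
    have : g⁻¹ * ((MulAut.conj g).toMonoidHom y) * g = y := by
      simp [MulAut.conj_apply, mul_assoc]
    rw [this]
    exact hy
  · intro h
    refine ⟨g⁻¹ * x * g, h, ?_⟩
    simp [MulAut.conj_apply, mul_assoc]

/-- a conjugate of a member lies in the conjugate subgroup -/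
theorem conj_mem_map_conj {G : Type*} [Group G] (H : Subgroup G) (g : G) {x : G} (hx : x ∈ H) :
    g * x * g⁻¹ ∈ H.map (MulAut.conj g).toMonoidHom := by
  rw [mem_map_conj_iff]
  have : g⁻¹ * (g * x * g⁻¹) * g = x := by group
  rw [this]
  exact hx

/-- For a finite subgroup, one-sided invariance under conjugation by `k` puts `k` in the normalizer. -/
theorem mem_normalizer_of_conj_mem {G : Type*} [Group G] (V : Subgroup G) [Finite V] (k : G)
    (h : ∀ x ∈ V, k * x * k⁻¹ ∈ V) : k ∈ Subgroup.normalizer (V : Set G) := by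
  let f : V → V := fun x => ⟨k * x * k⁻¹, h x x.2⟩
  have hinj : Function.Injective f := by
    intro x x' hxx'
    have h1 := congrArg Subtype.val hxx'
    simp only [f] at h1
    apply Subtype.ext
    calc (x : G) = k⁻¹ * (k * x * k⁻¹) * k := by group
      _ = k⁻¹ * (k * x' * k⁻¹) * k := by rw [h1]
      _ = x' := by group
  have hsurj : Function.Surjective f := Finite.surjective_of_injective hinj
  rw [Subgroup.mem_normalizer_iff]
  intro x
  constructor
  · exact h x
  · intro hx
    obtain ⟨x', hx'⟩ := hsurj ⟨k * x * k⁻¹, hx⟩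
    have h1 := congrArg Subtype.val hx'
    simp only [f] at h1
    have : (x' : G) = x := by
      calc (x' : G) = k⁻¹ * (k * x' * k⁻¹) * k := by group
        _ = k⁻¹ * (k * x * k⁻¹) * k := by rw [h1]
        _ = x := by group
    rw [← this]
    exact x'.2

/-- elements of the normalizer conjugate members to members (both directions) -/
theorem conj_mem_of_mem_normalizer {G : Type*} [Group G] {V : Subgroup G} {k x : G}
    (hk : k ∈ Subgroup.normalizer (V : Set G)) (hx : x ∈ V) : k * x * k⁻¹ ∈ V :=
  (Subgroup.mem_normalizer_iff.mp hk x).mp hx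

theorem inv_conj_mem_of_mem_normalizer {G : Type*} [Group G] {V : Subgroup G} {k x : G}
    (hk : k ∈ Subgroup.normalizer (V : Set G)) (hx : x ∈ V) : k⁻¹ * x * k ∈ V := by
  have := (Subgroup.mem_normalizer_iff.mp (Subgroup.inv_mem _ hk) x).mp hx
  simpa using this

end Cfsg.Agent.Helper90
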