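import Mathlib
import Cfsg.Prelude.Def_MonsterType
import Cfsg.Agent.Helper90.Large

set_option autoImplicit false

/-!
Elementary facts about an extraspecial 2-subgroup `Q` of a group `G`, phrased with elements of `G`.
Throughout, `z` is the non-identity element of the image `Z` of the centre of `Q`.
-/

namespace Cfsg.Agent.Helper90

open Cfsg
open scoped commutatorElement

/-- The data extracted from "`Q` is an extraspecial 2-group" that the elementwise arguments use:
`z ∈ Q` is a central involution of `Q`, every commutator of elements of `Q` is `1` or `z`, and the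
only central elements of `Q` are `1` and `z`. -/
structure ExtraData {G : Type*} [Group G] (Q : Subgroup G) (z : G) : Prop where
  zQ : z ∈ Q
  z1 : z ≠ 1
  zz : z * z = 1
  zc : ∀ q ∈ Q, q * z = z * q
  comm : ∀ x ∈ Q, ∀ y ∈ Q, x * y * x⁻¹ * y⁻¹ = 1 ∨ x * y * x⁻¹ * y⁻¹ = z
  cen : ∀ x ∈ Q, (∀ q ∈ Q, q * x = x * q) → x = 1 ∨ x = z
  zmem : z ∈ (Subgroup.center ↥Q).map Q.subtype
  zall : ∀ w ∈ (Subgroup.center ↥Q).map Q.subtype, w = 1 ∨ w = z

/-- An extraspecial 2-subgroup provides `ExtraData`. -/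
theorem exists_extraData {G : Type*} [Group G] {Q : Subgroup G} (hL1 : Cfsg.IsExtraspecial 2 ↥Q) :
    ∃ z : G, ExtraData Q z := by
  have hZcard : Nat.card ((Subgroup.center ↥Q).map Q.subtype) = 2 := by
    rw [card_center_map, hL1.2]
  obtain ⟨z, hzZ, hz1⟩ : ∃ z ∈ (Subgroup.center ↥Q).map Q.subtype, z ≠ 1 := by
    obtain ⟨x, y, hxy, -⟩ := Nat.card_eq_two_iff.mp hZcard
    by_cases hx : (x : G) = 1
    · refine ⟨y, y.2, fun hy => hxy ?_⟩
      exact Subtype.ext (hx.trans hy.symm)
    · exact ⟨x, x.2, hx⟩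
  have hzz : z * z = 1 := by
    by_contra hne
    have := eq_of_card_two hZcard (Subgroup.mul_mem _ hzZ hzZ) hzZ hne hz1
    apply hz1
    calc z = z⁻¹ * (z * z) := by group
      _ = z⁻¹ * z := by rw [this]
      _ = 1 := by group
  have hZall : ∀ w ∈ (Subgroup.center ↥Q).map Q.subtype, w = 1 ∨ w = z := by
    intro w hw
    by_cases hw1 : w = 1
    · exact Or.inl hw1
    · exact Or.inr (eq_of_card_two hZcard hw hzZ hw1 hz1)
  refine ⟨z, ⟨center_map_le Q hzZ, hz1, hzz, ?_, ?_, ?_, hzZ, hZall⟩⟩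
  · intro q hq
    exact ((mem_center_map_iff Q z).mp hzZ).2 q hq
  · intro x hx y hy
    have h1 : ⁅(⟨x, hx⟩ : Q), (⟨y, hy⟩ : Q)⁆ ∈ commutator Q :=
      Subgroup.commutator_mem_commutator (Subgroup.mem_top _) (Subgroup.mem_top _)
    rw [hL1.1.2.2] at h1
    have h2 : x * y * x⁻¹ * y⁻¹ ∈ (Subgroup.center ↥Q).map Q.subtype := by
      refine ⟨_, h1, ?_⟩
      simp [commutatorElement_def]
    exact hZall _ h2
  · intro x hx hc
    exact hZall x ((mem_center_map_iff Q x).mpr ⟨hx, hc⟩)


namespace ExtraData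

variable {G : Type*} [Group G] {Q : Subgroup G} {z : G}

theorem z_inv (hE : ExtraData Q z) : z⁻¹ = z := inv_eq_of_mul_eq_one_left hE.zz

theorem commute_z (hE : ExtraData Q z) {q : G} (hq : q ∈ Q) : Commute z q := (hE.zc q hq).symm

/-- a non-central element `b` of `Q` is conjugate in `Q` to `z * b`. -/
theorem exists_conj (hE : ExtraData Q z) {b : G} (hbQ : b ∈ Q)
    (hbZ : b ∉ (Subgroup.center ↥Q).map Q.subtype) : ∃ y ∈ Q, y * b * y⁻¹ = z * b := by
  obtain ⟨q, hqQ, hqb⟩ : ∃ q ∈ Q, q * b ≠ b * q := by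
    by_contra hcon
    apply hbZ
    refine (mem_center_map_iff Q b).mpr ⟨hbQ, fun q hq => ?_⟩
    by_contra hne
    exact hcon ⟨q, hq, hne⟩
  refine ⟨q, hqQ, ?_⟩
  rcases hE.comm q hqQ b hbQ with h | h
  · exfalso
    apply hqb
    calc q * b = (q * b * q⁻¹ * b⁻¹) * (b * q) := by group
      _ = b * q := by rw [h, one_mul]
  · calc q * b * q⁻¹ = (q * b * q⁻¹ * b⁻¹) * b := by group
      _ = z * b := by rw [h]

/-- every conjugate of `b` under `Q` is `b` or `z * b`. -/
theorem conj_eq_or (hE : ExtraData Q z) {b q : G} (hbQ : b ∈ Q) (hqQ : q ∈ Q) :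
    q * b * q⁻¹ = b ∨ q * b * q⁻¹ = z * b := by
  rcases hE.comm q hqQ b hbQ with h | h
  · left
    calc q * b * q⁻¹ = (q * b * q⁻¹ * b⁻¹) * b := by group
      _ = b := by rw [h, one_mul]
  · right
    calc q * b * q⁻¹ = (q * b * q⁻¹ * b⁻¹) * b := by group
      _ = z * b := by rw [h]

/-- if `y b y⁻¹ = z b` then also `y⁻¹ b y = z b`. -/
theorem inv_conj (hE : ExtraData Q z) {b y : G} (hyQ : y ∈ Q)
    (hyb : y * b * y⁻¹ = z * b) : y⁻¹ * b * y = z * b := by
  have hzy : Commute z y⁻¹ := (hE.commute_z hyQ).inv_right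
  have h1 : b = y⁻¹ * (z * b) * y := by rw [← hyb]; group
  have h2 : y⁻¹ * (z * b) * y = z * (y⁻¹ * b * y) := by
    rw [← mul_assoc, ← hzy.eq]; group
  have h3 : z * b = z * (z * (y⁻¹ * b * y)) := by rw [← h2, ← h1]
  rw [← mul_assoc, hE.zz, one_mul] at h3
  exact h3.symm

/-- `Q` is the union of the two cosets of `C_Q(b)`. -/
theorem coset_cases (hE : ExtraData Q z) {b y q : G} (hbQ : b ∈ Q) (hyQ : y ∈ Q)
    (hyb : y * b * y⁻¹ = z * b) (hqQ : q ∈ Q) :
    q * b = b * q ∨ (y⁻¹ * q) * b = b * (y⁻¹ * q) := by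
  rcases hE.conj_eq_or hbQ hqQ with h | h
  · left
    calc q * b = (q * b * q⁻¹) * q := by group
      _ = b * q := by rw [h]
  · right
    have hzy : Commute z y⁻¹ := (hE.commute_z hyQ).inv_right
    have h1 := hE.inv_conj hyQ hyb
    calc (y⁻¹ * q) * b = y⁻¹ * (q * b * q⁻¹) * q := by group
      _ = y⁻¹ * (z * b) * q := by rw [h]
      _ = z * (y⁻¹ * b * y) * (y⁻¹ * q) := by
          rw [← mul_assoc y⁻¹ z b, ← hzy.eq]; group
      _ = z * (z * b) * (y⁻¹ * q) := by rw [h1]
      _ = b * (y⁻¹ * q) := by rw [← mul_assoc z z b, hE.zz, one_mul]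


/-- an element of `G` commuting with `C_Q(b)` and with `y` commutes with all of `Q`. -/
theorem commutes_all (hE : ExtraData Q z) {b y u : G} (hbQ : b ∈ Q) (hyQ : y ∈ Q)
    (hyb : y * b * y⁻¹ = z * b)
    (hu : ∀ p ∈ Q, p * b = b * p → u * p = p * u) (huy : u * y = y * u) :
    ∀ q ∈ Q, q * u = u * q := by
  intro q hq
  rcases hE.coset_cases hbQ hyQ hyb hq with h | h
  · exact (hu q hq h).symm
  · have h1 := hu (y⁻¹ * q) (Q.mul_mem (Q.inv_mem hyQ) hq) h
    calc q * u = y * ((y⁻¹ * q) * u) := by group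
      _ = y * (u * (y⁻¹ * q)) := by rw [h1]
      _ = (y * u) * (y⁻¹ * q) := by group
      _ = (u * y) * (y⁻¹ * q) := by rw [huy]
      _ = u * q := by group

/-- an element of `Q` commuting with `C_Q(b)` and with `y` is central in `Q`. -/
theorem central_of (hE : ExtraData Q z) {b y u : G} (hbQ : b ∈ Q) (hyQ : y ∈ Q)
    (hyb : y * b * y⁻¹ = z * b) (huQ : u ∈ Q)
    (hu : ∀ p ∈ Q, p * b = b * p → u * p = p * u) (huy : u * y = y * u) : u = 1 ∨ u = z :=
  hE.cen u huQ (hE.commutes_all hbQ hyQ hyb hu huy)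

/-- the centralizer in `Q` of `C_Q(b)` is `{1, z, b, z b}` (for an involution `b`). -/
theorem double_centralizer (hE : ExtraData Q z) {b y v : G} (hbQ : b ∈ Q) (hbb : b * b = 1)
    (hyQ : y ∈ Q) (hyb : y * b * y⁻¹ = z * b) (hvQ : v ∈ Q)
    (hv : ∀ p ∈ Q, p * b = b * p → v * p = p * v) :
    v = 1 ∨ v = z ∨ v = b ∨ v = z * b := by
  have hbinv : b⁻¹ = b := inv_eq_of_mul_eq_one_left hbb
  rcases hE.conj_eq_or hvQ hyQ with h | h
  · -- `y` commutes with `v`
    have hvy : v * y = y * v := by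
      calc v * y = (y * v * y⁻¹) * y := by rw [h]
        _ = y * v := by group
    rcases hE.central_of hbQ hyQ hyb hvQ hv hvy with h1 | h1
    · exact Or.inl h1
    · exact Or.inr (Or.inl h1)
  · -- `y v y⁻¹ = z v`; then `v b` is central
    have hzv : Commute z v := hE.commute_z hvQ
    have huQ : v * b ∈ Q := Q.mul_mem hvQ hbQ
    have hu : ∀ p ∈ Q, p * b = b * p → (v * b) * p = p * (v * b) := by
      intro p hp hpb
      calc (v * b) * p = v * (b * p) := by group
        _ = v * (p * b) := by rw [hpb]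
        _ = (v * p) * b := by group
        _ = (p * v) * b := by rw [hv p hp hpb]
        _ = p * (v * b) := by group
    have huy : (v * b) * y = y * (v * b) := by
      have e : y * (v * b) * y⁻¹ = v * b := by
        calc y * (v * b) * y⁻¹ = (y * v * y⁻¹) * (y * b * y⁻¹) := by group
          _ = (z * v) * (z * b) := by rw [h, hyb]
          _ = (v * z) * (z * b) := by rw [hzv.eq]
          _ = v * ((z * z) * b) := by group
          _ = v * b := by rw [hE.zz, one_mul]
      calc (v * b) * y = (y * (v * b) * y⁻¹) * y := by rw [e]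
        _ = y * (v * b) := by group
    rcases hE.central_of hbQ hyQ hyb huQ hu huy with h1 | h1
    · right; right; left
      calc v = (v * b) * b⁻¹ := by group
        _ = b := by rw [h1, one_mul, hbinv]
    · right; right; right
      calc v = (v * b) * b⁻¹ := by group
        _ = z * b := by rw [h1, hbinv]


/-- `b y = z y b` when `y b y⁻¹ = z b`. -/
theorem swap_by (hE : ExtraData Q z) {b y : G} (hbQ : b ∈ Q) (_hyQ : y ∈ Q)
    (hyb : y * b * y⁻¹ = z * b) : b * y = z * (y * b) := by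
  have hzb : Commute z b := hE.commute_z hbQ
  have h1 : y * b = z * b * y := by
    calc y * b = (y * b * y⁻¹) * y := by group
      _ = z * b * y := by rw [hyb]
  calc b * y = (z * z) * (b * y) := by rw [hE.zz, one_mul]
    _ = z * (z * b * y) := by group
    _ = z * (y * b) := by rw [h1]

/-- `y y` commutes with `b`. -/
theorem sq_comm (hE : ExtraData Q z) {b y : G} (hbQ : b ∈ Q) (hyQ : y ∈ Q)
    (hyb : y * b * y⁻¹ = z * b) : (y * y) * b = b * (y * y) := by
  have hzy : Commute z y := hE.commute_z hyQ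
  have h1 := hE.swap_by hbQ hyQ hyb
  symm
  calc b * (y * y) = (b * y) * y := by group
    _ = z * (y * b) * y := by rw [h1]
    _ = z * y * (b * y) := by group
    _ = z * y * (z * (y * b)) := by rw [h1]
    _ = (z * y) * z * (y * b) := by group
    _ = (y * z) * z * (y * b) := by rw [hzy.eq]
    _ = y * (z * z) * (y * b) := by group
    _ = (y * y) * b := by rw [hE.zz]; group

/-- An element `c` of `G` normalizing `Q` and centralizing `C_Q(b)` (`b` a non-central involution of `Q`)
lies in `{1, z, b, z b}`, provided the centralizer of `Q` in `G` is `{1, z}`. -/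
theorem centralizer_cent (hE : ExtraData Q z) {b y c : G} (hbQ : b ∈ Q) (hbb : b * b = 1)
    (hyQ : y ∈ Q) (hyb : y * b * y⁻¹ = z * b)
    (hCQ : ∀ x : G, (∀ q ∈ Q, q * x = x * q) → x = 1 ∨ x = z)
    (hcN : ∀ q ∈ Q, c * q * c⁻¹ ∈ Q)
    (hcP : ∀ p ∈ Q, p * b = b * p → c * p = p * c) :
    c = 1 ∨ c = z ∨ c = b ∨ c = z * b := by
  have hbinv : b⁻¹ = b := inv_eq_of_mul_eq_one_left hbb
  have hzb : Commute z b := hE.commute_z hbQ
  have hzy : Commute z y := hE.commute_z hyQ
  have hcz : c * z = z * c := hcP z hE.zQ (hE.zc b hbQ).symm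
  have hcb : c * b = b * c := hcP b hbQ rfl
  -- `v = y⁻¹ (c y c⁻¹)`
  have hvQ : y⁻¹ * (c * y * c⁻¹) ∈ Q := Q.mul_mem (Q.inv_mem hyQ) (hcN y hyQ)
  have hv : ∀ p ∈ Q, p * b = b * p → (y⁻¹ * (c * y * c⁻¹)) * p = p * (y⁻¹ * (c * y * c⁻¹)) := by
    intro p hp hpb
    have hp'Q : y * p * y⁻¹ ∈ Q := Q.mul_mem (Q.mul_mem hyQ hp) (Q.inv_mem hyQ)
    have hzp : Commute z p := hE.commute_z hp
    have hp'b : (y * p * y⁻¹) * b = b * (y * p * y⁻¹) := by
      have h1 := hE.inv_conj hyQ hyb
      have e : (y * p * y⁻¹) * b * (y * p * y⁻¹)⁻¹ = b := by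
        calc (y * p * y⁻¹) * b * (y * p * y⁻¹)⁻¹ = y * (p * (y⁻¹ * b * y) * p⁻¹) * y⁻¹ := by group
          _ = y * (p * (z * b) * p⁻¹) * y⁻¹ := by rw [h1]
          _ = y * ((p * z) * b * p⁻¹) * y⁻¹ := by group
          _ = y * ((z * p) * b * p⁻¹) * y⁻¹ := by rw [hzp.eq]
          _ = y * (z * (p * b) * p⁻¹) * y⁻¹ := by group
          _ = y * (z * (b * p) * p⁻¹) * y⁻¹ := by rw [hpb]
          _ = (y * z) * b * y⁻¹ := by group
          _ = (z * y) * b * y⁻¹ := by rw [hzy.eq]
          _ = z * (y * b * y⁻¹) := by group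
          _ = z * (z * b) := by rw [hyb]
          _ = b := by rw [← mul_assoc, hE.zz, one_mul]
      calc (y * p * y⁻¹) * b = ((y * p * y⁻¹) * b * (y * p * y⁻¹)⁻¹) * (y * p * y⁻¹) := by group
        _ = b * (y * p * y⁻¹) := by rw [e]
    have hc1 : c * p = p * c := hcP p hp hpb
    have hc2 : c * (y * p * y⁻¹) = (y * p * y⁻¹) * c := hcP _ hp'Q hp'b
    have hc1' : c⁻¹ * p = p * c⁻¹ := by
      calc c⁻¹ * p = c⁻¹ * (p * c) * c⁻¹ := by group
        _ = c⁻¹ * (c * p) * c⁻¹ := by rw [hc1]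
        _ = p * c⁻¹ := by group
    calc (y⁻¹ * (c * y * c⁻¹)) * p = y⁻¹ * c * y * (c⁻¹ * p) := by group
      _ = y⁻¹ * c * y * (p * c⁻¹) := by rw [hc1']
      _ = y⁻¹ * (c * (y * p * y⁻¹)) * y * c⁻¹ := by group
      _ = y⁻¹ * ((y * p * y⁻¹) * c) * y * c⁻¹ := by rw [hc2]
      _ = p * (y⁻¹ * (c * y * c⁻¹)) := by group
  have hcy : c * y * c⁻¹ = y * (y⁻¹ * (c * y * c⁻¹)) := by group
  rcases hE.double_centralizer hbQ hbb hyQ hyb hvQ hv with h | h | h | h
  · -- `c` commutes with `y`
    rw [h, mul_one] at hcy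
    have hcy' : c * y = y * c := by
      calc c * y = (c * y * c⁻¹) * c := by group
        _ = y * c := by rw [hcy]
    rcases hCQ c (hE.commutes_all hbQ hyQ hyb hcP hcy') with h1 | h1
    · exact Or.inl h1
    · exact Or.inr (Or.inl h1)
  · -- `c y c⁻¹ = y z`; then `c b` centralizes `Q`
    rw [h] at hcy
    have hby := hE.swap_by hbQ hyQ hyb
    have hu : ∀ p ∈ Q, p * b = b * p → (c * b) * p = p * (c * b) := by
      intro p hp hpb
      calc (c * b) * p = c * (b * p) := by group
        _ = c * (p * b) := by rw [hpb]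
        _ = (c * p) * b := by group
        _ = (p * c) * b := by rw [hcP p hp hpb]
        _ = p * (c * b) := by group
    have huy : (c * b) * y = y * (c * b) := by
      calc (c * b) * y = c * (b * y) := by group
        _ = c * (z * (y * b)) := by rw [hby]
        _ = (c * z) * (y * b) := by group
        _ = (z * c) * (y * b) := by rw [hcz]
        _ = z * ((c * y * c⁻¹) * c) * b := by group
        _ = z * ((y * z) * c) * b := by rw [hcy]
        _ = (z * y) * z * c * b := by group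
        _ = (y * z) * z * c * b := by rw [hzy.eq]
        _ = y * (z * z) * (c * b) := by group
        _ = y * (c * b) := by rw [hE.zz, mul_one]
    rcases hCQ (c * b) (hE.commutes_all hbQ hyQ hyb hu huy) with h1 | h1
    · right; right; left
      calc c = (c * b) * b⁻¹ := by group
        _ = b := by rw [h1, one_mul, hbinv]
    · right; right; right
      calc c = (c * b) * b⁻¹ := by group
        _ = z * b := by rw [h1, hbinv]
  · -- `c y c⁻¹ = y b`: impossible
    exfalso
    rw [h] at hcy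
    have hyy := hE.sq_comm hbQ hyQ hyb
    have hby := hE.swap_by hbQ hyQ hyb
    have h1 : c * (y * y) = (y * y) * c := hcP _ (Q.mul_mem hyQ hyQ) hyy
    have h2 : c * (y * y) * c⁻¹ = y * y := by rw [h1]; group
    have h3 : c * (y * y) * c⁻¹ = z * (y * y) := by
      calc c * (y * y) * c⁻¹ = (c * y * c⁻¹) * (c * y * c⁻¹) := by group
        _ = (y * b) * (y * b) := by rw [hcy]
        _ = y * (b * y) * b := by group
        _ = y * (z * (y * b)) * b := by rw [hby]
        _ = (y * z) * y * (b * b) := by group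
        _ = (z * y) * y * 1 := by rw [hzy.eq, hbb]
        _ = z * (y * y) := by group
    apply hE.z1
    have h4 : z * (y * y) = y * y := h3.symm.trans h2
    calc z = (z * (y * y)) * (y * y)⁻¹ := by group
      _ = 1 := by rw [h4]; group
  · -- `c y c⁻¹ = y z b`: impossible
    exfalso
    rw [h] at hcy
    have hyy := hE.sq_comm hbQ hyQ hyb
    have hby := hE.swap_by hbQ hyQ hyb
    have h1 : c * (y * y) = (y * y) * c := hcP _ (Q.mul_mem hyQ hyQ) hyy
    have h2 : c * (y * y) * c⁻¹ = y * y := by rw [h1]; group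
    have h3 : c * (y * y) * c⁻¹ = z * (y * y) := by
      calc c * (y * y) * c⁻¹ = (c * y * c⁻¹) * (c * y * c⁻¹) := by group
        _ = (y * (z * b)) * (y * (z * b)) := by rw [hcy]
        _ = (y * z) * (b * y) * (z * b) := by group
        _ = (y * z) * (z * (y * b)) * (z * b) := by rw [hby]
        _ = y * (z * z) * y * (b * z) * b := by group
        _ = y * 1 * y * (z * b) * b := by rw [hE.zz, hzb.eq]
        _ = (y * y) * z * (b * b) := by group
        _ = (y * y) * z := by rw [hbb, mul_one]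
        _ = y * (y * z) := by group
        _ = y * (z * y) := by rw [hzy.eq]
        _ = (y * z) * y := by group
        _ = (z * y) * y := by rw [hzy.eq]
        _ = z * (y * y) := by group
    apply hE.z1
    have h4 : z * (y * y) = y * y := h3.symm.trans h2
    calc z = (z * (y * y)) * (y * y)⁻¹ := by group
      _ = 1 := by rw [h4]; group

end ExtraData

end Cfsg.Agent.Helper90
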