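import Mathlib
import Cfsg.Prelude.Def_MonsterType
import Cfsg.Agent.Helper90.Extra
import Cfsg.Agent.Helper90.Conj
import Cfsg.Agent.Helper90.Basic

set_option autoImplicit false

/-!
The centralizer `P = C_Q(t)` of a non-central involution `t` of an extraspecial 2-group `Q`:
its centre is `{1, z, t, z t}`, it has index two, and its non-central elements `v` are conjugate
in it to `z v`.
-/

namespace Cfsg.Agent.Helper90

open Cfsg

variable {G : Type*} [Group G]

/-- A non-central involution `t` of `Q` is conjugate in `Q` to `z t`. -/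
theorem ExtraData.exists_conj_inv {Q : Subgroup G} {z t : G} (hE : ExtraData Q z) (htQ : t ∈ Q)
    (ht1 : t ≠ 1) (htz : t ≠ z) : ∃ y ∈ Q, y * t * y⁻¹ = z * t := by
  apply hE.exists_conj htQ
  intro h
  rcases hE.zall t h with h1 | h1
  · exact ht1 h1
  · exact htz h1

/-- The centre of `C_Q(t)` is `{1, z, t, z t}`. -/
theorem ExtraData.cen_fix_inv {Q : Subgroup G} {z t : G} (hE : ExtraData Q z) (htQ : t ∈ Q)
    (htt : t * t = 1) (ht1 : t ≠ 1) (htz : t ≠ z) :
    ∀ v ∈ Q ⊓ Subgroup.centralizer ({t} : Set G),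
      (∀ p ∈ Q ⊓ Subgroup.centralizer ({t} : Set G), p * v = v * p) →
      v = 1 ∨ v = z ∨ v = t ∨ v = z * t := by
  intro v hv hc
  obtain ⟨y, hyQ, hyt⟩ := hE.exists_conj_inv htQ ht1 htz
  apply hE.double_centralizer htQ htt hyQ hyt hv.1
  intro p hp hpt
  exact (hc p (Subgroup.mem_inf.mpr ⟨hp, Subgroup.mem_centralizer_singleton_iff.mpr hpt⟩)).symm

/-- Non-central elements `v` of `C_Q(t)` are conjugate in `C_Q(t)` to `z v`. -/
theorem ExtraData.exists_conj_fix_inv {Q : Subgroup G} {z t : G} (hE : ExtraData Q z)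
    (htQ : t ∈ Q) (htt : t * t = 1) (ht1 : t ≠ 1) (htz : t ≠ z) {v : G}
    (hv : v ∈ Q ⊓ Subgroup.centralizer ({t} : Set G)) (hv1 : v ≠ 1) (hvz : v ≠ z) (hvt : v ≠ t)
    (hvzt : v ≠ z * t) :
    ∃ r ∈ Q ⊓ Subgroup.centralizer ({t} : Set G), r * v * r⁻¹ = z * v := by
  by_contra hcon
  push Not at hcon
  have h1 : ∀ r ∈ Q ⊓ Subgroup.centralizer ({t} : Set G), r * v = v * r := by
    intro r hr
    rcases hE.conj_eq_or hv.1 hr.1 with h | h
    · calc r * v = (r * v * r⁻¹) * r := by group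
        _ = v * r := by rw [h]
    · exact absurd h (hcon r hr)
  rcases hE.cen_fix_inv htQ htt ht1 htz v hv h1 with h | h | h | h
  exacts [hv1 h, hvz h, hvt h, hvzt h]

/-- `C_Q(t)` has index two in `Q`, so `|Q| = 2 |C_Q(t)|`. -/
theorem ExtraData.card_fix_inv [Finite G] {Q : Subgroup G} {z t : G} (hE : ExtraData Q z)
    (htQ : t ∈ Q) (ht1 : t ≠ 1) (htz : t ≠ z) :
    Nat.card ↥Q = Nat.card ↥(Q ⊓ Subgroup.centralizer ({t} : Set G)) * 2 := by
  obtain ⟨y, hyQ, hyt⟩ := hE.exists_conj_inv htQ ht1 htz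
  have hzt1 : z * t ≠ t := by
    intro h
    apply hE.z1
    calc z = (z * t) * t⁻¹ := by group
      _ = 1 := by rw [h]; group
  have hidx : ((Q ⊓ Subgroup.centralizer ({t} : Set G)).subgroupOf Q).index = 2 := by
    rw [Subgroup.index_eq_two_iff]
    refine ⟨⟨y, hyQ⟩, fun b => ?_⟩
    have hmem : ∀ c : ↥Q, c ∈ (Q ⊓ Subgroup.centralizer ({t} : Set G)).subgroupOf Q ↔
        (c : G) * t * (c : G)⁻¹ = t := by
      intro c
      rw [Subgroup.mem_subgroupOf, Subgroup.mem_inf, Subgroup.mem_centralizer_singleton_iff]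
      constructor
      · rintro ⟨-, h⟩
        calc (c : G) * t * (c : G)⁻¹ = ((c : G) * t) * (c : G)⁻¹ := by group
          _ = (t * (c : G)) * (c : G)⁻¹ := by rw [h]
          _ = t := by group
      · intro h
        refine ⟨c.2, ?_⟩
        calc (c : G) * t = ((c : G) * t * (c : G)⁻¹) * (c : G) := by group
          _ = t * (c : G) := by rw [h]
    rw [hmem, hmem]
    have e : ((b * ⟨y, hyQ⟩ : ↥Q) : G) * t * ((b * ⟨y, hyQ⟩ : ↥Q) : G)⁻¹ =
        z * ((b : G) * t * (b : G)⁻¹) := by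
      have hzb : (b : G) * z = z * (b : G) := hE.zc b b.2
      calc ((b * ⟨y, hyQ⟩ : ↥Q) : G) * t * ((b * ⟨y, hyQ⟩ : ↥Q) : G)⁻¹
          = (b : G) * (y * t * y⁻¹) * (b : G)⁻¹ := by
            rw [Subgroup.coe_mul]; group
        _ = ((b : G) * z) * t * (b : G)⁻¹ := by rw [hyt]; group
        _ = (z * (b : G)) * t * (b : G)⁻¹ := by rw [hzb]
        _ = z * ((b : G) * t * (b : G)⁻¹) := by group
    rw [e]
    rcases hE.conj_eq_or htQ b.2 with h | h
    · rw [h]
      exact Or.inr ⟨rfl, hzt1⟩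
    · rw [h, ← mul_assoc, hE.zz, one_mul]
      exact Or.inl ⟨rfl, hzt1⟩
  have h1 := Subgroup.card_mul_index ((Q ⊓ Subgroup.centralizer ({t} : Set G)).subgroupOf Q)
  rw [hidx, Nat.card_congr (Subgroup.subgroupOfEquivOfLe
    (inf_le_left : Q ⊓ Subgroup.centralizer ({t} : Set G) ≤ Q)).toEquiv] at h1
  exact h1.symm

end Cfsg.Agent.Helper90
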