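import Mathlib
import Cfsg.Agent.Helper92.LeechIndex

set_option autoImplicit false

/-!
The sublattice of the Leech lattice of the vectors all of whose coordinates are divisible by 4:
its index and its index over twice the lattice.
-/

namespace Cfsg.Agent.Helper90

open Cfsg Cfsg.Agent.Helper92

/-- vectors with even coordinates whose sum is divisible by 4 -/
def latM : AddSubgroup ZV := sig.ker ⊓ red.ker

theorem mem_latM (y : ZV) : y ∈ latM ↔ (∑ i, y i) % 4 = 0 ∧ ∀ i, y i % 2 = 0 := by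
  unfold latM
  rw [AddSubgroup.mem_inf, AddMonoidHom.mem_ker, sig_eq_zero_iff, AddMonoidHom.mem_ker]
  constructor
  · rintro ⟨h1, h2⟩
    refine ⟨h1, fun i => ?_⟩
    have := congrFun h2 i
    rwa [Pi.zero_apply, red_apply_eq_zero_iff] at this
  · rintro ⟨h1, h2⟩
    refine ⟨h1, ?_⟩
    ext i
    rw [Pi.zero_apply, red_apply_eq_zero_iff]
    exact h2 i

theorem red_ker_le_latD : red.ker ≤ latD := by
  intro y hy
  rw [AddMonoidHom.mem_ker] at hy
  rw [mem_latD, hy]
  exact golayCode.zero_mem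

theorem map_sig_red_ker : red.ker.map sig = AddSubgroup.zmultiples (2 : ZMod 4) := by
  apply le_antisymm
  · rw [← map_sig_latD]
    exact AddSubgroup.map_mono red_ker_le_latD
  · rw [AddSubgroup.zmultiples_le]
    refine ⟨fun i => if i = none then 2 else 0, ?_, ?_⟩
    · rw [SetLike.mem_coe, AddMonoidHom.mem_ker]
      ext i
      rw [Pi.zero_apply, red_apply_eq_zero_iff]
      split_ifs <;> decide
    · rw [sig_apply]
      decide

theorem relIndex_latM : latM.relIndex red.ker = 2 := by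
  unfold latM
  rw [AddSubgroup.inf_relIndex_right, AddSubgroup.relIndex_ker, map_sig_red_ker,
    Nat.card_zmultiples, addOrderOf_two_zmod4]

theorem index_latM : latM.index = 2 ^ 25 := by
  have h := AddSubgroup.relIndex_mul_index (show latM ≤ red.ker from inf_le_right)
  rw [relIndex_latM, ← range_dbl, index_range_dbl] at h
  rw [← h]
  norm_num

/-- lattice vectors all of whose coordinates are divisible by 4 -/
def latL4 : AddSubgroup ZV := latM.map dbl

theorem index_latL4 : latL4.index = 2 ^ 49 := by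
  unfold latL4
  rw [AddSubgroup.index_map_of_injective _ dbl_injective, index_latM, index_range_dbl]
  norm_num

theorem lam0_eq_latM_inf : lam0 = latM ⊓ leechLattice := by
  apply le_antisymm
  · intro x hx
    refine ⟨?_, lam0_le hx⟩
    obtain ⟨w, hw, rfl⟩ := hx
    rw [SetLike.mem_coe, mem_latE] at hw
    change dbl w ∈ latM
    rw [mem_latM]
    constructor
    · simp only [dbl_apply]
      rw [← Finset.mul_sum]
      omega
    · intro i
      rw [dbl_apply]
      omega
  · rw [lam0_eq]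
    intro x hx
    refine ⟨?_, hx.2⟩
    have h1 := ((mem_latM x).1 hx.1).2 none
    change x ∈ par.ker
    rw [AddMonoidHom.mem_ker, par_apply, intCast_zmod2_eq_zero_iff]
    exact h1

theorem latL4_le_lam0 : latL4 ≤ lam0 := by
  unfold latL4 lam0
  apply AddSubgroup.map_mono
  intro y hy
  rw [mem_latM] at hy
  rw [mem_latE]
  refine ⟨hy.1, ?_⟩
  have : red y = 0 := by
    ext i
    rw [Pi.zero_apply, red_apply_eq_zero_iff]
    exact hy.2 i
  rw [this]
  exact golayCode.zero_mem

theorem latL4_le : latL4 ≤ leechLattice := latL4_le_lam0.trans lam0_le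

theorem twoL_inf_latL4 : leechLattice.map dbl ⊓ latL4 = lam0.map dbl := by
  unfold latL4
  rw [← AddSubgroup.map_inf _ _ _ dbl_injective, inf_comm, ← lam0_eq_latM_inf]

theorem index_map_dbl_lam0 : (lam0.map dbl).index = 2 ^ 61 := by
  rw [AddSubgroup.index_map_of_injective _ dbl_injective, index_lam0, index_range_dbl]
  norm_num

theorem relIndex_twoL_latL4 : (leechLattice.map dbl).relIndex latL4 = 2 ^ 12 := by
  rw [← AddSubgroup.inf_relIndex_right, twoL_inf_latL4]
  have hle : lam0.map dbl ≤ latL4 := by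
    rw [← twoL_inf_latL4]
    exact inf_le_right
  have h := AddSubgroup.relIndex_mul_index hle
  rw [index_latL4, index_map_dbl_lam0] at h
  have e : (2 : ℕ) ^ 61 = 2 ^ 12 * 2 ^ 49 := by norm_num
  rw [e] at h
  exact Nat.eq_of_mul_eq_mul_right (by norm_num) h

theorem thirtytwo_dvd_sqNorm_of_mem_latL4 {x : ZV} (hx : x ∈ latL4) : (32 : ℤ) ∣ sqNorm x := by
  obtain ⟨y, hy, rfl⟩ := hx
  rw [SetLike.mem_coe, mem_latM] at hy
  obtain ⟨hs, hev⟩ := hy
  have h1 : (32 : ℤ) ∣ ∑ i, (dbl y i ^ 2 - 8 * y i) := by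
    apply Finset.dvd_sum
    intro i _
    rw [dbl_apply]
    have := hev i
    obtain ⟨w, hw⟩ : ∃ w, y i = 2 * w := ⟨y i / 2, by omega⟩
    rw [hw]
    have h2 : (2 : ℤ) ∣ w * (w - 1) := by
      rcases Int.emod_two_eq_zero_or_one w with h | h
      · exact Dvd.dvd.mul_right (by omega) _
      · exact Dvd.dvd.mul_left (by omega) _
    obtain ⟨k, hk⟩ := h2
    refine ⟨k, ?_⟩
    have : (2 * (2 * w)) ^ 2 - 8 * (2 * w) = 16 * (w * (w - 1)) := by ring
    rw [this, hk]
    ring
  rw [Finset.sum_sub_distrib, ← Finset.mul_sum] at h1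
  have h3 : (32 : ℤ) ∣ 8 * ∑ i, y i := by
    obtain ⟨k, hk⟩ : ∃ k, ∑ i, y i = 4 * k := ⟨(∑ i, y i) / 4, by omega⟩
    rw [hk]
    exact ⟨k, by ring⟩
  have := dvd_add h1 h3
  rw [sub_add_cancel] at this
  exact this

theorem sqNorm_div_cast_of_mem_latL4 {x : ZV} (hx : x ∈ latL4) :
    ((sqNorm x / 16 : ℤ) : ZMod 2) = 0 := by
  obtain ⟨k, hk⟩ := thirtytwo_dvd_sqNorm_of_mem_latL4 hx
  rw [hk, intCast_zmod2_eq_zero_iff]
  omega

theorem mem_map_dbl_iff (x : ZV) :
    x ∈ leechLattice.map dbl ↔ ∃ w : leechLattice, x = (w : ZV) + (w : ZV) := by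
  constructor
  · rintro ⟨w, hw, rfl⟩
    refine ⟨⟨w, hw⟩, ?_⟩
    ext i
    rw [dbl_apply, Pi.add_apply]
    ring
  · rintro ⟨w, rfl⟩
    refine ⟨w, w.2, ?_⟩
    ext i
    rw [dbl_apply, Pi.add_apply]
    ring

end Cfsg.Agent.Helper90
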