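import Mathlib
import Cfsg.Prelude.Def_Local
import Cfsg.Agent.Helper22.FStar
import Cfsg.Agent.Helper22.Layer
import Cfsg.Agent.Helper29.Fitting
import Cfsg.Agent.Helper90.Conj

set_option autoImplicit false

/-!
Components of a finite group with trivial Fitting subgroup: the decomposition
`E(G) = K × (product of the other components)` in elementwise form.
-/

namespace Cfsg.Agent.Helper90

open Cfsg Cfsg.Agent

variable {G : Type*} [Group G]

/-- Elements of a join of two elementwise commuting subgroups are products. -/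
theorem exists_mul_of_mem_sup_of_comm {A B : Subgroup G}
    (h : ∀ a ∈ A, ∀ b ∈ B, a * b = b * a) {x : G} (hx : x ∈ A ⊔ B) :
    ∃ a ∈ A, ∃ b ∈ B, x = a * b := by
  let S : Subgroup G :=
    { carrier := {x | ∃ a ∈ A, ∃ b ∈ B, x = a * b}
      one_mem' := ⟨1, A.one_mem, 1, B.one_mem, by simp⟩
      mul_mem' := by
        rintro x y ⟨a, ha, b, hb, rfl⟩ ⟨a', ha', b', hb', rfl⟩
        refine ⟨a * a', A.mul_mem ha ha', b * b', B.mul_mem hb hb', ?_⟩
        calc a * b * (a' * b') = a * (b * a') * b' := by group
          _ = a * (a' * b) * b' := by rw [h a' ha' b hb]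
          _ = a * a' * (b * b') := by group
      inv_mem' := by
        rintro x ⟨a, ha, b, hb, rfl⟩
        refine ⟨a⁻¹, A.inv_mem ha, b⁻¹, B.inv_mem hb, ?_⟩
        calc (a * b)⁻¹ = b⁻¹ * a⁻¹ := by group
          _ = a⁻¹ * b⁻¹ := (h a⁻¹ (A.inv_mem ha) b⁻¹ (B.inv_mem hb)).symm }
  have hA : A ≤ S := fun a ha => ⟨a, ha, 1, B.one_mem, by simp⟩
  have hB : B ≤ S := fun b hb => ⟨1, A.one_mem, b, hb, by simp⟩
  exact (sup_le hA hB) hx

/-- A component is not contained in a subgroup whose elements pairwise commute. -/
theorem not_le_of_comm {K A : Subgroup G} (hK : IsComponent K)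
    (hA : ∀ a ∈ A, ∀ b ∈ A, a * b = b * a) : ¬ K ≤ A := by
  intro hKA
  apply Helper21.IsQuasisimple.not_isSolvable hK.2
  exact isSolvable_of_comm (fun a b => Subtype.ext (hA a (hKA a.2) b (hKA b.2)))

/-- Elements of distinct components commute. -/
theorem comm_of_ne {K L : Subgroup G} (hK : IsComponent K) (hL : IsComponent L) (hne : K ≠ L)
    {a b : G} (ha : a ∈ K) (hb : b ∈ L) : a * b = b * a := by
  have h := Helper22.IsComponent.commutator_eq_bot_of_ne hK hL hne
  rw [Subgroup.commutator_eq_bot_iff_le_centralizer] at h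
  exact (Subgroup.mem_centralizer_iff.mp (h ha) b hb).symm

/-- A component contained in a component equals it. -/
theorem eq_of_le_component {K L : Subgroup G} (hK : IsComponent K) (hL : IsComponent L)
    (hLK : L ≤ K) : L = K := by
  by_contra hne
  apply not_le_of_comm hL (A := L) ?_ le_rfl
  intro a ha b hb
  exact comm_of_ne hL hK hne ha (hLK hb)

/-- The product of the components other than `K`. -/
def others (K : Subgroup G) : Subgroup G :=
  sSup {L : Subgroup G | IsComponent L ∧ ¬ L ≤ K}

theorem le_others {K L : Subgroup G} (hK : IsComponent K) (hL : IsComponent L) (hne : L ≠ K) :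
    L ≤ others K :=
  le_sSup ⟨hL, fun h => hne (eq_of_le_component hK hL h)⟩

theorem others_comm {K : Subgroup G} (hK : IsComponent K) {a b : G} (ha : a ∈ K)
    (hb : b ∈ others K) : a * b = b * a := by
  have h := Helper22.sSup_not_le_le_centralizer hK.1 hb
  exact Subgroup.mem_centralizer_iff.mp h a ha

theorem others_le_layer (K : Subgroup G) : others K ≤ layer G := by
  apply sSup_le
  rintro L ⟨hL, _⟩
  exact Helper22.IsComponent.le_layer hL

theorem layer_eq_sup_others {K : Subgroup G} (hK : IsComponent K) :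
    layer G = K ⊔ others K := by
  rw [Helper22.layer_eq_sup_of_split K]
  congr 1
  apply le_antisymm
  · apply sSup_le
    rintro L ⟨_, hL⟩
    exact hL
  · exact le_sSup ⟨hK, le_rfl⟩

/-- Every element of the layer is a product `k * k'`. -/
theorem exists_decomp {K : Subgroup G} (hK : IsComponent K) {e : G} (he : e ∈ layer G) :
    ∃ k ∈ K, ∃ k' ∈ others K, e = k * k' := by
  rw [layer_eq_sup_others hK] at he
  exact exists_mul_of_mem_sup_of_comm (fun a ha b hb => others_comm hK ha hb) he

/-- With trivial Fitting subgroup, a component has trivial centre. -/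
theorem eq_one_of_central {K : Subgroup G} (hF : fittingSubgroup G = ⊥) (hK : IsComponent K)
    {c : G} (hc : c ∈ K) (hcc : ∀ k ∈ K, k * c = c * k) : c = 1 := by
  have h1 : c ∈ fittingSubgroup G := by
    apply Helper22.mem_fittingSubgroup_of_mem_layer_of_commute (Helper22.IsComponent.le_layer hK hc)
    intro e he
    obtain ⟨k, hk, k', hk', rfl⟩ := exists_decomp hK he
    calc k * k' * c = k * (k' * c) := by group
      _ = k * (c * k') := by rw [others_comm hK hc hk']
      _ = (k * c) * k' := by group
      _ = (c * k) * k' := by rw [hcc k hk]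
      _ = c * (k * k') := by group
  rw [hF, Subgroup.mem_bot] at h1
  exact h1

theorem inf_others_eq_one {K : Subgroup G} (hF : fittingSubgroup G = ⊥) (hK : IsComponent K)
    {c : G} (hc : c ∈ K) (hc' : c ∈ others K) : c = 1 :=
  eq_one_of_central hF hK hc (fun k hk => others_comm hK hk hc')

/-- Uniqueness of the decomposition. -/
theorem decomp_unique {K : Subgroup G} (hF : fittingSubgroup G = ⊥) (hK : IsComponent K)
    {k l k' l' : G} (hk : k ∈ K) (hl : l ∈ K) (hk' : k' ∈ others K) (hl' : l' ∈ others K)
    (h : k * k' = l * l') : k = l ∧ k' = l' := by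
  have h1 : l⁻¹ * k = l' * k'⁻¹ := by
    calc l⁻¹ * k = l⁻¹ * (k * k') * k'⁻¹ := by group
      _ = l⁻¹ * (l * l') * k'⁻¹ := by rw [h]
      _ = l' * k'⁻¹ := by group
  have h2 : l⁻¹ * k = 1 := by
    apply inf_others_eq_one hF hK (K.mul_mem (K.inv_mem hl) hk)
    rw [h1]
    exact (others K).mul_mem hl' ((others K).inv_mem hk')
  have h3 : k = l := by
    calc k = l * (l⁻¹ * k) := by group
      _ = l := by rw [h2, mul_one]
  refine ⟨h3, ?_⟩
  subst h3
  exact mul_left_cancel h

/-- With trivial Fitting subgroup, components are simple groups. -/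
theorem isSimpleGroup_of_isComponent {K : Subgroup G} (hF : fittingSubgroup G = ⊥)
    (hK : IsComponent K) : IsSimpleGroup ↥K := by
  have hcen : Subgroup.center ↥K = ⊥ := by
    rw [eq_bot_iff]
    intro c hc
    rw [Subgroup.mem_bot]
    apply Subtype.ext
    apply eq_one_of_central hF hK c.2
    intro k hk
    have := Subgroup.mem_center_iff.mp hc ⟨k, hk⟩
    exact congrArg Subtype.val this
  haveI : IsSimpleGroup (↥K ⧸ Subgroup.center ↥K) := hK.2.2
  haveI : Nontrivial ↥K := Helper21.IsQuasisimple.nontrivial hK.2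
  have hinj : Function.Injective (QuotientGroup.mk' (Subgroup.center ↥K)) := by
    rw [← MonoidHom.ker_eq_bot_iff, QuotientGroup.ker_mk', hcen]
  let e : ↥K ≃* (↥K ⧸ Subgroup.center ↥K) :=
    MulEquiv.ofBijective (QuotientGroup.mk' (Subgroup.center ↥K))
      ⟨hinj, QuotientGroup.mk'_surjective _⟩
  exact IsSimpleGroup.isSimpleGroup_of_surjective e.symm.toMonoidHom e.symm.surjective

theorem not_comm_of_isComponent {K : Subgroup G} (hK : IsComponent K) :
    ¬ IsMulCommutative ↥K := by
  intro h
  apply Helper21.IsQuasisimple.not_isSolvable hK.2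
  exact isSolvable_of_comm (fun a b => h.is_comm.comm a b)

/-- Conjugates of components are components. -/
theorem isComponent_conj {K : Subgroup G} (hK : IsComponent K) (g : G) :
    IsComponent (K.map (MulAut.conj g).toMonoidHom) :=
  Helper29.isComponent_map_mulEquiv (MulAut.conj g) hK

theorem conj_conj (a b : G) (K : Subgroup G) :
    (K.map (MulAut.conj b).toMonoidHom).map (MulAut.conj a).toMonoidHom =
      K.map (MulAut.conj (a * b)).toMonoidHom := by
  rw [Subgroup.map_map]
  congr 1
  ext x
  simp

theorem conj_one (K : Subgroup G) : K.map (MulAut.conj (1 : G)).toMonoidHom = K := by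
  ext x
  rw [mem_map_conj_iff]
  simp

end Cfsg.Agent.Helper90
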