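import Mathlib
import Cfsg.Prelude.Def_MonsterType
import Cfsg.Agent.Helper90.Extra
import Cfsg.Agent.Helper90.Conj

set_option autoImplicit false

/-!
Large extraspecial 2-subgroups: elementwise data and the basic fixed point fact
(every non-trivial `Q`-invariant subgroup contains `z`).
-/

namespace Cfsg.Agent.Helper90

open Cfsg

/-- Elementwise form of "`Q` is a large extraspecial 2-subgroup with centre `⟨z⟩`". -/
structure LgData {G : Type*} [Group G] (Q : Subgroup G) (z : G) : Prop where
  ed : ExtraData Q z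
  two : IsPGroup 2 Q
  cent : ∀ g : G, (∀ q ∈ Q, q * g = g * q) → g = 1 ∨ g = z
  norm : ∀ g : G, g * z = z * g → g ∈ Subgroup.normalizer (Q : Set G)
  odd : ∀ K : Subgroup G, Odd (Nat.card K) → Q ≤ Subgroup.normalizer (K : Set G) → K = ⊥

theorem lgData_of_large {G : Type*} [Group G] {Q : Subgroup G} (hQ : Cfsg.IsLargeExtraspecial Q)
    {z : G} (hz : (Subgroup.center ↥Q).map Q.subtype = Subgroup.zpowers z) : LgData Q z := by
  obtain ⟨hL1, hL2, hL3, hL4⟩ := hQ
  obtain ⟨z', hE⟩ := exists_extraData hL1
  have hzz' : z = z' := by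
    have h1 : z ∈ (Subgroup.center ↥Q).map Q.subtype := by
      rw [hz]; exact Subgroup.mem_zpowers z
    rcases hE.zall z h1 with h | h
    · exfalso
      have h2 : z' ∈ Subgroup.zpowers z := by rw [← hz]; exact hE.zmem
      rw [h, Subgroup.zpowers_one_eq_bot, Subgroup.mem_bot] at h2
      exact hE.z1 h2
    · exact h
  subst hzz'
  refine ⟨hE, hL1.1.1, ?_, ?_, hL4⟩
  · intro g hg
    have h1 : g ∈ Subgroup.centralizer (Q : Set G) := by
      rw [Subgroup.mem_centralizer_iff]
      intro q hq
      exact hg q hq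
    rw [hL2] at h1
    exact hE.zall g h1
  · intro g hg
    apply hL3
    rw [hz, Subgroup.mem_centralizer_iff]
    intro y hy
    obtain ⟨k, rfl⟩ := Subgroup.mem_zpowers_iff.mp hy
    have : Commute g z := hg
    exact ((this.zpow_right k).eq).symm

/-- The conjugation action of a subgroup `Q ≤ N_G(N)` on `N`. -/
def conjActOn {G : Type*} [Group G] (Q N : Subgroup G)
    (h : Q ≤ Subgroup.normalizer (N : Set G)) : MulAction ↥Q ↥N where
  smul q n := ⟨(q : G) * n * (q : G)⁻¹, conj_mem_of_mem_normalizer (h q.2) n.2⟩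
  one_smul n := by
    apply Subtype.ext
    show ((1 : ↥Q) : G) * n * ((1 : ↥Q) : G)⁻¹ = n
    simp
  mul_smul a b n := by
    apply Subtype.ext
    show ((a * b : ↥Q) : G) * n * ((a * b : ↥Q) : G)⁻¹ = (a : G) * ((b : G) * n * (b : G)⁻¹) * (a : G)⁻¹
    simp only [Subgroup.coe_mul, mul_inv_rev]
    group

/-- **Fact A**: a non-trivial subgroup normalized by a large extraspecial `Q` contains `z`. -/
theorem LgData.z_mem_of_invariant {G : Type*} [Group G] [Finite G] {Q : Subgroup G} {z : G}
    (hD : LgData Q z) (N : Subgroup G) (hN : N ≠ ⊥)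
    (hQN : Q ≤ Subgroup.normalizer (N : Set G)) : z ∈ N := by
  classical
  by_contra hzN
  haveI : Fact (Nat.Prime 2) := ⟨Nat.prime_two⟩
  have hnodd : ¬ Odd (Nat.card N) := fun h => hN (hD.odd N h hQN)
  letI : MulAction ↥Q ↥N := conjActOn Q N hQN
  have hmod := hD.two.card_modEq_card_fixedPoints (↥N)
  have hfix : MulAction.fixedPoints ↥Q ↥N = {1} := by
    ext n
    rw [MulAction.mem_fixedPoints, Set.mem_singleton_iff]
    constructor
    · intro h
      have h1 : ∀ q ∈ Q, q * (n : G) = (n : G) * q := by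
        intro q hq
        have h2 := congrArg Subtype.val (h ⟨q, hq⟩)
        have h3 : q * (n : G) * q⁻¹ = (n : G) := h2
        calc q * (n : G) = (q * (n : G) * q⁻¹) * q := by group
          _ = (n : G) * q := by rw [h3]
      rcases hD.cent _ h1 with h4 | h4
      · exact Subtype.ext h4
      · exfalso
        apply hzN
        rw [← h4]
        exact n.2
    · rintro rfl q
      apply Subtype.ext
      show (q : G) * ((1 : ↥N) : G) * (q : G)⁻¹ = ((1 : ↥N) : G)
      simp
  rw [hfix] at hmod
  have h1 : Nat.card (({1} : Set ↥N)) = 1 := by simp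
  rw [h1] at hmod
  apply hnodd
  rw [Nat.odd_iff]
  exact hmod

end Cfsg.Agent.Helper90
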