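import Mathlib
import Cfsg.Prelude.Def_Local
import Cfsg.Agent.Helper90.LgFix
import Cfsg.Agent.Helper90.LgComp

set_option autoImplicit false

/-!
A large extraspecial 2-subgroup `Q` of a group with trivial Fitting subgroup:
`z` centralizes no component, and `Q` permutes the components transitively.
-/

namespace Cfsg.Agent.Helper90

open Cfsg Cfsg.Agent

variable {G : Type*} [Group G] [Finite G] {Q : Subgroup G} {z : G}

/-- Conjugating by an element of `Q` preserves "centralizes `z`". -/
theorem LgData.conj_le_centralizer (hD : LgData Q z) {K : Subgroup G}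
    (hK : K ≤ Subgroup.centralizer ({z} : Set G)) {q : G} (hq : q ∈ Q) :
    K.map (MulAut.conj q).toMonoidHom ≤ Subgroup.centralizer ({z} : Set G) := by
  intro x hx
  rw [mem_map_conj_iff] at hx
  have h1 := hK hx
  rw [Subgroup.mem_centralizer_singleton_iff] at h1 ⊢
  have hqz : q * z = z * q := hD.ed.zc q hq
  have hqz' : q⁻¹ * z = z * q⁻¹ := by
    calc q⁻¹ * z = q⁻¹ * (z * q) * q⁻¹ := by group
      _ = q⁻¹ * (q * z) * q⁻¹ := by rw [hqz]
      _ = z * q⁻¹ := by group
  calc x * z = q * (q⁻¹ * x * q) * (q⁻¹ * z) := by group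
    _ = q * (q⁻¹ * x * q) * (z * q⁻¹) := by rw [hqz']
    _ = q * ((q⁻¹ * x * q) * z) * q⁻¹ := by group
    _ = q * (z * (q⁻¹ * x * q)) * q⁻¹ := by rw [h1]
    _ = (q * z) * (q⁻¹ * x) := by group
    _ = (z * q) * (q⁻¹ * x) := by rw [hqz]
    _ = z * x := by group

/-- A `Q`-invariant non-empty family of components: every component outside the family
centralizes `z`. -/
theorem LgData.le_centralizer_of_not_mem (hD : LgData Q z) (X : Set (Subgroup G))
    (hX : ∀ K ∈ X, IsComponent K) (hne : X.Nonempty)
    (hinv : ∀ q ∈ Q, ∀ K ∈ X, K.map (MulAut.conj q).toMonoidHom ∈ X)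
    {L : Subgroup G} (hL : IsComponent L) (hLX : L ∉ X) :
    L ≤ Subgroup.centralizer ({z} : Set G) := by
  have hQN : Q ≤ Subgroup.normalizer ((sSup X : Subgroup G) : Set G) := by
    intro q hq
    apply mem_normalizer_of_conj_mem
    intro x hx
    have h1 : sSup X ≤ (sSup X).comap (MulAut.conj q).toMonoidHom := by
      apply sSup_le
      intro K hK
      rw [← Subgroup.map_le_iff_le_comap]
      exact le_sSup (hinv q hq K hK)
    exact h1 hx
  have hN1 : sSup X ≠ ⊥ := by
    obtain ⟨K, hK⟩ := hne
    intro h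
    have : K ≤ ⊥ := h ▸ le_sSup hK
    exact Helper22.IsComponent.ne_bot (hX K hK) (le_bot_iff.mp this)
  have hz := hD.z_mem_of_invariant (sSup X) hN1 hQN
  have hcen : sSup X ≤ Subgroup.centralizer (L : Set G) := by
    apply sSup_le
    intro K hK
    intro a ha
    rw [Subgroup.mem_centralizer_iff]
    intro b hb
    have hne' : K ≠ L := by
      rintro rfl
      exact hLX hK
    exact (comm_of_ne (hX K hK) hL hne' ha hb).symm
  intro b hb
  rw [Subgroup.mem_centralizer_singleton_iff]
  exact Subgroup.mem_centralizer_iff.mp (hcen hz) b hb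

/-- `z` centralizes no component. -/
theorem LgData.not_le_centralizer (hD : LgData Q z) (hF : fittingSubgroup G = ⊥)
    {K : Subgroup G} (hK : IsComponent K) : ¬ K ≤ Subgroup.centralizer ({z} : Set G) := by
  intro hKz
  set X : Set (Subgroup G) := {L | IsComponent L ∧ L ≤ Subgroup.centralizer ({z} : Set G)} with hX
  have hall : ∀ L : Subgroup G, IsComponent L → L ≤ Subgroup.centralizer ({z} : Set G) := by
    intro L hL
    by_cases hLX : L ∈ X
    · exact hLX.2
    · exact hD.le_centralizer_of_not_mem X (fun K hK => hK.1) ⟨K, hK, hKz⟩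
        (fun q hq K hK => ⟨isComponent_conj hK.1 q, hD.conj_le_centralizer hK.2 hq⟩) hL hLX
  have hlay : layer G ≤ Subgroup.centralizer ({z} : Set G) :=
    Helper22.layer_le_iff.mpr hall
  have hlayN : (layer G).Normal := inferInstance
  have hlay1 : layer G ≠ ⊥ := by
    intro h
    have : K ≤ ⊥ := h ▸ Helper22.IsComponent.le_layer hK
    exact Helper22.IsComponent.ne_bot hK (le_bot_iff.mp this)
  have hzl : z ∈ layer G := by
    apply hD.z_mem_of_invariant _ hlay1
    rw [Subgroup.normalizer_eq_top_iff.mpr hlayN]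
    exact le_top
  have h1 : z ∈ fittingSubgroup G := by
    apply Helper22.mem_fittingSubgroup_of_mem_layer_of_commute hzl
    intro e he
    have := hlay he
    rw [Subgroup.mem_centralizer_singleton_iff] at this
    exact this
  rw [hF, Subgroup.mem_bot] at h1
  exact hD.ed.z1 h1

/-- `Q` is transitive on the components. -/
theorem LgData.exists_conj_eq (hD : LgData Q z) (hF : fittingSubgroup G = ⊥)
    {K L : Subgroup G} (hK : IsComponent K) (hL : IsComponent L) :
    ∃ q ∈ Q, L = K.map (MulAut.conj q).toMonoidHom := by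
  by_contra hcon
  push Not at hcon
  set X : Set (Subgroup G) := {Y | ∃ q ∈ Q, Y = K.map (MulAut.conj q).toMonoidHom} with hX
  have hLX : L ∉ X := by
    rintro ⟨q, hq, h⟩
    exact hcon q hq h
  apply hD.not_le_centralizer hF hL
  apply hD.le_centralizer_of_not_mem X ?_ ⟨K, 1, Q.one_mem, (conj_one K).symm⟩ ?_ hL hLX
  · rintro Y ⟨q, _, rfl⟩
    exact isComponent_conj hK q
  · rintro q hq Y ⟨q', hq', rfl⟩
    exact ⟨q * q', Q.mul_mem hq hq', conj_conj q q' K⟩

end Cfsg.Agent.Helper90
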