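import Mathlib
import Cfsg.Prelude.Def_Local
import Cfsg.Agent.Lib.Cores
import Cfsg.Agent.Helper22.PConstrained
import Cfsg.Agent.Helper22.Bender
import Cfsg.Agent.Helper90.LgOrbit

set_option autoImplicit false

/-!
A large extraspecial 2-subgroup `Q` of `G`, `M = ⟨z^G⟩`: the two main cases
`E(G) = 1` and `E(G) ≠ 1`.
-/

namespace Cfsg.Agent.Helper90

open Cfsg Cfsg.Agent

variable {G : Type*} [Group G] [Finite G] {Q : Subgroup G} {z : G}

theorem LgData.z_mem_of_normal (hD : LgData Q z) (N : Subgroup G) [hN : N.Normal] (hN1 : N ≠ ⊥) :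
    z ∈ N := by
  apply hD.z_mem_of_invariant N hN1
  rw [Subgroup.normalizer_eq_top_iff.mpr hN]
  exact le_top

theorem LgData.normalClosure_le (hD : LgData Q z) (N : Subgroup G) [hN : N.Normal] (hN1 : N ≠ ⊥) :
    Subgroup.normalClosure ({z} : Set G) ≤ N := by
  apply Subgroup.normalClosure_le_normal
  rw [Set.singleton_subset_iff]
  exact hD.z_mem_of_normal N hN1

theorem LgData.pPrimeCore_eq_bot (hD : LgData Q z) : pPrimeCore 2 G = ⊥ := by
  haveI := Lib.pPrimeCore_characteristic (G := G) 2
  have hN : (pPrimeCore 2 G).Normal := inferInstance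
  apply hD.odd
  · exact Nat.Coprime.odd_of_right (Lib.card_pPrimeCore_coprime 2)
  · rw [Subgroup.normalizer_eq_top_iff.mpr hN]
    exact le_top

theorem LgData.fittingSubgroup_eq (hD : LgData Q z) : fittingSubgroup G = pCore 2 G := by
  haveI : Fact (Nat.Prime 2) := ⟨Nat.prime_two⟩
  exact Helper22.fittingSubgroup_eq_pCore_of_pPrimeCore_eq_bot 2 hD.pPrimeCore_eq_bot

/-- If `O_2(G) ≠ 1` then `z ∈ Z(O_2(G))`. -/
theorem LgData.z_mem_center_pCore (hD : LgData Q z) (hR : pCore 2 G ≠ ⊥) :
    z ∈ pCore 2 G ⊓ Subgroup.centralizer ((pCore 2 G : Subgroup G) : Set G) := by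
  haveI : Fact (Nat.Prime 2) := ⟨Nat.prime_two⟩
  haveI := Lib.pCore_characteristic (G := G) 2
  haveI hN : (pCore 2 G).Normal := inferInstance
  apply hD.z_mem_of_normal
  haveI : Nontrivial ↥(pCore 2 G) := (Subgroup.nontrivial_iff_ne_bot _).mpr hR
  have hc := (Lib.isPGroup_pCore (G := G) 2).center_nontrivial
  obtain ⟨c, hc1⟩ := exists_ne (1 : ↥(Subgroup.center ↥(pCore 2 G)))
  intro h
  apply hc1
  have h2 : ((c : ↥(pCore 2 G)) : G) ∈ pCore 2 G ⊓
      Subgroup.centralizer ((pCore 2 G : Subgroup G) : Set G) := by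
    refine ⟨(c : ↥(pCore 2 G)).2, Subgroup.mem_centralizer_iff.mpr (fun r hr => ?_)⟩
    have := Subgroup.mem_center_iff.mp c.2 ⟨r, hr⟩
    exact congrArg Subtype.val this
  rw [h, Subgroup.mem_bot] at h2
  apply Subtype.ext
  apply Subtype.ext
  exact h2

/-- The normal closure of `z` is abelian when `O_2(G) ≠ 1`. -/
theorem LgData.normalClosure_comm (hD : LgData Q z) (hR : pCore 2 G ≠ ⊥) :
    IsMulCommutative ↥(Subgroup.normalClosure ({z} : Set G)) := by
  haveI := Lib.pCore_characteristic (G := G) 2
  haveI hN : (pCore 2 G).Normal := inferInstance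
  have hz := hD.z_mem_center_pCore hR
  have hle : Subgroup.normalClosure ({z} : Set G) ≤
      pCore 2 G ⊓ Subgroup.centralizer ((pCore 2 G : Subgroup G) : Set G) := by
    apply Subgroup.normalClosure_le_normal
    rw [Set.singleton_subset_iff]
    exact hz
  refine ⟨⟨fun a b => ?_⟩⟩
  apply Subtype.ext
  have ha := hle a.2
  have hb := hle b.2
  exact Subgroup.mem_centralizer_iff.mp hb.2 a ha.1

/-- **Case I**: no components. -/
theorem LgData.case_layer_eq_bot (hD : LgData Q z) (hE : layer G = ⊥) :
    IsMulCommutative ↥(Subgroup.normalClosure ({z} : Set G)) ∧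
      generalizedFittingSubgroup G = pCore 2 G := by
  have hF : generalizedFittingSubgroup G = pCore 2 G := by
    unfold generalizedFittingSubgroup
    rw [hE, bot_sup_eq, hD.fittingSubgroup_eq]
  refine ⟨?_, hF⟩
  apply hD.normalClosure_comm
  intro hR
  have h1 := Helper22.centralizer_generalizedFittingSubgroup_le (G := G)
  rw [hF, hR] at h1
  have h2 : z ∈ Subgroup.centralizer (((⊥ : Subgroup G) : Subgroup G) : Set G) := by
    rw [Subgroup.mem_centralizer_iff]
    intro y hy
    rw [SetLike.mem_coe, Subgroup.mem_bot] at hy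
    rw [hy]; simp
  have h3 := h1 h2
  rw [Subgroup.mem_bot] at h3
  exact hD.ed.z1 h3

/-- **Case II**, first step: if there is a component then `O_2(G) = 1`. -/
theorem LgData.pCore_eq_bot_of_isComponent (hD : LgData Q z) {K : Subgroup G}
    (hK : IsComponent K) : pCore 2 G = ⊥ := by
  by_contra hR
  haveI := Lib.pCore_characteristic (G := G) 2
  haveI hN : (pCore 2 G).Normal := inferInstance
  have hz := hD.z_mem_center_pCore hR
  have hsolvR : Group.IsSolvable ↥(pCore 2 G) := by
    haveI : Fact (Nat.Prime 2) := ⟨Nat.prime_two⟩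
    haveI : Group.IsNilpotent ↥(pCore 2 G) := (Lib.isPGroup_pCore (G := G) 2).isNilpotent
    infer_instance
  have h1 := Helper22.IsComponent.commutator_eq_bot_of_normal_isSolvable hK (pCore 2 G) hsolvR
  rw [Subgroup.commutator_eq_bot_iff_le_centralizer] at h1
  -- `K` centralizes `z`, hence normalizes `Q`
  have hKN : K ≤ Subgroup.normalizer (Q : Set G) := by
    intro k hk
    apply hD.norm
    exact (Subgroup.mem_centralizer_iff.mp (h1 hk) z hz.1).symm
  have hsolvQ : Group.IsSolvable ↥Q := by
    haveI : Fact (Nat.Prime 2) := ⟨Nat.prime_two⟩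
    haveI : Group.IsNilpotent ↥Q := hD.two.isNilpotent
    infer_instance
  have h2 := Helper21.IsComponent.commutator_eq_bot_of_isSolvable hK Q hsolvQ hKN
  rw [Subgroup.commutator_eq_bot_iff_le_centralizer] at h2
  apply not_le_of_comm hK (A := Subgroup.zpowers z) ?_ ?_
  · intro a ha b hb
    obtain ⟨i, rfl⟩ := Subgroup.mem_zpowers_iff.mp ha
    obtain ⟨j, rfl⟩ := Subgroup.mem_zpowers_iff.mp hb
    exact (Commute.zpow_zpow_self z i j).eq
  · intro k hk
    have h3 := h2 hk
    rcases hD.cent k (fun q hq => Subgroup.mem_centralizer_iff.mp h3 q hq) with h | h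
    · rw [h]; exact Subgroup.one_mem _
    · rw [h]; exact Subgroup.mem_zpowers z

theorem LgData.fittingSubgroup_eq_bot (hD : LgData Q z) {K : Subgroup G}
    (hK : IsComponent K) : fittingSubgroup G = ⊥ := by
  rw [hD.fittingSubgroup_eq, hD.pCore_eq_bot_of_isComponent hK]

/-- **Case II**: if there is a component then `M = E(G) = F*(G)`. -/
theorem LgData.normalClosure_eq_layer (hD : LgData Q z) {K : Subgroup G}
    (hK : IsComponent K) :
    Subgroup.normalClosure ({z} : Set G) = layer G ∧
      generalizedFittingSubgroup G = layer G := by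
  have hF := hD.fittingSubgroup_eq_bot hK
  have hlay1 : layer G ≠ ⊥ := by
    intro h
    have : K ≤ ⊥ := h ▸ Helper22.IsComponent.le_layer hK
    exact Helper22.IsComponent.ne_bot hK (le_bot_iff.mp this)
  refine ⟨le_antisymm (hD.normalClosure_le (layer G) hlay1) ?_, ?_⟩
  · rw [Helper22.layer_le_iff]
    intro L hL
    set M := Subgroup.normalClosure ({z} : Set G) with hM
    have hMN : M.Normal := Subgroup.normalClosure_normal
    have hLM : L ≤ Subgroup.normalizer (M : Set G) := by
      rw [Subgroup.normalizer_eq_top_iff.mpr hMN]; exact le_top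
    rcases Helper21.IsComponent.le_or_commutator_eq_bot hL M hLM with h | h
    · exact h
    · exfalso
      rw [Subgroup.commutator_eq_bot_iff_le_centralizer] at h
      -- `L ≤ C_G(M)`, which is normal, hence `M ≤ ⟨L^G⟩ ≤ C_G(M)`
      have hCN : (Subgroup.centralizer (M : Set G)).Normal := inferInstance
      have hC1 : Subgroup.centralizer (M : Set G) ≠ ⊥ := by
        intro h0
        have : L ≤ ⊥ := h0 ▸ h
        exact Helper22.IsComponent.ne_bot hL (le_bot_iff.mp this)
      have hzC : z ∈ Subgroup.centralizer (M : Set G) := hD.z_mem_of_normal _ hC1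
      have hMC : M ≤ Subgroup.centralizer (M : Set G) := hD.normalClosure_le _ hC1
      -- so `M` is abelian and normal, hence inside `F(G) = 1`
      have hnil : Group.IsNilpotent ↥M := by
        haveI : IsMulCommutative ↥M := ⟨⟨fun a b => Subtype.ext
          (Subgroup.mem_centralizer_iff.mp (hMC b.2) a a.2)⟩⟩
        exact Helper29.isNilpotent_of_isMulCommutative _
      have hMF := Lib.le_fittingSubgroup hMN hnil
      rw [hF] at hMF
      have hzM : z ∈ M := Subgroup.subset_normalClosure (Set.mem_singleton z)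
      have := hMF hzM
      rw [Subgroup.mem_bot] at this
      exact hD.ed.z1 this
  · unfold generalizedFittingSubgroup
    rw [hF, sup_bot_eq]

end Cfsg.Agent.Helper90
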