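import Mathlib
import Cfsg.Prelude.Def_Local
import Cfsg.Agent.Helper9.SubnormalSylow
import Cfsg.Agent.Helper17.PSqQR
import Cfsg.Agent.Helper90.LgCase

set_option autoImplicit false

/-!
A large extraspecial 2-subgroup `Q` of `G` with `F(G) = 1` and a component `K` not normalized by `Q`.
-/

namespace Cfsg.Agent.Helper90

open Cfsg Cfsg.Agent

variable {G : Type*} [Group G]

/-- Squares in an extraspecial 2-group are central. -/
theorem ExtraData.sq_mem {Q : Subgroup G} {z : G} (hE : ExtraData Q z) {q : G} (hq : q ∈ Q) :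
    q * q = 1 ∨ q * q = z := by
  apply hE.cen _ (Q.mul_mem hq hq)
  intro y hy
  rcases hE.comm q hq y hy with h | h
  · have h1 : q * y = y * q := by
      calc q * y = (q * y * q⁻¹ * y⁻¹) * (y * q) := by group
        _ = y * q := by rw [h, one_mul]
    calc y * (q * q) = (y * q) * q := by group
      _ = (q * y) * q := by rw [h1]
      _ = q * (y * q) := by group
      _ = q * (q * y) := by rw [h1]
      _ = q * q * y := by group
  · have h1 : q * y = z * (y * q) := by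
      calc q * y = (q * y * q⁻¹ * y⁻¹) * (y * q) := by group
        _ = z * (y * q) := by rw [h]
    have hzq : q * z = z * q := hE.zc q hq
    calc y * (q * q) = z * z * ((y * q) * q) := by rw [hE.zz, one_mul]; group
      _ = z * ((z * (y * q)) * q) := by group
      _ = z * ((q * y) * q) := by rw [h1]
      _ = z * (q * (y * q)) := by group
      _ = (z * q) * (y * q) := by group
      _ = (q * z) * (y * q) := by rw [hzq]
      _ = q * (z * (y * q)) := by group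
      _ = q * (q * y) := by rw [h1]
      _ = q * q * y := by group

/-- The decomposition of `z` along a component `K`. -/
structure ZDecomp (K : Subgroup G) (z z₁ z₂ : G) : Prop where
  h1 : z₁ ∈ K
  h2 : z₂ ∈ others K
  hz : z = z₁ * z₂

variable [Finite G] {Q : Subgroup G} {z : G}

theorem LgData.z_mem_layer (hD : LgData Q z) {K : Subgroup G} (hK : IsComponent K) :
    z ∈ layer G := by
  have hlay1 : layer G ≠ ⊥ := by
    intro h
    have : K ≤ ⊥ := h ▸ Helper22.IsComponent.le_layer hK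
    exact Helper22.IsComponent.ne_bot hK (le_bot_iff.mp this)
  exact hD.z_mem_of_normal (layer G) hlay1

theorem LgData.exists_zDecomp (hD : LgData Q z) {K : Subgroup G} (hK : IsComponent K) :
    ∃ z₁ z₂ : G, ZDecomp K z z₁ z₂ := by
  obtain ⟨k, hk, k', hk', h⟩ := exists_decomp hK (hD.z_mem_layer hK)
  exact ⟨k, k', hk, hk', h⟩

section
variable {K : Subgroup G} {z₁ z₂ : G}

theorem ZDecomp.comm (hZ : ZDecomp K z z₁ z₂) (hK : IsComponent K) : z₁ * z₂ = z₂ * z₁ :=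
  others_comm hK hZ.h1 hZ.h2

theorem ZDecomp.z₁_ne_one (hZ : ZDecomp K z z₁ z₂) (hD : LgData Q z)
    (hF : fittingSubgroup G = ⊥) (hK : IsComponent K) : z₁ ≠ 1 := by
  intro h
  apply hD.not_le_centralizer hF hK
  intro k hk
  rw [Subgroup.mem_centralizer_singleton_iff, hZ.hz, h, one_mul]
  exact others_comm hK hk hZ.h2

theorem ZDecomp.z₁_sq (hZ : ZDecomp K z z₁ z₂) (hD : LgData Q z)
    (hF : fittingSubgroup G = ⊥) (hK : IsComponent K) : z₁ * z₁ = 1 := by
  have h1 : (z₁ * z₁) * (z₂ * z₂) = 1 * 1 := by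
    have := hD.ed.zz
    rw [hZ.hz] at this
    calc (z₁ * z₁) * (z₂ * z₂) = z₁ * (z₁ * z₂) * z₂ := by group
      _ = z₁ * (z₂ * z₁) * z₂ := by rw [hZ.comm hK]
      _ = (z₁ * z₂) * (z₁ * z₂) := by group
      _ = 1 * 1 := by rw [this, one_mul]
  exact (decomp_unique hF hK (K.mul_mem hZ.h1 hZ.h1) K.one_mem
    ((others K).mul_mem hZ.h2 hZ.h2) (others K).one_mem h1).1

theorem ZDecomp.z₁_inv (hZ : ZDecomp K z z₁ z₂) (hD : LgData Q z)
    (hF : fittingSubgroup G = ⊥) (hK : IsComponent K) : z₁⁻¹ = z₁ :=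
  inv_eq_of_mul_eq_one_left (hZ.z₁_sq hD hF hK)

/-- For `x ∈ K`: commuting with `z` is commuting with `z₁`. -/
theorem ZDecomp.comm_iff (hZ : ZDecomp K z z₁ z₂) (hK : IsComponent K) {x : G} (hx : x ∈ K) :
    x * z = z * x ↔ x * z₁ = z₁ * x := by
  have h2 : x * z₂ = z₂ * x := others_comm hK hx hZ.h2
  rw [hZ.hz]
  constructor
  · intro h
    calc x * z₁ = (x * (z₁ * z₂)) * z₂⁻¹ := by group
      _ = (z₁ * z₂ * x) * z₂⁻¹ := by rw [h]
      _ = z₁ * (z₂ * x) * z₂⁻¹ := by group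
      _ = z₁ * (x * z₂) * z₂⁻¹ := by rw [h2]
      _ = z₁ * x := by group
  · intro h
    calc x * (z₁ * z₂) = (x * z₁) * z₂ := by group
      _ = (z₁ * x) * z₂ := by rw [h]
      _ = z₁ * (x * z₂) := by group
      _ = z₁ * (z₂ * x) := by rw [h2]
      _ = z₁ * z₂ * x := by group

/-- **Key lemma**: squares of `C_K(z)` lie in `{1, z₁}` as soon as `Q` moves `K`. -/
theorem ZDecomp.sq_of_comm (hZ : ZDecomp K z z₁ z₂) (hD : LgData Q z)
    (hF : fittingSubgroup G = ⊥) (hK : IsComponent K) {v : G} (hv : v ∈ Q)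
    (hne : K.map (MulAut.conj v).toMonoidHom ≠ K) {x : G} (hx : x ∈ K) (hxz : x * z = z * x) :
    x * x = 1 ∨ x * x = z₁ := by
  have hKv := isComponent_conj hK v
  have hxN : x ∈ Subgroup.normalizer (Q : Set G) := hD.norm x hxz
  have haQ : x⁻¹ * (v * x * v⁻¹) ∈ Q := by
    have h1 := inv_conj_mem_of_mem_normalizer hxN hv
    have h2 := Q.mul_mem h1 (Q.inv_mem hv)
    have e : x⁻¹ * v * x * v⁻¹ = x⁻¹ * (v * x * v⁻¹) := by group
    rwa [e] at h2
  have hc : (v * x * v⁻¹) * x⁻¹ = x⁻¹ * (v * x * v⁻¹) :=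
    comm_of_ne hKv hK hne (conj_mem_map_conj K v hx) (K.inv_mem hx)
  have hsq : (x⁻¹ * (v * x * v⁻¹)) * (x⁻¹ * (v * x * v⁻¹)) =
      (x⁻¹ * x⁻¹) * (v * (x * x) * v⁻¹) := by
    calc (x⁻¹ * (v * x * v⁻¹)) * (x⁻¹ * (v * x * v⁻¹))
        = x⁻¹ * ((v * x * v⁻¹) * x⁻¹) * (v * x * v⁻¹) := by group
      _ = x⁻¹ * (x⁻¹ * (v * x * v⁻¹)) * (v * x * v⁻¹) := by rw [hc]
      _ = (x⁻¹ * x⁻¹) * (v * (x * x) * v⁻¹) := by group
  have hk : x⁻¹ * x⁻¹ ∈ K := K.mul_mem (K.inv_mem hx) (K.inv_mem hx)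
  have hk' : v * (x * x) * v⁻¹ ∈ others K :=
    le_others hK hKv hne (conj_mem_map_conj K v (K.mul_mem hx hx))
  rcases hD.ed.sq_mem haQ with h | h
  · left
    rw [hsq] at h
    have h1 : (x⁻¹ * x⁻¹) * (v * (x * x) * v⁻¹) = 1 * 1 := by rw [h, one_mul]
    have h2 := (decomp_unique hF hK hk K.one_mem hk' (others K).one_mem h1).1
    calc x * x = (x⁻¹ * x⁻¹)⁻¹ := by rw [mul_inv_rev, inv_inv]
      _ = 1 := by rw [h2, inv_one]
  · right
    rw [hsq, hZ.hz] at h
    have h2 := (decomp_unique hF hK hk hZ.h1 hk' hZ.h2 h).1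
    calc x * x = (x⁻¹ * x⁻¹)⁻¹ := by rw [mul_inv_rev, inv_inv]
      _ = z₁⁻¹ := by rw [h2]
      _ = z₁ := hZ.z₁_inv hD hF hK

end

end Cfsg.Agent.Helper90
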