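import Mathlib
import Cfsg.Prelude.Def_MonsterType
import Cfsg.Agent.Helper90.Extra
import Cfsg.Agent.Helper90.LgTwo

set_option autoImplicit false

/-!
The squaring map of an extraspecial 2-subgroup as a `ZMod 2`-valued quadratic function.
-/

namespace Cfsg.Agent.Helper90

open Cfsg

variable {G : Type*} [Group G]

open Classical in
/-- `0` when `q` squares to `1`, and `1` otherwise. -/
noncomputable def sqv (q : G) : ZMod 2 := if q * q = 1 then 0 else 1

open Classical in
/-- `0` when `a`, `b` commute, and `1` otherwise. -/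
noncomputable def cmv (a b : G) : ZMod 2 := if a * b * a⁻¹ * b⁻¹ = 1 then 0 else 1

theorem sqv_of_sq_eq_one {q : G} (h : q * q = 1) : sqv q = 0 := by
  unfold sqv; rw [if_pos h]

theorem sq_eq_one_of_sqv {q : G} (h : sqv q = 0) : q * q = 1 := by
  unfold sqv at h
  by_contra hq
  rw [if_neg hq] at h
  exact absurd h (by decide)

theorem sqv_conj (h q : G) : sqv (h * q * h⁻¹) = sqv q := by
  unfold sqv
  have e : h * q * h⁻¹ * (h * q * h⁻¹) = h * (q * q) * h⁻¹ := by group
  have hiff : h * q * h⁻¹ * (h * q * h⁻¹) = 1 ↔ q * q = 1 := by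
    rw [e]
    constructor
    · intro h1
      calc q * q = h⁻¹ * (h * (q * q) * h⁻¹) * h := by group
        _ = 1 := by rw [h1]; group
    · intro h1
      rw [h1]; group
  by_cases hq : q * q = 1
  · rw [if_pos hq, if_pos (hiff.mpr hq)]
  · rw [if_neg hq, if_neg (fun h1 => hq (hiff.mp h1))]

open Classical in
/-- `0` at `1`, and `1` elsewhere. -/
noncomputable def val1 (c : G) : ZMod 2 := if c = 1 then 0 else 1

theorem sqv_eq_val1 (q : G) : sqv q = val1 (q * q) := rfl

theorem cmv_eq_val1 (a b : G) : cmv a b = val1 (a * b * a⁻¹ * b⁻¹) := rfl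

theorem ExtraData.val1_mul {Q : Subgroup G} {z : G} (hE : ExtraData Q z) {c d : G}
    (hc : c = 1 ∨ c = z) (hd : d = 1 ∨ d = z) : val1 (c * d) = val1 c + val1 d := by
  have hz1 := hE.z1
  have hzz := hE.zz
  have h0 : val1 (1 : G) = 0 := by unfold val1; rw [if_pos rfl]
  have hz : val1 z = 1 := by unfold val1; rw [if_neg hz1]
  rcases hc with hc | hc <;> rcases hd with hd | hd
  · rw [hc, hd, mul_one, h0]; decide
  · rw [hc, hd, one_mul, h0, hz]; decide
  · rw [hc, hd, mul_one, h0, hz]; decide
  · rw [hc, hd, hzz, h0, hz]; decide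

/-- value of a product -/
theorem ExtraData.sqv_mul {Q : Subgroup G} {z : G} (hE : ExtraData Q z) {a b : G}
    (ha : a ∈ Q) (hb : b ∈ Q) : sqv (a * b) = sqv a + sqv b + cmv a b := by
  have hz1 := hE.z1
  have hzz := hE.zz
  -- the commutator is central
  have hc : a * b * a⁻¹ * b⁻¹ = 1 ∨ a * b * a⁻¹ * b⁻¹ = z := hE.comm a ha b hb
  have hca : (a * b * a⁻¹ * b⁻¹) * a = a * (a * b * a⁻¹ * b⁻¹) := by
    rcases hc with hc | hc
    · rw [hc, one_mul, mul_one]
    · rw [hc]; exact (hE.zc a ha).symm
  have hcc : (a * b * a⁻¹ * b⁻¹) * (a * b * a⁻¹ * b⁻¹) = 1 := by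
    rcases hc with hc | hc
    · rw [hc, one_mul]
    · rw [hc]; exact hzz
  have key : ∀ c : G, a * b * a⁻¹ * b⁻¹ = c → c * a = a * c → c * c = 1 →
      (a * b) * (a * b) = c * (a * a) * (b * b) := by
    intro c hc1 hca hcc
    have hba : b * a = c * (a * b) := by
      have h1 : c * (b * a) = a * b := by rw [← hc1]; group
      calc b * a = (c * c) * (b * a) := by rw [hcc, one_mul]
        _ = c * (c * (b * a)) := by group
        _ = c * (a * b) := by rw [h1]
    calc (a * b) * (a * b) = a * (b * a) * b := by group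
      _ = a * (c * (a * b)) * b := by rw [hba]
      _ = (a * c) * a * b * b := by group
      _ = (c * a) * a * b * b := by rw [hca]
      _ = c * (a * a) * (b * b) := by group
  have h1 := key _ rfl hca hcc
  have haa := hE.sq_mem ha
  have hbb := hE.sq_mem hb
  have hcaa : (a * b * a⁻¹ * b⁻¹) * (a * a) = 1 ∨ (a * b * a⁻¹ * b⁻¹) * (a * a) = z := by
    rcases hc with hc | hc <;> rcases haa with h2 | h2
    · left; rw [hc, h2, mul_one]
    · right; rw [hc, h2, one_mul]
    · right; rw [hc, h2, mul_one]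
    · left; rw [hc, h2, hzz]
  rw [sqv_eq_val1, h1, hE.val1_mul hcaa hbb, hE.val1_mul hc haa, sqv_eq_val1, sqv_eq_val1,
    cmv_eq_val1]
  ring

theorem ExtraData.cmv_mul_left {Q : Subgroup G} {z : G} (hE : ExtraData Q z) {a b c : G}
    (ha : a ∈ Q) (hb : b ∈ Q) (hc : c ∈ Q) : cmv (a * b) c = cmv a c + cmv b c := by
  have hz1 := hE.z1
  have hzz := hE.zz
  have hd := hE.comm b hb c hc
  have hda : (b * c * b⁻¹ * c⁻¹) * a⁻¹ = a⁻¹ * (b * c * b⁻¹ * c⁻¹) := by
    rcases hd with hd | hd
    · rw [hd, one_mul, mul_one]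
    · rw [hd]; exact (hE.zc _ (Q.inv_mem ha)).symm
  have key : ∀ d : G, b * c * b⁻¹ * c⁻¹ = d → d * a⁻¹ = a⁻¹ * d →
      (a * b) * c * (a * b)⁻¹ * c⁻¹ = d * (a * c * a⁻¹ * c⁻¹) := by
    intro d hd hda
    calc (a * b) * c * (a * b)⁻¹ * c⁻¹ = a * (b * c * b⁻¹ * c⁻¹) * (c * a⁻¹ * c⁻¹) := by group
      _ = a * d * (c * a⁻¹ * c⁻¹) := by rw [hd]
      _ = a * (d * a⁻¹) * (a * c * a⁻¹ * c⁻¹) := by group
      _ = a * (a⁻¹ * d) * (a * c * a⁻¹ * c⁻¹) := by rw [hda]
      _ = d * (a * c * a⁻¹ * c⁻¹) := by group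
  have h2 := key _ rfl hda
  rw [cmv_eq_val1, h2, hE.val1_mul hd (hE.comm a ha c hc), cmv_eq_val1, cmv_eq_val1]
  ring

/-- The cubic identity of the squaring map. -/
theorem ExtraData.sqv_cubic {Q : Subgroup G} {z : G} (hE : ExtraData Q z) {a b c : G}
    (ha : a ∈ Q) (hb : b ∈ Q) (hc : c ∈ Q) :
    sqv (a * b * c) + sqv a + sqv b + sqv c = sqv (a * b) + sqv (a * c) + sqv (b * c) := by
  rw [hE.sqv_mul (Q.mul_mem ha hb) hc, hE.sqv_mul ha hb, hE.sqv_mul ha hc, hE.sqv_mul hb hc,
    hE.cmv_mul_left ha hb hc]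
  generalize sqv a = x1
  generalize sqv b = x2
  generalize sqv c = x3
  generalize cmv a b = x4
  generalize cmv a c = x5
  generalize cmv b c = x6
  revert x1 x2 x3 x4 x5 x6
  decide

/-- The squaring value is constant on cosets of the centre. -/
theorem ExtraData.sqv_mul_central {Q : Subgroup G} {z : G} (hE : ExtraData Q z) {q c : G}
    (hq : q ∈ Q) (hc : c = 1 ∨ c = z) : sqv (q * c) = sqv q := by
  rcases hc with hc | hc
  · rw [hc, mul_one]
  · rw [hc]
    unfold sqv
    have e : q * z * (q * z) = q * q := by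
      calc q * z * (q * z) = q * (z * q) * z := by group
        _ = q * (q * z) * z := by rw [hE.zc q hq]
        _ = q * q * (z * z) := by group
        _ = q * q := by rw [hE.zz, mul_one]
    rw [e]

/-- Some element of `Q` has order four when `Q` has more than two elements. -/
theorem ExtraData.exists_sqv_ne_zero [Finite G] {Q : Subgroup G} {z : G} (hE : ExtraData Q z)
    (hcard : 2 < Nat.card ↥Q) : ∃ q ∈ Q, sqv q ≠ 0 := by
  by_contra hcon
  push Not at hcon
  have hsq : ∀ q ∈ Q, q * q = 1 := fun q hq => sq_eq_one_of_sqv (hcon q hq)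
  have hcomm : ∀ a ∈ Q, ∀ b ∈ Q, b * a = a * b := by
    intro a ha b hb
    have h1 := hsq _ (Q.mul_mem ha hb)
    have h2 := hsq a ha
    have h3 := hsq b hb
    calc b * a = (a * a) * (b * a) * (b * b) := by rw [h2, h3, one_mul, mul_one]
      _ = a * ((a * b) * (a * b)) * b := by group
      _ = a * b := by rw [h1, mul_one]
  have hall : ∀ a ∈ Q, a = 1 ∨ a = z := fun a ha => hE.cen a ha (fun b hb => hcomm a ha b hb)
  have hle : Nat.card ↥Q ≤ 2 := by
    classical
    have : Fintype ↥Q := Fintype.ofFinite _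
    rw [Nat.card_eq_fintype_card]
    have hinj : Function.Injective (fun q : ↥Q => decide ((q : G) = z)) := by
      intro x y hxy0
      have hxy : decide ((x : G) = z) = decide ((y : G) = z) := hxy0
      apply Subtype.ext
      have hx := hall x x.2
      have hy := hall y y.2
      by_cases hxz : (x : G) = z
      · have : decide ((y : G) = z) = true := by rw [← hxy]; exact decide_eq_true hxz
        have hyz := of_decide_eq_true this
        rw [hxz, hyz]
      · have : decide ((y : G) = z) = false := by rw [← hxy]; exact decide_eq_false hxz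
        have hyz := of_decide_eq_false this
        rcases hx with hx | hx
        · rcases hy with hy | hy
          · rw [hx, hy]
          · exact absurd hy hyz
        · exact absurd hx hxz
    have := Fintype.card_le_of_injective _ hinj
    simpa using this
  omega

end Cfsg.Agent.Helper90
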