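import Mathlib
import Cfsg.Prelude.Def_MonsterType
import Cfsg.Agent.Helper90.MonSq
import Cfsg.Agent.Helper90.MonL4
import Cfsg.Agent.S5552

set_option autoImplicit false

/-!
In a group of Monster type, the squaring map of `Q` is the quadratic form of the Leech lattice
modulo 2.
-/

namespace Cfsg.Agent.Helper90

open Cfsg

variable {G : Type*} [Group G] {z : G}
  {Q : Subgroup (Subgroup.centralizer ({z} : Set G))}

/-- the squaring value on `Q / Z(Q)` -/
noncomputable def sqvBar (x : Q ⧸ Subgroup.center Q) : ZMod 2 :=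
  sqv (((x.out : Q)) : Subgroup.centralizer ({z} : Set G))

theorem sqvBar_mk {z' : Subgroup.centralizer ({z} : Set G)} (hE : ExtraData Q z') (q : Q) :
    sqvBar (QuotientGroup.mk q : Q ⧸ Subgroup.center Q) =
      sqv (q : Subgroup.centralizer ({z} : Set G)) := by
  unfold sqvBar
  obtain ⟨c, hc⟩ := QuotientGroup.mk_out_eq_mul (Subgroup.center Q) q
  rw [hc, Subgroup.coe_mul]
  apply hE.sqv_mul_central q.2
  apply hE.zall
  exact ⟨(c : Q), c.2, rfl⟩

/-- The squaring map of `Q` is the quadratic form of the Leech lattice. -/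
theorem sqvBar_psi [Finite G] [Q.Normal] {z' : Subgroup.centralizer ({z} : Set G)}
    (hE : ExtraData Q z') (hcard : 2 < Nat.card ↥Q)
    {e : (Subgroup.centralizer ({z} : Set G)) ⧸ Q ≃* Spor.Co1}
    {ψ : leechLattice → Q ⧸ Subgroup.center Q} (hψ : IsLeechModTwoIso Q e ψ)
    (v : leechLattice) :
    sqvBar (ψ v) = ((sqNorm (v : GolayPt → ℤ) / 16 : ℤ) : ZMod 2) := by
  obtain ⟨hadd, hsurj, hker, hact⟩ := hψ
  apply Cfsg.Agent.S5552.result (fun v => sqvBar (ψ v))
  · intro v w
    show sqvBar (ψ (v + (w + w))) = sqvBar (ψ v)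
    rw [hadd, (hker (w + w)).2 ⟨w, rfl⟩, mul_one]
  · intro u v w
    show sqvBar (ψ (u + v + w)) + sqvBar (ψ u) + sqvBar (ψ v) + sqvBar (ψ w) =
      sqvBar (ψ (u + v)) + sqvBar (ψ (u + w)) + sqvBar (ψ (v + w))
    have hu : ψ u = QuotientGroup.mk (ψ u).out := (QuotientGroup.out_eq' _).symm
    have hv : ψ v = QuotientGroup.mk (ψ v).out := (QuotientGroup.out_eq' _).symm
    have hw : ψ w = QuotientGroup.mk (ψ w).out := (QuotientGroup.out_eq' _).symm
    generalize (ψ u).out = a at hu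
    generalize (ψ v).out = b at hv
    generalize (ψ w).out = c at hw
    simp only [hadd]
    rw [hu, hv, hw]
    simp only [← QuotientGroup.mk_mul, sqvBar_mk hE, Subgroup.coe_mul]
    exact hE.sqv_cubic a.2 b.2 c.2
  · intro g v
    show sqvBar (ψ (g • v)) = sqvBar (ψ v)
    obtain ⟨hbar, hh⟩ := e.surjective (QuotientGroup.mk g : Spor.Co1)
    obtain ⟨h, rfl⟩ := QuotientGroup.mk_surjective hbar
    have hv : ψ v = QuotientGroup.mk (ψ v).out := (QuotientGroup.out_eq' _).symm
    generalize (ψ v).out = q at hv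
    rw [hact h g hh.symm v q hv, hv, sqvBar_mk hE, sqvBar_mk hE]
    exact sqv_conj h (q : Subgroup.centralizer ({z} : Set G))
  · obtain ⟨q, hqQ, hq⟩ := hE.exists_sqv_ne_zero hcard
    obtain ⟨v, hv⟩ := hsurj (QuotientGroup.mk ⟨q, hqQ⟩)
    refine ⟨v, ?_⟩
    show sqvBar (ψ v) ≠ 0
    rw [hv, sqvBar_mk hE]
    exact hq

end Cfsg.Agent.Helper90
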