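import Mathlib
import Cfsg.Prelude.Def_MonsterType
import Cfsg.Agent.Helper90.MonQuad
import Cfsg.Agent.Helper8.LeechClasses
import Cfsg.Agent.Helper8.Co0Center

set_option autoImplicit false

/-!
Basic facts on an identification `ψ` of the Leech lattice modulo 2 with `Q / Z(Q)`.
-/

namespace Cfsg.Agent.Helper90

open Cfsg

variable {G : Type*} [Group G] {z : G}
  {Q : Subgroup (Subgroup.centralizer ({z} : Set G))}

/-- `z` as an element of its centralizer -/
def zC (z : G) : Subgroup.centralizer ({z} : Set G) :=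
  ⟨z, Subgroup.mem_centralizer_singleton_iff.mpr rfl⟩

theorem zC_val (z : G) : ((zC z : Subgroup.centralizer ({z} : Set G)) : G) = z := rfl

theorem zC_comm (c : Subgroup.centralizer ({z} : Set G)) : c * zC z = zC z * c := by
  apply Subtype.ext
  rw [Subgroup.coe_mul, Subgroup.coe_mul, zC_val]
  exact Subgroup.mem_centralizer_singleton_iff.mp c.2

/-- equality in `Q / Z(Q)` -/
theorem mk_eq_cases {z' : Subgroup.centralizer ({z} : Set G)} (hE : ExtraData Q z') (a b : Q)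
    (h : (QuotientGroup.mk a : Q ⧸ Subgroup.center Q) = QuotientGroup.mk b) :
    (a : Subgroup.centralizer ({z} : Set G)) = b ∨
      (a : Subgroup.centralizer ({z} : Set G)) = z' * b := by
  rw [QuotientGroup.eq] at h
  have h1 : ((a⁻¹ * b : Q) : Subgroup.centralizer ({z} : Set G)) ∈
      (Subgroup.center ↥Q).map Q.subtype := ⟨a⁻¹ * b, h, rfl⟩
  rcases hE.zall _ h1 with h2 | h2
  · left
    rw [Subgroup.coe_mul, Subgroup.coe_inv] at h2
    exact inv_mul_eq_one.mp h2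
  · right
    rw [Subgroup.coe_mul, Subgroup.coe_inv] at h2
    have h3 : (b : Subgroup.centralizer ({z} : Set G)) = a * z' := by
      rw [← h2]; group
    rw [h3, hE.zc a a.2, ← mul_assoc, hE.zz, one_mul]

theorem mk_eq_of_eq_mul {z' : Subgroup.centralizer ({z} : Set G)} (hE : ExtraData Q z') (a b : Q)
    (h : (a : Subgroup.centralizer ({z} : Set G)) = z' * b) :
    (QuotientGroup.mk a : Q ⧸ Subgroup.center Q) = QuotientGroup.mk b := by
  rw [QuotientGroup.eq]
  obtain ⟨c, hc, hcz⟩ := hE.zmem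
  have h1 : a⁻¹ * b = c := by
    apply Subtype.ext
    rw [Subgroup.coe_mul, Subgroup.coe_inv, h]
    change _ = Q.subtype c
    rw [hcz, mul_inv_rev, hE.z_inv]
    have := hE.zc b b.2
    calc (b : Subgroup.centralizer ({z} : Set G))⁻¹ * z' * b = (b : Subgroup.centralizer ({z} : Set G))⁻¹ * (z' * b) := by group
      _ = (b : Subgroup.centralizer ({z} : Set G))⁻¹ * (b * z') := by rw [this]
      _ = z' := by group
  rw [h1]
  exact hc

section psi

variable [Q.Normal] {e : (Subgroup.centralizer ({z} : Set G)) ⧸ Q ≃* Spor.Co1}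
  {ψ : leechLattice → Q ⧸ Subgroup.center Q}

theorem psi_zero (hψ : IsLeechModTwoIso Q e ψ) : ψ 0 = 1 :=
  (hψ.2.2.1 0).2 ⟨0, by simp⟩

theorem psi_double (hψ : IsLeechModTwoIso Q e ψ) (u : leechLattice) : ψ (u + u) = 1 :=
  (hψ.2.2.1 (u + u)).2 ⟨u, rfl⟩

theorem psi_mul_self (hψ : IsLeechModTwoIso Q e ψ) (u : leechLattice) : ψ u * ψ u = 1 := by
  rw [← hψ.1, psi_double hψ]

theorem psi_neg (hψ : IsLeechModTwoIso Q e ψ) (u : leechLattice) : ψ (-u) = ψ u := by
  have h1 : ψ (-u) * ψ u = 1 := by rw [← hψ.1, neg_add_cancel, psi_zero hψ]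
  have h2 := psi_mul_self hψ u
  calc ψ (-u) = ψ (-u) * (ψ u * ψ u) := by rw [h2, mul_one]
    _ = (ψ (-u) * ψ u) * ψ u := by group
    _ = ψ u := by rw [h1, one_mul]

theorem psi_eq_iff (hψ : IsLeechModTwoIso Q e ψ) (v w : leechLattice) :
    ψ v = ψ w ↔ ∃ u : leechLattice, v = w + (u + u) := by
  constructor
  · intro h
    have h1 : ψ (v + -w) = 1 := by
      rw [hψ.1, psi_neg hψ, h, psi_mul_self hψ]
    obtain ⟨u, hu⟩ := (hψ.2.2.1 _).1 h1
    refine ⟨u, ?_⟩
    rw [← hu]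
    abel
  · rintro ⟨u, rfl⟩
    rw [hψ.1, psi_double hψ, mul_one]

/-- every element of `Q / Z(Q)` is the image of a short vector -/
theorem exists_short (hψ : IsLeechModTwoIso Q e ψ) (x : Q ⧸ Subgroup.center Q) :
    ∃ v : leechLattice, ψ v = x ∧
      (v = 0 ∨ sqNorm (v : GolayPt → ℤ) = 32 ∨ sqNorm (v : GolayPt → ℤ) = 48 ∨
        sqNorm (v : GolayPt → ℤ) = 64) := by
  obtain ⟨v₀, hv₀⟩ := hψ.2.1 x
  obtain ⟨y, hy, hy64, w, hw, hvy⟩ := Cfsg.Agent.Helper8.exists_short_congruent v₀.2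
  refine ⟨⟨y, hy⟩, ?_, ?_⟩
  · rw [← hv₀]
    symm
    rw [psi_eq_iff hψ]
    refine ⟨⟨w, hw⟩, ?_⟩
    apply Subtype.ext
    rw [AddSubgroup.coe_add, AddSubgroup.coe_add]
    change (v₀ : GolayPt → ℤ) = y + (w + w)
    rw [← two_smul ℤ w]
    change (v₀ : GolayPt → ℤ) = y + (2 : ℤ) • w
    have : (2 : ℤ) • w = (2 : ℕ) • w := by
      rw [two_smul, two_smul]
    rw [this, ← hvy]
    abel
  · by_cases h0 : y = 0
    · left
      exact Subtype.ext h0
    · right
      have h32 := Cfsg.Agent.Helper92.thirtytwo_le_sqNorm hy h0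
      obtain ⟨k, hk⟩ := Cfsg.Agent.Helper92.sixteen_dvd_sqNorm hy
      change sqNorm y = 32 ∨ sqNorm y = 48 ∨ sqNorm y = 64
      omega

/-- congruent vectors of sum of squares `32` are equal or opposite -/
theorem eq_or_neg_of_psi_eq (hψ : IsLeechModTwoIso Q e ψ) {v w : leechLattice}
    (hv : sqNorm (v : GolayPt → ℤ) = 32) (hw : sqNorm (w : GolayPt → ℤ) = 32)
    (h : ψ w = ψ v) : w = v ∨ w = -v := by
  obtain ⟨u, hu⟩ := (psi_eq_iff hψ w v).1 h
  have hphi : Cfsg.Agent.Helper8.phi (v : GolayPt → ℤ) = Cfsg.Agent.Helper8.phi (w : GolayPt → ℤ) := by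
    rw [Cfsg.Agent.Helper8.phi_eq_iff]
    refine ⟨-(u : GolayPt → ℤ), leechLattice.neg_mem u.2, ?_⟩
    rw [hu, AddSubgroup.coe_add, AddSubgroup.coe_add, two_smul]
    abel
  rcases Cfsg.Agent.Helper8.short_cases v.2 w.2 (by omega) (by omega) hphi with h1 | h1 | ⟨h1, -, -⟩
  · left; exact Subtype.ext h1
  · right; exact Subtype.ext h1
  · omega

end psi

end Cfsg.Agent.Helper90
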