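import Mathlib
import Cfsg.Prelude.Def_MonsterType
import Cfsg.Agent.Helper90.MonPsi
import Cfsg.Agent.Helper90.LgInv

set_option autoImplicit false

/-!
Groups of Monster type: the map from `C(z) ∩ C(t)` onto the centralizer of the image of `z` in
`C(t) / ⟨t⟩`, for an involution `t ∈ Q` not conjugate to `z`.
-/

namespace Cfsg.Agent.Helper90

open Cfsg

theorem eq_one_or_of_mem_zpowers {G : Type*} [Group G] {t x : G} (ht : orderOf t = 2)
    (hx : x ∈ Subgroup.zpowers t) : x = 1 ∨ x = t := by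
  obtain ⟨k, rfl⟩ := Subgroup.mem_zpowers_iff.1 hx
  rw [← zpow_mod_orderOf, ht]
  rcases Int.emod_two_eq_zero_or_one k with h | h
  · left
    rw [show k % ((2 : ℕ) : ℤ) = 0 from h, zpow_zero]
  · right
    rw [show k % ((2 : ℕ) : ℤ) = 1 from h, zpow_one]

variable {G : Type*} [Group G] {z : G} {Q : Subgroup (Subgroup.centralizer ({z} : Set G))}

theorem z_mem_centralizer (t₀ : Q) :
    z ∈ Subgroup.centralizer ({((t₀ : Subgroup.centralizer ({z} : Set G)) : G)} : Set G) := by
  rw [Subgroup.mem_centralizer_singleton_iff]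
  exact (Subgroup.mem_centralizer_singleton_iff.1 (t₀ : Subgroup.centralizer ({z} : Set G)).2).symm

/-- the inclusion of `C(z) ∩ C(t)` in `C(t)` -/
def jt (t₀ : Q) :
    ↥(Subgroup.centralizer ({(t₀ : Subgroup.centralizer ({z} : Set G))} :
      Set (Subgroup.centralizer ({z} : Set G)))) →*
    ↥(Subgroup.centralizer ({((t₀ : Subgroup.centralizer ({z} : Set G)) : G)} : Set G)) where
  toFun h := ⟨((h : Subgroup.centralizer ({z} : Set G)) : G), by
    rw [Subgroup.mem_centralizer_singleton_iff]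
    have := congrArg Subtype.val (Subgroup.mem_centralizer_singleton_iff.1 h.2)
    rwa [Subgroup.coe_mul, Subgroup.coe_mul] at this⟩
  map_one' := rfl
  map_mul' := fun _ _ => rfl

theorem jt_val (t₀ : Q) (h : ↥(Subgroup.centralizer ({(t₀ : Subgroup.centralizer ({z} : Set G))} :
      Set (Subgroup.centralizer ({z} : Set G))))) :
    ((jt t₀ h : ↥(Subgroup.centralizer ({((t₀ : Subgroup.centralizer ({z} : Set G)) : G)} : Set G))) : G) =
      ((h : Subgroup.centralizer ({z} : Set G)) : G) := rfl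

/-- the element `z` of `C(z) ∩ C(t)` -/
def zHt (t₀ : Q) : ↥(Subgroup.centralizer ({(t₀ : Subgroup.centralizer ({z} : Set G))} :
      Set (Subgroup.centralizer ({z} : Set G)))) :=
  ⟨zC z, Subgroup.mem_centralizer_singleton_iff.2 (zC_comm _).symm⟩

/-- the element `t` of `C(z) ∩ C(t)` -/
def tHt (t₀ : Q) : ↥(Subgroup.centralizer ({(t₀ : Subgroup.centralizer ({z} : Set G))} :
      Set (Subgroup.centralizer ({z} : Set G)))) :=
  ⟨t₀, Subgroup.mem_centralizer_singleton_iff.2 rfl⟩

theorem zHt_comm (t₀ : Q) (h : ↥(Subgroup.centralizer ({(t₀ : Subgroup.centralizer ({z} : Set G))} :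
      Set (Subgroup.centralizer ({z} : Set G))))) : h * zHt t₀ = zHt t₀ * h := by
  apply Subtype.ext
  exact zC_comm _

theorem tHt_comm (t₀ : Q) (h : ↥(Subgroup.centralizer ({(t₀ : Subgroup.centralizer ({z} : Set G))} :
      Set (Subgroup.centralizer ({z} : Set G))))) : h * tHt t₀ = tHt t₀ * h := by
  apply Subtype.ext
  exact Subgroup.mem_centralizer_singleton_iff.1 h.2

section quot

variable (t₀ : Q)
  [hn : ((Subgroup.zpowers ((t₀ : Subgroup.centralizer ({z} : Set G)) : G)).subgroupOf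
    (Subgroup.centralizer ({((t₀ : Subgroup.centralizer ({z} : Set G)) : G)} : Set G))).Normal]

/-- the image of `z` in `C(t) / ⟨t⟩` -/
def zbar : ↥(Subgroup.centralizer ({((t₀ : Subgroup.centralizer ({z} : Set G)) : G)} : Set G)) ⧸
    (Subgroup.zpowers ((t₀ : Subgroup.centralizer ({z} : Set G)) : G)).subgroupOf
      (Subgroup.centralizer ({((t₀ : Subgroup.centralizer ({z} : Set G)) : G)} : Set G)) :=
  QuotientGroup.mk ⟨z, z_mem_centralizer t₀⟩

/-- the map from `C(z) ∩ C(t)` to `C(t) / ⟨t⟩` -/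
def Phi0 : ↥(Subgroup.centralizer ({(t₀ : Subgroup.centralizer ({z} : Set G))} :
      Set (Subgroup.centralizer ({z} : Set G)))) →*
    ↥(Subgroup.centralizer ({((t₀ : Subgroup.centralizer ({z} : Set G)) : G)} : Set G)) ⧸
    (Subgroup.zpowers ((t₀ : Subgroup.centralizer ({z} : Set G)) : G)).subgroupOf
      (Subgroup.centralizer ({((t₀ : Subgroup.centralizer ({z} : Set G)) : G)} : Set G)) :=
  (QuotientGroup.mk' _).comp (jt t₀)

theorem Phi0_zHt : Phi0 t₀ (zHt t₀) = zbar t₀ := rfl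

theorem Phi0_mem (h : ↥(Subgroup.centralizer ({(t₀ : Subgroup.centralizer ({z} : Set G))} :
      Set (Subgroup.centralizer ({z} : Set G))))) :
    Phi0 t₀ h ∈ Subgroup.centralizer ({zbar t₀} : Set _) := by
  rw [Subgroup.mem_centralizer_singleton_iff, ← Phi0_zHt, ← map_mul, ← map_mul, zHt_comm]

/-- the map from `C(z) ∩ C(t)` to the centralizer of the image of `z` in `C(t) / ⟨t⟩` -/
def PhiC : ↥(Subgroup.centralizer ({(t₀ : Subgroup.centralizer ({z} : Set G))} :
      Set (Subgroup.centralizer ({z} : Set G)))) →*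
    ↥(Subgroup.centralizer ({zbar t₀} : Set (↥(Subgroup.centralizer
      ({((t₀ : Subgroup.centralizer ({z} : Set G)) : G)} : Set G)) ⧸
    (Subgroup.zpowers ((t₀ : Subgroup.centralizer ({z} : Set G)) : G)).subgroupOf
      (Subgroup.centralizer ({((t₀ : Subgroup.centralizer ({z} : Set G)) : G)} : Set G))))) :=
  (Phi0 t₀).codRestrict _ (Phi0_mem t₀)

theorem PhiC_val (h : ↥(Subgroup.centralizer ({(t₀ : Subgroup.centralizer ({z} : Set G))} :
      Set (Subgroup.centralizer ({z} : Set G))))) :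
    ((PhiC t₀ h : ↥(Subgroup.centralizer ({zbar t₀} : Set _))) : _ ⧸ _) = Phi0 t₀ h := rfl

/-- the kernel -/
theorem Phi0_eq_one_iff (ht2 : orderOf ((t₀ : Subgroup.centralizer ({z} : Set G)) : G) = 2)
    (h : ↥(Subgroup.centralizer ({(t₀ : Subgroup.centralizer ({z} : Set G))} :
      Set (Subgroup.centralizer ({z} : Set G))))) :
    Phi0 t₀ h = 1 ↔ h = 1 ∨ h = tHt t₀ := by
  show (QuotientGroup.mk (jt t₀ h) : _ ⧸ _) = 1 ↔ _
  rw [QuotientGroup.eq_one_iff, Subgroup.mem_subgroupOf, jt_val]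
  constructor
  · intro h1
    rcases eq_one_or_of_mem_zpowers ht2 h1 with h2 | h2
    · left
      apply Subtype.ext
      apply Subtype.ext
      exact h2
    · right
      apply Subtype.ext
      apply Subtype.ext
      exact h2
  · rintro (rfl | rfl)
    · exact Subgroup.one_mem _
    · exact Subgroup.mem_zpowers _

theorem PhiC_eq_one_iff (ht2 : orderOf ((t₀ : Subgroup.centralizer ({z} : Set G)) : G) = 2)
    (h : ↥(Subgroup.centralizer ({(t₀ : Subgroup.centralizer ({z} : Set G))} :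
      Set (Subgroup.centralizer ({z} : Set G))))) :
    PhiC t₀ h = 1 ↔ h = 1 ∨ h = tHt t₀ := by
  rw [← Phi0_eq_one_iff t₀ ht2 h, ← PhiC_val, Subtype.ext_iff]
  rfl

/-- `z t` is conjugate to `t` -/
theorem isConj_mul (hE : ExtraData Q (zC z))
    (ht1 : (t₀ : Subgroup.centralizer ({z} : Set G)) ≠ 1)
    (htz : (t₀ : Subgroup.centralizer ({z} : Set G)) ≠ zC z) :
    IsConj ((t₀ : Subgroup.centralizer ({z} : Set G)) : G)
      (z * ((t₀ : Subgroup.centralizer ({z} : Set G)) : G)) := by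
  obtain ⟨y, -, hy⟩ := hE.exists_conj_inv t₀.2 ht1 htz
  rw [isConj_iff]
  refine ⟨(y : G), ?_⟩
  have := congrArg Subtype.val hy
  rwa [Subgroup.coe_mul, Subgroup.coe_mul, Subgroup.coe_inv, Subgroup.coe_mul] at this

/-- surjectivity -/
theorem PhiC_surjective (hE : ExtraData Q (zC z))
    (ht1 : (t₀ : Subgroup.centralizer ({z} : Set G)) ≠ 1)
    (htz : (t₀ : Subgroup.centralizer ({z} : Set G)) ≠ zC z)
    (ht2 : orderOf ((t₀ : Subgroup.centralizer ({z} : Set G)) : G) = 2)
    (hnc : ¬ IsConj z ((t₀ : Subgroup.centralizer ({z} : Set G)) : G)) :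
    Function.Surjective (PhiC t₀) := by
  rintro ⟨d, hd⟩
  obtain ⟨g, rfl⟩ := QuotientGroup.mk_surjective d
  rw [Subgroup.mem_centralizer_singleton_iff] at hd
  have h1 : (QuotientGroup.mk (g * ⟨z, z_mem_centralizer t₀⟩) : _ ⧸ _) =
      QuotientGroup.mk (⟨z, z_mem_centralizer t₀⟩ * g) := hd
  rw [QuotientGroup.eq, Subgroup.mem_subgroupOf] at h1
  have h2 : ((g : G) * z)⁻¹ * (z * (g : G)) ∈
      Subgroup.zpowers ((t₀ : Subgroup.centralizer ({z} : Set G)) : G) := h1
  rcases eq_one_or_of_mem_zpowers ht2 h2 with h3 | h3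
  · have hgz : (g : G) * z = z * (g : G) := by
      have := inv_mul_eq_one.1 h3
      exact this
    have hgC : (g : G) ∈ Subgroup.centralizer ({z} : Set G) :=
      Subgroup.mem_centralizer_singleton_iff.2 hgz
    have hgt : (⟨(g : G), hgC⟩ : Subgroup.centralizer ({z} : Set G)) * t₀ =
        t₀ * ⟨(g : G), hgC⟩ := by
      apply Subtype.ext
      rw [Subgroup.coe_mul, Subgroup.coe_mul]
      exact Subgroup.mem_centralizer_singleton_iff.1 g.2
    refine ⟨⟨⟨(g : G), hgC⟩, Subgroup.mem_centralizer_singleton_iff.2 hgt⟩, ?_⟩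
    apply Subtype.ext
    rfl
  · exfalso
    apply hnc
    have h4 : (g : G)⁻¹ * z * (g : G) = z * ((t₀ : Subgroup.centralizer ({z} : Set G)) : G) := by
      have h5 : z * (g : G) = ((g : G) * z) * (((g : G) * z)⁻¹ * (z * (g : G))) := by group
      rw [h3] at h5
      calc (g : G)⁻¹ * z * (g : G) = (g : G)⁻¹ * (z * (g : G)) := by group
        _ = (g : G)⁻¹ * (((g : G) * z) * ((t₀ : Subgroup.centralizer ({z} : Set G)) : G)) := by
            rw [h5]
        _ = z * ((t₀ : Subgroup.centralizer ({z} : Set G)) : G) := by group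
    have h6 : IsConj z (z * ((t₀ : Subgroup.centralizer ({z} : Set G)) : G)) := by
      rw [isConj_iff]
      exact ⟨(g : G)⁻¹, by rw [inv_inv]; exact h4⟩
    exact h6.trans (isConj_mul t₀ hE ht1 htz).symm

end quot

end Cfsg.Agent.Helper90
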