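import Mathlib
import Cfsg.Prelude.Def_MonsterType
import Cfsg.Agent.Helper90.Extra
import Cfsg.Agent.Helper90.LgTwo
import Cfsg.Agent.Helper90.LgInv

set_option autoImplicit false

/-!
Further elementwise facts on an extraspecial 2-subgroup `Q` with central involution `z`, used in
transfer arguments: the centralizer in `G` of `C_Q(u)`, non-commutativity of `C_Q(u)`, and the
existence of involutions outside a subgroup of index two.
-/

namespace Cfsg.Agent.Helper90

open Cfsg

variable {G : Type*} [Group G]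

/-- the centralizer in `Q` of `C_Q(b)` is `{1, z, b, z b}` (for any `b ∈ Q`). -/
theorem ExtraData.double_centralizer' {Q : Subgroup G} {z : G} (hE : ExtraData Q z) {b y v : G}
    (hbQ : b ∈ Q) (hyQ : y ∈ Q) (hyb : y * b * y⁻¹ = z * b) (hvQ : v ∈ Q)
    (hv : ∀ p ∈ Q, p * b = b * p → v * p = p * v) :
    v = 1 ∨ v = z ∨ v = b ∨ v = z * b := by
  rcases hE.sq_mem hbQ with hbb | hbb
  · exact hE.double_centralizer hbQ hbb hyQ hyb hvQ hv
  · -- `b` has order four: `b⁻¹ = z b`
    have hzb : b * z = z * b := hE.zc b hbQ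
    have hbinv : b⁻¹ = z * b := by
      apply inv_eq_of_mul_eq_one_right
      calc b * (z * b) = (b * z) * b := by group
        _ = (z * b) * b := by rw [hzb]
        _ = z * (b * b) := by group
        _ = 1 := by rw [hbb, hE.zz]
    rcases hE.conj_eq_or hvQ hyQ with h | h
    · have hvy : v * y = y * v := by
        calc v * y = (y * v * y⁻¹) * y := by rw [h]
          _ = y * v := by group
      rcases hE.central_of hbQ hyQ hyb hvQ hv hvy with h1 | h1
      · exact Or.inl h1
      · exact Or.inr (Or.inl h1)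
    · have hzv : Commute z v := hE.commute_z hvQ
      have huQ : v * b ∈ Q := Q.mul_mem hvQ hbQ
      have hu : ∀ p ∈ Q, p * b = b * p → (v * b) * p = p * (v * b) := by
        intro p hp hpb
        calc (v * b) * p = v * (b * p) := by group
          _ = v * (p * b) := by rw [hpb]
          _ = (v * p) * b := by group
          _ = (p * v) * b := by rw [hv p hp hpb]
          _ = p * (v * b) := by group
      have huy : (v * b) * y = y * (v * b) := by
        have e : y * (v * b) * y⁻¹ = v * b := by
          calc y * (v * b) * y⁻¹ = (y * v * y⁻¹) * (y * b * y⁻¹) := by group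
            _ = (z * v) * (z * b) := by rw [h, hyb]
            _ = (v * z) * (z * b) := by rw [hzv.eq]
            _ = v * ((z * z) * b) := by group
            _ = v * b := by rw [hE.zz, one_mul]
        calc (v * b) * y = (y * (v * b) * y⁻¹) * y := by rw [e]
          _ = y * (v * b) := by group
      rcases hE.central_of hbQ hyQ hyb huQ hu huy with h1 | h1
      · right; right; right
        calc v = (v * b) * b⁻¹ := by group
          _ = z * b := by rw [h1, one_mul, hbinv]
      · right; right; left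
        calc v = (v * b) * b⁻¹ := by group
          _ = z * (z * b) := by rw [h1, hbinv]
          _ = b := by rw [← mul_assoc, hE.zz, one_mul]

/-- A subset of an eight-element list has at most eight elements. -/
theorem card_le_eight_of_forall [Finite G] (Q : Subgroup G) (e a z : G)
    (h : ∀ q ∈ Q, (q = 1 ∨ q = z ∨ q = a ∨ q = z * a) ∨
      (e⁻¹ * q = 1 ∨ e⁻¹ * q = z ∨ e⁻¹ * q = a ∨ e⁻¹ * q = z * a)) : Nat.card ↥Q ≤ 8 := by
  classical
  let f : Bool × Fin 4 → G := fun p => (if p.1 then e else 1) * ![1, z, a, z * a] p.2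
  have hsub : ∀ q : ↥Q, ∃ p : Bool × Fin 4, f p = (q : G) := by
    intro q
    rcases h q q.2 with (h1 | h1 | h1 | h1) | (h1 | h1 | h1 | h1)
    · exact ⟨(false, 0), by simp [f, h1]⟩
    · exact ⟨(false, 1), by simp [f, h1]⟩
    · exact ⟨(false, 2), by simp [f, h1]⟩
    · exact ⟨(false, 3), by simp [f, h1]⟩
    · exact ⟨(true, 0), by simp only [f]; rw [← h1]; simp⟩
    · exact ⟨(true, 1), by simp only [f]; rw [show ![1, z, a, z * a] (1 : Fin 4) = z from rfl, ← h1]; simp⟩
    · exact ⟨(true, 2), by simp only [f]; rw [show ![1, z, a, z * a] (2 : Fin 4) = a from rfl, ← h1]; simp⟩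
    · exact ⟨(true, 3), by simp only [f]; rw [show ![1, z, a, z * a] (3 : Fin 4) = z * a from rfl, ← h1]; simp⟩
  choose g hg using hsub
  have hinj : Function.Injective g := by
    intro q q' hqq'
    apply Subtype.ext
    rw [← hg q, ← hg q', hqq']
  have := Nat.card_le_card_of_injective g hinj
  simpa using this

/-- `C_Q(u)` is not commutative when `Q` has at least `32` elements. -/
theorem ExtraData.exists_comm_eq_z [Finite G] {Q : Subgroup G} {z u : G} (hE : ExtraData Q z)
    (huQ : u ∈ Q) (hu1 : u ≠ 1) (huz : u ≠ z) (hcard : 32 ≤ Nat.card ↥Q) :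
    ∃ a ∈ Q ⊓ Subgroup.centralizer ({u} : Set G), ∃ b ∈ Q ⊓ Subgroup.centralizer ({u} : Set G),
      a * b * a⁻¹ * b⁻¹ = z := by
  by_contra hcon
  push Not at hcon
  obtain ⟨y, hyQ, hyu⟩ := hE.exists_conj_inv huQ hu1 huz
  have hcomm : ∀ a ∈ Q ⊓ Subgroup.centralizer ({u} : Set G),
      ∀ b ∈ Q ⊓ Subgroup.centralizer ({u} : Set G), a * b = b * a := by
    intro a ha b hb
    rcases hE.comm a ha.1 b hb.1 with h | h
    · calc a * b = (a * b * a⁻¹ * b⁻¹) * (b * a) := by group
        _ = b * a := by rw [h, one_mul]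
    · exact absurd h (hcon a ha b hb)
  have hX : ∀ v ∈ Q ⊓ Subgroup.centralizer ({u} : Set G), v = 1 ∨ v = z ∨ v = u ∨ v = z * u := by
    intro v hv
    apply hE.double_centralizer' huQ hyQ hyu hv.1
    intro p hp hpu
    exact hcomm v hv p (Subgroup.mem_inf.mpr ⟨hp, Subgroup.mem_centralizer_singleton_iff.mpr hpu⟩)
  have h8 : Nat.card ↥Q ≤ 8 := by
    apply card_le_eight_of_forall Q y u z
    intro q hq
    rcases hE.coset_cases huQ hyQ hyu hq with h | h
    · left
      exact hX q (Subgroup.mem_inf.mpr ⟨hq, Subgroup.mem_centralizer_singleton_iff.mpr h⟩)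
    · right
      exact hX _ (Subgroup.mem_inf.mpr ⟨Q.mul_mem (Q.inv_mem hyQ) hq,
        Subgroup.mem_centralizer_singleton_iff.mpr h⟩)
  omega

/-- The centralizer in `G` of `C_Q(u)`, for a non-central involution `u` of `Q`. -/
theorem ExtraData.centralizer_fix_subset {Q : Subgroup G} {z u : G} (hE : ExtraData Q z)
    (hN : Subgroup.centralizer ({z} : Set G) ≤ Subgroup.normalizer (Q : Set G))
    (hC : ∀ y : G, (∀ q ∈ Q, q * y = y * q) → y = 1 ∨ y = z)
    (huQ : u ∈ Q) (huu : u * u = 1) (hu1 : u ≠ 1) (huz : u ≠ z) :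
    ∀ y : G, (∀ x ∈ Q ⊓ Subgroup.centralizer ({u} : Set G), x * y = y * x) →
      y = 1 ∨ y = z ∨ y = u ∨ y = z * u := by
  intro y hy
  obtain ⟨e, heQ, heu⟩ := hE.exists_conj_inv huQ hu1 huz
  have hzu : u * z = z * u := hE.zc u huQ
  have hzX : z ∈ Q ⊓ Subgroup.centralizer ({u} : Set G) :=
    Subgroup.mem_inf.mpr ⟨hE.zQ, Subgroup.mem_centralizer_singleton_iff.mpr hzu.symm⟩
  have huX : u ∈ Q ⊓ Subgroup.centralizer ({u} : Set G) :=
    Subgroup.mem_inf.mpr ⟨huQ, Subgroup.mem_centralizer_singleton_iff.mpr rfl⟩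
  have hyz : y * z = z * y := (hy z hzX).symm
  have hyN : y ∈ Subgroup.normalizer (Q : Set G) :=
    hN (Subgroup.mem_centralizer_singleton_iff.mpr hyz)
  -- key: an element commuting with `C_Q(u)` and with `e` is `1` or `z`
  have key : ∀ y' : G, (∀ x ∈ Q ⊓ Subgroup.centralizer ({u} : Set G), x * y' = y' * x) →
      y' * e = e * y' → y' = 1 ∨ y' = z := by
    intro y' hy' hy'e
    apply hC
    apply hE.commutes_all huQ heQ heu _ hy'e
    intro p hp hpu
    exact (hy' p (Subgroup.mem_inf.mpr ⟨hp, Subgroup.mem_centralizer_singleton_iff.mpr hpu⟩)).symm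
  -- `c = e⁻¹ (y e y⁻¹)` lies in `Q` and centralizes `C_Q(u)`
  have hyeQ : y * e * y⁻¹ ∈ Q := conj_mem_of_mem_normalizer hyN heQ
  have hcQ : e⁻¹ * (y * e * y⁻¹) ∈ Q := Q.mul_mem (Q.inv_mem heQ) hyeQ
  have hcX : ∀ p ∈ Q, p * u = u * p → (e⁻¹ * (y * e * y⁻¹)) * p = p * (e⁻¹ * (y * e * y⁻¹)) := by
    intro p hp hpu
    have hpX : p ∈ Q ⊓ Subgroup.centralizer ({u} : Set G) :=
      Subgroup.mem_inf.mpr ⟨hp, Subgroup.mem_centralizer_singleton_iff.mpr hpu⟩
    -- `e p e⁻¹ ∈ C_Q(u)`
    have hepX : e * p * e⁻¹ ∈ Q ⊓ Subgroup.centralizer ({u} : Set G) := by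
      refine Subgroup.mem_inf.mpr ⟨Q.mul_mem (Q.mul_mem heQ hp) (Q.inv_mem heQ), ?_⟩
      rw [Subgroup.mem_centralizer_singleton_iff]
      rcases hE.conj_eq_or hp heQ with h | h
      · rw [h]; exact hpu
      · rw [h]
        calc z * p * u = z * (p * u) := by group
          _ = z * (u * p) := by rw [hpu]
          _ = (z * u) * p := by group
          _ = (u * z) * p := by rw [hzu]
          _ = u * (z * p) := by group
    have h1 : y * p = p * y := (hy p hpX).symm
    have h2 : y * (e * p * e⁻¹) = (e * p * e⁻¹) * y := (hy _ hepX).symm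
    have h3 : (y * e * y⁻¹) * p * (y * e * y⁻¹)⁻¹ = e * p * e⁻¹ := by
      have h4 : y⁻¹ * p = p * y⁻¹ := by
        calc y⁻¹ * p = y⁻¹ * (p * y) * y⁻¹ := by group
          _ = y⁻¹ * (y * p) * y⁻¹ := by rw [h1]
          _ = p * y⁻¹ := by group
      calc (y * e * y⁻¹) * p * (y * e * y⁻¹)⁻¹ = y * e * (y⁻¹ * p) * y * e⁻¹ * y⁻¹ := by group
        _ = y * e * (p * y⁻¹) * y * e⁻¹ * y⁻¹ := by rw [h4]
        _ = (y * (e * p * e⁻¹)) * y⁻¹ := by group
        _ = ((e * p * e⁻¹) * y) * y⁻¹ := by rw [h2]
        _ = e * p * e⁻¹ := by group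
    calc (e⁻¹ * (y * e * y⁻¹)) * p = e⁻¹ * ((y * e * y⁻¹) * p * (y * e * y⁻¹)⁻¹) * (y * e * y⁻¹) := by
          group
      _ = e⁻¹ * (e * p * e⁻¹) * (y * e * y⁻¹) := by rw [h3]
      _ = p * (e⁻¹ * (y * e * y⁻¹)) := by group
  have hc := hE.double_centralizer huQ huu heQ heu hcQ hcX
  -- squares
  have hee : y * (e * e) * y⁻¹ = e * e := by
    rcases hE.sq_mem heQ with h | h
    · rw [h]; group
    · rw [h]
      calc y * z * y⁻¹ = (y * z) * y⁻¹ := by group
        _ = (z * y) * y⁻¹ := by rw [hyz]
        _ = z := by group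
  have hsq : (y * e * y⁻¹) * (y * e * y⁻¹) = e * e := by
    calc (y * e * y⁻¹) * (y * e * y⁻¹) = y * (e * e) * y⁻¹ := by group
      _ = e * e := hee
  have hue : u * e ≠ e * u := by
    intro h
    have : e * u * e⁻¹ = u := by
      calc e * u * e⁻¹ = (u * e) * e⁻¹ := by rw [h]
        _ = u := by group
    rw [heu] at this
    apply hE.z1
    calc z = (z * u) * u⁻¹ := by group
      _ = 1 := by rw [this]; group
  -- if `y e y⁻¹ = e c` with `c² = 1` and `(e c)² = e²` then `c` commutes with `e`
  have hcomm_of : ∀ c : G, c * c = 1 → y * e * y⁻¹ = e * c → c * e = e * c := by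
    intro c hcc hyc
    have h1 : (e * c) * (e * c) = e * e := by rw [← hyc]; exact hsq
    have h2 : c * e * c = e := by
      calc c * e * c = e⁻¹ * ((e * c) * (e * c)) := by group
        _ = e⁻¹ * (e * e) := by rw [h1]
        _ = e := by group
    calc c * e = (c * e * c) * c⁻¹ := by group
      _ = e * c⁻¹ := by rw [h2]
      _ = e * c := by rw [inv_eq_of_mul_eq_one_left hcc]
  have hyc : y * e * y⁻¹ = e * (e⁻¹ * (y * e * y⁻¹)) := by group
  rcases hc with h | h | h | h
  · -- `c = 1`
    have hye : y * e = e * y := by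
      rw [h, mul_one] at hyc
      calc y * e = (y * e * y⁻¹) * y := by group
        _ = e * y := by rw [hyc]
    rcases key y hy hye with h1 | h1
    · exact Or.inl h1
    · exact Or.inr (Or.inl h1)
  · -- `c = z`: then `u y` commutes with `e`
    rw [h] at hyc
    have huy : ∀ x ∈ Q ⊓ Subgroup.centralizer ({u} : Set G), x * (u * y) = (u * y) * x := by
      intro x hx
      have h1 : x * u = u * x := Subgroup.mem_centralizer_singleton_iff.mp hx.2
      calc x * (u * y) = (x * u) * y := by group
        _ = (u * x) * y := by rw [h1]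
        _ = u * (x * y) := by group
        _ = u * (y * x) := by rw [hy x hx]
        _ = (u * y) * x := by group
    have hueu : u * e * u⁻¹ = z * e := by
      have h1 : e⁻¹ * u * e = z * u := hE.inv_conj heQ heu
      have hze : e * z = z * e := hE.zc e heQ
      have huinv : u⁻¹ = u := inv_eq_of_mul_eq_one_left huu
      calc u * e * u⁻¹ = e * (e⁻¹ * u * e) * u⁻¹ := by group
        _ = e * (z * u) * u⁻¹ := by rw [h1]
        _ = (e * z) := by group
        _ = z * e := hze
    have huye : (u * y) * e = e * (u * y) := by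
      have hze : e * z = z * e := hE.zc e heQ
      calc (u * y) * e = u * (y * e * y⁻¹) * y := by group
        _ = u * (e * z) * y := by rw [hyc]
        _ = (u * e * u⁻¹) * (u * z) * y := by group
        _ = (z * e) * (z * u) * y := by rw [hueu, hzu]
        _ = (e * z) * (z * u) * y := by rw [hze]
        _ = e * ((z * z) * u) * y := by group
        _ = e * (u * y) := by rw [hE.zz, one_mul]; group
    have huinv : u⁻¹ = u := inv_eq_of_mul_eq_one_left huu
    rcases key (u * y) huy huye with h1 | h1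
    · right; right; left
      calc y = u⁻¹ * (u * y) := by group
        _ = u := by rw [h1, mul_one, huinv]
    · right; right; right
      calc y = u⁻¹ * (u * y) := by group
        _ = u * z := by rw [h1, huinv]
        _ = z * u := hzu
  · -- `c = u` is impossible
    exfalso
    rw [h] at hyc
    exact hue (hcomm_of u huu hyc)
  · -- `c = z u` is impossible
    exfalso
    rw [h] at hyc
    have hzuzu : (z * u) * (z * u) = 1 := by
      calc (z * u) * (z * u) = z * (u * z) * u := by group
        _ = z * (z * u) * u := by rw [hzu]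
        _ = (z * z) * (u * u) := by group
        _ = 1 := by rw [hE.zz, huu, one_mul]
    have h1 := hcomm_of (z * u) hzuzu hyc
    apply hue
    have hze : e * z = z * e := hE.zc e heQ
    calc u * e = z * ((z * u) * e) := by rw [← mul_assoc, ← mul_assoc, hE.zz, one_mul]
      _ = z * (e * (z * u)) := by rw [h1]
      _ = (z * e) * (z * u) := by group
      _ = (e * z) * (z * u) := by rw [hze]
      _ = e * ((z * z) * u) := by group
      _ = e * u := by rw [hE.zz, one_mul]

end Cfsg.Agent.Helper90
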