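import Mathlib
import Cfsg.Prelude.Def_Local
import Cfsg.Agent.Helper90.LgTwo

set_option autoImplicit false

/-!
Sylow 2-subgroups of a component `K` in a group with a large extraspecial 2-subgroup:
`C_K(z)` contains a Sylow 2-subgroup of `K`, so it cannot have order `2`.
-/

namespace Cfsg.Agent.Helper90

open Cfsg Cfsg.Agent

variable {G : Type*} [Group G] [Finite G] {Q : Subgroup G} {z : G}

/-- A Sylow 2-subgroup of `G` containing `Q` centralizes `z`. -/
theorem LgData.exists_sylow_comm (hD : LgData Q z) :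
    ∃ S : Sylow 2 G, Q ≤ S ∧ ∀ s ∈ S, s * z = z * s := by
  haveI : Fact (Nat.Prime 2) := ⟨Nat.prime_two⟩
  obtain ⟨S, hQS⟩ := hD.two.exists_le_sylow
  refine ⟨S, hQS, ?_⟩
  haveI : Nontrivial ↥(S : Subgroup G) :=
    ⟨⟨⟨z, hQS hD.ed.zQ⟩, 1, fun h => hD.ed.z1 (congrArg Subtype.val h)⟩⟩
  have hc := S.2.center_nontrivial
  obtain ⟨c, hc1⟩ := exists_ne (1 : ↥(Subgroup.center ↥(S : Subgroup G)))
  have hcz : ((c : ↥(S : Subgroup G)) : G) = z := by
    have h1 : ∀ q ∈ Q, q * ((c : ↥(S : Subgroup G)) : G) = ((c : ↥(S : Subgroup G)) : G) * q := by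
      intro q hq
      have := Subgroup.mem_center_iff.mp c.2 ⟨q, hQS hq⟩
      exact congrArg Subtype.val this
    rcases hD.cent _ h1 with h | h
    · exfalso
      apply hc1
      apply Subtype.ext
      apply Subtype.ext
      exact h
    · exact h
  intro s hs
  have := Subgroup.mem_center_iff.mp c.2 ⟨s, hs⟩
  have h2 := congrArg Subtype.val this
  rw [← hcz]
  exact h2

section
variable {K : Subgroup G} {z₁ z₂ : G}

/-- `[K : C_K(z₁)]` is odd. -/
theorem ZDecomp.not_dvd_index (hZ : ZDecomp K z z₁ z₂) (hD : LgData Q z)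
    (hK : IsComponent K) :
    ¬ 2 ∣ ((Subgroup.centralizer ({z₁} : Set G)).subgroupOf K).index := by
  haveI : Fact (Nat.Prime 2) := ⟨Nat.prime_two⟩
  obtain ⟨S, -, hSz⟩ := hD.exists_sylow_comm
  have hrel := Helper9.not_dvd_relIndex_of_isSubnormal 2 S hK.1
  intro h
  apply hrel
  have hle : (S : Subgroup G).subgroupOf K ≤
      (Subgroup.centralizer ({z₁} : Set G)).subgroupOf K := by
    intro y hy
    rw [Subgroup.mem_subgroupOf] at hy ⊢
    rw [Subgroup.mem_centralizer_singleton_iff]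
    exact (hZ.comm_iff hK y.2).mp (hSz _ hy)
  exact h.trans (Subgroup.index_dvd_of_le hle)

/-- `C_K(z)` is not contained in `{1, z₁}`. -/
theorem ZDecomp.false_of_small (hZ : ZDecomp K z z₁ z₂) (hD : LgData Q z)
    (hF : fittingSubgroup G = ⊥) (hK : IsComponent K)
    (h : ∀ d ∈ K, d * z = z * d → d = 1 ∨ d = z₁) : False := by
  haveI : Fact (Nat.Prime 2) := ⟨Nat.prime_two⟩
  haveI := isSimpleGroup_of_isComponent hF hK
  have hidx := hZ.not_dvd_index hD hK
  set C : Subgroup ↥K := (Subgroup.centralizer ({z₁} : Set G)).subgroupOf K with hC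
  set w : ↥K := ⟨z₁, hZ.h1⟩ with hw
  have hw2 : orderOf w = 2 := by
    apply orderOf_eq_prime
    · apply Subtype.ext
      rw [pow_two]
      exact hZ.z₁_sq hD hF hK
    · intro h1
      exact hZ.z₁_ne_one hD hF hK (congrArg Subtype.val h1)
  have hCle : C ≤ Subgroup.zpowers w := by
    intro y hy
    rw [hC, Subgroup.mem_subgroupOf, Subgroup.mem_centralizer_singleton_iff] at hy
    rcases h y y.2 ((hZ.comm_iff hK y.2).mpr hy) with h1 | h1
    · have : y = 1 := Subtype.ext h1
      rw [this]; exact Subgroup.one_mem _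
    · have : y = w := Subtype.ext h1
      rw [this]; exact Subgroup.mem_zpowers w
  have hwC : w ∈ C := by
    rw [hC, Subgroup.mem_subgroupOf, Subgroup.mem_centralizer_singleton_iff]
  have hCeq : C = Subgroup.zpowers w :=
    le_antisymm hCle ((Subgroup.zpowers_le).mpr hwC)
  have hCcard : Nat.card ↥C = 2 := by
    rw [hCeq, Nat.card_zpowers, hw2]
  have hcard : Nat.card ↥K = 2 ^ 1 * C.index := by
    rw [← Subgroup.card_mul_index C, hCcard, pow_one]
  have hmin : (Nat.card ↥K).minFac = 2 := by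
    rw [Nat.minFac_eq_two_iff, hcard]
    exact Dvd.intro _ rfl
  obtain ⟨P⟩ : Nonempty (Sylow 2 ↥K) := inferInstance
  exact Helper17.not_isCyclic_sylow_minFac_of_simple (not_comm_of_isComponent hK) hmin P
    (Helper17.isCyclic_sylow_of_card_eq hcard hidx P)

end

end Cfsg.Agent.Helper90
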