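import Mathlib
import Cfsg.Prelude.Def_Local
import Cfsg.Prelude.Def_MonsterType
import Cfsg.Agent.Helper22.Bender
import Cfsg.Agent.Helper29.Fitting
import Cfsg.Agent.Lib.Cores
import Cfsg.Agent.Helper90.LgSyl

set_option autoImplicit false

/-!
The setting `F*(C_G(z)) = Q` extraspecial: basic consequences, and the Frattini argument
`C_G(z) ≤ M ⊴ G ⇒ M = G` for a large extraspecial `Q`.
-/

namespace Cfsg.Agent.Helper90

open Cfsg Cfsg.Agent

variable {G : Type*} [Group G] [Finite G]

/-- Consequences of `F*(C_G(z)) = Q` with `Q` an extraspecial 2-group. -/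
theorem setting_facts (z : G) (hz : orderOf z = 2) (Q : Subgroup G)
    (hF : (Cfsg.generalizedFittingSubgroup ↥(Subgroup.centralizer ({z} : Set G))).map
      (Subgroup.centralizer ({z} : Set G)).subtype = Q)
    (hQ : Cfsg.IsExtraspecial 2 ↥Q) :
    z ∈ Q ∧ (Subgroup.center ↥Q).map Q.subtype = Subgroup.zpowers z ∧
      Subgroup.centralizer (Q : Set G) = (Subgroup.center ↥Q).map Q.subtype ∧
      Subgroup.centralizer (((Subgroup.center ↥Q).map Q.subtype : Subgroup G) : Set G) ≤
        Subgroup.normalizer (Q : Set G) ∧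
      Subgroup.centralizer ({z} : Set G) ≤ Subgroup.normalizer (Q : Set G) ∧
      Q = (Cfsg.pCore 2 ↥(Subgroup.centralizer ({z} : Set G))).map
        (Subgroup.centralizer ({z} : Set G)).subtype := by
  haveI : Fact (Nat.Prime 2) := ⟨Nat.prime_two⟩
  set H := Subgroup.centralizer ({z} : Set G) with hH
  have hzH : z ∈ H := Subgroup.mem_centralizer_singleton_iff.mpr rfl
  have hQH : Q ≤ H := by rw [← hF]; exact Subgroup.map_subtype_le _
  have hQz : ∀ q ∈ Q, q * z = z * q := fun q hq =>
    Subgroup.mem_centralizer_singleton_iff.mp (hQH hq)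
  -- `z ∈ Q`
  have hzQ : z ∈ Q := by
    rw [← hF]
    refine ⟨⟨z, hzH⟩, Helper29.center_le_generalizedFittingSubgroup _ ?_, rfl⟩
    rw [Subgroup.mem_center_iff]
    intro h
    apply Subtype.ext
    exact Subgroup.mem_centralizer_singleton_iff.mp h.2
  -- centre
  have hzZ : z ∈ (Subgroup.center ↥Q).map Q.subtype :=
    (mem_center_map_iff Q z).mpr ⟨hzQ, hQz⟩
  have hZcard : Nat.card ((Subgroup.center ↥Q).map Q.subtype) = 2 := by
    rw [card_center_map, hQ.2]
  have hZ : (Subgroup.center ↥Q).map Q.subtype = Subgroup.zpowers z := by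
    symm
    apply Subgroup.eq_of_le_of_card_ge ((Subgroup.zpowers_le).mpr hzZ)
    rw [hZcard, Nat.card_zpowers, hz]
  -- normality in `H`
  have hN : (Cfsg.generalizedFittingSubgroup ↥H).Normal :=
    Helper29.generalizedFittingSubgroup_normal _
  have hHN : H ≤ Subgroup.normalizer (Q : Set G) := by
    intro h hh
    apply mem_normalizer_of_conj_mem
    intro q hq
    rw [← hF] at hq ⊢
    obtain ⟨q', hq', rfl⟩ := hq
    exact ⟨⟨h, hh⟩ * q' * ⟨h, hh⟩⁻¹, hN.conj_mem q' hq' ⟨h, hh⟩, rfl⟩
  -- self-centralizing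
  have hcen : Subgroup.centralizer (Q : Set G) ≤ Q := by
    intro c hc
    have hcH : c ∈ H := by
      rw [hH, Subgroup.mem_centralizer_singleton_iff]
      exact (Subgroup.mem_centralizer_iff.mp hc z hzQ).symm
    rw [← hF]
    refine ⟨⟨c, hcH⟩, Helper22.centralizer_generalizedFittingSubgroup_le ?_, rfl⟩
    rw [Subgroup.mem_centralizer_iff]
    intro f hf
    apply Subtype.ext
    have hfQ : (f : G) ∈ Q := by rw [← hF]; exact ⟨f, hf, rfl⟩
    exact Subgroup.mem_centralizer_iff.mp hc f hfQ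
  have hL2 : Subgroup.centralizer (Q : Set G) = (Subgroup.center ↥Q).map Q.subtype := by
    apply le_antisymm
    · intro c hc
      exact (mem_center_map_iff Q c).mpr ⟨hcen hc, fun q hq => Subgroup.mem_centralizer_iff.mp hc q hq⟩
    · intro c hc
      rw [mem_center_map_iff] at hc
      rw [Subgroup.mem_centralizer_iff]
      exact hc.2
  have hL3 : Subgroup.centralizer (((Subgroup.center ↥Q).map Q.subtype : Subgroup G) : Set G) ≤
      Subgroup.normalizer (Q : Set G) := by
    intro c hc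
    apply hHN
    rw [hH, Subgroup.mem_centralizer_singleton_iff]
    exact (Subgroup.mem_centralizer_iff.mp hc z hzZ).symm
  refine ⟨hzQ, hZ, hL2, hL3, hHN, ?_⟩
  -- `Q = O_2(H)`
  have h2Q : IsPGroup 2 ↥Q := hQ.1.1
  have hFp : IsPGroup 2 ↥(Cfsg.generalizedFittingSubgroup ↥H) := by
    intro x
    have hxQ : ((x : ↥H) : G) ∈ Q := by rw [← hF]; exact ⟨x, x.2, rfl⟩
    obtain ⟨k, hk⟩ := h2Q ⟨_, hxQ⟩
    refine ⟨k, ?_⟩
    apply Subtype.ext
    apply Subtype.ext
    have := congrArg Subtype.val hk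
    simpa using this
  have heq : Cfsg.pCore 2 ↥H = Cfsg.generalizedFittingSubgroup ↥H := by
    apply le_antisymm
    · exact (Lib.pCore_le_fittingSubgroup 2).trans le_sup_right
    · exact Lib.le_pCore hN hFp
  rw [heq, hF]

/-- The Frattini argument: a normal subgroup containing `C_G(z)` is everything. -/
theorem LgData.eq_top_of_centralizer_le {Q : Subgroup G} {z : G} (hD : LgData Q z)
    (M : Subgroup G) [hM : M.Normal] (hHM : Subgroup.centralizer ({z} : Set G) ≤ M) : M = ⊤ := by
  haveI : Fact (Nat.Prime 2) := ⟨Nat.prime_two⟩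
  obtain ⟨S, hQS, hSz⟩ := hD.exists_sylow_comm
  have hSH : (S : Subgroup G) ≤ Subgroup.centralizer ({z} : Set G) := fun s hs =>
    Subgroup.mem_centralizer_singleton_iff.mpr (hSz s hs)
  have hSM : (S : Subgroup G) ≤ M := hSH.trans hHM
  have h1 := Sylow.normalizer_sup_eq_top (S.subtype hSM)
  have h2 : ((S.subtype hSM : Sylow 2 ↥M) : Subgroup ↥M).map M.subtype = (S : Subgroup G) := by
    rw [Sylow.coe_subtype, Subgroup.map_subgroupOf_eq_of_le hSM]
  rw [h2] at h1
  have h3 : Subgroup.normalizer ((S : Subgroup G) : Set G) ≤ M := by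
    intro n hn
    apply hHM
    rw [Subgroup.mem_centralizer_singleton_iff]
    have hzS : z ∈ (S : Subgroup G) := hQS hD.ed.zQ
    have h4 : n * z * n⁻¹ ∈ (S : Subgroup G) := conj_mem_of_mem_normalizer hn hzS
    have h5 : ∀ q ∈ Q, q * (n * z * n⁻¹) = (n * z * n⁻¹) * q := by
      intro q hq
      have h6 := inv_conj_mem_of_mem_normalizer hn (hQS hq)
      have h7 := hSz _ h6
      calc q * (n * z * n⁻¹) = n * ((n⁻¹ * q * n) * z) * n⁻¹ := by group
        _ = n * (z * (n⁻¹ * q * n)) * n⁻¹ := by rw [h7]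
        _ = (n * z * n⁻¹) * q := by group
    rcases hD.cent _ h5 with h | h
    · exfalso
      apply hD.ed.z1
      calc z = n⁻¹ * (n * z * n⁻¹) * n := by group
        _ = 1 := by rw [h]; group
    · calc n * z = (n * z * n⁻¹) * n := by group
        _ = z * n := by rw [h]
  rw [← h1]
  exact ((sup_le h3 le_rfl).antisymm le_sup_right).symm

/-- If `Q` is normal in `G` then `z` is central. -/
theorem LgData.central_of_normal {Q : Subgroup G} {z : G} (hD : LgData Q z) (hQ : Q.Normal)
    (g : G) : g * z * g⁻¹ = z := by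
  have h1 : g * z * g⁻¹ ∈ Q := hQ.conj_mem z hD.ed.zQ g
  have h2 : ∀ q ∈ Q, q * (g * z * g⁻¹) = (g * z * g⁻¹) * q := by
    intro q hq
    have h3 : g⁻¹ * q * g ∈ Q := by
      have := hQ.conj_mem q hq g⁻¹
      simpa using this
    have h4 := hD.ed.zc _ h3
    calc q * (g * z * g⁻¹) = g * ((g⁻¹ * q * g) * z) * g⁻¹ := by group
      _ = g * (z * (g⁻¹ * q * g)) * g⁻¹ := by rw [h4]
      _ = (g * z * g⁻¹) * q := by group
  rcases hD.cent _ h2 with h | h
  · exfalso
    apply hD.ed.z1
    calc z = g⁻¹ * (g * z * g⁻¹) * g := by group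
      _ = 1 := by rw [h]; group
  · exact h

end Cfsg.Agent.Helper90

namespace Cfsg.Agent.Helper90

open Cfsg Cfsg.Agent

/-- `ExtraData` for a prescribed generator of the centre. -/
theorem extraData_of_center_eq {G : Type*} [Group G] {Q : Subgroup G}
    (hL1 : Cfsg.IsExtraspecial 2 ↥Q) {z : G}
    (hz : (Subgroup.center ↥Q).map Q.subtype = Subgroup.zpowers z) : ExtraData Q z := by
  obtain ⟨z', hE⟩ := exists_extraData hL1
  have hzz' : z = z' := by
    have h1 : z ∈ (Subgroup.center ↥Q).map Q.subtype := by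
      rw [hz]; exact Subgroup.mem_zpowers z
    rcases hE.zall z h1 with h | h
    · exfalso
      have h2 : z' ∈ Subgroup.zpowers z := by rw [← hz]; exact hE.zmem
      rw [h, Subgroup.zpowers_one_eq_bot, Subgroup.mem_bot] at h2
      exact hE.z1 h2
    · exact h
  subst hzz'
  exact hE

/-- An extraspecial group of order `2 ^ (2 w + 1)`, `w ≥ 2`, is not contained in its centre. -/
theorem not_le_zpowers {G : Type*} [Group G] [Finite G] {Q : Subgroup G} {z : G}
    (hz : orderOf z = 2) (w : ℕ) (hw : 2 ≤ w) (hcard : Nat.card ↥Q = 2 ^ (2 * w + 1)) :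
    ¬ Q ≤ Subgroup.zpowers z := by
  intro h
  have h1 := Subgroup.card_le_of_le h
  rw [hcard, Nat.card_zpowers, hz] at h1
  have h2 : 2 ^ 5 ≤ 2 ^ (2 * w + 1) := Nat.pow_le_pow_right (by norm_num) (by omega)
  omega

end Cfsg.Agent.Helper90
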