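import Mathlib
import Cfsg.Prelude.Def_MonsterType
import Cfsg.Agent.Helper90.MonPsi

set_option autoImplicit false

/-!
Groups of Monster type: transfer of conjugacy along lattice automorphisms, and the stabilizer of a
class of type 2.
-/

namespace Cfsg.Agent.Helper90

open Cfsg

variable {G : Type*} [Group G] {z : G}
  {Q : Subgroup (Subgroup.centralizer ({z} : Set G))} [Q.Normal]
  {e : (Subgroup.centralizer ({z} : Set G)) ⧸ Q ≃* Spor.Co1}
  {ψ : leechLattice → Q ⧸ Subgroup.center Q}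

theorem not_mem_center_map (hE : ExtraData Q (zC z)) {s : Subgroup.centralizer ({z} : Set G)}
    (hs1 : s ≠ 1) (hsz : s ≠ zC z) : s ∉ (Subgroup.center ↥Q).map Q.subtype := by
  intro h
  rcases hE.zall s h with h1 | h1
  · exact hs1 h1
  · exact hsz h1

/-- transfer along a lattice automorphism -/
theorem exists_conj_of_smul (hE : ExtraData Q (zC z)) (hψ : IsLeechModTwoIso Q e ψ)
    (s t : Q) (hs1 : (s : Subgroup.centralizer ({z} : Set G)) ≠ 1)
    (hsz : (s : Subgroup.centralizer ({z} : Set G)) ≠ zC z)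
    (v w : leechLattice) (hv : ψ v = QuotientGroup.mk s) (hw : ψ w = QuotientGroup.mk t)
    (γ : Co0) (hγ : γ • v = w) :
    ∃ h : Subgroup.centralizer ({z} : Set G), h * s * h⁻¹ = t := by
  obtain ⟨cbar, hc⟩ := e.surjective (QuotientGroup.mk γ : Spor.Co1)
  obtain ⟨c, rfl⟩ := QuotientGroup.mk_surjective cbar
  have h1 := hψ.2.2.2 c γ hc.symm v s hv
  rw [hγ, hw] at h1
  rcases mk_eq_cases hE _ _ h1 with h2 | h2
  · exact ⟨c, h2.symm⟩
  · have hs1' : c * (s : Subgroup.centralizer ({z} : Set G)) * c⁻¹ ≠ 1 := by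
      intro h
      apply hs1
      calc (s : Subgroup.centralizer ({z} : Set G)) = c⁻¹ * (c * s * c⁻¹) * c := by group
        _ = 1 := by rw [h]; group
    have hsz' : c * (s : Subgroup.centralizer ({z} : Set G)) * c⁻¹ ≠ zC z := by
      intro h
      apply hsz
      calc (s : Subgroup.centralizer ({z} : Set G)) = c⁻¹ * (c * s * c⁻¹) * c := by group
        _ = c⁻¹ * (zC z * c) := by rw [h]; group
        _ = c⁻¹ * (c * zC z) := by rw [zC_comm c]
        _ = zC z := by group
    have hmem : c * (s : Subgroup.centralizer ({z} : Set G)) * c⁻¹ ∈ Q :=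
      (inferInstance : Q.Normal).conj_mem _ s.2 c
    obtain ⟨y, hyQ, hy⟩ := hE.exists_conj hmem (not_mem_center_map hE hs1' hsz')
    refine ⟨y * c, ?_⟩
    change _ = zC z * (c * (s : Subgroup.centralizer ({z} : Set G)) * c⁻¹) at h2
    rw [h2, ← hy]
    group

/-- a conjugate of an element of `Q` by an element of the centralizer, as an element of `Q` -/
def conjQ (c : Subgroup.centralizer ({z} : Set G)) (s : Q) : Q :=
  ⟨c * s * c⁻¹, (inferInstance : Q.Normal).conj_mem _ s.2 c⟩

/-- elements fixing `s` induce automorphisms fixing the class of `v` -/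
theorem exists_stab_of_comm (hψ : IsLeechModTwoIso Q e ψ) (s : Q)
    (v : leechLattice) (hv : ψ v = QuotientGroup.mk s) (hv32 : sqNorm (v : GolayPt → ℤ) = 32)
    (x : Subgroup.centralizer ({z} : Set G)) (hx : x * s = s * x) :
    ∃ γ : Co0, γ • v = v ∧ (QuotientGroup.mk γ : Spor.Co1) = e (QuotientGroup.mk x) := by
  obtain ⟨γ₀, hγ₀⟩ := QuotientGroup.mk_surjective (e (QuotientGroup.mk x))
  have h1 := hψ.2.2.2 x γ₀ hγ₀ v s hv
  have h2 : (⟨x * s * x⁻¹, (inferInstance : Q.Normal).conj_mem _ s.2 x⟩ : Q) = s := by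
    apply Subtype.ext
    show x * (s : Subgroup.centralizer ({z} : Set G)) * x⁻¹ = s
    rw [hx]; group
  rw [h2, ← hv] at h1
  have hn : sqNorm ((γ₀ • v : leechLattice) : GolayPt → ℤ) = 32 := by
    rw [Cfsg.Agent.Helper8.co0_sqNorm, hv32]
  rcases eq_or_neg_of_psi_eq hψ hv32 hn h1 with h3 | h3
  · exact ⟨γ₀, h3, hγ₀⟩
  · refine ⟨Cfsg.Agent.Helper8.negCo0 * γ₀, ?_, ?_⟩
    · rw [mul_smul, h3, Cfsg.Agent.Helper8.negCo0_smul, neg_neg]
    · rw [← hγ₀, QuotientGroup.mk_mul]
      have : (QuotientGroup.mk Cfsg.Agent.Helper8.negCo0 : Spor.Co1) = 1 :=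
        (QuotientGroup.eq_one_iff _).2 Cfsg.Agent.Helper8.negCo0_mem_center
      rw [this, one_mul]

/-- automorphisms fixing `v` are induced by elements fixing `s` -/
theorem exists_comm_of_stab (hE : ExtraData Q (zC z)) (hψ : IsLeechModTwoIso Q e ψ) (s : Q)
    (hs1 : (s : Subgroup.centralizer ({z} : Set G)) ≠ 1)
    (hsz : (s : Subgroup.centralizer ({z} : Set G)) ≠ zC z)
    (v : leechLattice) (hv : ψ v = QuotientGroup.mk s)
    (γ : Co0) (hγ : γ • v = v) :
    ∃ x : Subgroup.centralizer ({z} : Set G), x * s = s * x ∧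
      (QuotientGroup.mk γ : Spor.Co1) = e (QuotientGroup.mk x) := by
  obtain ⟨cbar, hc⟩ := e.surjective (QuotientGroup.mk γ : Spor.Co1)
  obtain ⟨c, rfl⟩ := QuotientGroup.mk_surjective cbar
  have h1 := hψ.2.2.2 c γ hc.symm v s hv
  rw [hγ, hv] at h1
  rcases mk_eq_cases hE _ _ h1 with h2 | h2
  · refine ⟨c, ?_, hc.symm⟩
    change (s : Subgroup.centralizer ({z} : Set G)) = c * s * c⁻¹ at h2
    calc c * (s : Subgroup.centralizer ({z} : Set G)) = (c * s * c⁻¹) * c := by group
      _ = s * c := by rw [← h2]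
  · change (s : Subgroup.centralizer ({z} : Set G)) = zC z * (c * s * c⁻¹) at h2
    obtain ⟨y, hyQ, hy⟩ := hE.exists_conj s.2 (not_mem_center_map hE hs1 hsz)
    have hy' := hE.inv_conj hyQ hy
    have h3 : c * (s : Subgroup.centralizer ({z} : Set G)) * c⁻¹ = zC z * s := by
      calc c * (s : Subgroup.centralizer ({z} : Set G)) * c⁻¹
          = (zC z * zC z) * (c * s * c⁻¹) := by rw [hE.zz, one_mul]
        _ = zC z * (zC z * (c * s * c⁻¹)) := by group
        _ = zC z * s := by rw [← h2]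
    refine ⟨c * y⁻¹, ?_, ?_⟩
    · have h4 : (c * y⁻¹) * (s : Subgroup.centralizer ({z} : Set G)) * (c * y⁻¹)⁻¹ = s := by
        calc (c * y⁻¹) * (s : Subgroup.centralizer ({z} : Set G)) * (c * y⁻¹)⁻¹
            = c * (y⁻¹ * s * y) * c⁻¹ := by group
          _ = c * (zC z * s) * c⁻¹ := by rw [hy']
          _ = (c * zC z) * s * c⁻¹ := by group
          _ = (zC z * c) * s * c⁻¹ := by rw [zC_comm c]
          _ = zC z * (c * s * c⁻¹) := by group
          _ = zC z * (zC z * s) := by rw [h3]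
          _ = (zC z * zC z) * s := by group
          _ = s := by rw [hE.zz, one_mul]
      calc (c * y⁻¹) * (s : Subgroup.centralizer ({z} : Set G))
          = ((c * y⁻¹) * s * (c * y⁻¹)⁻¹) * (c * y⁻¹) := by group
        _ = s * (c * y⁻¹) := by rw [h4]
    · rw [← hc]
      congr 1
      rw [QuotientGroup.eq]
      have : c⁻¹ * (c * y⁻¹) = y⁻¹ := by group
      rw [this]
      exact Q.inv_mem hyQ

end Cfsg.Agent.Helper90
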