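import Mathlib
import Cfsg.Prelude.Def_MonsterType
import Cfsg.Agent.Helper90.MonAct

set_option autoImplicit false

/-!
Groups of Monster type: a 2-subgroup of `C(z)` normalized by `C(z) ∩ C(s)` and centralizing `s`,
for `s ∈ Q` of type 2, lies in `Q` (because the stabilizer of a minimal vector is simple).
-/

namespace Cfsg.Agent.Helper90

open Cfsg

variable {G : Type*} [Group G] {z : G}
  {Q : Subgroup (Subgroup.centralizer ({z} : Set G))} [Q.Normal]
  {e : (Subgroup.centralizer ({z} : Set G)) ⧸ Q ≃* Spor.Co1}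
  {ψ : leechLattice → Q ⧸ Subgroup.center Q}

theorem le_of_type_two (hE : ExtraData Q (zC z)) (hψ : IsLeechModTwoIso Q e ψ) (s : Q)
    (hs1 : (s : Subgroup.centralizer ({z} : Set G)) ≠ 1)
    (hsz : (s : Subgroup.centralizer ({z} : Set G)) ≠ zC z)
    (v : leechLattice) (hv : ψ v = QuotientGroup.mk s) (hv32 : sqNorm (v : GolayPt → ℤ) = 32)
    (hsimple : IsSimpleGroup (MulAction.stabilizer Co0 v))
    (hcard : Nat.card (MulAction.stabilizer Co0 v) = 42305421312000)
    (R : Subgroup (Subgroup.centralizer ({z} : Set G))) (hR2 : IsPGroup 2 R)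
    (hRs : ∀ r ∈ R, r * s = s * r)
    (hRn : ∀ x : Subgroup.centralizer ({z} : Set G), x * s = s * x → ∀ r ∈ R, x * r * x⁻¹ ∈ R) :
    R ≤ Q := by
  let π := QuotientGroup.mk' Q
  let φ : MulAction.stabilizer Co0 v →* (Subgroup.centralizer ({z} : Set G)) ⧸ Q :=
    e.symm.toMonoidHom.comp
      ((QuotientGroup.mk' (Subgroup.center Co0)).comp (MulAction.stabilizer Co0 v).subtype)
  have hφ : ∀ γ : MulAction.stabilizer Co0 v, e (φ γ) = (QuotientGroup.mk (γ : Co0) : Spor.Co1) := by
    intro γ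
    simp [φ]
  -- the two directions
  have c1 : ∀ x : Subgroup.centralizer ({z} : Set G), x * s = s * x →
      ∃ γ : MulAction.stabilizer Co0 v, φ γ = π x := by
    intro x hx
    obtain ⟨γ, hγv, hγ⟩ := exists_stab_of_comm hψ s v hv hv32 x hx
    refine ⟨⟨γ, MulAction.mem_stabilizer_iff.2 hγv⟩, ?_⟩
    apply e.injective
    rw [hφ]
    exact hγ
  have c2 : ∀ γ : MulAction.stabilizer Co0 v, ∃ x : Subgroup.centralizer ({z} : Set G),
      x * s = s * x ∧ π x = φ γ := by
    intro γ
    obtain ⟨x, hx, hγ⟩ := exists_comm_of_stab hE hψ s hs1 hsz v hv (γ : Co0)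
      (MulAction.mem_stabilizer_iff.1 γ.2)
    refine ⟨x, hx, ?_⟩
    apply e.injective
    rw [hφ]
    exact hγ.symm
  -- the normal subgroup
  let N : Subgroup (MulAction.stabilizer Co0 v) := (R.map π).comap φ
  have hN : N.Normal := by
    refine ⟨fun n hn γ => ?_⟩
    rw [Subgroup.mem_comap] at hn ⊢
    obtain ⟨r, hr, hrn⟩ := hn
    obtain ⟨x, hx, hxγ⟩ := c2 γ
    refine ⟨x * r * x⁻¹, hRn x hx r hr, ?_⟩
    rw [map_mul, map_mul, map_inv, map_mul, map_mul, map_inv, hrn, hxγ]
  rcases hsimple.eq_bot_or_eq_top_of_normal N hN with hN0 | hN1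
  · intro r hr
    obtain ⟨γ, hγ⟩ := c1 r (hRs r hr)
    have hγN : γ ∈ N := by
      rw [Subgroup.mem_comap, hγ]
      exact ⟨r, hr, rfl⟩
    rw [hN0, Subgroup.mem_bot] at hγN
    rw [hγN, map_one] at hγ
    exact (QuotientGroup.eq_one_iff r).1 hγ.symm
  · exfalso
    have hmem : ∀ γ : MulAction.stabilizer Co0 v, φ γ ∈ R.map π := by
      intro γ
      have : γ ∈ N := by rw [hN1]; trivial
      exact this
    let φ' : MulAction.stabilizer Co0 v →* ↥(R.map π) := φ.codRestrict (R.map π) hmem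
    have hinj : Function.Injective φ' := by
      rw [injective_iff_map_eq_one]
      intro γ hγ
      have h1 : φ γ = 1 := congrArg Subtype.val hγ
      have h2 := hφ γ
      rw [h1, map_one] at h2
      have h3 : (γ : Co0) ∈ Subgroup.center Co0 := (QuotientGroup.eq_one_iff _).1 h2.symm
      rcases Cfsg.Agent.Helper8.center_eq_or _ h3 with h4 | h4
      · exact Subtype.ext h4
      · exfalso
        have h5 : (γ : Co0) • v = v := MulAction.mem_stabilizer_iff.1 γ.2
        rw [h4, Cfsg.Agent.Helper8.negCo0_smul] at h5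
        have h6 : (v : GolayPt → ℤ) ≠ -(v : GolayPt → ℤ) :=
          Cfsg.Agent.Helper8.ne_neg_of_sqNorm_ne_zero (by rw [hv32]; norm_num)
        apply h6
        have := congrArg (fun w : leechLattice => (w : GolayPt → ℤ)) h5
        simp only [AddSubgroup.coe_neg] at this
        exact this.symm
    have hp : IsPGroup 2 (MulAction.stabilizer Co0 v) :=
      (hR2.map π).of_injective φ' hinj
    haveI : Finite (MulAction.stabilizer Co0 v) :=
      Nat.finite_of_card_ne_zero (by rw [hcard]; norm_num)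
    obtain ⟨k, hk⟩ := hp.exists_card_eq
    rw [hcard] at hk
    have h3 : (3 : ℕ) ∣ 2 ^ k := by rw [← hk]; norm_num
    have := (Nat.Prime.dvd_of_dvd_pow Nat.prime_three h3)
    omega

end Cfsg.Agent.Helper90
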