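import Mathlib

set_option autoImplicit false

/-!
Closure arguments for commutators and squares: if two subgroups `A`, `B` normalize `E` and all
commutators and squares of their elements lie in `E`, the same holds in `A ⊔ B`.
-/

namespace Cfsg.Agent.Helper90

variable {G : Type*} [Group G]

/-- induction principle on `A ⊔ B`, carrying membership -/
theorem sup_induction' {A B : Subgroup G} {p : G → Prop}
    (hA : ∀ a ∈ A, p a) (hB : ∀ b ∈ B, p b) (h1 : p 1)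
    (hmul : ∀ x y, x ∈ A ⊔ B → y ∈ A ⊔ B → p x → p y → p (x * y))
    (hinv : ∀ x, x ∈ A ⊔ B → p x → p x⁻¹) {x : G} (hx : x ∈ A ⊔ B) : p x := by
  have hx' : x ∈ Subgroup.closure ((A : Set G) ∪ (B : Set G)) := by
    rw [Subgroup.closure_union, Subgroup.closure_eq, Subgroup.closure_eq]
    exact hx
  have hcl : ∀ y, y ∈ Subgroup.closure ((A : Set G) ∪ (B : Set G)) → y ∈ A ⊔ B := by
    intro y hy
    rw [Subgroup.closure_union, Subgroup.closure_eq, Subgroup.closure_eq] at hy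
    exact hy
  induction hx' using Subgroup.closure_induction with
  | mem y hy =>
    rcases hy with hy | hy
    · exact hA y hy
    · exact hB y hy
  | one => exact h1
  | mul y y' hy hy' ihy ihy' =>
    exact hmul y y' (hcl y hy) (hcl y' hy') (ihy (hcl y hy)) (ihy' (hcl y' hy'))
  | inv y hy ihy => exact hinv y (hcl y hy) (ihy (hcl y hy))

/-- commutators and squares in `A ⊔ B` modulo a subgroup `E` normalized by `A` and `B`. -/
theorem comm_sq_mem_of_sup {A B E : Subgroup G}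
    (hAN : A ≤ Subgroup.normalizer (E : Set G)) (hBN : B ≤ Subgroup.normalizer (E : Set G))
    (hAA : ∀ x ∈ A, ∀ y ∈ A, x * y * x⁻¹ * y⁻¹ ∈ E)
    (hBB : ∀ x ∈ B, ∀ y ∈ B, x * y * x⁻¹ * y⁻¹ ∈ E)
    (hAB : ∀ x ∈ A, ∀ y ∈ B, x * y * x⁻¹ * y⁻¹ ∈ E)
    (hsqA : ∀ x ∈ A, x * x ∈ E) (hsqB : ∀ x ∈ B, x * x ∈ E) :
    ∀ x ∈ A ⊔ B, ∀ y ∈ A ⊔ B, x * y * x⁻¹ * y⁻¹ ∈ E ∧ x * x ∈ E := by
  have hN : A ⊔ B ≤ Subgroup.normalizer (E : Set G) := sup_le hAN hBN
  have hconj : ∀ r ∈ A ⊔ B, ∀ e ∈ E, r * e * r⁻¹ ∈ E := fun r hr e he =>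
    (Subgroup.mem_normalizer_iff.mp (hN hr) e).mp he
  have hconj' : ∀ r ∈ A ⊔ B, ∀ e ∈ E, r⁻¹ * e * r ∈ E := fun r hr e he => by
    have := (Subgroup.mem_normalizer_iff.mp (Subgroup.inv_mem _ (hN hr)) e).mp he
    simpa using this
  have hBA : ∀ x ∈ B, ∀ y ∈ A, x * y * x⁻¹ * y⁻¹ ∈ E := by
    intro x hx y hy
    have := E.inv_mem (hAB y hy x hx)
    have e : (y * x * y⁻¹ * x⁻¹)⁻¹ = x * y * x⁻¹ * y⁻¹ := by group
    rwa [e] at this
  -- step 1: generators against everything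
  have step1 : ∀ x, (x ∈ A ∨ x ∈ B) → ∀ y ∈ A ⊔ B, x * y * x⁻¹ * y⁻¹ ∈ E := by
    intro x hx y hy
    refine sup_induction' (p := fun y => x * y * x⁻¹ * y⁻¹ ∈ E) ?_ ?_ ?_ ?_ ?_ hy
    · intro a ha
      rcases hx with hx | hx
      · exact hAA x hx a ha
      · exact hBA x hx a ha
    · intro b hb
      rcases hx with hx | hx
      · exact hAB x hx b hb
      · exact hBB x hx b hb
    · simp
    · intro y y' hy _ ih ih'
      have e : x * (y * y') * x⁻¹ * (y * y')⁻¹ =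
          (x * y * x⁻¹ * y⁻¹) * (y * (x * y' * x⁻¹ * y'⁻¹) * y⁻¹) := by group
      rw [e]
      exact E.mul_mem ih (hconj y hy _ ih')
    · intro y hy ih
      have e : x * y⁻¹ * x⁻¹ * y⁻¹⁻¹ = y⁻¹ * (x * y * x⁻¹ * y⁻¹)⁻¹ * y := by group
      rw [e]
      exact hconj' y hy _ (E.inv_mem ih)
  -- step 2: everything against everything
  have step2 : ∀ x ∈ A ⊔ B, ∀ y ∈ A ⊔ B, x * y * x⁻¹ * y⁻¹ ∈ E := by
    intro x hx y hy
    refine sup_induction' (p := fun x => x * y * x⁻¹ * y⁻¹ ∈ E) ?_ ?_ ?_ ?_ ?_ hx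
    · intro a ha; exact step1 a (Or.inl ha) y hy
    · intro b hb; exact step1 b (Or.inr hb) y hy
    · simp
    · intro x x' hx _ ih ih'
      have e : (x * x') * y * (x * x')⁻¹ * y⁻¹ =
          (x * (x' * y * x'⁻¹ * y⁻¹) * x⁻¹) * (x * y * x⁻¹ * y⁻¹) := by group
      rw [e]
      exact E.mul_mem (hconj x hx _ ih') ih
    · intro x hx ih
      have e : x⁻¹ * y * x⁻¹⁻¹ * y⁻¹ = x⁻¹ * (x * y * x⁻¹ * y⁻¹)⁻¹ * x := by group
      rw [e]
      exact hconj' x hx _ (E.inv_mem ih)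
  -- step 3: squares
  have step3 : ∀ x ∈ A ⊔ B, x * x ∈ E := by
    intro x hx
    refine sup_induction' (p := fun x => x * x ∈ E) hsqA hsqB ?_ ?_ ?_ hx
    · simp
    · intro x y hx hy ih ih'
      have e : (x * y) * (x * y) = (x * x) * (x⁻¹ * y * x⁻¹⁻¹ * y⁻¹) * (y * y) := by group
      rw [e]
      exact E.mul_mem (E.mul_mem ih (step2 x⁻¹ (Subgroup.inv_mem _ hx) y hy)) ih'
    · intro x _ ih
      have e : x⁻¹ * x⁻¹ = (x * x)⁻¹ := by group
      rw [e]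
      exact E.inv_mem ih
  intro x hx y hy
  exact ⟨step2 x hx y hy, step3 x hx⟩

end Cfsg.Agent.Helper90
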