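import Mathlib
import Cfsg.Prelude.Def_MonsterType
import Cfsg.Agent.Helper90.Pair
import Cfsg.Agent.Helper90.FrattiniPow

set_option autoImplicit false

/-!
More on the pair `z`, `b = g z g⁻¹`: transport of `ExtraData` to the conjugate `g Q g⁻¹`, squares,
and the four-group `V = ⟨z, b⟩`.
-/

namespace Cfsg.Agent.Helper90

open Cfsg

namespace ExtraData

variable {G : Type*} [Group G] {Q : Subgroup G} {z : G}

/-- squares of elements of an extraspecial 2-subgroup lie in `{1, z}` -/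
theorem sq_cases [Finite G] (hE : ExtraData Q z) (hL1 : Cfsg.IsExtraspecial 2 ↥Q) {x : G}
    (hx : x ∈ Q) : x * x = 1 ∨ x * x = z := by
  have : Fact (Nat.Prime 2) := ⟨Nat.prime_two⟩
  have h1 : (⟨x, hx⟩ : Q) ^ 2 ∈ frattini ↥Q := pow_prime_mem_frattini hL1.1.1 _
  rw [hL1.1.2.1] at h1
  apply hE.zall
  refine ⟨_, h1, ?_⟩
  simp [pow_two]

/-- `ExtraData` is transported by conjugation. -/
theorem conj (hE : ExtraData Q z) (g : G) :
    ExtraData (Q.map (MulAut.conj g).toMonoidHom) (g * z * g⁻¹) := by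
  have key : ∀ x : G, x ∈ (Subgroup.center ↥(Q.map (MulAut.conj g).toMonoidHom)).map
      (Q.map (MulAut.conj g).toMonoidHom).subtype ↔
      g⁻¹ * x * g ∈ (Subgroup.center ↥Q).map Q.subtype := by
    intro x
    rw [mem_center_map_iff, mem_center_map_iff, mem_map_conj_iff]
    constructor
    · rintro ⟨h1, h2⟩
      refine ⟨h1, fun q hq => ?_⟩
      have h3 := h2 (g * q * g⁻¹) (conj_mem_map_conj Q g hq)
      calc q * (g⁻¹ * x * g) = g⁻¹ * ((g * q * g⁻¹) * x) * g := by group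
        _ = g⁻¹ * (x * (g * q * g⁻¹)) * g := by rw [h3]
        _ = g⁻¹ * x * g * q := by group
    · rintro ⟨h1, h2⟩
      refine ⟨h1, fun q hq => ?_⟩
      rw [mem_map_conj_iff] at hq
      have h3 := h2 _ hq
      calc q * x = g * ((g⁻¹ * q * g) * (g⁻¹ * x * g)) * g⁻¹ := by group
        _ = g * ((g⁻¹ * x * g) * (g⁻¹ * q * g)) * g⁻¹ := by rw [h3]
        _ = x * q := by group
  have e1 : ∀ x : G, g⁻¹ * (g * x * g⁻¹) * g = x := fun x => by group
  refine ⟨conj_mem_map_conj Q g hE.zQ, ?_, ?_, ?_, ?_, ?_, ?_, ?_⟩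
  · intro h
    apply hE.z1
    calc z = g⁻¹ * (g * z * g⁻¹) * g := by group
      _ = 1 := by rw [h]; group
  · calc g * z * g⁻¹ * (g * z * g⁻¹) = g * (z * z) * g⁻¹ := by group
      _ = 1 := by rw [hE.zz]; group
  · intro q hq
    rw [mem_map_conj_iff] at hq
    have h3 := hE.zc _ hq
    calc q * (g * z * g⁻¹) = g * ((g⁻¹ * q * g) * z) * g⁻¹ := by group
      _ = g * (z * (g⁻¹ * q * g)) * g⁻¹ := by rw [h3]
      _ = g * z * g⁻¹ * q := by group
  · intro x hx y hy
    rw [mem_map_conj_iff] at hx hy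
    have e : x * y * x⁻¹ * y⁻¹ =
        g * ((g⁻¹ * x * g) * (g⁻¹ * y * g) * (g⁻¹ * x * g)⁻¹ * (g⁻¹ * y * g)⁻¹) * g⁻¹ := by group
    rcases hE.comm _ hx _ hy with h | h
    · left; rw [e, h]; group
    · right; rw [e, h]
  · intro x hx hc
    rw [mem_map_conj_iff] at hx
    have h1 : ∀ q ∈ Q, q * (g⁻¹ * x * g) = (g⁻¹ * x * g) * q := by
      intro q hq
      have h3 := hc (g * q * g⁻¹) (conj_mem_map_conj Q g hq)
      calc q * (g⁻¹ * x * g) = g⁻¹ * ((g * q * g⁻¹) * x) * g := by group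
        _ = g⁻¹ * (x * (g * q * g⁻¹)) * g := by rw [h3]
        _ = g⁻¹ * x * g * q := by group
    rcases hE.cen _ hx h1 with h | h
    · left
      calc x = g * (g⁻¹ * x * g) * g⁻¹ := by group
        _ = 1 := by rw [h]; group
    · right
      calc x = g * (g⁻¹ * x * g) * g⁻¹ := by group
        _ = g * z * g⁻¹ := by rw [h]
  · rw [key, e1]
    exact hE.zmem
  · intro x hx
    rw [key] at hx
    rcases hE.zall _ hx with h | h
    · left
      calc x = g * (g⁻¹ * x * g) * g⁻¹ := by group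
        _ = 1 := by rw [h]; group
    · right
      calc x = g * (g⁻¹ * x * g) * g⁻¹ := by group
        _ = g * z * g⁻¹ := by rw [h]

/-- squares of elements of the conjugate `g Q g⁻¹` lie in `{1, g z g⁻¹}` -/
theorem sq_cases_conj [Finite G] (hE : ExtraData Q z) (hL1 : Cfsg.IsExtraspecial 2 ↥Q) (g : G) {x : G}
    (hx : x ∈ Q.map (MulAut.conj g).toMonoidHom) : x * x = 1 ∨ x * x = g * z * g⁻¹ := by
  rw [mem_map_conj_iff] at hx
  have e : x * x = g * ((g⁻¹ * x * g) * (g⁻¹ * x * g)) * g⁻¹ := by group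
  rcases hE.sq_cases hL1 hx with h | h
  · left; rw [e, h]; group
  · right; rw [e, h]

end ExtraData

end Cfsg.Agent.Helper90
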