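import Mathlib
import Cfsg.Prelude.Def_MonsterType
import Cfsg.Agent.Helper90.PairV

set_option autoImplicit false

/-!
The common setting of the statements about a large extraspecial 2-subgroup `Q` with `Z(Q) = ⟨z⟩`
and a conjugate `b = g z g⁻¹ ∈ Q`, `g ∉ C(z)`.
-/

namespace Cfsg.Agent.Helper90

open Cfsg

/-- membership in the four-group `Z ⊔ g Z g⁻¹` -/
theorem mem_sup_conj_iff {G : Type*} [Group G] {Q : Subgroup G} {z : G} (hE : ExtraData Q z)
    {g b : G} (hb : b = g * z * g⁻¹) (hbQ : b ∈ Q) (x : G) :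
    x ∈ ((Subgroup.center ↥Q).map Q.subtype) ⊔
      (((Subgroup.center ↥Q).map Q.subtype)).map (MulAut.conj g).toMonoidHom ↔
      x = 1 ∨ x = z ∨ x = b ∨ x = z * b := by
  have hzb : z * b = b * z := (hE.zc b hbQ).symm
  have hbZg : b ∈ ((Subgroup.center ↥Q).map Q.subtype).map (MulAut.conj g).toMonoidHom := by
    rw [hb]; exact conj_mem_map_conj _ g hE.zmem
  have hZgall : ∀ x ∈ ((Subgroup.center ↥Q).map Q.subtype).map (MulAut.conj g).toMonoidHom,
      x = 1 ∨ x = b := by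
    intro x hx
    rw [mem_map_conj_iff] at hx
    rcases hE.zall _ hx with h | h
    · left
      calc x = g * (g⁻¹ * x * g) * g⁻¹ := by group
        _ = 1 := by rw [h]; group
    · right
      calc x = g * (g⁻¹ * x * g) * g⁻¹ := by group
        _ = b := by rw [h, hb]
  constructor
  · intro hx
    have hle : ((Subgroup.center ↥Q).map Q.subtype) ≤ Subgroup.normalizer
        (((((Subgroup.center ↥Q).map Q.subtype)).map (MulAut.conj g).toMonoidHom : Subgroup G) :
          Set G) := by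
      intro a ha
      apply Subgroup.centralizer_le_normalizer
      rw [Subgroup.mem_centralizer_iff]
      intro c hc
      rcases hZgall c hc with rfl | rfl <;> rcases hE.zall a ha with rfl | rfl
      · simp
      · simp
      · simp
      · exact hzb.symm
    have hx' : x ∈ ((((Subgroup.center ↥Q).map Q.subtype) ⊔
        (((Subgroup.center ↥Q).map Q.subtype)).map (MulAut.conj g).toMonoidHom : Subgroup G) :
          Set G) := hx
    rw [Subgroup.coe_mul_of_left_le_normalizer_right _ _ hle] at hx'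
    obtain ⟨a, ha, c, hc, rfl⟩ := hx'
    rcases hE.zall a ha with rfl | rfl <;> rcases hZgall c hc with rfl | rfl
    · left; simp
    · right; right; left; simp
    · right; left; simp
    · right; right; right; rfl
  · rintro (rfl | rfl | rfl | rfl)
    · exact Subgroup.one_mem _
    · exact Subgroup.mem_sup_left hE.zmem
    · exact Subgroup.mem_sup_right hbZg
    · exact Subgroup.mul_mem _ (Subgroup.mem_sup_left hE.zmem) (Subgroup.mem_sup_right hbZg)

/-- the subgroup generated by `z` and `g z g⁻¹` is `Z ⊔ g Z g⁻¹` -/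
theorem closure_pair_eq {G : Type*} [Group G] {Q : Subgroup G} {z : G}
    (hz : ((Subgroup.center ↥Q).map Q.subtype) = Subgroup.zpowers z) (g : G) :
    Subgroup.closure ({z, g * z * g⁻¹} : Set G) = ((Subgroup.center ↥Q).map Q.subtype) ⊔
      (((Subgroup.center ↥Q).map Q.subtype)).map (MulAut.conj g).toMonoidHom := by
  have h1 : ({z, g * z * g⁻¹} : Set G) = {z} ∪ {g * z * g⁻¹} := Set.insert_eq _ _
  rw [h1, Subgroup.closure_union, ← Subgroup.zpowers_eq_closure, ← Subgroup.zpowers_eq_closure, hz,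
    MonoidHom.map_zpowers]
  rfl

/-- an element commuting with `g z g⁻¹` normalizes `g Q g⁻¹` -/
theorem mem_normalizer_conj_of_comm {G : Type*} [Group G] {Q : Subgroup G} {z : G}
    (hE : ExtraData Q z)
    (hL3 : Subgroup.centralizer (((Subgroup.center ↥Q).map Q.subtype) : Set G) ≤
      Subgroup.normalizer (Q : Set G)) (g : G) {c : G}
    (hc : c * (g * z * g⁻¹) = (g * z * g⁻¹) * c) :
    c ∈ Subgroup.normalizer ((Q.map (MulAut.conj g).toMonoidHom : Subgroup G) : Set G) := by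
  have hc' : (g⁻¹ * c * g) * z = z * (g⁻¹ * c * g) := by
    calc (g⁻¹ * c * g) * z = g⁻¹ * (c * (g * z * g⁻¹)) * g := by group
      _ = g⁻¹ * ((g * z * g⁻¹) * c) * g := by rw [hc]
      _ = z * (g⁻¹ * c * g) := by group
  have hn := mem_normalizer_of_comm hE hL3 hc'
  rw [Subgroup.mem_normalizer_iff]
  intro x
  rw [mem_map_conj_iff, mem_map_conj_iff, Subgroup.mem_normalizer_iff.mp hn (g⁻¹ * x * g)]
  have e : g⁻¹ * c * g * (g⁻¹ * x * g) * (g⁻¹ * c * g)⁻¹ = g⁻¹ * (c * x * c⁻¹) * g := by group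
  rw [e]

/-- The facts shared by the statements on a conjugate `g z g⁻¹ ∈ Q` of the central involution of a large
extraspecial 2-subgroup. -/
theorem pair_setting {G : Type*} [Group G] [Finite G] (Q : Subgroup G)
    (hQ : Cfsg.IsLargeExtraspecial Q) (z : G)
    (hz : ((Subgroup.center ↥Q).map Q.subtype) = Subgroup.zpowers z) (hz2 : orderOf z = 2)
    (g : G) (hgH : g ∉ Subgroup.centralizer ({z} : Set G)) (hgQ : g * z * g⁻¹ ∈ Q) :
    ExtraData Q z ∧ ExtraData (Q.map (MulAut.conj g).toMonoidHom) (g * z * g⁻¹) ∧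
      g * z * g⁻¹ ≠ z ∧ z ∈ Q.map (MulAut.conj g).toMonoidHom := by
  obtain ⟨hL1, hL2, hL3, -⟩ := hQ
  obtain ⟨z', hE'⟩ := exists_extraData hL1
  have hz1 : z ≠ 1 := by
    intro h
    rw [h, orderOf_one] at hz2
    exact absurd hz2 (by norm_num)
  have hzZ : z ∈ (Subgroup.center ↥Q).map Q.subtype := by
    rw [hz]; exact Subgroup.mem_zpowers z
  have hzz' : z = z' := (hE'.zall z hzZ).resolve_left hz1
  subst hzz'
  have hbz : g * z * g⁻¹ ≠ z := by
    intro h
    apply hgH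
    rw [Subgroup.mem_centralizer_iff]
    intro x hx
    rw [Set.mem_singleton_iff] at hx
    subst hx
    calc x * g = (g * x * g⁻¹) * g := by rw [h]
      _ = g * x := by group
  have hb1 : g * z * g⁻¹ ≠ 1 := by
    intro h
    apply hz1
    calc z = g⁻¹ * (g * z * g⁻¹) * g := by group
      _ = 1 := by rw [h]; group
  have hg : g ∉ Subgroup.normalizer (((Subgroup.center ↥Q).map Q.subtype : Subgroup G) : Set G) := by
    intro h
    rcases hE'.zall _ (conj_mem_of_mem_normalizer h hzZ) with h1 | h1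
    · exact hb1 h1
    · exact hbz h1
  have hZg : (((Subgroup.center ↥Q).map Q.subtype)).map (MulAut.conj g).toMonoidHom ≤ Q := by
    intro x hx
    rw [mem_map_conj_iff] at hx
    rcases hE'.zall _ hx with h | h
    · have : x = 1 := by
        calc x = g * (g⁻¹ * x * g) * g⁻¹ := by group
          _ = 1 := by rw [h]; group
      rw [this]; exact Q.one_mem
    · have : x = g * z * g⁻¹ := by
        calc x = g * (g⁻¹ * x * g) * g⁻¹ := by group
          _ = g * z * g⁻¹ := by rw [h]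
      rw [this]; exact hgQ
  -- `z ∈ g Q g⁻¹` (this part of S5422 does not use the width)
  refine ⟨hE', hE'.conj g, hbz, ?_⟩
  -- re-run the argument of S5422 through its helper lemmas
  have hbQ := hgQ
  obtain ⟨n, hnb, hnz⟩ := exists_conj_z_to_zb hE' hL1 hL2 hL3 g _ rfl hbQ hbz
  have hbZ : g * z * g⁻¹ ∉ (Subgroup.center ↥Q).map Q.subtype := by
    intro h
    rcases hE'.zall _ h with h1 | h1
    · exact hb1 h1
    · exact hbz h1
  obtain ⟨y, hyQ, hyb⟩ := hE'.exists_conj hbQ hbZ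
  have hbb : (g * z * g⁻¹) * (g * z * g⁻¹) = 1 := (hE'.conj g).zz
  have hyz : y * z * y⁻¹ = z := by
    rw [hE'.zc y hyQ]; group
  have hnb' : n * (g * z * g⁻¹) * n⁻¹ = g * z * g⁻¹ := by rw [hnb]; group
  have hninv : n⁻¹ * z * n = z * (g * z * g⁻¹) := by
    have h1 : n * (z * (g * z * g⁻¹)) * n⁻¹ = z := by
      calc n * (z * (g * z * g⁻¹)) * n⁻¹ = (n * z * n⁻¹) * (n * (g * z * g⁻¹) * n⁻¹) := by group
        _ = (z * (g * z * g⁻¹)) * (g * z * g⁻¹) := by rw [hnz, hnb']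
        _ = z := by rw [mul_assoc, hbb, mul_one]
    calc n⁻¹ * z * n = n⁻¹ * (n * (z * (g * z * g⁻¹)) * n⁻¹) * n := by rw [h1]
      _ = z * (g * z * g⁻¹) := by group
  have htz : (n * y * n⁻¹) * z * (n * y * n⁻¹)⁻¹ = g * z * g⁻¹ := by
    calc (n * y * n⁻¹) * z * (n * y * n⁻¹)⁻¹ = n * (y * (n⁻¹ * z * n) * y⁻¹) * n⁻¹ := by group
      _ = n * (y * (z * (g * z * g⁻¹)) * y⁻¹) * n⁻¹ := by rw [hninv]
      _ = n * ((y * z * y⁻¹) * (y * (g * z * g⁻¹) * y⁻¹)) * n⁻¹ := by group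
      _ = n * (z * (z * (g * z * g⁻¹))) * n⁻¹ := by rw [hyz, hyb]
      _ = n * (g * z * g⁻¹) * n⁻¹ := by rw [← mul_assoc z z _, hE'.zz, one_mul]
      _ = g * z * g⁻¹ := hnb'
  have htb : (n * y * n⁻¹) * (g * z * g⁻¹) * (n * y * n⁻¹)⁻¹ = z := by
    have h1 : n⁻¹ * (g * z * g⁻¹) * n = g * z * g⁻¹ := by
      calc n⁻¹ * (g * z * g⁻¹) * n = n⁻¹ * ((g * z * g⁻¹) * n) := by group
        _ = n⁻¹ * (n * (g * z * g⁻¹)) := by rw [hnb]
        _ = g * z * g⁻¹ := by group
    calc (n * y * n⁻¹) * (g * z * g⁻¹) * (n * y * n⁻¹)⁻¹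
        = n * (y * (n⁻¹ * (g * z * g⁻¹) * n) * y⁻¹) * n⁻¹ := by group
      _ = n * (y * (g * z * g⁻¹) * y⁻¹) * n⁻¹ := by rw [h1]
      _ = n * (z * (g * z * g⁻¹)) * n⁻¹ := by rw [hyb]
      _ = (n * z * n⁻¹) * (n * (g * z * g⁻¹) * n⁻¹) := by group
      _ = (z * (g * z * g⁻¹)) * (g * z * g⁻¹) := by rw [hnz, hnb']
      _ = z := by rw [mul_assoc, hbb, mul_one]
  rw [mem_map_conj_iff]
  have h1 : ((n * y * n⁻¹)⁻¹ * g) * z = z * ((n * y * n⁻¹)⁻¹ * g) := by
    have h2 : (n * y * n⁻¹)⁻¹ * (g * z * g⁻¹) * (n * y * n⁻¹) = z := by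
      rw [← htz]; group
    calc ((n * y * n⁻¹)⁻¹ * g) * z = ((n * y * n⁻¹)⁻¹ * (g * z * g⁻¹) * (n * y * n⁻¹)) *
          ((n * y * n⁻¹)⁻¹ * g) := by group
      _ = z * ((n * y * n⁻¹)⁻¹ * g) := by rw [h2]
  have h3 := mem_normalizer_of_comm hE' hL3 h1
  have h4 := inv_conj_mem_of_mem_normalizer h3 hbQ
  have e : ((n * y * n⁻¹)⁻¹ * g)⁻¹ * (g * z * g⁻¹) * ((n * y * n⁻¹)⁻¹ * g) =
      g⁻¹ * ((n * y * n⁻¹) * (g * z * g⁻¹) * (n * y * n⁻¹)⁻¹) * g := by group
  rw [e, htb] at h4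
  exact h4

end Cfsg.Agent.Helper90
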