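import Mathlib
import Cfsg.Prelude.Def_MonsterType
import Cfsg.Agent.Helper90.PairSetting
import Cfsg.Agent.Helper90.CommClosure

set_option autoImplicit false

/-!
A symmetric package of facts about two conjugate extraspecial 2-subgroups `Q` (centre `⟨z⟩`) and
`Qg` (centre `⟨b⟩`) with `b ∈ Q`, `z ∈ Qg`, and consequences for
`P = C_Q(b)`, `P' = C_{Qg}(z)`, `R = P' P`, `E = Q ∩ Qg`.
-/

namespace Cfsg.Agent.Helper90

open Cfsg

/-- symmetric context for the pair `(Q, z)`, `(Qg, b)`. -/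
structure PairCtx {G : Type*} [Group G] (Q Qg : Subgroup G) (z b : G) : Prop where
  hEz : ExtraData Q z
  hEb : ExtraData Qg b
  hbz : b ≠ z
  hbQ : b ∈ Q
  hzQg : z ∈ Qg
  normQ : ∀ c : G, c * z = z * c → c ∈ Subgroup.normalizer (Q : Set G)
  normQg : ∀ c : G, c * b = b * c → c ∈ Subgroup.normalizer (Qg : Set G)
  sqQ : ∀ x ∈ Q, x * x = 1 ∨ x * x = z
  sqQg : ∀ x ∈ Qg, x * x = 1 ∨ x * x = b
  cenQ : ∀ x : G, (∀ q ∈ Q, q * x = x * q) → x = 1 ∨ x = z
  cenQg : ∀ x : G, (∀ q ∈ Qg, q * x = x * q) → x = 1 ∨ x = b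

/-- The context holds in the setting of the statements. -/
theorem pairCtx_of_large {G : Type*} [Group G] [Finite G] (Q : Subgroup G)
    (hQ : Cfsg.IsLargeExtraspecial Q) (z : G)
    (hz : ((Subgroup.center ↥Q).map Q.subtype) = Subgroup.zpowers z) (hz2 : orderOf z = 2)
    (g : G) (hgH : g ∉ Subgroup.centralizer ({z} : Set G)) (hgQ : g * z * g⁻¹ ∈ Q) :
    PairCtx Q (Q.map (MulAut.conj g).toMonoidHom) z (g * z * g⁻¹) := by
  obtain ⟨hEz, hEb, hbz, hzQg⟩ := pair_setting Q hQ z hz hz2 g hgH hgQ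
  obtain ⟨hL1, hL2, hL3, -⟩ := hQ
  refine ⟨hEz, hEb, hbz, hgQ, hzQg, fun c hc => mem_normalizer_of_comm hEz hL3 hc,
    fun c hc => mem_normalizer_conj_of_comm hEz hL3 g hc, fun x hx => hEz.sq_cases hL1 hx,
    fun x hx => hEz.sq_cases_conj hL1 g hx, centralizer_cases hEz hL2, ?_⟩
  intro x hx
  have h1 : ∀ q ∈ Q, q * (g⁻¹ * x * g) = (g⁻¹ * x * g) * q := by
    intro q hq
    have h3 := hx (g * q * g⁻¹) (conj_mem_map_conj Q g hq)
    calc q * (g⁻¹ * x * g) = g⁻¹ * ((g * q * g⁻¹) * x) * g := by group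
      _ = g⁻¹ * (x * (g * q * g⁻¹)) * g := by rw [h3]
      _ = g⁻¹ * x * g * q := by group
  rcases centralizer_cases hEz hL2 _ h1 with h | h
  · left
    calc x = g * (g⁻¹ * x * g) * g⁻¹ := by group
      _ = 1 := by rw [h]; group
  · right
    calc x = g * (g⁻¹ * x * g) * g⁻¹ := by group
      _ = g * z * g⁻¹ := by rw [h]

namespace PairCtx

variable {G : Type*} [Group G] {Q Qg : Subgroup G} {z b : G}

/-- the context is symmetric -/
theorem symm (h : PairCtx Q Qg z b) : PairCtx Qg Q b z :=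
  ⟨h.hEb, h.hEz, h.hbz.symm, h.hzQg, h.hbQ, h.normQg, h.normQ, h.sqQg, h.sqQ, h.cenQg, h.cenQ⟩

theorem zb_comm (h : PairCtx Q Qg z b) : z * b = b * z := (h.hEz.zc b h.hbQ).symm

theorem mem_P_iff (x : G) :
    x ∈ Q ⊓ Subgroup.centralizer ({b} : Set G) ↔ x ∈ Q ∧ x * b = b * x := by
  rw [Subgroup.mem_inf, Subgroup.mem_centralizer_iff]
  constructor
  · rintro ⟨h1, h2⟩
    exact ⟨h1, (h2 b rfl).symm⟩
  · rintro ⟨h1, h2⟩
    refine ⟨h1, fun y hy => ?_⟩
    rw [Set.mem_singleton_iff] at hy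
    subst hy
    exact h2.symm

/-- `E = P' ∩ P` -/
theorem inf_P_eq (h : PairCtx Q Qg z b) :
    (Qg ⊓ Subgroup.centralizer ({z} : Set G)) ⊓ (Q ⊓ Subgroup.centralizer ({b} : Set G)) =
      Q ⊓ Qg := by
  ext x
  rw [Subgroup.mem_inf, mem_P_iff, mem_P_iff, Subgroup.mem_inf]
  constructor
  · rintro ⟨⟨h1, _⟩, ⟨h3, _⟩⟩
    exact ⟨h3, h1⟩
  · rintro ⟨h1, h2⟩
    exact ⟨⟨h2, h.hEz.zc x h1⟩, ⟨h1, h.hEb.zc x h2⟩⟩

/-- `P'` normalizes `P` -/
theorem P'_le_normalizer_P (h : PairCtx Q Qg z b) :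
    Qg ⊓ Subgroup.centralizer ({z} : Set G) ≤
      Subgroup.normalizer ((Q ⊓ Subgroup.centralizer ({b} : Set G) : Subgroup G) : Set G) := by
  intro a ha
  rw [mem_P_iff] at ha
  obtain ⟨haQg, haz⟩ := ha
  have hab : a * b = b * a := h.hEb.zc a haQg
  have hN : a ∈ Subgroup.normalizer (Q : Set G) := h.normQ a haz
  have hcent : a ∈ Subgroup.normalizer ((Subgroup.centralizer ({b} : Set G) : Subgroup G) : Set G) := by
    apply Subgroup.le_normalizer
    rw [Subgroup.mem_centralizer_iff]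
    intro y hy
    rw [Set.mem_singleton_iff] at hy
    subst hy
    exact hab.symm
  rw [Subgroup.mem_normalizer_iff]
  intro x
  rw [Subgroup.mem_inf, Subgroup.mem_inf]
  exact and_congr (Subgroup.mem_normalizer_iff.mp hN x) (Subgroup.mem_normalizer_iff.mp hcent x)

/-- the group `R = P' P` centralizes `z`. -/
theorem R_comm_z (h : PairCtx Q Qg z b) {r : G}
    (hr : r ∈ (Qg ⊓ Subgroup.centralizer ({z} : Set G)) ⊔
      (Q ⊓ Subgroup.centralizer ({b} : Set G))) : r * z = z * r := by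
  have hle : (Qg ⊓ Subgroup.centralizer ({z} : Set G)) ⊔ (Q ⊓ Subgroup.centralizer ({b} : Set G)) ≤
      Subgroup.centralizer ({z} : Set G) := by
    apply sup_le inf_le_right
    intro x hx
    rw [Subgroup.mem_centralizer_iff]
    intro y hy
    rw [Set.mem_singleton_iff] at hy
    subst hy
    exact (h.hEz.zc x hx.1).symm
  have := hle hr
  rw [Subgroup.mem_centralizer_iff] at this
  exact (this z rfl).symm

/-- commutators and squares in `R` lie in `E`. -/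
theorem R_comm_sq (h : PairCtx Q Qg z b) :
    ∀ x ∈ (Qg ⊓ Subgroup.centralizer ({z} : Set G)) ⊔ (Q ⊓ Subgroup.centralizer ({b} : Set G)),
    ∀ y ∈ (Qg ⊓ Subgroup.centralizer ({z} : Set G)) ⊔ (Q ⊓ Subgroup.centralizer ({b} : Set G)),
      x * y * x⁻¹ * y⁻¹ ∈ Q ⊓ Qg ∧ x * x ∈ Q ⊓ Qg := by
  have hzE : z ∈ Q ⊓ Qg := ⟨h.hEz.zQ, h.hzQg⟩
  have hbE : b ∈ Q ⊓ Qg := ⟨h.hbQ, h.hEb.zQ⟩
  have hN1 := h.P'_le_normalizer_P
  have hN2 := h.symm.P'_le_normalizer_P
  -- both normalize `E = P' ∩ P`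
  have hEeq := h.inf_P_eq
  have hnormE : ∀ k : G,
      k ∈ Subgroup.normalizer ((Qg ⊓ Subgroup.centralizer ({z} : Set G) : Subgroup G) : Set G) →
      k ∈ Subgroup.normalizer ((Q ⊓ Subgroup.centralizer ({b} : Set G) : Subgroup G) : Set G) →
      k ∈ Subgroup.normalizer ((Q ⊓ Qg : Subgroup G) : Set G) := by
    intro k hk1 hk2
    rw [← hEeq, Subgroup.mem_normalizer_iff]
    intro x
    rw [Subgroup.mem_inf, Subgroup.mem_inf]
    exact and_congr (Subgroup.mem_normalizer_iff.mp hk1 x) (Subgroup.mem_normalizer_iff.mp hk2 x)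
  have hAN : Qg ⊓ Subgroup.centralizer ({z} : Set G) ≤
      Subgroup.normalizer ((Q ⊓ Qg : Subgroup G) : Set G) := fun a ha =>
    hnormE a (Subgroup.le_normalizer ha) (hN1 ha)
  have hBN : Q ⊓ Subgroup.centralizer ({b} : Set G) ≤
      Subgroup.normalizer ((Q ⊓ Qg : Subgroup G) : Set G) := fun p hp =>
    hnormE p (hN2 hp) (Subgroup.le_normalizer hp)
  apply comm_sq_mem_of_sup hAN hBN
  · intro x hx y hy
    rcases h.hEb.comm x hx.1 y hy.1 with h1 | h1
    · rw [h1]; exact Subgroup.one_mem _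
    · rw [h1]; exact hbE
  · intro x hx y hy
    rcases h.hEz.comm x hx.1 y hy.1 with h1 | h1
    · rw [h1]; exact Subgroup.one_mem _
    · rw [h1]; exact hzE
  · intro a ha p hp
    rw [← hEeq]
    refine ⟨?_, ?_⟩
    · -- in `P'`: `a * (p a⁻¹ p⁻¹)`
      have h1 := (Subgroup.mem_normalizer_iff.mp (hN2 hp) a⁻¹).mp (Subgroup.inv_mem _ ha)
      have h2 := Subgroup.mul_mem _ ha h1
      have e : a * (p * a⁻¹ * p⁻¹) = a * p * a⁻¹ * p⁻¹ := by group
      rwa [e] at h2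
    · -- in `P`: `(a p a⁻¹) * p⁻¹`
      have h1 := (Subgroup.mem_normalizer_iff.mp (hN1 ha) p).mp hp
      exact Subgroup.mul_mem _ h1 (Subgroup.inv_mem _ hp)
  · intro x hx
    rcases h.sqQg x hx.1 with h1 | h1
    · rw [h1]; exact Subgroup.one_mem _
    · rw [h1]; exact hbE
  · intro x hx
    rcases h.sqQ x hx.1 with h1 | h1
    · rw [h1]; exact Subgroup.one_mem _
    · rw [h1]; exact hzE

end PairCtx

end Cfsg.Agent.Helper90
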