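import Mathlib

set_option autoImplicit false

namespace Cfsg.Agent.Helper90

/-- Orbit–stabilizer for the conjugation action of a subgroup `K` on an element `x`, in `relIndex` form:
if `s` is exactly the set of `K`-conjugates of `x`, then the centralizer of `x` in `K` has index `s.card`
in `K`. -/
theorem relIndex_centralizer_eq_card {G : Type*} [Group G] (K : Subgroup G) (x : G) (s : Finset G)
    (hs : ∀ o : G, o ∈ s ↔ ∃ k ∈ K, k * x * k⁻¹ = o) :
    (K ⊓ Subgroup.centralizer ({x} : Set G)).relIndex K = s.card := by
  let act : MulAction K G := MulAction.compHom G ((MulAut.conj (G := G)).comp K.subtype)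
  have hsmul : ∀ (k : K) (a : G), k • a = (k : G) * a * (k : G)⁻¹ := fun k a => rfl
  have hstab : MulAction.stabilizer K x = (Subgroup.centralizer ({x} : Set G)).subgroupOf K := by
    ext k
    rw [MulAction.mem_stabilizer_iff, Subgroup.mem_subgroupOf, Subgroup.mem_centralizer_iff, hsmul]
    constructor
    · intro h y hy
      rw [Set.mem_singleton_iff] at hy
      subst hy
      calc y * (k : G) = ((k : G) * y * (k : G)⁻¹) * k := by rw [h]
        _ = k * y := by group
    · intro h
      have := h x (Set.mem_singleton x)
      calc (k : G) * x * (k : G)⁻¹ = (x * k) * (k : G)⁻¹ := by rw [this]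
        _ = x := by group
  have horb : MulAction.orbit K x = (s : Set G) := by
    ext o
    rw [MulAction.mem_orbit_iff, Finset.mem_coe, hs]
    constructor
    · rintro ⟨k, hk⟩
      exact ⟨k, k.2, by rw [← hk, hsmul]⟩
    · rintro ⟨k, hk, hko⟩
      exact ⟨⟨k, hk⟩, by rw [hsmul]; exact hko⟩
  have h1 := MulAction.index_stabilizer K x
  rw [hstab, horb, Set.ncard_coe_finset] at h1
  rw [Subgroup.relIndex, Subgroup.inf_subgroupOf_left]
  exact h1

end Cfsg.Agent.Helper90
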