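import Mathlib
import Cfsg.Prelude.Def_MonsterType
import Cfsg.Agent.Helper90.Large

set_option autoImplicit false

namespace Cfsg.Agent.Helper90

open Cfsg

/-- A fixed-point-free element of square one normalizing a finite subgroup `K` inverts `K`. -/
theorem inverts_of_fixed_point_free {G : Type*} [Group G] {K : Subgroup G} [Finite K] {t : G}
    (ht : t * t = 1) (hn : ∀ k ∈ K, t * k * t⁻¹ ∈ K)
    (hfix : ∀ k ∈ K, t * k * t⁻¹ = k → k = 1) : ∀ k ∈ K, t * k * t⁻¹ = k⁻¹ := by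
  have htinv : t⁻¹ = t := inv_eq_of_mul_eq_one_left ht
  let f : K → K := fun k => ⟨(k : G)⁻¹ * (t * k * t⁻¹), K.mul_mem (K.inv_mem k.2) (hn k k.2)⟩
  have hinj : Function.Injective f := by
    intro k l hkl
    have h := congrArg Subtype.val hkl
    simp only [f] at h
    -- l k⁻¹ is fixed
    have hfixed : t * ((l : G) * (k : G)⁻¹) * t⁻¹ = (l : G) * (k : G)⁻¹ := by
      have e1 : t * (l : G) * t⁻¹ = (l : G) * ((k : G)⁻¹ * (t * k * t⁻¹)) := by
        rw [h]; group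
      calc t * ((l : G) * (k : G)⁻¹) * t⁻¹ = (t * (l : G) * t⁻¹) * (t * (k : G) * t⁻¹)⁻¹ := by group
        _ = (l : G) * ((k : G)⁻¹ * (t * k * t⁻¹)) * (t * (k : G) * t⁻¹)⁻¹ := by rw [e1]
        _ = (l : G) * (k : G)⁻¹ := by group
    have := hfix _ (K.mul_mem l.2 (K.inv_mem k.2)) hfixed
    apply Subtype.ext
    have e : (l : G) = (k : G) := by
      have : (l : G) = ((l : G) * (k : G)⁻¹) * k := by group
      rw [this, ‹(l : G) * (k : G)⁻¹ = 1›, one_mul]
    exact e.symm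
  have hsurj : Function.Surjective f := Finite.surjective_of_injective hinj
  intro x hx
  obtain ⟨k, hk⟩ := hsurj ⟨x, hx⟩
  have hxk : x = (k : G)⁻¹ * (t * k * t⁻¹) := by
    have := congrArg Subtype.val hk
    simpa [f] using this.symm
  rw [hxk]
  have ht' : t⁻¹ * t⁻¹ = 1 := by rw [← mul_inv_rev, ht, inv_one]
  calc t * ((k : G)⁻¹ * (t * k * t⁻¹)) * t⁻¹
      = (t * (k : G)⁻¹ * t⁻¹) * ((t * t) * k * (t⁻¹ * t⁻¹)) := by group
    _ = (t * (k : G)⁻¹ * t⁻¹) * k := by rw [ht, ht', one_mul, mul_one]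
    _ = ((k : G)⁻¹ * (t * k * t⁻¹))⁻¹ := by group

end Cfsg.Agent.Helper90
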