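import Mathlib
import Cfsg.Prelude.Def_MonsterType
import Cfsg.Agent.Helper90.MonCo2
import Cfsg.Agent.Helper90.PairCtx
import Cfsg.Agent.Helper90.EsTransfer
import Cfsg.Agent.Helper90.LgSetting
import Cfsg.Agent.Helper53.Heis
import Cfsg.Agent.S5422
import Cfsg.Agent.Helper8.Min32b
import Cfsg.Agent.Helper8.Norm64f

set_option autoImplicit false

/-!
Groups of Monster type: the conjugates of `z` in `Q` other than `z` are of type 4.
-/

namespace Cfsg.Agent.Helper90

open Cfsg

variable {G : Type*} [Group G] {z : G}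
  {Q : Subgroup (Subgroup.centralizer ({z} : Set G))}

theorem mem_map_subtype_iff (x : Subgroup.centralizer ({z} : Set G)) :
    (x : G) ∈ Q.map (Subgroup.centralizer ({z} : Set G)).subtype ↔ x ∈ Q := by
  constructor
  · rintro ⟨y, hy, hyx⟩
    have : y = x := Subtype.ext hyx
    rwa [← this]
  · intro hx
    exact ⟨x, hx, rfl⟩

/-- the set-up common to the statements on groups of Monster type -/
theorem monster_setup [Finite G] [Q.Normal] (hM : IsOfMonsterType z Q) :
    orderOf z = 2 ∧ ExtraData Q (zC z) ∧ Nat.card Q = 2 ^ 25 ∧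
      Nat.card (Q.map (Subgroup.centralizer ({z} : Set G)).subtype) = 2 ^ 25 ∧
      IsLargeExtraspecial (Q.map (Subgroup.centralizer ({z} : Set G)).subtype) ∧
      (Subgroup.center ↥(Q.map (Subgroup.centralizer ({z} : Set G)).subtype)).map
        (Q.map (Subgroup.centralizer ({z} : Set G)).subtype).subtype = Subgroup.zpowers z := by
  obtain ⟨⟨hz, hF, hQ, hcard, hnwc⟩, -⟩ := hM
  have hcard25 : Nat.card Q = 2 ^ 25 := by rw [hcard]
  set Q' : Subgroup G := Q.map (Subgroup.centralizer ({z} : Set G)).subtype with hQ'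
  have hF' : (Cfsg.generalizedFittingSubgroup ↥(Subgroup.centralizer ({z} : Set G))).map
      (Subgroup.centralizer ({z} : Set G)).subtype = Q' := by rw [hF]
  have hQe : Cfsg.IsExtraspecial 2 ↥Q' :=
    Cfsg.Agent.Helper53.isExtraspecial_of_mulEquiv
      (Q.equivMapOfInjective (Subgroup.centralizer ({z} : Set G)).subtype
        (Subgroup.centralizer ({z} : Set G)).subtype_injective) hQ
  have hcard' : Nat.card ↥Q' = 2 ^ (2 * 12 + 1) := by
    rw [← hcard]
    exact (Nat.card_congr (Q.equivMapOfInjective (Subgroup.centralizer ({z} : Set G)).subtype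
      (Subgroup.centralizer ({z} : Set G)).subtype_injective).toEquiv).symm
  obtain ⟨hzQ, hZ, hL2, hL3, hHN, hO2⟩ := setting_facts z hz Q' hF' hQe
  have hE' := extraData_of_center_eq hQe hZ
  -- `ExtraData` inside the centralizer
  obtain ⟨z', hE⟩ := exists_extraData hQ
  have hz'z : z' = zC z := by
    have h1 : (z' : G) ∈ Q' := ⟨z', hE.zQ, rfl⟩
    have h2 : ∀ q ∈ Q', q * (z' : G) = (z' : G) * q := by
      rintro _ ⟨q, hq, rfl⟩
      have := hE.zc q hq
      exact congrArg Subtype.val this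
    rcases hE'.cen _ h1 h2 with h3 | h3
    · exfalso
      apply hE.z1
      exact Subtype.ext h3
    · exact Subtype.ext h3
  rw [hz'z] at hE
  obtain ⟨g, ⟨hq, hgQ⟩, hgz⟩ := hnwc
  have hgQ' : g * z * g⁻¹ ∈ Q' := ⟨⟨g * z * g⁻¹, hq⟩, hgQ, rfl⟩
  have hzall : ∀ x ∈ Subgroup.zpowers z, x = 1 ∨ x = z := by
    intro x hx
    rw [← hZ] at hx
    exact hE'.zall x hx
  have hgnz : g * z * g⁻¹ ∉ Subgroup.zpowers z := by
    intro h1
    rcases hzall _ h1 with h | h
    · apply hE'.z1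
      calc z = g⁻¹ * (g * z * g⁻¹) * g := by group
        _ = 1 := by rw [h]; group
    · exact hgz h
  have hlarge : Cfsg.IsLargeExtraspecial Q' := by
    refine (Cfsg.Agent.S5422.result Q' hQe hL2 hL3 12 (by norm_num) hcard' g ?_ ?_).2.2
    · rw [hZ]
      intro hkN
      exact hgnz (conj_mem_of_mem_normalizer hkN (Subgroup.mem_zpowers z))
    · rw [hZ, MonoidHom.map_zpowers, Subgroup.zpowers_le]
      exact hgQ'
  exact ⟨hz, hE, hcard25, by rw [hcard'], hlarge, hZ⟩

/-- A conjugate of `z` in `Q` other than `z` is not of type 2. -/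
theorem not_type_two [Finite G] [Q.Normal] (hM : IsOfMonsterType z Q)
    {e : (Subgroup.centralizer ({z} : Set G)) ⧸ Q ≃* Spor.Co1}
    {ψ : leechLattice → Q ⧸ Subgroup.center Q} (hψ : IsLeechModTwoIso Q e ψ)
    (hCo2 : ∀ v : leechLattice, sqNorm (v : GolayPt → ℤ) = 32 →
      IsCo2 (MulAction.stabilizer Co0 v))
    (x : Q) (g : G) (hg : g * z * g⁻¹ = ((x : Subgroup.centralizer ({z} : Set G)) : G))
    (hxz : ((x : Subgroup.centralizer ({z} : Set G)) : G) ≠ z)
    (v : leechLattice) (hv : ψ v = QuotientGroup.mk x)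
    (hv32 : sqNorm (v : GolayPt → ℤ) = 32) : False := by
  haveI : Fact (Nat.Prime 2) := ⟨Nat.prime_two⟩
  obtain ⟨hz2, hE, hcard, hcard', hlarge, hZ⟩ := monster_setup hM
  set Q' : Subgroup G := Q.map (Subgroup.centralizer ({z} : Set G)).subtype with hQ'
  have hgH : g ∉ Subgroup.centralizer ({z} : Set G) := by
    intro h
    apply hxz
    rw [← hg]
    have := Subgroup.mem_centralizer_singleton_iff.mp h
    calc g * z * g⁻¹ = (z * g) * g⁻¹ := by rw [this]
      _ = z := by group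
  have hxQ' : g * z * g⁻¹ ∈ Q' := by
    rw [hg]
    exact (mem_map_subtype_iff _).2 x.2
  have hP := pairCtx_of_large Q' hlarge z hZ hz2 g hgH hxQ'
  rw [hg] at hP
  set Qg : Subgroup G := Q'.map (MulAut.conj g).toMonoidHom with hQg
  have hx1 : (x : Subgroup.centralizer ({z} : Set G)) ≠ 1 := by
    intro h
    apply hP.hEb.z1
    rw [h]
    rfl
  have hxzC : (x : Subgroup.centralizer ({z} : Set G)) ≠ zC z := by
    intro h
    apply hxz
    rw [h]
    rfl
  -- the subgroup `R`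
  have hQ'2 : IsPGroup 2 Q' := hlarge.1.1.1
  have hQg2 : IsPGroup 2 Qg := hQ'2.map _
  have hR2 : IsPGroup 2 (Qg.subgroupOf (Subgroup.centralizer ({z} : Set G))) :=
    hQg2.comap_subtype
  have hRs : ∀ r ∈ Qg.subgroupOf (Subgroup.centralizer ({z} : Set G)),
      r * (x : Subgroup.centralizer ({z} : Set G)) = x * r := by
    intro r hr
    rw [Subgroup.mem_subgroupOf] at hr
    apply Subtype.ext
    rw [Subgroup.coe_mul, Subgroup.coe_mul]
    exact hP.hEb.zc _ hr
  have hRn : ∀ c : Subgroup.centralizer ({z} : Set G),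
      c * (x : Subgroup.centralizer ({z} : Set G)) = x * c →
      ∀ r ∈ Qg.subgroupOf (Subgroup.centralizer ({z} : Set G)),
        c * r * c⁻¹ ∈ Qg.subgroupOf (Subgroup.centralizer ({z} : Set G)) := by
    intro c hc r hr
    rw [Subgroup.mem_subgroupOf] at hr ⊢
    have hc' : (c : G) * ((x : Subgroup.centralizer ({z} : Set G)) : G) =
        ((x : Subgroup.centralizer ({z} : Set G)) : G) * c := by
      have := congrArg Subtype.val hc
      rwa [Subgroup.coe_mul, Subgroup.coe_mul] at this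
    have hn := hP.normQg c hc'
    rw [Subgroup.coe_mul, Subgroup.coe_mul, Subgroup.coe_inv]
    exact conj_mem_of_mem_normalizer hn hr
  obtain ⟨hsimple, hcardS⟩ := hCo2 v hv32
  have hRQ := le_of_type_two hE hψ x hx1 hxzC v hv hv32 hsimple hcardS _ hR2 hRs hRn
  -- two non-commuting elements of `C_{Qg}(z)`
  have hcardQg : 32 ≤ Nat.card ↥Qg := by
    rw [hQg, Subgroup.card_map_of_injective (MulAut.conj g).injective, hcard']
    norm_num
  obtain ⟨a, ha, b, hb, hab⟩ := hP.hEb.exists_comm_eq_z hP.hzQg hP.hEz.z1 (Ne.symm hP.hbz) hcardQg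
  have haQ' : a ∈ Q' := by
    have h1 : (⟨a, ha.2⟩ : Subgroup.centralizer ({z} : Set G)) ∈ Q :=
      hRQ (Subgroup.mem_subgroupOf.2 ha.1)
    exact (mem_map_subtype_iff ⟨a, ha.2⟩).2 h1
  have hbQ' : b ∈ Q' := by
    have h1 : (⟨b, hb.2⟩ : Subgroup.centralizer ({z} : Set G)) ∈ Q :=
      hRQ (Subgroup.mem_subgroupOf.2 hb.1)
    exact (mem_map_subtype_iff ⟨b, hb.2⟩).2 h1
  rcases hP.hEz.comm a haQ' b hbQ' with h | h
  · rw [hab] at h
    exact hP.hEb.z1 h
  · rw [hab] at h
    exact hP.hbz h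

/-- A conjugate of `z` in `Q` other than `z` is of type 4. -/
theorem type_four [Finite G] [Q.Normal] (hM : IsOfMonsterType z Q)
    {e : (Subgroup.centralizer ({z} : Set G)) ⧸ Q ≃* Spor.Co1}
    {ψ : leechLattice → Q ⧸ Subgroup.center Q} (hψ : IsLeechModTwoIso Q e ψ)
    (hCo2 : ∀ v : leechLattice, sqNorm (v : GolayPt → ℤ) = 32 →
      IsCo2 (MulAction.stabilizer Co0 v))
    (x : Q) (hx : IsConj z ((x : Subgroup.centralizer ({z} : Set G)) : G))
    (hxz : ((x : Subgroup.centralizer ({z} : Set G)) : G) ≠ z) :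
    ∃ v : leechLattice, sqNorm (v : GolayPt → ℤ) = 64 ∧ ψ v = QuotientGroup.mk x := by
  obtain ⟨hz2, hE, hcard, hcard', hlarge, hZ⟩ := monster_setup hM
  obtain ⟨g, hg⟩ := isConj_iff.1 hx
  have hx1 : (x : Subgroup.centralizer ({z} : Set G)) ≠ 1 := by
    intro h
    apply hE.z1
    apply Subtype.ext
    show z = 1
    have h1 : g * z * g⁻¹ = 1 := by rw [hg, h]; rfl
    calc z = g⁻¹ * (g * z * g⁻¹) * g := by group
      _ = 1 := by rw [h1]; group
  have hxzC : (x : Subgroup.centralizer ({z} : Set G)) ≠ zC z := by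
    intro h
    apply hxz
    rw [h]
    rfl
  have hxx : (x : Subgroup.centralizer ({z} : Set G)) * x = 1 := by
    apply Subtype.ext
    rw [Subgroup.coe_mul, ← hg]
    have hzz : z * z = 1 := congrArg Subtype.val hE.zz
    calc g * z * g⁻¹ * (g * z * g⁻¹) = g * (z * z) * g⁻¹ := by group
      _ = 1 := by rw [hzz]; group
  obtain ⟨v, hv, hcases⟩ := exists_short hψ (QuotientGroup.mk x)
  rcases hcases with h0 | h32 | h48 | h64
  · exfalso
    rw [h0, psi_zero hψ] at hv
    have h1 : x ∈ Subgroup.center ↥Q := (QuotientGroup.eq_one_iff x).1 hv.symm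
    exact not_mem_center_map hE hx1 hxzC ⟨x, h1, rfl⟩
  · exfalso
    exact not_type_two hM hψ hCo2 x g hg hxz v hv h32
  · exfalso
    have hc2 : 2 < Nat.card Q := by rw [hcard]; norm_num
    have h1 := sqvBar_psi hE hc2 hψ v
    rw [hv, sqvBar_mk hE, h48, sqv_of_sq_eq_one hxx] at h1
    revert h1
    decide
  · exact ⟨v, h64, hv⟩

/-- An element of `Q` of type 4 is a conjugate of `z` other than `z`. -/
theorem conj_of_type_four [Finite G] [Q.Normal] (hM : IsOfMonsterType z Q)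
    {e : (Subgroup.centralizer ({z} : Set G)) ⧸ Q ≃* Spor.Co1}
    {ψ : leechLattice → Q ⧸ Subgroup.center Q} (hψ : IsLeechModTwoIso Q e ψ)
    (hCo2 : ∀ v : leechLattice, sqNorm (v : GolayPt → ℤ) = 32 →
      IsCo2 (MulAction.stabilizer Co0 v))
    (x : Q) (v : leechLattice) (hv64 : sqNorm (v : GolayPt → ℤ) = 64)
    (hv : ψ v = QuotientGroup.mk x) :
    IsConj z ((x : Subgroup.centralizer ({z} : Set G)) : G) ∧
      ((x : Subgroup.centralizer ({z} : Set G)) : G) ≠ z := by
  obtain ⟨hz2, hE, hcard, hcard', hlarge, hZ⟩ := monster_setup hM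
  obtain ⟨g₀, ⟨hq, hgQ⟩, hgz⟩ := hM.1.2.2.2.2
  let s₀ : Q := ⟨⟨g₀ * z * g₀⁻¹, hq⟩, hgQ⟩
  have hs₀conj : IsConj z ((s₀ : Subgroup.centralizer ({z} : Set G)) : G) :=
    isConj_iff.2 ⟨g₀, rfl⟩
  obtain ⟨v₀, hv₀64, hv₀⟩ := type_four hM hψ hCo2 s₀ hs₀conj hgz
  obtain ⟨γ, hγ⟩ := Cfsg.Agent.Helper8.co0_transitive_norm64 v₀ v hv₀64 hv64
  have hs1 : (s₀ : Subgroup.centralizer ({z} : Set G)) ≠ 1 := by
    intro h
    apply hE.z1
    apply Subtype.ext
    show z = 1
    have h1 : g₀ * z * g₀⁻¹ = 1 := congrArg Subtype.val h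
    calc z = g₀⁻¹ * (g₀ * z * g₀⁻¹) * g₀ := by group
      _ = 1 := by rw [h1]; group
  have hsz : (s₀ : Subgroup.centralizer ({z} : Set G)) ≠ zC z := by
    intro h
    exact hgz (congrArg Subtype.val h)
  obtain ⟨h, hh⟩ := exists_conj_of_smul hE hψ s₀ x hs1 hsz v₀ v hv₀ hv γ hγ
  have hh' : (h : G) * (g₀ * z * g₀⁻¹) * (h : G)⁻¹ =
      ((x : Subgroup.centralizer ({z} : Set G)) : G) := by
    have := congrArg Subtype.val hh
    rwa [Subgroup.coe_mul, Subgroup.coe_mul, Subgroup.coe_inv] at this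
  constructor
  · rw [isConj_iff]
    refine ⟨(h : G) * g₀, ?_⟩
    rw [← hh']
    group
  · intro hxz
    apply hsz
    have hx : (x : Subgroup.centralizer ({z} : Set G)) = zC z := Subtype.ext hxz
    rw [hx] at hh
    calc (s₀ : Subgroup.centralizer ({z} : Set G)) = h⁻¹ * (h * s₀ * h⁻¹) * h := by group
      _ = h⁻¹ * (zC z * h) := by rw [hh]; group
      _ = h⁻¹ * (h * zC z) := by rw [zC_comm h]
      _ = zC z := by group

/-- An involution of `Q` not conjugate to `z` is of type 2. -/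
theorem type_two_of_not_conj [Finite G] [Q.Normal] (hM : IsOfMonsterType z Q)
    {e : (Subgroup.centralizer ({z} : Set G)) ⧸ Q ≃* Spor.Co1}
    {ψ : leechLattice → Q ⧸ Subgroup.center Q} (hψ : IsLeechModTwoIso Q e ψ)
    (hCo2 : ∀ v : leechLattice, sqNorm (v : GolayPt → ℤ) = 32 →
      IsCo2 (MulAction.stabilizer Co0 v))
    (x : Q) (hx2 : orderOf ((x : Subgroup.centralizer ({z} : Set G)) : G) = 2)
    (hx : ¬ IsConj z ((x : Subgroup.centralizer ({z} : Set G)) : G)) :
    (x : Subgroup.centralizer ({z} : Set G)) ≠ 1 ∧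
      (x : Subgroup.centralizer ({z} : Set G)) ≠ zC z ∧
      ∃ v : leechLattice, sqNorm (v : GolayPt → ℤ) = 32 ∧ ψ v = QuotientGroup.mk x := by
  obtain ⟨hz2, hE, hcard, hcard', hlarge, hZ⟩ := monster_setup hM
  have hx1 : (x : Subgroup.centralizer ({z} : Set G)) ≠ 1 := by
    intro h
    rw [h] at hx2
    change orderOf (1 : G) = 2 at hx2
    rw [orderOf_one] at hx2
    omega
  have hxzC : (x : Subgroup.centralizer ({z} : Set G)) ≠ zC z := by
    intro h
    apply hx
    rw [h]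
    exact IsConj.refl z
  have hxx : (x : Subgroup.centralizer ({z} : Set G)) * x = 1 := by
    apply Subtype.ext
    rw [Subgroup.coe_mul, ← pow_two, ← hx2]
    exact pow_orderOf_eq_one _
  refine ⟨hx1, hxzC, ?_⟩
  obtain ⟨v, hv, hcases⟩ := exists_short hψ (QuotientGroup.mk x)
  rcases hcases with h0 | h32 | h48 | h64
  · exfalso
    rw [h0, psi_zero hψ] at hv
    have h1 : x ∈ Subgroup.center ↥Q := (QuotientGroup.eq_one_iff x).1 hv.symm
    exact not_mem_center_map hE hx1 hxzC ⟨x, h1, rfl⟩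
  · exact ⟨v, h32, hv⟩
  · exfalso
    have hc2 : 2 < Nat.card Q := by rw [hcard]; norm_num
    have h1 := sqvBar_psi hE hc2 hψ v
    rw [hv, sqvBar_mk hE, h48, sqv_of_sq_eq_one hxx] at h1
    revert h1
    decide
  · exfalso
    exact hx (conj_of_type_four hM hψ hCo2 x v h64 hv).1

end Cfsg.Agent.Helper90
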