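import Mathlib
import Cfsg.Prelude.Def_MonsterType
import Cfsg.Agent.Helper90.MonAct
import Cfsg.Agent.Helper90.MonFrame

set_option autoImplicit false

/-!
Groups of Monster type: a 2-subgroup of `C(z)` normalized by `C(z) ∩ C(s)` and centralizing `s`,
for `s ∈ Q` of type 4, has image of order at most `2 ^ 11` in `C(z) / Q`.
-/

namespace Cfsg.Agent.Helper90

open Cfsg Cfsg.Agent.Helper8

variable {G : Type*} [Group G] {z : G}
  {Q : Subgroup (Subgroup.centralizer ({z} : Set G))} [Q.Normal]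
  {e : (Subgroup.centralizer ({z} : Set G)) ⧸ Q ≃* Spor.Co1}
  {ψ : leechLattice → Q ⧸ Subgroup.center Q}

/-- automorphisms fixing the class of `v` are induced by elements fixing `s` -/
theorem exists_comm_of_class (hE : ExtraData Q (zC z)) (hψ : IsLeechModTwoIso Q e ψ) (s : Q)
    (hs1 : (s : Subgroup.centralizer ({z} : Set G)) ≠ 1)
    (hsz : (s : Subgroup.centralizer ({z} : Set G)) ≠ zC z)
    (v : leechLattice) (hv : ψ v = QuotientGroup.mk s)
    (γ : Co0) (hγ : ψ (γ • v) = ψ v) :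
    ∃ x : Subgroup.centralizer ({z} : Set G), x * s = s * x ∧
      (QuotientGroup.mk γ : Spor.Co1) = e (QuotientGroup.mk x) := by
  obtain ⟨cbar, hc⟩ := e.surjective (QuotientGroup.mk γ : Spor.Co1)
  obtain ⟨c, rfl⟩ := QuotientGroup.mk_surjective cbar
  have h1 := hψ.2.2.2 c γ hc.symm v s hv
  rw [hγ, hv] at h1
  rcases mk_eq_cases hE _ _ h1 with h2 | h2
  · refine ⟨c, ?_, hc.symm⟩
    change (s : Subgroup.centralizer ({z} : Set G)) = c * s * c⁻¹ at h2
    calc c * (s : Subgroup.centralizer ({z} : Set G)) = (c * s * c⁻¹) * c := by group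
      _ = s * c := by rw [← h2]
  · change (s : Subgroup.centralizer ({z} : Set G)) = zC z * (c * s * c⁻¹) at h2
    obtain ⟨y, hyQ, hy⟩ := hE.exists_conj s.2 (not_mem_center_map hE hs1 hsz)
    have hy' := hE.inv_conj hyQ hy
    have h3 : c * (s : Subgroup.centralizer ({z} : Set G)) * c⁻¹ = zC z * s := by
      calc c * (s : Subgroup.centralizer ({z} : Set G)) * c⁻¹
          = (zC z * zC z) * (c * s * c⁻¹) := by rw [hE.zz, one_mul]
        _ = zC z * (zC z * (c * s * c⁻¹)) := by group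
        _ = zC z * s := by rw [← h2]
    refine ⟨c * y⁻¹, ?_, ?_⟩
    · have h4 : (c * y⁻¹) * (s : Subgroup.centralizer ({z} : Set G)) * (c * y⁻¹)⁻¹ = s := by
        calc (c * y⁻¹) * (s : Subgroup.centralizer ({z} : Set G)) * (c * y⁻¹)⁻¹
            = c * (y⁻¹ * s * y) * c⁻¹ := by group
          _ = c * (zC z * s) * c⁻¹ := by rw [hy']
          _ = (c * zC z) * s * c⁻¹ := by group
          _ = (zC z * c) * s * c⁻¹ := by rw [zC_comm c]
          _ = zC z * (c * s * c⁻¹) := by group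
          _ = zC z * (zC z * s) := by rw [h3]
          _ = (zC z * zC z) * s := by group
          _ = s := by rw [hE.zz, one_mul]
      calc (c * y⁻¹) * (s : Subgroup.centralizer ({z} : Set G))
          = ((c * y⁻¹) * s * (c * y⁻¹)⁻¹) * (c * y⁻¹) := by group
        _ = s * (c * y⁻¹) := by rw [h4]
    · rw [← hc]
      congr 1
      rw [QuotientGroup.eq]
      have : c⁻¹ * (c * y⁻¹) = y⁻¹ := by group
      rw [this]
      exact Q.inv_mem hyQ

theorem card_map_le_of_type_four (hE : ExtraData Q (zC z)) (hψ : IsLeechModTwoIso Q e ψ) (s : Q)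
    (hs1 : (s : Subgroup.centralizer ({z} : Set G)) ≠ 1)
    (hsz : (s : Subgroup.centralizer ({z} : Set G)) ≠ zC z)
    (w : leechLattice) (hw : ψ w = QuotientGroup.mk s) (hw64 : sqNorm (w : GolayPt → ℤ) = 64)
    (R : Subgroup (Subgroup.centralizer ({z} : Set G))) (hR2 : IsPGroup 2 R)
    (hRs : ∀ r ∈ R, r * s = s * r)
    (hRn : ∀ x : Subgroup.centralizer ({z} : Set G), x * s = s * x → ∀ r ∈ R, x * r * x⁻¹ ∈ R) :
    Nat.card (R.map (QuotientGroup.mk' Q)) ≤ 2 ^ 11 := by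
  haveI : Finite ↥Co0 := Nat.finite_of_card_ne_zero (by rw [card_co0]; norm_num)
  let π := QuotientGroup.mk' Q
  let Φ : ↥Co0 →* (Subgroup.centralizer ({z} : Set G)) ⧸ Q :=
    e.symm.toMonoidHom.comp (QuotientGroup.mk' (Subgroup.center Co0))
  have hΦ : ∀ γ : ↥Co0, e (Φ γ) = (QuotientGroup.mk γ : Spor.Co1) := by
    intro γ
    simp [Φ]
  set T := R.map π with hT
  have hT2 : IsPGroup 2 T := hR2.map π
  -- the two directions
  have c1 : ∀ x : Subgroup.centralizer ({z} : Set G), x * s = s * x →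
      ∃ γ ∈ classStab w, Φ γ = π x := by
    intro x hx
    obtain ⟨γ₀, hγ₀⟩ := QuotientGroup.mk_surjective (e (QuotientGroup.mk x))
    have h1 := hψ.2.2.2 x γ₀ hγ₀ w s hw
    have h2 : (⟨x * s * x⁻¹, (inferInstance : Q.Normal).conj_mem _ s.2 x⟩ : Q) = s := by
      apply Subtype.ext
      show x * (s : Subgroup.centralizer ({z} : Set G)) * x⁻¹ = s
      rw [hx]; group
    rw [h2, ← hw] at h1
    refine ⟨γ₀, (psi_eq_iff hψ _ _).1 h1, ?_⟩
    apply e.injective
    rw [hΦ]
    exact hγ₀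
  have c2 : ∀ γ ∈ classStab w, ∃ x : Subgroup.centralizer ({z} : Set G),
      x * s = s * x ∧ π x = Φ γ := by
    intro γ hγ
    have hγ' : ψ (γ • w) = ψ w := (psi_eq_iff hψ _ _).2 hγ
    obtain ⟨x, hx, hxγ⟩ := exists_comm_of_class hE hψ s hs1 hsz w hw γ hγ'
    refine ⟨x, hx, ?_⟩
    apply e.injective
    rw [hΦ]
    exact hxγ.symm
  -- the normal 2-subgroup
  set P : Subgroup ↥Co0 := classStab w ⊓ T.comap Φ with hP
  have hker2 : IsPGroup 2 Φ.ker := by
    intro γ
    refine ⟨1, ?_⟩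
    have h1 : Φ (γ : ↥Co0) = 1 := γ.2
    have h2 := hΦ (γ : ↥Co0)
    rw [h1, map_one] at h2
    have h3 : (γ : ↥Co0) ∈ Subgroup.center ↥Co0 := (QuotientGroup.eq_one_iff _).1 h2.symm
    apply Subtype.ext
    rw [pow_one, Subgroup.coe_pow, Subgroup.coe_one, pow_two]
    rcases center_eq_or _ h3 with h4 | h4
    · rw [h4, one_mul]
    · rw [h4]
      apply co0_ext
      intro v
      rw [mul_smul, negCo0_smul, negCo0_smul, neg_neg, one_smul]
  have hP2 : IsPGroup 2 P := (hT2.comap_of_ker_isPGroup Φ hker2).to_le inf_le_right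
  have hPn : ∀ γ ∈ classStab w, ∀ p ∈ P, γ * p * γ⁻¹ ∈ P := by
    intro γ hγ p hp
    refine ⟨(classStab w).mul_mem ((classStab w).mul_mem hγ hp.1) ((classStab w).inv_mem hγ), ?_⟩
    show Φ (γ * p * γ⁻¹) ∈ T
    obtain ⟨r, hr, hrp⟩ := hp.2
    obtain ⟨x, hx, hxγ⟩ := c2 γ hγ
    refine ⟨x * r * x⁻¹, hRn x hx r hr, ?_⟩
    rw [map_mul, map_mul, map_inv, map_mul, map_mul, map_inv, hrp, hxγ]
  have hcardP := card_le_of_normal_two w hw64 P inf_le_left hPn hP2
  -- the restriction of `Φ` to `P`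
  let ΦP : ↥P →* (Subgroup.centralizer ({z} : Set G)) ⧸ Q := Φ.comp P.subtype
  have hrange : ΦP.range = T := by
    apply le_antisymm
    · rintro _ ⟨p, rfl⟩
      exact p.2.2
    · intro t ht
      obtain ⟨r, hr, hrt⟩ := ht
      obtain ⟨γ, hγ, hγr⟩ := c1 r (hRs r hr)
      have hγP : γ ∈ P := ⟨hγ, by show Φ γ ∈ T; rw [hγr]; exact ⟨r, hr, rfl⟩⟩
      exact ⟨⟨γ, hγP⟩, by rw [← hrt, ← hγr]; rfl⟩
  have hnegP : negCo0 ∈ P := by
    refine ⟨negCo0_mem_classStab w, ?_⟩
    show Φ negCo0 ∈ T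
    have : Φ negCo0 = 1 := by
      apply e.injective
      rw [hΦ, map_one]
      exact (QuotientGroup.eq_one_iff _).2 negCo0_mem_center
    rw [this]
    exact T.one_mem
  have hker : 2 ≤ Nat.card ΦP.ker := by
    have hne : ΦP.ker ≠ ⊥ := by
      intro h
      have h1 : (⟨negCo0, hnegP⟩ : ↥P) ∈ ΦP.ker := by
        rw [MonoidHom.mem_ker]
        show Φ negCo0 = 1
        apply e.injective
        rw [hΦ, map_one]
        exact (QuotientGroup.eq_one_iff _).2 negCo0_mem_center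
      rw [h, Subgroup.mem_bot] at h1
      exact negCo0_ne_one (congrArg Subtype.val h1)
    exact (Subgroup.one_lt_card_iff_ne_bot _).2 hne
  have h1 := Subgroup.card_mul_index ΦP.ker
  rw [Subgroup.index_ker, hrange] at h1
  have h2 : 2 * Nat.card T ≤ Nat.card P := by
    rw [← h1]
    exact Nat.mul_le_mul_right _ hker
  have : (2 : ℕ) ^ 11 = 2048 := by norm_num
  omega

end Cfsg.Agent.Helper90
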