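import Mathlib
import Cfsg.Prelude.Def_MonsterType
import Cfsg.Agent.Helper90.PairCtx

set_option autoImplicit false

/-!
Further consequences of `PairCtx`: the centre of `R`, the action on the four-group `V`.
-/

namespace Cfsg.Agent.Helper90

open Cfsg

namespace PairCtx

variable {G : Type*} [Group G] {Q Qg : Subgroup G} {z b : G}

theorem b_not_center (h : PairCtx Q Qg z b) : b ∉ (Subgroup.center ↥Q).map Q.subtype := by
  intro hb
  rcases h.hEz.zall b hb with h1 | h1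
  · exact h.hEb.z1 h1
  · exact h.hbz h1

/-- `R` centralizes `b`. -/
theorem R_comm_b (h : PairCtx Q Qg z b) {r : G}
    (hr : r ∈ (Qg ⊓ Subgroup.centralizer ({z} : Set G)) ⊔
      (Q ⊓ Subgroup.centralizer ({b} : Set G))) : r * b = b * r := by
  rw [sup_comm] at hr
  exact h.symm.R_comm_z hr

/-- symmetric form of the description of `V` -/
theorem hV_symm (h : PairCtx Q Qg z b) {V : Subgroup G}
    (hV : ∀ x : G, x ∈ V ↔ x = 1 ∨ x = z ∨ x = b ∨ x = z * b) :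
    ∀ x : G, x ∈ V ↔ x = 1 ∨ x = b ∨ x = z ∨ x = b * z := by
  intro x
  rw [hV x, ← h.zb_comm]
  tauto

/-- every element of `R` centralizes `V`. -/
theorem R_centralizes_V (h : PairCtx Q Qg z b) {V : Subgroup G}
    (hV : ∀ x : G, x ∈ V ↔ x = 1 ∨ x = z ∨ x = b ∨ x = z * b) {r v : G}
    (hr : r ∈ (Qg ⊓ Subgroup.centralizer ({z} : Set G)) ⊔
      (Q ⊓ Subgroup.centralizer ({b} : Set G))) (hv : v ∈ V) : r * v = v * r := by
  have h1 := h.R_comm_z hr
  have h2 := h.R_comm_b hr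
  rcases (hV v).mp hv with rfl | rfl | rfl | rfl
  · simp
  · exact h1
  · exact h2
  · calc r * (z * b) = (r * z) * b := by group
      _ = (z * r) * b := by rw [h1]
      _ = z * (r * b) := by group
      _ = z * (b * r) := by rw [h2]
      _ = z * b * r := by group

/-- `V ≤ R` -/
theorem V_le_R (h : PairCtx Q Qg z b) {V : Subgroup G}
    (hV : ∀ x : G, x ∈ V ↔ x = 1 ∨ x = z ∨ x = b ∨ x = z * b) :
    V ≤ (Qg ⊓ Subgroup.centralizer ({z} : Set G)) ⊔ (Q ⊓ Subgroup.centralizer ({b} : Set G)) := by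
  have hz : z ∈ Q ⊓ Subgroup.centralizer ({b} : Set G) :=
    (mem_P_iff z).mpr ⟨h.hEz.zQ, h.zb_comm⟩
  have hb : b ∈ Q ⊓ Subgroup.centralizer ({b} : Set G) := (mem_P_iff b).mpr ⟨h.hbQ, rfl⟩
  intro v hv
  rcases (hV v).mp hv with rfl | rfl | rfl | rfl
  · exact Subgroup.one_mem _
  · exact Subgroup.mem_sup_right hz
  · exact Subgroup.mem_sup_right hb
  · exact Subgroup.mem_sup_right (Subgroup.mul_mem _ hz hb)

/-- central elements of `R` lie in `V`. -/
theorem center_R_cases (h : PairCtx Q Qg z b) {x : G}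
    (hxR : x ∈ (Qg ⊓ Subgroup.centralizer ({z} : Set G)) ⊔
      (Q ⊓ Subgroup.centralizer ({b} : Set G)))
    (hc : ∀ r ∈ (Qg ⊓ Subgroup.centralizer ({z} : Set G)) ⊔
      (Q ⊓ Subgroup.centralizer ({b} : Set G)), r * x = x * r) :
    x = 1 ∨ x = z ∨ x = b ∨ x = z * b := by
  obtain ⟨y, hyQ, hyb⟩ := h.hEz.exists_conj h.hbQ h.b_not_center
  have hxz := h.R_comm_z hxR
  refine h.hEz.centralizer_cent h.hbQ h.hEb.zz hyQ hyb h.cenQ ?_ ?_
  · intro q hq
    exact conj_mem_of_mem_normalizer (h.normQ x hxz) hq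
  · intro p hp hpb
    exact (hc p (Subgroup.mem_sup_right ((mem_P_iff p).mpr ⟨hp, hpb⟩))).symm

/-- `Q` normalizes `V` -/
theorem Q_conj_V (h : PairCtx Q Qg z b) {V : Subgroup G}
    (hV : ∀ x : G, x ∈ V ↔ x = 1 ∨ x = z ∨ x = b ∨ x = z * b) {q v : G} (hq : q ∈ Q)
    (hv : v ∈ V) : q * v * q⁻¹ ∈ V := by
  have hz : q * z * q⁻¹ = z := by rw [h.hEz.zc q hq]; group
  have hzV : z ∈ V := (hV z).mpr (Or.inr (Or.inl rfl))
  have hbV : b ∈ V := (hV b).mpr (Or.inr (Or.inr (Or.inl rfl)))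
  have hb : q * b * q⁻¹ ∈ V := by
    rcases h.hEz.conj_eq_or h.hbQ hq with h1 | h1
    · rw [h1]; exact hbV
    · rw [h1]; exact V.mul_mem hzV hbV
  rcases (hV v).mp hv with rfl | rfl | rfl | rfl
  · simp
  · rw [hz]; exact hzV
  · exact hb
  · have e : q * (z * b) * q⁻¹ = (q * z * q⁻¹) * (q * b * q⁻¹) := by group
    rw [e, hz]
    exact V.mul_mem hzV hb

/-- commutators of `E = Q ∩ Qg` with `R` lie in `V`. -/
theorem comm_E_R (h : PairCtx Q Qg z b) {V : Subgroup G}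
    (hV : ∀ x : G, x ∈ V ↔ x = 1 ∨ x = z ∨ x = b ∨ x = z * b) {e r : G} (he : e ∈ Q ⊓ Qg)
    (hr : r ∈ (Qg ⊓ Subgroup.centralizer ({z} : Set G)) ⊔
      (Q ⊓ Subgroup.centralizer ({b} : Set G))) : e * r * e⁻¹ * r⁻¹ ∈ V := by
  have hzV : z ∈ V := (hV z).mpr (Or.inr (Or.inl rfl))
  have hbV : b ∈ V := (hV b).mpr (Or.inr (Or.inr (Or.inl rfl)))
  refine sup_induction' (p := fun r => e * r * e⁻¹ * r⁻¹ ∈ V) ?_ ?_ ?_ ?_ ?_ hr
  · intro a ha
    rcases h.hEb.comm e he.2 a ha.1 with h1 | h1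
    · rw [h1]; exact V.one_mem
    · rw [h1]; exact hbV
  · intro p hp
    rcases h.hEz.comm e he.1 p hp.1 with h1 | h1
    · rw [h1]; exact V.one_mem
    · rw [h1]; exact hzV
  · simp
  · intro r r' hr _ ih ih'
    have e1 : e * (r * r') * e⁻¹ * (r * r')⁻¹ =
        (e * r * e⁻¹ * r⁻¹) * (r * (e * r' * e⁻¹ * r'⁻¹) * r⁻¹) := by group
    have e2 : r * (e * r' * e⁻¹ * r'⁻¹) * r⁻¹ = e * r' * e⁻¹ * r'⁻¹ := by
      rw [h.R_centralizes_V hV hr ih']; group
    rw [e1, e2]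
    exact V.mul_mem ih ih'
  · intro r hr ih
    have e1 : e * r⁻¹ * e⁻¹ * r⁻¹⁻¹ = r⁻¹ * ((e * r * e⁻¹ * r⁻¹)⁻¹ * r) := by group
    have e2 : (e * r * e⁻¹ * r⁻¹)⁻¹ * r = r * (e * r * e⁻¹ * r⁻¹)⁻¹ :=
      (h.R_centralizes_V hV hr (V.inv_mem ih)).symm
    rw [e1, e2]
    have e3 : r⁻¹ * (r * (e * r * e⁻¹ * r⁻¹)⁻¹) = (e * r * e⁻¹ * r⁻¹)⁻¹ := by group
    rw [e3]
    exact V.inv_mem ih

/-- `X = ⟨Q, Qg⟩` normalizes `V` and `[X, E] ≤ V`. -/
theorem X_conj_V_and_comm (h : PairCtx Q Qg z b) {V : Subgroup G}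
    (hV : ∀ x : G, x ∈ V ↔ x = 1 ∨ x = z ∨ x = b ∨ x = z * b) {x : G} (hx : x ∈ Q ⊔ Qg) :
    (∀ v ∈ V, x * v * x⁻¹ ∈ V) ∧ ∀ e ∈ Q ⊓ Qg, x * e * x⁻¹ * e⁻¹ ∈ V := by
  have hzV : z ∈ V := (hV z).mpr (Or.inr (Or.inl rfl))
  have hbV : b ∈ V := (hV b).mpr (Or.inr (Or.inr (Or.inl rfl)))
  have hV' := h.hV_symm hV
  refine sup_induction' (p := fun x => (∀ v ∈ V, x * v * x⁻¹ ∈ V) ∧
    ∀ e ∈ Q ⊓ Qg, x * e * x⁻¹ * e⁻¹ ∈ V) ?_ ?_ ?_ ?_ ?_ hx
  · intro q hq
    refine ⟨fun v hv => h.Q_conj_V hV hq hv, fun e he => ?_⟩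
    rcases h.hEz.comm q hq e he.1 with h1 | h1
    · rw [h1]; exact V.one_mem
    · rw [h1]; exact hzV
  · intro q hq
    refine ⟨fun v hv => h.symm.Q_conj_V hV' hq hv, fun e he => ?_⟩
    rcases h.hEb.comm q hq e he.2 with h1 | h1
    · rw [h1]; exact V.one_mem
    · rw [h1]; exact hbV
  · refine ⟨fun v hv => by simpa using hv, fun e _ => by simp⟩
  · rintro x x' _ _ ⟨ih1, ih2⟩ ⟨ih1', ih2'⟩
    refine ⟨fun v hv => ?_, fun e he => ?_⟩
    · have e1 : x * x' * v * (x * x')⁻¹ = x * (x' * v * x'⁻¹) * x⁻¹ := by group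
      rw [e1]
      exact ih1 _ (ih1' v hv)
    · have e1 : x * x' * e * (x * x')⁻¹ * e⁻¹ =
          (x * (x' * e * x'⁻¹ * e⁻¹) * x⁻¹) * (x * e * x⁻¹ * e⁻¹) := by group
      rw [e1]
      exact V.mul_mem (ih1 _ (ih2' e he)) (ih2 e he)
  · rintro x _ ⟨ih1, ih2⟩
    -- conjugation by `x` is a bijection of the finite set... use injectivity on the four elements
    have hinj : ∀ v ∈ V, x⁻¹ * v * x⁻¹⁻¹ ∈ V := by
      intro v hv
      -- `x` permutes the four elements of `V`; find the preimage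
      have h1 := ih1 1 V.one_mem
      have hz' := ih1 z hzV
      have hb' := ih1 b hbV
      have hzb' := ih1 (z * b) (V.mul_mem hzV hbV)
      have inj : ∀ u u' : G, x * u * x⁻¹ = x * u' * x⁻¹ → u = u' := by
        intro u u' huu
        calc u = x⁻¹ * (x * u * x⁻¹) * x := by group
          _ = x⁻¹ * (x * u' * x⁻¹) * x := by rw [huu]
          _ = u' := by group
      have hz1 : z ≠ 1 := h.hEz.z1
      have hb1 : b ≠ 1 := h.hEb.z1
      have hbz : b ≠ z := h.hbz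
      have hzb1 : z * b ≠ 1 := by
        intro hh
        apply hbz
        calc b = z⁻¹ * (z * b) := by group
          _ = z⁻¹ := by rw [hh, mul_one]
          _ = z := h.hEz.z_inv
      have hzbz : z * b ≠ z := by
        intro hh
        apply hb1
        calc b = z⁻¹ * (z * b) := by group
          _ = 1 := by rw [hh]; group
      have hzbb : z * b ≠ b := by
        intro hh
        apply hz1
        calc z = (z * b) * b⁻¹ := by group
          _ = 1 := by rw [hh]; group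
      -- images of the three involutions are distinct non-identity elements of `V`
      have im_ne_one : ∀ u : G, u ≠ 1 → x * u * x⁻¹ ≠ 1 := by
        intro u hu hh
        apply hu
        calc u = x⁻¹ * (x * u * x⁻¹) * x := by group
          _ = 1 := by rw [hh]; group
      have e0 : x⁻¹ * v * x⁻¹⁻¹ = x⁻¹ * v * x := by group
      rw [e0]
      -- it suffices to find `u ∈ V` with `x u x⁻¹ = v`
      suffices hsuff : ∃ u ∈ V, x * u * x⁻¹ = v by
        obtain ⟨u, hu, huv⟩ := hsuff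
        have : x⁻¹ * v * x = u := by rw [← huv]; group
        rw [this]; exact hu
      rcases (hV v).mp hv with hv1 | hv1 | hv1 | hv1
      · exact ⟨1, V.one_mem, by rw [hv1]; group⟩
      all_goals
        rw [hv1]
        rcases (hV _).mp hz' with a1 | a1 | a1 | a1 <;>
        rcases (hV _).mp hb' with a2 | a2 | a2 | a2 <;>
        rcases (hV _).mp hzb' with a3 | a3 | a3 | a3
        all_goals first
          | exact absurd a1 (im_ne_one z hz1)
          | exact absurd a2 (im_ne_one b hb1)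
          | exact absurd a3 (im_ne_one (z * b) hzb1)
          | exact absurd (inj _ _ (a1.trans a2.symm)) hbz.symm
          | exact absurd (inj _ _ (a1.trans a3.symm)) hzbz.symm
          | exact absurd (inj _ _ (a2.trans a3.symm)) hzbb.symm
          | exact ⟨z, hzV, a1⟩
          | exact ⟨b, hbV, a2⟩
          | exact ⟨z * b, V.mul_mem hzV hbV, a3⟩
    refine ⟨hinj, fun e he => ?_⟩
    have e1 : x⁻¹ * e * x⁻¹⁻¹ * e⁻¹ = x⁻¹ * (x * e * x⁻¹ * e⁻¹)⁻¹ * x⁻¹⁻¹ := by group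
    rw [e1]
    exact hinj _ (V.inv_mem (ih2 e he))

end PairCtx

end Cfsg.Agent.Helper90
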