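import Mathlib
import Cfsg.Prelude.Def_MonsterType
import Cfsg.Agent.Helper90.MonT4
import Cfsg.Agent.Helper90.MonType4
import Cfsg.Agent.S5431
import Cfsg.Agent.S3763

set_option autoImplicit false

/-!
Groups of Monster type: `Q ∩ Q^g` has order `2 ^ 13` for a conjugate `z^g ≠ z` of `z` in `Q`.
-/

namespace Cfsg.Agent.Helper90

open Cfsg

/-- The centralizer in `Q` of an element of `Q` has index at most two. -/
theorem ExtraData.card_le_two_mul_centralizer {G : Type*} [Group G] [Finite G] {Q : Subgroup G}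
    {z : G} (hE : ExtraData Q z) {u : G} (huQ : u ∈ Q) :
    Nat.card ↥Q ≤ 2 * Nat.card ↥(Q ⊓ Subgroup.centralizer ({u} : Set G)) := by
  let f : ↥Q →* Multiplicative (ZMod 2) :=
    MonoidHom.mk' (fun q => Multiplicative.ofAdd (cmv (q : G) u)) (by
      intro a b
      show Multiplicative.ofAdd (cmv ((a : G) * (b : G)) u) = _
      rw [hE.cmv_mul_left a.2 b.2 huQ]
      rfl)
  have hker : f.ker = (Q ⊓ Subgroup.centralizer ({u} : Set G)).subgroupOf Q := by
    ext q
    rw [MonoidHom.mem_ker, Subgroup.mem_subgroupOf, Subgroup.mem_inf,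
      Subgroup.mem_centralizer_singleton_iff]
    show Multiplicative.ofAdd (cmv (q : G) u) = 1 ↔ _
    constructor
    · intro h
      have h1 : cmv (q : G) u = 0 := h
      refine ⟨q.2, ?_⟩
      unfold cmv at h1
      by_contra hne
      rw [if_neg ?_] at h1
      · exact absurd h1 (by decide)
      · intro h2
        apply hne
        calc (q : G) * u = ((q : G) * u * (q : G)⁻¹ * u⁻¹) * (u * q) := by group
          _ = u * q := by rw [h2, one_mul]
    · rintro ⟨-, h⟩
      have h1 : cmv (q : G) u = 0 := by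
        unfold cmv
        rw [if_pos]
        rw [h]; group
      rw [h1]
      rfl
  have h1 := Subgroup.card_mul_index f.ker
  have h2 : f.ker.index ≤ 2 := by
    rw [Subgroup.index_ker]
    have := Nat.card_le_card_of_injective (Subtype.val : f.range → Multiplicative (ZMod 2))
      Subtype.val_injective
    have h3 : Nat.card (Multiplicative (ZMod 2)) = 2 := by
      rw [Nat.card_eq_fintype_card]
      rfl
    omega
  have h3 : Nat.card f.ker = Nat.card ↥(Q ⊓ Subgroup.centralizer ({u} : Set G)) := by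
    rw [hker]
    exact Nat.card_congr (Subgroup.subgroupOfEquivOfLe inf_le_left).toEquiv
  rw [← h3, ← h1]
  have : Nat.card ↥f.ker * f.ker.index ≤ Nat.card ↥f.ker * 2 := Nat.mul_le_mul_left _ h2
  omega

variable {G : Type*} [Group G] {z : G}
  {Q : Subgroup (Subgroup.centralizer ({z} : Set G))}

/-- `Q ∩ Q^g` has order `2 ^ 13`. -/
theorem card_inter [Finite G] [Q.Normal] (hM : IsOfMonsterType z Q)
    (hCo2 : ∀ v : leechLattice, sqNorm (v : GolayPt → ℤ) = 32 →
      IsCo2 (MulAction.stabilizer Co0 v))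
    (x : Q) (g : G) (hg : g * z * g⁻¹ = ((x : Subgroup.centralizer ({z} : Set G)) : G))
    (hxz : ((x : Subgroup.centralizer ({z} : Set G)) : G) ≠ z) :
    Nat.card ↥((Q.map (Subgroup.centralizer ({z} : Set G)).subtype) ⊓
      (Q.map (Subgroup.centralizer ({z} : Set G)).subtype).map (MulAut.conj g).toMonoidHom) =
      2 ^ 13 := by
  haveI : Fact (Nat.Prime 2) := ⟨Nat.prime_two⟩
  obtain ⟨hz2, hE, hcard, hcard', hlarge, hZ⟩ := monster_setup hM
  obtain ⟨e, ψ, hψ⟩ := hM.2
  set Q' : Subgroup G := Q.map (Subgroup.centralizer ({z} : Set G)).subtype with hQ'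
  have hgH : g ∉ Subgroup.centralizer ({z} : Set G) := by
    intro h
    apply hxz
    rw [← hg]
    have := Subgroup.mem_centralizer_singleton_iff.mp h
    calc g * z * g⁻¹ = (z * g) * g⁻¹ := by rw [this]
      _ = z := by group
  have hxQ' : g * z * g⁻¹ ∈ Q' := by
    rw [hg]
    exact (mem_map_subtype_iff _).2 x.2
  have hP := pairCtx_of_large Q' hlarge z hZ hz2 g hgH hxQ'
  have hEl : IsElementaryAbelian 2 (Q' ⊓ Q'.map (MulAut.conj g).toMonoidHom) :=
    (Cfsg.Agent.S5431.result Q' hlarge z hZ hz2 12 (by norm_num) (by rw [hcard']) g hgH hxQ'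
      _ _ _ _ rfl rfl rfl rfl).2.2.2.1
  rw [hg] at hP
  set Qg : Subgroup G := Q'.map (MulAut.conj g).toMonoidHom with hQg
  have hxconj : IsConj z ((x : Subgroup.centralizer ({z} : Set G)) : G) := isConj_iff.2 ⟨g, hg⟩
  have hx1 : (x : Subgroup.centralizer ({z} : Set G)) ≠ 1 := by
    intro h
    apply hP.hEb.z1
    rw [h]
    rfl
  have hxzC : (x : Subgroup.centralizer ({z} : Set G)) ≠ zC z := by
    intro h
    apply hxz
    rw [h]
    rfl
  obtain ⟨w, hw64, hw⟩ := type_four hM hψ hCo2 x hxconj hxz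
  -- the subgroup `R`
  have hQ'2 : IsPGroup 2 Q' := hlarge.1.1.1
  have hQg2 : IsPGroup 2 Qg := hQ'2.map _
  set R : Subgroup (Subgroup.centralizer ({z} : Set G)) :=
    Qg.subgroupOf (Subgroup.centralizer ({z} : Set G)) with hR
  have hR2 : IsPGroup 2 R := hQg2.comap_subtype
  have hRs : ∀ r ∈ R, r * (x : Subgroup.centralizer ({z} : Set G)) = x * r := by
    intro r hr
    rw [hR, Subgroup.mem_subgroupOf] at hr
    apply Subtype.ext
    rw [Subgroup.coe_mul, Subgroup.coe_mul]
    exact hP.hEb.zc _ hr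
  have hRn : ∀ c : Subgroup.centralizer ({z} : Set G),
      c * (x : Subgroup.centralizer ({z} : Set G)) = x * c → ∀ r ∈ R, c * r * c⁻¹ ∈ R := by
    intro c hc r hr
    rw [hR, Subgroup.mem_subgroupOf] at hr ⊢
    have hc' : (c : G) * ((x : Subgroup.centralizer ({z} : Set G)) : G) =
        ((x : Subgroup.centralizer ({z} : Set G)) : G) * c := by
      have := congrArg Subtype.val hc
      rwa [Subgroup.coe_mul, Subgroup.coe_mul] at this
    have hn := hP.normQg c hc'
    rw [Subgroup.coe_mul, Subgroup.coe_mul, Subgroup.coe_inv]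
    exact conj_mem_of_mem_normalizer hn hr
  have hT := card_map_le_of_type_four hE hψ x hx1 hxzC w hw hw64 R hR2 hRs hRn
  -- the order of `R`
  have hcardQg : Nat.card ↥Qg = 2 ^ 25 := by
    rw [hQg, Subgroup.card_map_of_injective (MulAut.conj g).injective, hcard']
  have hRcard : 2 ^ 24 ≤ Nat.card ↥R := by
    have h1 := hP.hEb.card_le_two_mul_centralizer hP.hzQg
    rw [hcardQg] at h1
    have h2 : Nat.card ↥R = Nat.card ↥(Qg ⊓ Subgroup.centralizer ({z} : Set G)) := by
      rw [hR, ← Subgroup.inf_subgroupOf_right]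
      exact Nat.card_congr (Subgroup.subgroupOfEquivOfLe inf_le_right).toEquiv
    rw [h2]
    omega
  -- `|R| = |Q ∩ R| |RQ/Q|`
  have h1 := Subgroup.relIndex_ker (K := R) (QuotientGroup.mk' Q)
  rw [QuotientGroup.ker_mk'] at h1
  have h2 := Subgroup.card_mul_index (Q.subgroupOf R)
  have h3 : (Q.subgroupOf R).index = Nat.card ↥(R.map (QuotientGroup.mk' Q)) := h1
  rw [h3] at h2
  have h4 : Nat.card ↥(Q.subgroupOf R) = Nat.card ↥(Q' ⊓ Qg) := by
    have e1 : Q.subgroupOf R = (Q ⊓ R).subgroupOf R := (Subgroup.inf_subgroupOf_right Q R).symm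
    rw [e1, Nat.card_congr (Subgroup.subgroupOfEquivOfLe (inf_le_right : Q ⊓ R ≤ R)).toEquiv]
    have e2 : Q ⊓ R = (Q' ⊓ Qg).subgroupOf (Subgroup.centralizer ({z} : Set G)) := by
      ext c
      constructor
      · rintro ⟨h1, h2⟩
        exact Subgroup.mem_subgroupOf.2 ⟨(mem_map_subtype_iff c).2 h1, Subgroup.mem_subgroupOf.1 h2⟩
      · intro h
        have h' := Subgroup.mem_subgroupOf.1 h
        exact ⟨(mem_map_subtype_iff c).1 h'.1, Subgroup.mem_subgroupOf.2 h'.2⟩
    rw [e2]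
    have hle : Q' ⊓ Qg ≤ Subgroup.centralizer ({z} : Set G) :=
      inf_le_left.trans (Subgroup.map_subtype_le Q)
    exact Nat.card_congr (Subgroup.subgroupOfEquivOfLe hle).toEquiv
  rw [h4] at h2
  -- the upper bound
  have hupper : Nat.card ↥(Q' ⊓ Qg) ≤ 2 ^ 13 := by
    have hr := (Cfsg.Agent.S3763.result.{_, 0} hlarge.1 12 (by rw [hcard'])).1
    have hr13 : PRankLE 2 13 ↥Q' := by
      rcases hr with ⟨h, -⟩ | ⟨h, -⟩
      · intro A hA1 hA2
        exact (h A hA1 hA2).trans (by norm_num)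
      · exact h
    have h5 := hr13 ((Q' ⊓ Qg).subgroupOf Q') ?_ ?_
    · rwa [Nat.card_congr (Subgroup.subgroupOfEquivOfLe (inf_le_left : Q' ⊓ Qg ≤ Q')).toEquiv] at h5
    · refine ⟨⟨?_⟩⟩
      rintro ⟨a, ha⟩ ⟨b, hb⟩
      rw [Subgroup.mem_subgroupOf] at ha hb
      apply Subtype.ext
      apply Subtype.ext
      show (a : G) * (b : G) = (b : G) * (a : G)
      have := hEl.1.is_comm.comm ⟨(a : G), ha⟩ ⟨(b : G), hb⟩
      exact congrArg Subtype.val this
    · intro a ha
      rw [Subgroup.mem_subgroupOf] at ha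
      apply Subtype.ext
      rw [Subgroup.coe_pow]
      exact hEl.2 _ ha
  -- conclusion
  have h6 : Nat.card ↥(Q' ⊓ Qg) * 2 ^ 11 ≥ 2 ^ 24 := by
    calc Nat.card ↥(Q' ⊓ Qg) * 2 ^ 11 ≥ Nat.card ↥(Q' ⊓ Qg) * Nat.card ↥(R.map (QuotientGroup.mk' Q)) :=
          Nat.mul_le_mul_left _ hT
      _ = Nat.card ↥R := h2
      _ ≥ 2 ^ 24 := hRcard
  have h7 : (2 : ℕ) ^ 24 = 2 ^ 13 * 2 ^ 11 := by norm_num
  rw [h7] at h6
  have h8 : 2 ^ 13 ≤ Nat.card ↥(Q' ⊓ Qg) := Nat.le_of_mul_le_mul_right h6 (by norm_num)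
  omega

end Cfsg.Agent.Helper90
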