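import Mathlib
import Cfsg.Prelude.Def_MonsterType
import Cfsg.Agent.Helper90.BabyConc
import Cfsg.Agent.Helper90.BabyAbs
import Cfsg.Agent.Helper90.EsTransfer
import Cfsg.Agent.Helper90.MonInter

set_option autoImplicit false

/-!
Groups of Monster type: the group `C_Q(t)` for an involution `t ∈ Q` not conjugate to `z`.
-/

namespace Cfsg.Agent.Helper90

open Cfsg

variable {G : Type*} [Group G] {z : G} {Q : Subgroup (Subgroup.centralizer ({z} : Set G))}

theorem card_CQt [Finite G] (hE : ExtraData Q (zC z)) (t₀ : Q)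
    (ht1 : (t₀ : Subgroup.centralizer ({z} : Set G)) ≠ 1)
    (htz : (t₀ : Subgroup.centralizer ({z} : Set G)) ≠ zC z) (hcard : Nat.card ↥Q = 2 ^ 25) :
    Nat.card ↥(Q.subgroupOf (Subgroup.centralizer
      ({(t₀ : Subgroup.centralizer ({z} : Set G))} : Set (Subgroup.centralizer ({z} : Set G))))) =
      2 ^ 24 := by
  have h1 := hE.card_le_two_mul_centralizer t₀.2
  have h2 : Nat.card ↥(Q.subgroupOf (Subgroup.centralizer
      ({(t₀ : Subgroup.centralizer ({z} : Set G))} : Set (Subgroup.centralizer ({z} : Set G))))) =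
      Nat.card ↥(Q ⊓ Subgroup.centralizer
      ({(t₀ : Subgroup.centralizer ({z} : Set G))} : Set (Subgroup.centralizer ({z} : Set G)))) := by
    rw [← Subgroup.inf_subgroupOf_right]
    exact Nat.card_congr (Subgroup.subgroupOfEquivOfLe inf_le_right).toEquiv
  rw [h2]
  have h3 : Nat.card ↥(Q ⊓ Subgroup.centralizer
      ({(t₀ : Subgroup.centralizer ({z} : Set G))} : Set (Subgroup.centralizer ({z} : Set G)))) ∣
      Nat.card ↥Q := Subgroup.card_dvd_of_le inf_le_left
  rw [hcard] at h1 h3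
  obtain ⟨m, hm, hm2⟩ := (Nat.dvd_prime_pow Nat.prime_two).1 h3
  rw [hm2] at h1 ⊢
  have h4 : 25 ≤ m + 1 := by
    have : (2 : ℕ) ^ 25 ≤ 2 ^ (m + 1) := by rw [pow_succ]; omega
    exact (Nat.pow_le_pow_iff_right (by norm_num)).1 this
  have h5 : m ≠ 25 := by
    intro h
    rw [h] at hm2
    have h6 : Q ⊓ Subgroup.centralizer
      ({(t₀ : Subgroup.centralizer ({z} : Set G))} : Set (Subgroup.centralizer ({z} : Set G))) = Q :=
      Subgroup.eq_of_le_of_card_ge inf_le_left (by rw [hm2, hcard])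
    obtain ⟨y, hyQ, hy⟩ := hE.exists_conj_inv t₀.2 ht1 htz
    have h7 : y ∈ Q ⊓ Subgroup.centralizer
      ({(t₀ : Subgroup.centralizer ({z} : Set G))} : Set (Subgroup.centralizer ({z} : Set G))) := by
      rw [h6]; exact hyQ
    have h8 := Subgroup.mem_centralizer_singleton_iff.1 h7.2
    rw [h8, mul_inv_cancel_right] at hy
    apply hE.z1
    calc zC z = (zC z * (t₀ : Subgroup.centralizer ({z} : Set G))) * (t₀ : Subgroup.centralizer ({z} : Set G))⁻¹ := by
          group
      _ = 1 := by rw [← hy, mul_inv_cancel]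
  have : m = 24 := by omega
  rw [this]

theorem comm_CQt (hE : ExtraData Q (zC z)) (t₀ : Q) :
    ∀ x ∈ Q.subgroupOf (Subgroup.centralizer
      ({(t₀ : Subgroup.centralizer ({z} : Set G))} : Set (Subgroup.centralizer ({z} : Set G)))),
    ∀ y ∈ Q.subgroupOf (Subgroup.centralizer
      ({(t₀ : Subgroup.centralizer ({z} : Set G))} : Set (Subgroup.centralizer ({z} : Set G)))),
      x * y * x⁻¹ * y⁻¹ = 1 ∨ x * y * x⁻¹ * y⁻¹ = zHt t₀ := by
  intro x hx y hy
  rw [Subgroup.mem_subgroupOf] at hx hy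
  rcases hE.comm _ hx _ hy with h | h
  · left
    apply Subtype.ext
    exact h
  · right
    apply Subtype.ext
    exact h

theorem sq_CQt (hE : ExtraData Q (zC z)) (t₀ : Q) :
    ∀ x ∈ Q.subgroupOf (Subgroup.centralizer
      ({(t₀ : Subgroup.centralizer ({z} : Set G))} : Set (Subgroup.centralizer ({z} : Set G)))),
      x * x = 1 ∨ x * x = zHt t₀ := by
  intro x hx
  rw [Subgroup.mem_subgroupOf] at hx
  rcases hE.sq_mem hx with h | h
  · left
    apply Subtype.ext
    exact h
  · right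
    apply Subtype.ext
    exact h

theorem nc_CQt [Finite G] (hE : ExtraData Q (zC z)) (t₀ : Q)
    (ht1 : (t₀ : Subgroup.centralizer ({z} : Set G)) ≠ 1)
    (htz : (t₀ : Subgroup.centralizer ({z} : Set G)) ≠ zC z) (hcard : Nat.card ↥Q = 2 ^ 25) :
    ∃ x ∈ Q.subgroupOf (Subgroup.centralizer
      ({(t₀ : Subgroup.centralizer ({z} : Set G))} : Set (Subgroup.centralizer ({z} : Set G)))),
    ∃ y ∈ Q.subgroupOf (Subgroup.centralizer
      ({(t₀ : Subgroup.centralizer ({z} : Set G))} : Set (Subgroup.centralizer ({z} : Set G)))),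
      x * y * x⁻¹ * y⁻¹ = zHt t₀ := by
  obtain ⟨a, ha, b, hb, hab⟩ := hE.exists_comm_eq_z t₀.2 ht1 htz (by rw [hcard]; norm_num)
  refine ⟨⟨a, ha.2⟩, Subgroup.mem_subgroupOf.2 ha.1, ⟨b, hb.2⟩, Subgroup.mem_subgroupOf.2 hb.1, ?_⟩
  apply Subtype.ext
  exact hab

theorem cen_CQt (hE : ExtraData Q (zC z)) (t₀ : Q)
    (ht1 : (t₀ : Subgroup.centralizer ({z} : Set G)) ≠ 1)
    (htz : (t₀ : Subgroup.centralizer ({z} : Set G)) ≠ zC z) :
    ∀ x ∈ Q.subgroupOf (Subgroup.centralizer
      ({(t₀ : Subgroup.centralizer ({z} : Set G))} : Set (Subgroup.centralizer ({z} : Set G)))),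
    (∀ r ∈ Q.subgroupOf (Subgroup.centralizer
      ({(t₀ : Subgroup.centralizer ({z} : Set G))} : Set (Subgroup.centralizer ({z} : Set G)))),
      r * x = x * r) → InV4 (zHt t₀) (tHt t₀) x := by
  intro x hx hcomm
  rw [Subgroup.mem_subgroupOf] at hx
  obtain ⟨y, hyQ, hy⟩ := hE.exists_conj_inv t₀.2 ht1 htz
  have h1 := hE.double_centralizer' t₀.2 hyQ hy hx (by
    intro p hp hpt
    have := hcomm ⟨p, Subgroup.mem_centralizer_singleton_iff.2 hpt⟩ (Subgroup.mem_subgroupOf.2 hp)
    exact (congrArg Subtype.val this).symm)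
  rcases h1 with h | h | h | h
  · left
    exact Subtype.ext h
  · right; left
    exact Subtype.ext h
  · right; right; left
    exact Subtype.ext h
  · right; right; right
    exact Subtype.ext h

end Cfsg.Agent.Helper90
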