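import Mathlib
import Cfsg.Prelude.Def_MonsterType
import Cfsg.Agent.Helper90.MonQuad
import Cfsg.Agent.Helper90.MonPsi
import Cfsg.Agent.Helper26.LeechQuad
import Cfsg.Agent.Helper92.LeechBasic

set_option autoImplicit false

/-!
Groups of Monster type: the commutator pairing of `Q` is the inner product of the Leech lattice
modulo 2.
-/

namespace Cfsg.Agent.Helper90

open Cfsg

theorem sqNorm_add' (x y : GolayPt → ℤ) :
    sqNorm (x + y) = sqNorm x + sqNorm y + 2 * dotInt x y := by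
  unfold sqNorm dotInt
  simp only [Pi.add_apply]
  rw [Finset.mul_sum, ← Finset.sum_add_distrib, ← Finset.sum_add_distrib]
  apply Finset.sum_congr rfl
  intro i _
  ring

theorem cmv_eq_zero_iff {G : Type*} [Group G] (a b : G) : cmv a b = 0 ↔ a * b = b * a := by
  unfold cmv
  constructor
  · intro h
    by_cases h1 : a * b * a⁻¹ * b⁻¹ = 1
    · calc a * b = (a * b * a⁻¹ * b⁻¹) * (b * a) := by group
        _ = b * a := by rw [h1, one_mul]
    · rw [if_neg h1] at h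
      exact absurd h (by decide)
  · intro h
    rw [if_pos]
    rw [h]
    group

variable {G : Type*} [Group G] {z : G}
  {Q : Subgroup (Subgroup.centralizer ({z} : Set G))}

/-- The commutator pairing of `Q` is the inner product of the Leech lattice. -/
theorem cmv_psi [Finite G] [Q.Normal] (hE : ExtraData Q (zC z)) (hcard : 2 < Nat.card ↥Q)
    {e : (Subgroup.centralizer ({z} : Set G)) ⧸ Q ≃* Spor.Co1}
    {ψ : leechLattice → Q ⧸ Subgroup.center Q} (hψ : IsLeechModTwoIso Q e ψ)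
    (v w : leechLattice) (a b : Q) (ha : ψ v = QuotientGroup.mk a) (hb : ψ w = QuotientGroup.mk b) :
    cmv (a : Subgroup.centralizer ({z} : Set G)) (b : Subgroup.centralizer ({z} : Set G)) =
      ((dotInt (v : GolayPt → ℤ) (w : GolayPt → ℤ) / 8 : ℤ) : ZMod 2) := by
  have h1 := hE.sqv_mul a.2 b.2
  have h2 : sqv ((a : Subgroup.centralizer ({z} : Set G)) * b) =
      ((sqNorm ((v + w : leechLattice) : GolayPt → ℤ) / 16 : ℤ) : ZMod 2) := by
    rw [← sqvBar_psi hE hcard hψ (v + w), hψ.1, ha, hb, ← QuotientGroup.mk_mul, sqvBar_mk hE]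
    rfl
  have h3 : sqv (a : Subgroup.centralizer ({z} : Set G)) =
      ((sqNorm (v : GolayPt → ℤ) / 16 : ℤ) : ZMod 2) := by
    rw [← sqvBar_psi hE hcard hψ v, ha, sqvBar_mk hE]
  have h4 : sqv (b : Subgroup.centralizer ({z} : Set G)) =
      ((sqNorm (w : GolayPt → ℤ) / 16 : ℤ) : ZMod 2) := by
    rw [← sqvBar_psi hE hcard hψ w, hb, sqvBar_mk hE]
  obtain ⟨n₁, hn₁⟩ := Cfsg.Agent.Helper92.sixteen_dvd_sqNorm v.2
  obtain ⟨n₂, hn₂⟩ := Cfsg.Agent.Helper92.sixteen_dvd_sqNorm w.2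
  obtain ⟨k, hk⟩ := Cfsg.Agent.Helper26.eight_dvd_dotInt v.2 w.2
  have h5 : sqNorm ((v + w : leechLattice) : GolayPt → ℤ) = 16 * (n₁ + n₂ + k) := by
    rw [AddSubgroup.coe_add, sqNorm_add', hn₁, hn₂, hk]
    ring
  rw [h2, h3, h4, h5, hn₁, hn₂] at h1
  rw [hk]
  rw [Int.mul_ediv_cancel_left _ (by norm_num : (16 : ℤ) ≠ 0),
    Int.mul_ediv_cancel_left _ (by norm_num : (16 : ℤ) ≠ 0),
    Int.mul_ediv_cancel_left _ (by norm_num : (16 : ℤ) ≠ 0)] at h1
  rw [Int.mul_ediv_cancel_left _ (by norm_num : (8 : ℤ) ≠ 0)]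
  push_cast at h1
  have h6 : ∀ x y c : ZMod 2, x + y + c = x + y + c → True := fun _ _ _ _ => trivial
  have key : ∀ x y k c : ZMod 2, x + y + k = x + y + c → c = k := by decide
  exact key _ _ _ _ h1

/-- lifts commute if and only if the vectors are orthogonal modulo 2 -/
theorem comm_iff_dvd [Finite G] [Q.Normal] (hE : ExtraData Q (zC z)) (hcard : 2 < Nat.card ↥Q)
    {e : (Subgroup.centralizer ({z} : Set G)) ⧸ Q ≃* Spor.Co1}
    {ψ : leechLattice → Q ⧸ Subgroup.center Q} (hψ : IsLeechModTwoIso Q e ψ)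
    (v w : leechLattice) (a b : Q) (ha : ψ v = QuotientGroup.mk a) (hb : ψ w = QuotientGroup.mk b) :
    (a : Subgroup.centralizer ({z} : Set G)) * b = b * a ↔
      (16 : ℤ) ∣ dotInt (v : GolayPt → ℤ) (w : GolayPt → ℤ) := by
  rw [← cmv_eq_zero_iff, cmv_psi hE hcard hψ v w a b ha hb]
  obtain ⟨k, hk⟩ := Cfsg.Agent.Helper26.eight_dvd_dotInt v.2 w.2
  rw [hk, Int.mul_ediv_cancel_left _ (by norm_num : (8 : ℤ) ≠ 0),
    ZMod.intCast_zmod_eq_zero_iff_dvd]
  constructor
  · rintro ⟨m, rfl⟩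
    exact ⟨m, by ring⟩
  · rintro ⟨m, hm⟩
    exact ⟨m, by push_cast; omega⟩

end Cfsg.Agent.Helper90
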