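import Mathlib
import Cfsg.Prelude.Def_MonsterType
import Cfsg.Agent.Helper90.MonAct

set_option autoImplicit false

/-!
Groups of Monster type: the homomorphism from the centralizer of an involution of type 2 in
`C(z)` onto the second Conway group.
-/

namespace Cfsg.Agent.Helper90

open Cfsg Cfsg.Agent.Helper8

theorem sqNorm_leechU' : sqNorm ((Spor.leechU : ↥leechLattice) : GolayPt → ℤ) = 32 := by
  show sqNorm Spor.vecU = 32
  unfold sqNorm Spor.vecU
  decide

theorem sporCo2_le : Spor.Co2 ≤ Co0 := by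
  unfold Spor.Co2
  exact inf_le_left

/-- the second Conway group inside the lattice automorphism group -/
def co2Incl : ↥Spor.Co2 →* ↥Co0 := Subgroup.inclusion sporCo2_le

theorem co2Incl_smul (g : ↥Spor.Co2) (x : ↥leechLattice) : co2Incl g • x = g • x := rfl

theorem co2_fix (g : ↥Spor.Co2) : g • Spor.leechU = Spor.leechU := by
  have h : (g : Equiv.Perm ↥leechLattice) ∈
      MulAction.stabilizer (Equiv.Perm ↥leechLattice) Spor.leechU := by
    have := g.2
    unfold Spor.Co2 at this
    exact this.2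
  exact MulAction.mem_stabilizer_iff.1 h

/-- an automorphism fixing the vector `u` lies in the second Conway group -/
def toCo2 (γ : ↥Co0) (hγ : γ • Spor.leechU = Spor.leechU) : ↥Spor.Co2 :=
  ⟨(γ : Equiv.Perm ↥leechLattice), by
    unfold Spor.Co2
    exact ⟨γ.2, MulAction.mem_stabilizer_iff.2 hγ⟩⟩

theorem co2Incl_toCo2 (γ : ↥Co0) (hγ : γ • Spor.leechU = Spor.leechU) :
    co2Incl (toCo2 γ hγ) = γ := rfl

/-- the second Conway group in the first -/
def co2ToCo1 : ↥Spor.Co2 →* Spor.Co1 :=
  (QuotientGroup.mk' (Subgroup.center ↥Co0)).comp co2Incl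

theorem co2ToCo1_apply (g : ↥Spor.Co2) :
    co2ToCo1 g = (QuotientGroup.mk (co2Incl g) : Spor.Co1) := rfl

theorem co2ToCo1_injective : Function.Injective co2ToCo1 := by
  rw [injective_iff_map_eq_one]
  intro g hg
  rw [co2ToCo1_apply] at hg
  have h1 : co2Incl g ∈ Subgroup.center ↥Co0 := (QuotientGroup.eq_one_iff _).1 hg
  rcases center_eq_or _ h1 with h2 | h2
  · apply Subtype.ext
    have h3 := congrArg (fun γ : ↥Co0 => (γ : Equiv.Perm ↥leechLattice)) h2
    exact h3
  · exfalso
    have h3 := co2_fix g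
    rw [← co2Incl_smul, h2, negCo0_smul] at h3
    have h4 : ((Spor.leechU : ↥leechLattice) : GolayPt → ℤ) ≠
        -((Spor.leechU : ↥leechLattice) : GolayPt → ℤ) :=
      ne_neg_of_sqNorm_ne_zero (by rw [sqNorm_leechU']; norm_num)
    apply h4
    have := congrArg (fun w : ↥leechLattice => (w : GolayPt → ℤ)) h3
    simp only [AddSubgroup.coe_neg] at this
    exact this.symm

variable {G : Type*} [Group G] {z : G}
  {Q : Subgroup (Subgroup.centralizer ({z} : Set G))} [Q.Normal]
  {e : (Subgroup.centralizer ({z} : Set G)) ⧸ Q ≃* Spor.Co1}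
  {ψ : leechLattice → Q ⧸ Subgroup.center Q}

/-- the homomorphism onto the second Conway group -/
theorem exists_theta (hE : ExtraData Q (zC z)) (hψ : IsLeechModTwoIso Q e ψ) (t₀ : Q)
    (ht1 : (t₀ : Subgroup.centralizer ({z} : Set G)) ≠ 1)
    (htz : (t₀ : Subgroup.centralizer ({z} : Set G)) ≠ zC z)
    (hv : ψ Spor.leechU = QuotientGroup.mk t₀) :
    ∃ θ : ↥(Subgroup.centralizer
        ({(t₀ : Subgroup.centralizer ({z} : Set G))} : Set (Subgroup.centralizer ({z} : Set G)))) →*
        ↥Spor.Co2,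
      Function.Surjective θ ∧
      (∀ h, θ h = 1 ↔ (h : Subgroup.centralizer ({z} : Set G)) ∈ Q) ∧
      ∀ h, (QuotientGroup.mk (co2Incl (θ h)) : Spor.Co1) =
        e (QuotientGroup.mk (h : Subgroup.centralizer ({z} : Set G))) := by
  set Ht := Subgroup.centralizer
    ({(t₀ : Subgroup.centralizer ({z} : Set G))} : Set (Subgroup.centralizer ({z} : Set G)))
    with hHt
  let κ : ↥Ht →* Spor.Co1 := e.toMonoidHom.comp ((QuotientGroup.mk' Q).comp Ht.subtype)
  have hκ : ∀ h : ↥Ht, κ h = e (QuotientGroup.mk (h : Subgroup.centralizer ({z} : Set G))) :=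
    fun h => rfl
  have hmem : ∀ h : ↥Ht, κ h ∈ co2ToCo1.range := by
    intro h
    have hx : (h : Subgroup.centralizer ({z} : Set G)) * t₀ = t₀ * h :=
      Subgroup.mem_centralizer_singleton_iff.1 h.2
    obtain ⟨γ, hγ, hγe⟩ := exists_stab_of_comm hψ t₀ Spor.leechU hv sqNorm_leechU' _ hx
    exact ⟨toCo2 γ hγ, by rw [hκ, ← hγe]; rfl⟩
  let θ : ↥Ht →* ↥Spor.Co2 :=
    (MonoidHom.ofInjective co2ToCo1_injective).symm.toMonoidHom.comp
      (κ.codRestrict co2ToCo1.range hmem)
  have hθ : ∀ h : ↥Ht, co2ToCo1 (θ h) = κ h := by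
    intro h
    have h1 := (MonoidHom.ofInjective co2ToCo1_injective).apply_symm_apply
      (κ.codRestrict co2ToCo1.range hmem h)
    exact congrArg Subtype.val h1
  refine ⟨θ, ?_, ?_, ?_⟩
  · intro g
    obtain ⟨x, hx, hxe⟩ := exists_comm_of_stab hE hψ t₀ ht1 htz Spor.leechU hv (co2Incl g)
      (by rw [co2Incl_smul]; exact co2_fix g)
    refine ⟨⟨x, Subgroup.mem_centralizer_singleton_iff.2 hx⟩, ?_⟩
    apply co2ToCo1_injective
    rw [hθ, hκ, co2ToCo1_apply, hxe]
  · intro h
    constructor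
    · intro h1
      have h2 := hθ h
      rw [h1, map_one, hκ] at h2
      have h3 : (QuotientGroup.mk (h : Subgroup.centralizer ({z} : Set G)) :
          (Subgroup.centralizer ({z} : Set G)) ⧸ Q) = 1 := by
        apply e.injective
        rw [← h2, map_one]
      exact (QuotientGroup.eq_one_iff _).1 h3
    · intro h1
      apply co2ToCo1_injective
      rw [hθ, hκ, map_one, (QuotientGroup.eq_one_iff _).2 h1, map_one]
  · intro h
    rw [← co2ToCo1_apply, hθ, hκ]

end Cfsg.Agent.Helper90
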