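import Mathlib
import Cfsg.Prelude.Def_MonsterType
import Cfsg.Agent.Helper90.BabyConc2
import Cfsg.Agent.Helper90.BabyPolar
import Cfsg.Agent.Helper90.BabyTheta

set_option autoImplicit false

/-!
Groups of Monster type: the lifting of the vectors orthogonal to `u` to `C_Q(t)`.
-/

namespace Cfsg.Agent.Helper90

open Cfsg

variable {G : Type*} [Group G] {z : G} {Q : Subgroup (Subgroup.centralizer ({z} : Set G))}

theorem exists_V4_of_mk_eq (hE : ExtraData Q (zC z)) (t₀ : Q)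
    (a b : ↥(Subgroup.centralizer
      ({(t₀ : Subgroup.centralizer ({z} : Set G))} : Set (Subgroup.centralizer ({z} : Set G)))))
    (ha : (a : Subgroup.centralizer ({z} : Set G)) ∈ Q)
    (hb : (b : Subgroup.centralizer ({z} : Set G)) ∈ Q)
    (h : (QuotientGroup.mk (⟨(a : Subgroup.centralizer ({z} : Set G)), ha⟩ : Q) :
      Q ⧸ Subgroup.center Q) = QuotientGroup.mk ⟨(b : Subgroup.centralizer ({z} : Set G)), hb⟩) :
    ∃ c, InV4 (zHt t₀) (tHt t₀) c ∧ a = b * c := by
  rcases mk_eq_cases hE _ _ h with h1 | h1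
  · refine ⟨1, Or.inl rfl, ?_⟩
    rw [mul_one]
    exact Subtype.ext h1
  · refine ⟨zHt t₀, Or.inr (Or.inl rfl), ?_⟩
    apply Subtype.ext
    rw [Subgroup.coe_mul]
    show (a : Subgroup.centralizer ({z} : Set G)) = b * zC z
    rw [zC_comm]
    exact h1

variable [Finite G] [Q.Normal]
  {e : (Subgroup.centralizer ({z} : Set G)) ⧸ Q ≃* Spor.Co1}
  {ψ : leechLattice → Q ⧸ Subgroup.center Q}

/-- the chosen lift of a vector orthogonal to `u` -/
noncomputable def lamFun (hE : ExtraData Q (zC z)) (hcard : 2 < Nat.card ↥Q)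
    (hψ : IsLeechModTwoIso Q e ψ) (t₀ : Q) (hv : ψ Spor.leechU = QuotientGroup.mk t₀)
    (x : leechPerpU) : ↥(Subgroup.centralizer
      ({(t₀ : Subgroup.centralizer ({z} : Set G))} : Set (Subgroup.centralizer ({z} : Set G)))) :=
  ⟨((ψ (x : leechLattice)).out : Q), Subgroup.mem_centralizer_singleton_iff.2
    ((comm_iff_dvd hE hcard hψ (x : leechLattice) Spor.leechU (ψ (x : leechLattice)).out t₀
      (QuotientGroup.out_eq' _).symm hv).2 x.2)⟩

theorem lamFun_mem (hE : ExtraData Q (zC z)) (hcard : 2 < Nat.card ↥Q)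
    (hψ : IsLeechModTwoIso Q e ψ) (t₀ : Q) (hv : ψ Spor.leechU = QuotientGroup.mk t₀)
    (x : leechPerpU) :
    (lamFun hE hcard hψ t₀ hv x : Subgroup.centralizer ({z} : Set G)) ∈ Q :=
  ((ψ (x : leechLattice)).out : Q).2

theorem mk_lamFun (hE : ExtraData Q (zC z)) (hcard : 2 < Nat.card ↥Q)
    (hψ : IsLeechModTwoIso Q e ψ) (t₀ : Q) (hv : ψ Spor.leechU = QuotientGroup.mk t₀)
    (x : leechPerpU) :
    (QuotientGroup.mk (⟨(lamFun hE hcard hψ t₀ hv x : Subgroup.centralizer ({z} : Set G)),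
      lamFun_mem hE hcard hψ t₀ hv x⟩ : Q) : Q ⧸ Subgroup.center Q) = ψ (x : leechLattice) :=
  QuotientGroup.out_eq' _

theorem lamFun_add (hE : ExtraData Q (zC z)) (hcard : 2 < Nat.card ↥Q)
    (hψ : IsLeechModTwoIso Q e ψ) (t₀ : Q) (hv : ψ Spor.leechU = QuotientGroup.mk t₀)
    (x y : leechPerpU) :
    ∃ c, InV4 (zHt t₀) (tHt t₀) c ∧ lamFun hE hcard hψ t₀ hv (x + y) =
      lamFun hE hcard hψ t₀ hv x * lamFun hE hcard hψ t₀ hv y * c := by
  apply exists_V4_of_mk_eq hE t₀ _ _ (lamFun_mem hE hcard hψ t₀ hv (x + y))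
    (Q.mul_mem (lamFun_mem hE hcard hψ t₀ hv x) (lamFun_mem hE hcard hψ t₀ hv y))
  rw [mk_lamFun]
  have h1 : ((x + y : leechPerpU) : leechLattice) = (x : leechLattice) + (y : leechLattice) := rfl
  rw [h1, hψ.1, ← mk_lamFun hE hcard hψ t₀ hv x, ← mk_lamFun hE hcard hψ t₀ hv y,
    ← QuotientGroup.mk_mul]
  rfl

theorem lamFun_surj (hE : ExtraData Q (zC z)) (hcard : 2 < Nat.card ↥Q)
    (hψ : IsLeechModTwoIso Q e ψ) (t₀ : Q) (hv : ψ Spor.leechU = QuotientGroup.mk t₀)
    (r : ↥(Subgroup.centralizer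
      ({(t₀ : Subgroup.centralizer ({z} : Set G))} : Set (Subgroup.centralizer ({z} : Set G)))))
    (hr : (r : Subgroup.centralizer ({z} : Set G)) ∈ Q) :
    ∃ x c, InV4 (zHt t₀) (tHt t₀) c ∧ r = lamFun hE hcard hψ t₀ hv x * c := by
  obtain ⟨v, hv'⟩ := hψ.2.1 (QuotientGroup.mk ⟨(r : Subgroup.centralizer ({z} : Set G)), hr⟩)
  have hperp : v ∈ leechPerpU :=
    (comm_iff_dvd hE hcard hψ v Spor.leechU ⟨(r : Subgroup.centralizer ({z} : Set G)), hr⟩ t₀
      hv' hv).1 (Subgroup.mem_centralizer_singleton_iff.1 r.2)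
  refine ⟨⟨v, hperp⟩, ?_⟩
  apply exists_V4_of_mk_eq hE t₀ _ _ hr (lamFun_mem hE hcard hψ t₀ hv ⟨v, hperp⟩)
  rw [mk_lamFun, ← hv']

theorem lamFun_ker (hE : ExtraData Q (zC z)) (hcard : 2 < Nat.card ↥Q)
    (hψ : IsLeechModTwoIso Q e ψ) (t₀ : Q) (hv : ψ Spor.leechU = QuotientGroup.mk t₀)
    (ht2 : (t₀ : Subgroup.centralizer ({z} : Set G)) * t₀ = 1) (x : leechPerpU) :
    InV4 (zHt t₀) (tHt t₀) (lamFun hE hcard hψ t₀ hv x) ↔
      ((∃ w : leechLattice, (x : leechLattice) = w + w) ∨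
        ∃ w : leechLattice, (x : leechLattice) = Spor.leechU + (w + w)) := by
  have hmk := mk_lamFun hE hcard hψ t₀ hv x
  have hzmk : ∀ (a : Q), (a : Subgroup.centralizer ({z} : Set G)) = zC z →
      (QuotientGroup.mk a : Q ⧸ Subgroup.center Q) = 1 := by
    intro a ha
    obtain ⟨c, hc, hcz⟩ := hE.zmem
    have : a = c := by
      apply Subtype.ext
      rw [ha]
      exact hcz.symm
    rw [this]
    exact (QuotientGroup.eq_one_iff c).2 hc
  have htt : tHt t₀ * tHt t₀ = 1 := by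
    apply Subtype.ext
    exact ht2
  constructor
  · rintro (h | h | h | h)
    · left
      apply (hψ.2.2.1 _).1
      rw [← hmk]
      have : (⟨(lamFun hE hcard hψ t₀ hv x : Subgroup.centralizer ({z} : Set G)),
          lamFun_mem hE hcard hψ t₀ hv x⟩ : Q) = 1 := by
        apply Subtype.ext
        have h' := congrArg (fun a : ↥(Subgroup.centralizer
          ({(t₀ : Subgroup.centralizer ({z} : Set G))} :
            Set (Subgroup.centralizer ({z} : Set G)))) =>
          (a : Subgroup.centralizer ({z} : Set G))) h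
        exact h'
      rw [this, QuotientGroup.mk_one]
    · left
      apply (hψ.2.2.1 _).1
      rw [← hmk]
      apply hzmk
      exact congrArg Subtype.val h
    · right
      apply (psi_eq_iff hψ _ _).1
      rw [← hmk, hv]
      congr 1
      apply Subtype.ext
      have h' := congrArg (fun a : ↥(Subgroup.centralizer
        ({(t₀ : Subgroup.centralizer ({z} : Set G))} :
          Set (Subgroup.centralizer ({z} : Set G)))) =>
        (a : Subgroup.centralizer ({z} : Set G))) h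
      exact h'
    · right
      apply (psi_eq_iff hψ _ _).1
      rw [← hmk, hv]
      apply mk_eq_of_eq_mul hE
      exact congrArg Subtype.val h
  · rintro (⟨w, hw⟩ | ⟨w, hw⟩)
    · have h1 : ψ (x : leechLattice) = 1 := (hψ.2.2.1 _).2 ⟨w, hw⟩
      rw [← hmk] at h1
      obtain ⟨c, hc, hac⟩ := exists_V4_of_mk_eq hE t₀ (lamFun hE hcard hψ t₀ hv x) 1
        (lamFun_mem hE hcard hψ t₀ hv x) Q.one_mem (by rw [h1]; rfl)
      rw [hac, one_mul]
      exact hc
    · have h1 : ψ (x : leechLattice) = ψ Spor.leechU := (psi_eq_iff hψ _ _).2 ⟨w, hw⟩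
      rw [← hmk, hv] at h1
      obtain ⟨c, hc, hac⟩ := exists_V4_of_mk_eq hE t₀ (lamFun hE hcard hψ t₀ hv x) (tHt t₀)
        (lamFun_mem hE hcard hψ t₀ hv x) t₀.2 h1
      rw [hac]
      rcases hc with rfl | rfl | rfl | rfl
      · right; right; left
        rw [mul_one]
      · right; right; right
        exact (tHt_comm t₀ (zHt t₀)).symm
      · left
        exact htt
      · right; left
        rw [← mul_assoc, ← tHt_comm t₀ (zHt t₀), mul_assoc, htt, mul_one]

theorem lamFun_act (hE : ExtraData Q (zC z)) (hcard : 2 < Nat.card ↥Q)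
    (hψ : IsLeechModTwoIso Q e ψ) (t₀ : Q) (hv : ψ Spor.leechU = QuotientGroup.mk t₀)
    (θ : ↥(Subgroup.centralizer
        ({(t₀ : Subgroup.centralizer ({z} : Set G))} : Set (Subgroup.centralizer ({z} : Set G)))) →*
        ↥Spor.Co2)
    (hθe : ∀ h, (QuotientGroup.mk (co2Incl (θ h)) : Spor.Co1) =
        e (QuotientGroup.mk (h : Subgroup.centralizer ({z} : Set G))))
    (h : ↥(Subgroup.centralizer
      ({(t₀ : Subgroup.centralizer ({z} : Set G))} : Set (Subgroup.centralizer ({z} : Set G)))))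
    (x y : leechPerpU) (hxy : θ h • (x : leechLattice) = (y : leechLattice)) :
    ∃ c, InV4 (zHt t₀) (tHt t₀) c ∧ lamFun hE hcard hψ t₀ hv y =
      h * lamFun hE hcard hψ t₀ hv x * h⁻¹ * c := by
  have h2 := hψ.2.2.2 (h : Subgroup.centralizer ({z} : Set G)) (co2Incl (θ h)) (hθe h)
    (x : leechLattice) (ψ (x : leechLattice)).out (QuotientGroup.out_eq' _).symm
  rw [co2Incl_smul, hxy] at h2
  apply exists_V4_of_mk_eq hE t₀ _ _ (lamFun_mem hE hcard hψ t₀ hv y)
    ((inferInstance : Q.Normal).conj_mem _ (lamFun_mem hE hcard hψ t₀ hv x) _)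
  rw [mk_lamFun, h2]
  rfl

end Cfsg.Agent.Helper90
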