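import Mathlib
import Cfsg.Prelude.Def_MonsterType
import Cfsg.Agent.Helper8.Co0Center
import Cfsg.Agent.Helper8.Min32
import Cfsg.Agent.Helper27.Octads
import Cfsg.Agent.Helper92.LeechBasic

set_option autoImplicit false

/-!
Explicit data in the Leech lattice: a sign change on an octad and a vector `(2^8, 0^16)` whose
difference under the sign change is a minimal vector.
-/

namespace Cfsg.Agent.Helper90

open Cfsg Cfsg.Agent.Helper8

/-- an octad meeting the base octad in two points and avoiding the support of `u` -/
def octC : Finset GolayPt := Cfsg.Agent.Helper27.setOf 2605066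

theorem octC_mem : octC ∈ octads := by
  unfold octC
  rw [Cfsg.Agent.Helper27.setOf_mem_octads_iff (by norm_num)]
  decide +kernel

theorem octC_supp : octC ∈ supports (golayCode : Set (GolayPt → ZMod 2)) := octC_mem.1

/-- the sign change on `octC` -/
noncomputable def epsC : ↥Co0 := monoCo0 (Subgroup.one_mem M24) octC_supp

/-- the vector `(2^8, 0^16)` on the base octad -/
def vecX : ↥leechLattice := ⟨twoInd octB, twoInd_mem octB_mem.1⟩

theorem epsC_smul (v : ↥leechLattice) :
    ((epsC • v : ↥leechLattice) : GolayPt → ℤ) = signedPerm 1 octC (v : GolayPt → ℤ) := rfl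

/-- the difference vector -/
noncomputable def vecD : ↥leechLattice := epsC • vecX - vecX

theorem vecD_coe : ((vecD : ↥leechLattice) : GolayPt → ℤ) =
    signedPerm 1 octC (twoInd octB) - twoInd octB := rfl

theorem sqNorm_vecD : sqNorm ((vecD : ↥leechLattice) : GolayPt → ℤ) = 32 := by
  rw [vecD_coe]
  unfold sqNorm
  decide +kernel

theorem sqNorm_vecD_sub_U :
    sqNorm (((vecD - Spor.leechU : ↥leechLattice)) : GolayPt → ℤ) = 64 := by
  rw [AddSubgroup.coe_sub, vecD_coe]
  show sqNorm (signedPerm 1 octC (twoInd octB) - twoInd octB - Spor.vecU) = 64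
  unfold sqNorm
  decide +kernel

theorem dot_vecX_U : dotInt ((vecX : ↥leechLattice) : GolayPt → ℤ) Spor.vecU = 16 := by
  show dotInt (twoInd octB) Spor.vecU = 16
  unfold dotInt
  decide +kernel

theorem dot_vecX_8 : dotInt ((vecX : ↥leechLattice) : GolayPt → ℤ)
    ((vec8 none : ↥leechLattice) : GolayPt → ℤ) = 16 := by
  show dotInt (twoInd octB) (Pi.single none 8) = 16
  unfold dotInt
  decide +kernel

theorem epsC_U : epsC • Spor.leechU = Spor.leechU := by
  apply Subtype.ext
  rw [epsC_smul]
  show signedPerm 1 octC Spor.vecU = Spor.vecU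
  decide +kernel

theorem epsC_8 : epsC • vec8 none = vec8 none := by
  apply Subtype.ext
  rw [epsC_smul]
  show signedPerm 1 octC (Pi.single none 8) = Pi.single none 8
  decide +kernel

end Cfsg.Agent.Helper90
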