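import Mathlib
import Cfsg.Prelude.Def_MonsterType
import Cfsg.Agent.Helper90.BabyTheta
import Cfsg.Agent.Helper90.BabyPolar
import Cfsg.Agent.Helper90.BabyExplicit

set_option autoImplicit false

/-!
Groups of Monster type: an element of `C(z) ∩ C(t)` centralizing `C_Q(t) / ⟨t⟩` lies in `Q`
(for `t` of type 2).
-/

namespace Cfsg.Agent.Helper90

open Cfsg Cfsg.Agent.Helper8

theorem dotInt_self (x : GolayPt → ℤ) : dotInt x x = sqNorm x := by
  unfold dotInt sqNorm
  apply Finset.sum_congr rfl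
  intro i _
  ring

/-- a nonzero lattice vector of small norm is not a double -/
theorem not_double_of_small {y : ↥leechLattice} (h0 : 0 < sqNorm (y : GolayPt → ℤ))
    (h128 : sqNorm (y : GolayPt → ℤ) < 128) : ¬ ∃ w : ↥leechLattice, y = w + w := by
  rintro ⟨w, rfl⟩
  rw [AddSubgroup.coe_add, sqNorm_add', dotInt_self] at h0 h128
  by_cases hw : (w : GolayPt → ℤ) = 0
  · rw [hw] at h0
    have : sqNorm (0 : GolayPt → ℤ) = 0 := by
      unfold sqNorm
      simp
    omega
  · have := Cfsg.Agent.Helper92.thirtytwo_le_sqNorm w.2 hw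
    omega

variable {G : Type*} [Group G] {z : G}
  {Q : Subgroup (Subgroup.centralizer ({z} : Set G))} [Q.Normal]
  {e : (Subgroup.centralizer ({z} : Set G)) ⧸ Q ≃* Spor.Co1}
  {ψ : leechLattice → Q ⧸ Subgroup.center Q}

theorem psi_sub (hψ : IsLeechModTwoIso Q e ψ) (a b : leechLattice) :
    ψ (a - b) = ψ a * (ψ b)⁻¹ := by
  have h1 : ψ a = ψ (a - b) * ψ b := by rw [← hψ.1, sub_add_cancel]
  rw [h1, mul_inv_cancel_right]

theorem self_centralizing [Finite G] (hE : ExtraData Q (zC z)) (hcard : 2 < Nat.card ↥Q)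
    (hψ : IsLeechModTwoIso Q e ψ) (t₀ : Q)
    (ht2 : (t₀ : Subgroup.centralizer ({z} : Set G)) * t₀ = 1)
    (hv : ψ Spor.leechU = QuotientGroup.mk t₀)
    (hsimple : IsSimpleGroup ↥Spor.Co2)
    (Ht : Subgroup (Subgroup.centralizer ({z} : Set G)))
    (hHt : ∀ k : Subgroup.centralizer ({z} : Set G), k ∈ Ht ↔ k * t₀ = t₀ * k)
    (θ : ↥Ht →* ↥Spor.Co2)
    (hθs : Function.Surjective θ)
    (hθk : ∀ h, θ h = 1 ↔ (h : Subgroup.centralizer ({z} : Set G)) ∈ Q)
    (hθe : ∀ h, (QuotientGroup.mk (co2Incl (θ h)) : Spor.Co1) =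
        e (QuotientGroup.mk (h : Subgroup.centralizer ({z} : Set G))))
    (tH : ↥Ht) (htH : (tH : Subgroup.centralizer ({z} : Set G)) = t₀)
    (h : ↥Ht)
    (hh : ∀ r : ↥Ht, (r : Subgroup.centralizer ({z} : Set G)) ∈ Q →
        h * r * h⁻¹ * r⁻¹ = 1 ∨ h * r * h⁻¹ * r⁻¹ = tH) :
    (h : Subgroup.centralizer ({z} : Set G)) ∈ Q := by
  have htc : ∀ k : ↥Ht, k * tH = tH * k := by
    intro k
    apply Subtype.ext
    rw [Subgroup.coe_mul, Subgroup.coe_mul, htH]
    exact (hHt _).1 k.2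
  have htt : tH * tH = 1 := by
    apply Subtype.ext
    rw [Subgroup.coe_mul, htH, ht2]
    rfl
  have htinv : tH⁻¹ = tH := inv_eq_of_mul_eq_one_right htt
  have hconj : ∀ (k : ↥Ht) (c : ↥Ht), (c = 1 ∨ c = tH) → k * c * k⁻¹ = c := by
    intro k c hc
    rcases hc with rfl | rfl
    · group
    · rw [htc k, mul_inv_cancel_right]
  -- the subgroup of elements acting trivially
  let N : Subgroup ↥Ht :=
    { carrier := {k | ∀ r : ↥Ht, (r : Subgroup.centralizer ({z} : Set G)) ∈ Q →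
        k * r * k⁻¹ * r⁻¹ = 1 ∨ k * r * k⁻¹ * r⁻¹ = tH}
      one_mem' := by
        intro r _
        left
        group
      mul_mem' := by
        intro a b ha hb r hr
        have h1 := ha r hr
        have h2 := hb r hr
        have h3 : (a * b) * r * (a * b)⁻¹ * r⁻¹ =
            (a * (b * r * b⁻¹ * r⁻¹) * a⁻¹) * (a * r * a⁻¹ * r⁻¹) := by group
        rw [h3, hconj a _ h2]
        rcases h1 with h1 | h1 <;> rcases h2 with h2 | h2
        · left; rw [h1, h2, mul_one]
        · right; rw [h1, h2, mul_one]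
        · right; rw [h1, h2, one_mul]
        · left; rw [h1, h2, htt]
      inv_mem' := by
        intro a ha r hr
        have h1 := ha r hr
        have h3 : a⁻¹ * r * a⁻¹⁻¹ * r⁻¹ = a⁻¹ * (a * r * a⁻¹ * r⁻¹)⁻¹ * a⁻¹⁻¹ := by group
        rw [h3]
        rcases h1 with h1 | h1
        · left; rw [h1]; group
        · right
          rw [h1, htinv]
          exact hconj a⁻¹ tH (Or.inr rfl) }
  have hNmem : ∀ k : ↥Ht, k ∈ N ↔ ∀ r : ↥Ht, (r : Subgroup.centralizer ({z} : Set G)) ∈ Q →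
      k * r * k⁻¹ * r⁻¹ = 1 ∨ k * r * k⁻¹ * r⁻¹ = tH := fun k => Iff.rfl
  have hNn : N.Normal := by
    refine ⟨fun a ha k => ?_⟩
    rw [hNmem] at ha ⊢
    intro r hr
    have hr' : ((k⁻¹ * r * k : ↥Ht) : Subgroup.centralizer ({z} : Set G)) ∈ Q := by
      have := (inferInstance : Q.Normal).conj_mem _ hr ((k : Subgroup.centralizer ({z} : Set G))⁻¹)
      rw [Subgroup.coe_mul, Subgroup.coe_mul, Subgroup.coe_inv]
      rw [inv_inv] at this
      exact this
    have h1 := ha _ hr'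
    have h3 : (k * a * k⁻¹) * r * (k * a * k⁻¹)⁻¹ * r⁻¹ =
        k * (a * (k⁻¹ * r * k) * a⁻¹ * (k⁻¹ * r * k)⁻¹) * k⁻¹ := by group
    rw [h3, hconj k _ h1]
    exact h1
  have hPn : (N.map θ).Normal := Subgroup.Normal.map hNn θ hθs
  have hhN : h ∈ N := hh
  rcases hsimple.eq_bot_or_eq_top_of_normal _ hPn with hP | hP
  · have : θ h ∈ N.map θ := Subgroup.mem_map_of_mem θ hhN
    rw [hP, Subgroup.mem_bot] at this
    exact (hθk h).1 this
  · exfalso
    have h1 : toCo2 epsC epsC_U ∈ N.map θ := by rw [hP]; trivial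
    obtain ⟨k, hkN, hk⟩ := h1
    obtain ⟨q, hq⟩ := QuotientGroup.mk_surjective (ψ vecX)
    have hqt : (q : Subgroup.centralizer ({z} : Set G)) * t₀ = t₀ * q := by
      rw [comm_iff_dvd hE hcard hψ vecX Spor.leechU q t₀ hq.symm hv]
      show (16 : ℤ) ∣ dotInt ((vecX : ↥leechLattice) : GolayPt → ℤ) Spor.vecU
      rw [dot_vecX_U]
    let r : ↥Ht := ⟨q, (hHt _).2 hqt⟩
    have hr : (r : Subgroup.centralizer ({z} : Set G)) ∈ Q := q.2
    have h2 := hψ.2.2.2 (k : Subgroup.centralizer ({z} : Set G)) (co2Incl (θ k)) (hθe k) vecX q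
      hq.symm
    rw [hk, co2Incl_toCo2] at h2
    have h3 : ψ vecD = QuotientGroup.mk
        ((⟨(k : Subgroup.centralizer ({z} : Set G)) * q * (k : Subgroup.centralizer ({z} : Set G))⁻¹,
          (inferInstance : Q.Normal).conj_mem _ q.2 _⟩ : Q) * q⁻¹) := by
      show ψ (epsC • vecX - vecX) = _
      rw [psi_sub hψ, h2, ← hq, QuotientGroup.mk_mul, QuotientGroup.mk_inv]
    rcases hkN r hr with h4 | h4
    · have h5 : (⟨(k : Subgroup.centralizer ({z} : Set G)) * q *
          (k : Subgroup.centralizer ({z} : Set G))⁻¹,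
          (inferInstance : Q.Normal).conj_mem _ q.2 _⟩ : Q) * q⁻¹ = 1 := by
        apply Subtype.ext
        have := congrArg (fun x : ↥Ht => (x : Subgroup.centralizer ({z} : Set G))) h4
        exact this
      rw [h5, QuotientGroup.mk_one] at h3
      obtain ⟨w, hw⟩ := (hψ.2.2.1 vecD).1 h3
      exact not_double_of_small (by rw [sqNorm_vecD]; norm_num) (by rw [sqNorm_vecD]; norm_num)
        ⟨w, hw⟩
    · have h5 : (⟨(k : Subgroup.centralizer ({z} : Set G)) * q *
          (k : Subgroup.centralizer ({z} : Set G))⁻¹,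
          (inferInstance : Q.Normal).conj_mem _ q.2 _⟩ : Q) * q⁻¹ = t₀ := by
        apply Subtype.ext
        have := congrArg (fun x : ↥Ht => (x : Subgroup.centralizer ({z} : Set G))) h4
        rw [htH] at this
        exact this
      rw [h5, ← hv] at h3
      obtain ⟨w, hw⟩ := (psi_eq_iff hψ _ _).1 h3
      apply not_double_of_small (y := vecD - Spor.leechU) (by rw [sqNorm_vecD_sub_U]; norm_num)
        (by rw [sqNorm_vecD_sub_U]; norm_num)
      refine ⟨w, ?_⟩
      rw [hw]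
      abel

end Cfsg.Agent.Helper90
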