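import Mathlib
import Cfsg.Agent.Helper90.MonFrame

set_option autoImplicit false

/-!
The class stabilizer of `8 e_∞`: normal 2-subgroups lie in the group of sign changes, and the
permutation part has a section.
-/

namespace Cfsg.Agent.Helper90

open Cfsg Cfsg.Agent.Helper8

theorem le_ker_rho_of_normal_two (P : Subgroup (classStab (vec8 none))) [hPn : P.Normal]
    (hP2 : IsPGroup 2 P) : P ≤ rho.ker := by
  have hN : (P.map rho).Normal := hPn.map rho rho_surjective
  rcases Cfsg.Agent.Helper7.m24_simple.eq_bot_or_eq_top_of_normal _ hN with h0 | h1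
  · exact (Subgroup.map_eq_bot_iff P).1 h0
  · exfalso
    have hp : IsPGroup 2 (P.map rho) := hP2.map rho
    rw [h1] at hp
    have hp' : IsPGroup 2 ↥M24 := by
      intro g
      obtain ⟨k, hk⟩ := hp ⟨g, Subgroup.mem_top g⟩
      exact ⟨k, congrArg Subtype.val hk⟩
    haveI : Finite ↥M24 := Nat.finite_of_card_ne_zero (by rw [Cfsg.Agent.Helper7.card_M24]; norm_num)
    obtain ⟨k, hk⟩ := hp'.exists_card_eq
    rw [Cfsg.Agent.Helper7.card_M24] at hk
    have h3 : (3 : ℕ) ∣ 2 ^ k := by rw [← hk]; norm_num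
    have := (Nat.Prime.dvd_of_dvd_pow Nat.prime_three h3)
    omega

/-- the coordinate permutation attached to an element of `M24` -/
noncomputable def secFun (σ : ↥M24) : classStab (vec8 none) :=
  ⟨monoCo0 σ.2 Cfsg.Agent.S0390.empty_mem_supports,
    mem_classStab_of_fixesCross (monoPerm_fixesCross σ.2 Cfsg.Agent.S0390.empty_mem_supports)⟩

theorem secFun_smul (σ : ↥M24) (v : ↥leechLattice) :
    ((((secFun σ : classStab (vec8 none)) : ↥Co0) • v : ↥leechLattice) : GolayPt → ℤ) =
      signedPerm (σ : Equiv.Perm GolayPt) ∅ v.1 := rfl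

theorem rho_secFun (σ : ↥M24) : rho (secFun σ) = σ := by
  apply Subtype.ext
  rw [rho_apply]
  exact (rhoFun_eq (γ := secFun σ) (σ := (σ : Equiv.Perm GolayPt)) (c := ∅)
    (fun v => secFun_smul σ v)).1

/-- the section of the permutation part -/
noncomputable def sec : ↥M24 →* classStab (vec8 none) :=
  MonoidHom.mk' secFun (by
    classical
    intro σ τ
    apply Subtype.ext
    apply co0_ext
    intro v
    apply Subtype.ext
    rw [Subgroup.coe_mul, mul_smul, secFun_smul, secFun_smul, secFun_smul, signedPerm_comp]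
    congr 1)

theorem sec_apply (σ : ↥M24) : sec σ = secFun σ := rfl

theorem rho_sec (σ : ↥M24) : rho (sec σ) = σ := rho_secFun σ

theorem neg_mem_ker_rho :
    (⟨negCo0, negCo0_mem_classStab (vec8 none)⟩ : classStab (vec8 none)) ∈ rho.ker := by
  rw [MonoidHom.mem_ker]
  apply Subtype.ext
  rw [rho_apply]
  refine (rhoFun_eq (γ := (⟨negCo0, negCo0_mem_classStab (vec8 none)⟩ : classStab (vec8 none)))
    (σ := 1) (c := Finset.univ) (fun v => ?_)).1
  show ((negCo0 • v : ↥leechLattice) : GolayPt → ℤ) = _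
  rw [negCo0_smul, AddSubgroup.coe_neg]
  ext j
  rw [signedPerm_one_apply, if_pos (Finset.mem_univ j), Pi.neg_apply]

end Cfsg.Agent.Helper90
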