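import Mathlib
import Cfsg.Prelude.Def_MonsterType
import Cfsg.Agent.Helper90.MonType4

set_option autoImplicit false

/-!
Groups of Monster type: the homomorphism from the lattice automorphism group to `C(z) / Q`, and change
of the identification so that a given vector of sum of squares 64 becomes `8 e_∞`.
-/

namespace Cfsg.Agent.Helper90

open Cfsg Cfsg.Agent.Helper8

variable {G : Type*} [Group G] {z : G}
  {Q : Subgroup (Subgroup.centralizer ({z} : Set G))} [Q.Normal]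
  {e : (Subgroup.centralizer ({z} : Set G)) ⧸ Q ≃* Spor.Co1}
  {ψ : leechLattice → Q ⧸ Subgroup.center Q}

/-- the homomorphism from the lattice automorphism group to `C(z) / Q` -/
noncomputable def PhiHom (e : (Subgroup.centralizer ({z} : Set G)) ⧸ Q ≃* Spor.Co1) :
    ↥Co0 →* (Subgroup.centralizer ({z} : Set G)) ⧸ Q :=
  e.symm.toMonoidHom.comp (QuotientGroup.mk' (Subgroup.center Co0))

theorem e_PhiHom (γ : ↥Co0) : e (PhiHom e γ) = (QuotientGroup.mk γ : Spor.Co1) := by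
  simp [PhiHom]

theorem PhiHom_eq_one_iff (γ : ↥Co0) : PhiHom e γ = 1 ↔ γ = 1 ∨ γ = negCo0 := by
  constructor
  · intro h
    have h2 := e_PhiHom (e := e) γ
    rw [h, map_one] at h2
    have h3 : γ ∈ Subgroup.center ↥Co0 := (QuotientGroup.eq_one_iff _).1 h2.symm
    exact center_eq_or _ h3
  · rintro (rfl | rfl)
    · exact map_one _
    · apply e.injective
      rw [e_PhiHom, map_one]
      exact (QuotientGroup.eq_one_iff _).2 negCo0_mem_center

/-- elements fixing `s` induce automorphisms fixing the class of `w` -/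
theorem exists_classStab_of_comm (hψ : IsLeechModTwoIso Q e ψ) (s : Q)
    (w : leechLattice) (hw : ψ w = QuotientGroup.mk s)
    (x : Subgroup.centralizer ({z} : Set G)) (hx : x * s = s * x) :
    ∃ γ ∈ classStab w, PhiHom e γ = QuotientGroup.mk x := by
  obtain ⟨γ₀, hγ₀⟩ := QuotientGroup.mk_surjective (e (QuotientGroup.mk x))
  have h1 := hψ.2.2.2 x γ₀ hγ₀ w s hw
  have h2 : (⟨x * s * x⁻¹, (inferInstance : Q.Normal).conj_mem _ s.2 x⟩ : Q) = s := by
    apply Subtype.ext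
    show x * (s : Subgroup.centralizer ({z} : Set G)) * x⁻¹ = s
    rw [hx]; group
  rw [h2, ← hw] at h1
  refine ⟨γ₀, (psi_eq_iff hψ _ _).1 h1, ?_⟩
  apply e.injective
  rw [e_PhiHom]
  exact hγ₀

/-- automorphisms fixing the class of `w` are induced by elements fixing `s` -/
theorem exists_comm_of_classStab (hE : ExtraData Q (zC z)) (hψ : IsLeechModTwoIso Q e ψ) (s : Q)
    (hs1 : (s : Subgroup.centralizer ({z} : Set G)) ≠ 1)
    (hsz : (s : Subgroup.centralizer ({z} : Set G)) ≠ zC z)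
    (w : leechLattice) (hw : ψ w = QuotientGroup.mk s) (γ : ↥Co0) (hγ : γ ∈ classStab w) :
    ∃ x : Subgroup.centralizer ({z} : Set G), x * s = s * x ∧
      (QuotientGroup.mk x : (Subgroup.centralizer ({z} : Set G)) ⧸ Q) = PhiHom e γ := by
  have hγ' : ψ (γ • w) = ψ w := (psi_eq_iff hψ _ _).2 hγ
  obtain ⟨x, hx, hxγ⟩ := exists_comm_of_class hE hψ s hs1 hsz w hw γ hγ'
  refine ⟨x, hx, ?_⟩
  apply e.injective
  rw [e_PhiHom]
  exact hxγ.symm

/-- change of the identification by a lattice automorphism -/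
theorem isLeechModTwoIso_conj (hψ : IsLeechModTwoIso Q e ψ) (γ₁ : ↥Co0) :
    IsLeechModTwoIso Q (e.trans (MulAut.conj (QuotientGroup.mk γ₁ : Spor.Co1)))
      (fun v => ψ (γ₁⁻¹ • v)) := by
  obtain ⟨hadd, hsurj, hker, hact⟩ := hψ
  refine ⟨?_, ?_, ?_, ?_⟩
  · intro v w
    show ψ (γ₁⁻¹ • (v + w)) = ψ (γ₁⁻¹ • v) * ψ (γ₁⁻¹ • w)
    rw [co0_smul_add, hadd]
  · intro y
    obtain ⟨u, hu⟩ := hsurj y
    refine ⟨γ₁ • u, ?_⟩
    show ψ (γ₁⁻¹ • γ₁ • u) = y
    rw [inv_smul_smul, hu]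
  · intro v
    show ψ (γ₁⁻¹ • v) = 1 ↔ _
    rw [hker]
    constructor
    · rintro ⟨u, hu⟩
      refine ⟨γ₁ • u, ?_⟩
      rw [← co0_smul_add, ← hu, smul_inv_smul]
    · rintro ⟨u, hu⟩
      refine ⟨γ₁⁻¹ • u, ?_⟩
      rw [← co0_smul_add, ← hu]
  · intro h g hg v q hv
    show ψ (γ₁⁻¹ • g • v) = _
    have hg' : (QuotientGroup.mk (γ₁⁻¹ * g * γ₁) : Spor.Co1) = e (QuotientGroup.mk h) := by
      have h1 : (QuotientGroup.mk g : Spor.Co1) =
          (QuotientGroup.mk γ₁ : Spor.Co1) * e (QuotientGroup.mk h) *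
            (QuotientGroup.mk γ₁ : Spor.Co1)⁻¹ := hg
      rw [QuotientGroup.mk_mul, QuotientGroup.mk_mul, QuotientGroup.mk_inv, h1]
      group
    have h2 := hact h (γ₁⁻¹ * g * γ₁) hg' (γ₁⁻¹ • v) q hv
    rw [mul_smul, mul_smul, smul_inv_smul] at h2
    exact h2

end Cfsg.Agent.Helper90
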