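import Mathlib
import Cfsg.Prelude.Def_MonsterType
import Cfsg.Agent.Helper90.MonX
import Cfsg.Agent.Helper90.MonFrame2

set_option autoImplicit false

/-!
Groups of Monster type: the image in `C(z) / Q` of `Q^g ∩ C(z)` is the image of the group of sign
changes (for `s = z^g ∈ Q` of type 4 in standard position).
-/

namespace Cfsg.Agent.Helper90

open Cfsg Cfsg.Agent.Helper8

variable {G : Type*} [Group G] {z : G}
  {Q : Subgroup (Subgroup.centralizer ({z} : Set G))} [Q.Normal]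
  {e : (Subgroup.centralizer ({z} : Set G)) ⧸ Q ≃* Spor.Co1}
  {ψ : leechLattice → Q ⧸ Subgroup.center Q}

theorem image_eq_ker_rho [Finite G] (hE : ExtraData Q (zC z)) (hψ : IsLeechModTwoIso Q e ψ) (s : Q)
    (hs1 : (s : Subgroup.centralizer ({z} : Set G)) ≠ 1)
    (hsz : (s : Subgroup.centralizer ({z} : Set G)) ≠ zC z)
    (hw : ψ (vec8 none) = QuotientGroup.mk s)
    (R : Subgroup (Subgroup.centralizer ({z} : Set G))) (hR2 : IsPGroup 2 R)
    (hRs : ∀ r ∈ R, r * s = s * r)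
    (hRn : ∀ x : Subgroup.centralizer ({z} : Set G), x * s = s * x → ∀ r ∈ R, x * r * x⁻¹ ∈ R)
    (hcardT : Nat.card (R.map (QuotientGroup.mk' Q)) = 2 ^ 11) :
    R.map (QuotientGroup.mk' Q) =
      rho.ker.map ((PhiHom e).comp (classStab (vec8 none)).subtype) := by
  haveI : Finite ↥Co0 := Nat.finite_of_card_ne_zero (by rw [card_co0]; norm_num)
  set π := QuotientGroup.mk' Q with hπ
  set T := R.map π with hT
  have hnorm : ∀ c : Subgroup.centralizer ({z} : Set G), c * s = s * c →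
      ∀ y ∈ T, π c * y * (π c)⁻¹ ∈ T := by
    rintro c hc _ ⟨r, hr, rfl⟩
    exact ⟨c * r * c⁻¹, hRn c hc r hr, by rw [map_mul, map_mul, map_inv]⟩
  let φ : classStab (vec8 none) →* (Subgroup.centralizer ({z} : Set G)) ⧸ Q :=
    (PhiHom e).comp (classStab (vec8 none)).subtype
  have hφ : ∀ n : classStab (vec8 none), φ n = PhiHom e (n : ↥Co0) := fun n => rfl
  have hkerφ2 : IsPGroup 2 φ.ker := by
    intro n
    refine ⟨1, ?_⟩
    have h1 : φ (n : classStab (vec8 none)) = 1 := n.2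
    rw [hφ, PhiHom_eq_one_iff] at h1
    apply Subtype.ext
    apply Subtype.ext
    rw [pow_one, Subgroup.coe_pow, Subgroup.coe_pow, Subgroup.coe_one, Subgroup.coe_one, pow_two]
    rcases h1 with h4 | h4
    · rw [h4, one_mul]
    · rw [h4]
      apply co0_ext
      intro v
      rw [mul_smul, negCo0_smul, negCo0_smul, neg_neg, one_smul]
  have hT2 : IsPGroup 2 T := hR2.map π
  have hP2 : IsPGroup 2 (T.comap φ) := hT2.comap_of_ker_isPGroup φ hkerφ2
  haveI hPn : (T.comap φ).Normal := by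
    refine ⟨fun n hn γ => ?_⟩
    rw [Subgroup.mem_comap] at hn ⊢
    rw [map_mul, map_mul, map_inv]
    obtain ⟨c, hc, hcn⟩ := exists_comm_of_classStab hE hψ s hs1 hsz (vec8 none) hw (γ : ↥Co0) γ.2
    rw [hφ γ, ← hcn]
    exact hnorm c hc _ hn
  have hPle := le_ker_rho_of_normal_two (T.comap φ) hP2
  have hle : T ≤ rho.ker.map φ := by
    rintro _ ⟨r, hr, rfl⟩
    obtain ⟨γ, hγ, hγc⟩ := exists_classStab_of_comm hψ s (vec8 none) hw r (hRs r hr)
    refine ⟨⟨γ, hγ⟩, hPle (Subgroup.mem_comap.2 ?_), hγc⟩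
    rw [hφ]
    show PhiHom e γ ∈ T
    rw [hγc]
    exact ⟨r, hr, rfl⟩
  haveI : Finite (classStab (vec8 none)) := inferInstance
  apply Subgroup.eq_of_le_of_card_ge hle
  rw [hcardT]
  let φS : ↥rho.ker →* (Subgroup.centralizer ({z} : Set G)) ⧸ Q := φ.comp rho.ker.subtype
  have hr : φS.range = rho.ker.map φ := by
    rw [MonoidHom.range_comp, Subgroup.range_subtype]
  have hk : 2 ≤ Nat.card φS.ker := by
    have hne : φS.ker ≠ ⊥ := by
      intro h
      have h1 : (⟨⟨negCo0, negCo0_mem_classStab (vec8 none)⟩, neg_mem_ker_rho⟩ : ↥rho.ker) ∈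
          φS.ker := by
        rw [MonoidHom.mem_ker]
        show PhiHom e negCo0 = 1
        exact (PhiHom_eq_one_iff _).2 (Or.inr rfl)
      rw [h, Subgroup.mem_bot] at h1
      exact negCo0_ne_one (congrArg (fun x : ↥rho.ker => ((x : classStab (vec8 none)) : ↥Co0)) h1)
    exact (Subgroup.one_lt_card_iff_ne_bot _).2 hne
  have h1 := Subgroup.card_mul_index φS.ker
  rw [Subgroup.index_ker, hr] at h1
  have h2 := card_ker_rho_le
  have h3 : 2 * Nat.card ↥(rho.ker.map φ) ≤ Nat.card ↥rho.ker := by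
    rw [← h1]
    exact Nat.mul_le_mul_right _ hk
  have : (2 : ℕ) ^ 11 = 2048 := by norm_num
  omega

end Cfsg.Agent.Helper90
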