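import Mathlib
import Cfsg.Prelude.Def_MonsterType
import Cfsg.Agent.Helper90.MonX
import Cfsg.Agent.Helper90.MonFrame2

set_option autoImplicit false

/-!
Groups of Monster type: the structure `2^11 : M24` of the image in `C(z) / Q` of `C(z) ∩ C(s)` for
`s ∈ Q` of type 4.
-/

namespace Cfsg.Agent.Helper90

open Cfsg Cfsg.Agent.Helper8

variable {G : Type*} [Group G] {z : G}
  {Q : Subgroup (Subgroup.centralizer ({z} : Set G))} [Q.Normal]
  {e : (Subgroup.centralizer ({z} : Set G)) ⧸ Q ≃* Spor.Co1}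
  {ψ : leechLattice → Q ⧸ Subgroup.center Q}

theorem structure_std [Finite G] (hE : ExtraData Q (zC z)) (hψ : IsLeechModTwoIso Q e ψ) (s : Q)
    (hs1 : (s : Subgroup.centralizer ({z} : Set G)) ≠ 1)
    (hsz : (s : Subgroup.centralizer ({z} : Set G)) ≠ zC z)
    (hw : ψ (vec8 none) = QuotientGroup.mk s)
    (R Xc : Subgroup (Subgroup.centralizer ({z} : Set G))) (hR2 : IsPGroup 2 R)
    (hXc : ∀ c : Subgroup.centralizer ({z} : Set G), c ∈ Xc ↔ c * s = s * c)
    (hRs : ∀ r ∈ R, r * s = s * r)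
    (hRn : ∀ x : Subgroup.centralizer ({z} : Set G), x * s = s * x → ∀ r ∈ R, x * r * x⁻¹ ∈ R)
    (hcardT : Nat.card (R.map (QuotientGroup.mk' Q)) = 2 ^ 11)
    (hRcomm : ∀ a ∈ R, ∀ b ∈ R, a * b * a⁻¹ * b⁻¹ ∈ Q) (hRsq : ∀ a ∈ R, a * a ∈ Q) :
    R.map (QuotientGroup.mk' Q) ≤ Xc.map (QuotientGroup.mk' Q) ∧
      (∀ x ∈ Xc.map (QuotientGroup.mk' Q), ∀ y ∈ R.map (QuotientGroup.mk' Q),
        x * y * x⁻¹ ∈ R.map (QuotientGroup.mk' Q)) ∧
      IsElementaryAbelian 2 (R.map (QuotientGroup.mk' Q)) ∧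
      ∃ K : Subgroup ((Subgroup.centralizer ({z} : Set G)) ⧸ Q),
        K ≤ Xc.map (QuotientGroup.mk' Q) ∧ R.map (QuotientGroup.mk' Q) ⊓ K = ⊥ ∧
        R.map (QuotientGroup.mk' Q) ⊔ K = Xc.map (QuotientGroup.mk' Q) ∧ Nonempty (K ≃* ↥M24) := by
  haveI : Finite ↥Co0 := Nat.finite_of_card_ne_zero (by rw [card_co0]; norm_num)
  set π := QuotientGroup.mk' Q with hπ
  set T := R.map π with hT
  set X := Xc.map π with hX
  have hTX : T ≤ X := Subgroup.map_mono (fun r hr => (hXc r).2 (hRs r hr))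
  have hnorm : ∀ x ∈ X, ∀ y ∈ T, x * y * x⁻¹ ∈ T := by
    rintro _ ⟨c, hc, rfl⟩ _ ⟨r, hr, rfl⟩
    exact ⟨c * r * c⁻¹, hRn c ((hXc c).1 hc) r hr, by rw [map_mul, map_mul, map_inv]⟩
  have hel : IsElementaryAbelian 2 T := by
    constructor
    · refine ⟨⟨?_⟩⟩
      rintro ⟨_, a, ha, rfl⟩ ⟨_, b, hb, rfl⟩
      apply Subtype.ext
      show π a * π b = π b * π a
      have h1 : π (a * b * a⁻¹ * b⁻¹) = 1 := (QuotientGroup.eq_one_iff _).2 (hRcomm a ha b hb)
      rw [map_mul, map_mul, map_mul, map_inv, map_inv] at h1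
      calc π a * π b = (π a * π b * (π a)⁻¹ * (π b)⁻¹) * (π b * π a) := by group
        _ = π b * π a := by rw [h1, one_mul]
    · rintro _ ⟨a, ha, rfl⟩
      rw [pow_two, ← map_mul]
      exact (QuotientGroup.eq_one_iff _).2 (hRsq a ha)
  refine ⟨hTX, hnorm, hel, ?_⟩
  -- the class stabilizer
  let φ : classStab (vec8 none) →* (Subgroup.centralizer ({z} : Set G)) ⧸ Q :=
    (PhiHom e).comp (classStab (vec8 none)).subtype
  have hφ : ∀ n : classStab (vec8 none), φ n = PhiHom e (n : ↥Co0) := fun n => rfl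
  have hXrange : X = φ.range := by
    apply le_antisymm
    · rintro _ ⟨c, hc, rfl⟩
      obtain ⟨γ, hγ, hγc⟩ := exists_classStab_of_comm hψ s (vec8 none) hw c ((hXc c).1 hc)
      exact ⟨⟨γ, hγ⟩, hγc⟩
    · rintro _ ⟨n, rfl⟩
      obtain ⟨c, hc, hcn⟩ := exists_comm_of_classStab hE hψ s hs1 hsz (vec8 none) hw (n : ↥Co0) n.2
      exact ⟨c, (hXc c).2 hc, hcn⟩
  have hker_cases : ∀ n : classStab (vec8 none), φ n = 1 → n ∈ rho.ker := by
    intro n hn
    rw [hφ, PhiHom_eq_one_iff] at hn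
    rcases hn with h | h
    · have : n = 1 := Subtype.ext h
      rw [this]
      exact Subgroup.one_mem _
    · have : n = ⟨negCo0, negCo0_mem_classStab (vec8 none)⟩ := Subtype.ext h
      rw [this]
      exact neg_mem_ker_rho
  -- the normal 2-subgroup
  have hkerφ2 : IsPGroup 2 φ.ker := by
    intro n
    refine ⟨1, ?_⟩
    have h1 : φ (n : classStab (vec8 none)) = 1 := n.2
    rw [hφ, PhiHom_eq_one_iff] at h1
    apply Subtype.ext
    apply Subtype.ext
    rw [pow_one, Subgroup.coe_pow, Subgroup.coe_pow, Subgroup.coe_one, Subgroup.coe_one, pow_two]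
    rcases h1 with h4 | h4
    · rw [h4, one_mul]
    · rw [h4]
      apply co0_ext
      intro v
      rw [mul_smul, negCo0_smul, negCo0_smul, neg_neg, one_smul]
  have hT2 : IsPGroup 2 T := hR2.map π
  have hP2 : IsPGroup 2 (T.comap φ) := hT2.comap_of_ker_isPGroup φ hkerφ2
  haveI hPn : (T.comap φ).Normal := by
    refine ⟨fun n hn γ => ?_⟩
    rw [Subgroup.mem_comap] at hn ⊢
    rw [map_mul, map_mul, map_inv]
    exact hnorm _ (by rw [hXrange]; exact ⟨γ, rfl⟩) _ hn
  have hPle := le_ker_rho_of_normal_two (T.comap φ) hP2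
  -- `T` is the image of the sign changes
  have hTS : T = rho.ker.map φ := by
    have hle : T ≤ rho.ker.map φ := by
      intro t ht
      have h1 : t ∈ φ.range := by rw [← hXrange]; exact hTX ht
      obtain ⟨n, rfl⟩ := h1
      exact ⟨n, hPle (Subgroup.mem_comap.2 ht), rfl⟩
    haveI : Finite (classStab (vec8 none)) := inferInstance
    apply Subgroup.eq_of_le_of_card_ge hle
    rw [hcardT]
    -- the image of the sign changes has at most `2 ^ 11` elements
    let φS : ↥rho.ker →* (Subgroup.centralizer ({z} : Set G)) ⧸ Q := φ.comp rho.ker.subtype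
    have hr : φS.range = rho.ker.map φ := by
      rw [MonoidHom.range_comp, Subgroup.range_subtype]
    have hk : 2 ≤ Nat.card φS.ker := by
      have hne : φS.ker ≠ ⊥ := by
        intro h
        have h1 : (⟨⟨negCo0, negCo0_mem_classStab (vec8 none)⟩, neg_mem_ker_rho⟩ : ↥rho.ker) ∈
            φS.ker := by
          rw [MonoidHom.mem_ker]
          show PhiHom e negCo0 = 1
          exact (PhiHom_eq_one_iff _).2 (Or.inr rfl)
        rw [h, Subgroup.mem_bot] at h1
        exact negCo0_ne_one (congrArg (fun x : ↥rho.ker => ((x : classStab (vec8 none)) : ↥Co0)) h1)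
      exact (Subgroup.one_lt_card_iff_ne_bot _).2 hne
    have h1 := Subgroup.card_mul_index φS.ker
    rw [Subgroup.index_ker, hr] at h1
    have h2 := card_ker_rho_le
    have h3 : 2 * Nat.card ↥(rho.ker.map φ) ≤ Nat.card ↥rho.ker := by
      rw [← h1]
      exact Nat.mul_le_mul_right _ hk
    have : (2 : ℕ) ^ 11 = 2048 := by norm_num
    omega
  -- the complement
  let κ : ↥M24 →* (Subgroup.centralizer ({z} : Set G)) ⧸ Q := φ.comp sec
  have hκinj : Function.Injective κ := by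
    rw [injective_iff_map_eq_one]
    intro σ hσ
    have h1 := hker_cases (sec σ) hσ
    rw [MonoidHom.mem_ker, rho_sec] at h1
    exact h1
  refine ⟨κ.range, ?_, ?_, ?_, ⟨(MonoidHom.ofInjective hκinj).symm⟩⟩
  · rw [hXrange]
    rintro _ ⟨σ, rfl⟩
    exact ⟨sec σ, rfl⟩
  · rw [eq_bot_iff]
    rintro y ⟨hyT, σ, hσy⟩
    rw [Subgroup.mem_bot]
    rw [SetLike.mem_coe, hTS] at hyT
    obtain ⟨n, hn, hny⟩ := hyT
    have h1 : φ (n⁻¹ * sec σ) = 1 := by
      rw [map_mul, map_inv, hny]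
      have : φ (sec σ) = y := hσy
      rw [this]
      group
    have h2 := hker_cases _ h1
    rw [MonoidHom.mem_ker, map_mul, map_inv, (MonoidHom.mem_ker).1 hn, rho_sec, inv_one,
      one_mul] at h2
    rw [← hσy, h2, map_one]
  · apply le_antisymm
    · apply sup_le hTX
      rw [hXrange]
      rintro _ ⟨σ, rfl⟩
      exact ⟨sec σ, rfl⟩
    · rw [hXrange]
      rintro _ ⟨n, rfl⟩
      have h1 : φ n = φ (n * (sec (rho n))⁻¹) * κ (rho n) := by
        show φ n = φ (n * (sec (rho n))⁻¹) * φ (sec (rho n))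
        rw [← map_mul]
        congr 1
        group
      rw [h1]
      apply Subgroup.mul_mem_sup
      · rw [hTS]
        refine ⟨_, ?_, rfl⟩
        show n * (sec (rho n))⁻¹ ∈ rho.ker
        rw [MonoidHom.mem_ker, map_mul, map_inv, rho_sec, mul_inv_cancel]
      · exact ⟨rho n, rfl⟩

end Cfsg.Agent.Helper90
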