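import Mathlib
import Cfsg.Prelude.Def_MonsterType
import Cfsg.Agent.Helper90.MonStruct
import Cfsg.Agent.Helper90.MonInter

set_option autoImplicit false

/-!
Groups of Monster type: assembly of the structure `2^11 : M24` statement.
-/

namespace Cfsg.Agent.Helper90

open Cfsg Cfsg.Agent.Helper8

variable {G : Type*} [Group G] {z : G}
  {Q : Subgroup (Subgroup.centralizer ({z} : Set G))}

theorem structure_main [Finite G] [Q.Normal] (hM : IsOfMonsterType z Q)
    (hCo2 : ∀ v : leechLattice, sqNorm (v : GolayPt → ℤ) = 32 →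
      IsCo2 (MulAction.stabilizer Co0 v))
    (x : Q) (g : G) (hg : g * z * g⁻¹ = ((x : Subgroup.centralizer ({z} : Set G)) : G))
    (hxz : ((x : Subgroup.centralizer ({z} : Set G)) : G) ≠ z)
    (R Xc : Subgroup (Subgroup.centralizer ({z} : Set G)))
    (hRdef : R = ((Q.map (Subgroup.centralizer ({z} : Set G)).subtype).map
      (MulAut.conj g).toMonoidHom).subgroupOf (Subgroup.centralizer ({z} : Set G)))
    (hXc : ∀ c : Subgroup.centralizer ({z} : Set G), c ∈ Xc ↔ c * x = x * c) :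
    R.map (QuotientGroup.mk' Q) ≤ Xc.map (QuotientGroup.mk' Q) ∧
      (∀ a ∈ Xc.map (QuotientGroup.mk' Q), ∀ y ∈ R.map (QuotientGroup.mk' Q),
        a * y * a⁻¹ ∈ R.map (QuotientGroup.mk' Q)) ∧
      IsElementaryAbelian 2 (R.map (QuotientGroup.mk' Q)) ∧
      Nat.card (R.map (QuotientGroup.mk' Q)) = 2 ^ 11 ∧
      ∃ K : Subgroup ((Subgroup.centralizer ({z} : Set G)) ⧸ Q),
        K ≤ Xc.map (QuotientGroup.mk' Q) ∧ R.map (QuotientGroup.mk' Q) ⊓ K = ⊥ ∧
        R.map (QuotientGroup.mk' Q) ⊔ K = Xc.map (QuotientGroup.mk' Q) ∧ Nonempty (K ≃* ↥M24) := by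
  haveI : Fact (Nat.Prime 2) := ⟨Nat.prime_two⟩
  obtain ⟨hz2, hE, hcard, hcard', hlarge, hZ⟩ := monster_setup hM
  obtain ⟨e, ψ, hψ⟩ := hM.2
  have hinter := card_inter hM hCo2 x g hg hxz
  set Q' : Subgroup G := Q.map (Subgroup.centralizer ({z} : Set G)).subtype with hQ'
  have hgH : g ∉ Subgroup.centralizer ({z} : Set G) := by
    intro h
    apply hxz
    rw [← hg]
    have := Subgroup.mem_centralizer_singleton_iff.mp h
    calc g * z * g⁻¹ = (z * g) * g⁻¹ := by rw [this]
      _ = z := by group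
  have hxQ' : g * z * g⁻¹ ∈ Q' := by
    rw [hg]
    exact (mem_map_subtype_iff _).2 x.2
  have hP := pairCtx_of_large Q' hlarge z hZ hz2 g hgH hxQ'
  rw [hg] at hP
  set Qg : Subgroup G := Q'.map (MulAut.conj g).toMonoidHom with hQg
  have hxconj : IsConj z ((x : Subgroup.centralizer ({z} : Set G)) : G) := isConj_iff.2 ⟨g, hg⟩
  have hx1 : (x : Subgroup.centralizer ({z} : Set G)) ≠ 1 := by
    intro h
    apply hP.hEb.z1
    rw [h]
    rfl
  have hxzC : (x : Subgroup.centralizer ({z} : Set G)) ≠ zC z := by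
    intro h
    apply hxz
    rw [h]
    rfl
  obtain ⟨w, hw64, hw⟩ := type_four hM hψ hCo2 x hxconj hxz
  -- the subgroup `R`
  have hQ'2 : IsPGroup 2 Q' := hlarge.1.1.1
  have hQg2 : IsPGroup 2 Qg := hQ'2.map _
  have hR2 : IsPGroup 2 R := by rw [hRdef]; exact hQg2.comap_subtype
  have hRmem : ∀ r : Subgroup.centralizer ({z} : Set G), r ∈ R ↔ (r : G) ∈ Qg := by
    intro r
    rw [hRdef, Subgroup.mem_subgroupOf]
  have hRs : ∀ r ∈ R, r * (x : Subgroup.centralizer ({z} : Set G)) = x * r := by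
    intro r hr
    rw [hRmem] at hr
    apply Subtype.ext
    rw [Subgroup.coe_mul, Subgroup.coe_mul]
    exact hP.hEb.zc _ hr
  have hRn : ∀ c : Subgroup.centralizer ({z} : Set G),
      c * (x : Subgroup.centralizer ({z} : Set G)) = x * c → ∀ r ∈ R, c * r * c⁻¹ ∈ R := by
    intro c hc r hr
    rw [hRmem] at hr ⊢
    have hc' : (c : G) * ((x : Subgroup.centralizer ({z} : Set G)) : G) =
        ((x : Subgroup.centralizer ({z} : Set G)) : G) * c := by
      have := congrArg Subtype.val hc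
      rwa [Subgroup.coe_mul, Subgroup.coe_mul] at this
    have hn := hP.normQg c hc'
    rw [Subgroup.coe_mul, Subgroup.coe_mul, Subgroup.coe_inv]
    exact conj_mem_of_mem_normalizer hn hr
  have hT := card_map_le_of_type_four hE hψ x hx1 hxzC w hw hw64 R hR2 hRs hRn
  -- the order of `R`
  have hcardQg : Nat.card ↥Qg = 2 ^ 25 := by
    rw [hQg, Subgroup.card_map_of_injective (MulAut.conj g).injective, hcard']
  have hRcard : 2 ^ 24 ≤ Nat.card ↥R := by
    have h1 := hP.hEb.card_le_two_mul_centralizer hP.hzQg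
    rw [hcardQg] at h1
    have h2 : Nat.card ↥R = Nat.card ↥(Qg ⊓ Subgroup.centralizer ({z} : Set G)) := by
      rw [hRdef, ← Subgroup.inf_subgroupOf_right]
      exact Nat.card_congr (Subgroup.subgroupOfEquivOfLe inf_le_right).toEquiv
    rw [h2]
    omega
  have h1 := Subgroup.relIndex_ker (K := R) (QuotientGroup.mk' Q)
  rw [QuotientGroup.ker_mk'] at h1
  have h2 := Subgroup.card_mul_index (Q.subgroupOf R)
  have h3 : (Q.subgroupOf R).index = Nat.card ↥(R.map (QuotientGroup.mk' Q)) := h1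
  rw [h3] at h2
  have h4 : Nat.card ↥(Q.subgroupOf R) = Nat.card ↥(Q' ⊓ Qg) := by
    have e1 : Q.subgroupOf R = (Q ⊓ R).subgroupOf R := (Subgroup.inf_subgroupOf_right Q R).symm
    rw [e1, Nat.card_congr (Subgroup.subgroupOfEquivOfLe (inf_le_right : Q ⊓ R ≤ R)).toEquiv]
    have e2 : Q ⊓ R = (Q' ⊓ Qg).subgroupOf (Subgroup.centralizer ({z} : Set G)) := by
      ext c
      constructor
      · rintro ⟨h1, h2⟩
        exact Subgroup.mem_subgroupOf.2 ⟨(mem_map_subtype_iff c).2 h1, (hRmem c).1 h2⟩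
      · intro h
        have h' := Subgroup.mem_subgroupOf.1 h
        exact ⟨(mem_map_subtype_iff c).1 h'.1, (hRmem c).2 h'.2⟩
    rw [e2]
    have hle : Q' ⊓ Qg ≤ Subgroup.centralizer ({z} : Set G) :=
      inf_le_left.trans (Subgroup.map_subtype_le Q)
    exact Nat.card_congr (Subgroup.subgroupOfEquivOfLe hle).toEquiv
  rw [h4, hinter] at h2
  have hcardT : Nat.card ↥(R.map (QuotientGroup.mk' Q)) = 2 ^ 11 := by
    have h5 : (2 : ℕ) ^ 24 = 2 ^ 13 * 2 ^ 11 := by norm_num
    rw [← h2, h5] at hRcard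
    have h6 := Nat.le_of_mul_le_mul_left hRcard (by norm_num)
    omega
  -- commutators and squares of `R`
  have hxQ : (x : Subgroup.centralizer ({z} : Set G)) ∈ Q := x.2
  have hRcomm : ∀ a ∈ R, ∀ b ∈ R, a * b * a⁻¹ * b⁻¹ ∈ Q := by
    intro a ha b hb
    rw [hRmem] at ha hb
    rcases hP.hEb.comm _ ha _ hb with h | h
    · have : a * b * a⁻¹ * b⁻¹ = 1 := Subtype.ext h
      rw [this]
      exact Q.one_mem
    · have : a * b * a⁻¹ * b⁻¹ = x := Subtype.ext h
      rw [this]
      exact hxQ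
  have hRsq : ∀ a ∈ R, a * a ∈ Q := by
    intro a ha
    rw [hRmem] at ha
    rcases hP.sqQg _ ha with h | h
    · have : a * a = 1 := Subtype.ext h
      rw [this]
      exact Q.one_mem
    · have : a * a = x := Subtype.ext h
      rw [this]
      exact hxQ
  -- change of identification
  obtain ⟨γ₁, hγ₁⟩ := co0_transitive_norm64 w (vec8 none) hw64 (sqNorm_vec8 none)
  have hψ' := isLeechModTwoIso_conj hψ γ₁
  have hw' : (fun v => ψ (γ₁⁻¹ • v)) (vec8 none) = QuotientGroup.mk x := by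
    show ψ (γ₁⁻¹ • vec8 none) = _
    rw [← hγ₁, inv_smul_smul, hw]
  obtain ⟨h5, h6, h7, h8⟩ := structure_std hE hψ' x hx1 hxzC hw' R Xc hR2 hXc hRs hRn hcardT
    hRcomm hRsq
  exact ⟨h5, h6, h7, hcardT, h8⟩

end Cfsg.Agent.Helper90
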