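import Mathlib
import Cfsg.Prelude.Def_MonsterType
import Cfsg.Agent.Helper90.MonStruct2
import Cfsg.Agent.Helper90.MonImage
import Cfsg.Agent.Helper90.BabySelf

set_option autoImplicit false

/-!
Groups of Monster type: for `s = z^g ∈ Q - {z}`, the group `Q ∩ Q^g` contains an involution of
type 2 (not conjugate to `z`).
-/

namespace Cfsg.Agent.Helper90

open Cfsg Cfsg.Agent.Helper8

theorem epsC_mem_classStab : epsC ∈ classStab (vec8 none) := by
  refine ⟨0, ?_⟩
  rw [epsC_8]
  simp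

theorem epsC_mem_ker : (⟨epsC, epsC_mem_classStab⟩ : classStab (vec8 none)) ∈ rho.ker := by
  rw [MonoidHom.mem_ker, rho_apply]
  apply Subtype.ext
  exact (rhoFun_eq (γ := ⟨epsC, epsC_mem_classStab⟩) (σ := 1) (c := octC)
    (fun v => epsC_smul v)).1

variable {G : Type*} [Group G] {z : G}
  {Q : Subgroup (Subgroup.centralizer ({z} : Set G))}

theorem exists_type_two_inter [Finite G] [Q.Normal] (hM : IsOfMonsterType z Q)
    (hCo2 : ∀ v : leechLattice, sqNorm (v : GolayPt → ℤ) = 32 →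
      IsCo2 (MulAction.stabilizer Co0 v))
    (x : Q) (g : G) (hg : g * z * g⁻¹ = ((x : Subgroup.centralizer ({z} : Set G)) : G))
    (hxz : ((x : Subgroup.centralizer ({z} : Set G)) : G) ≠ z) :
    ∃ t₂ : Q, ((t₂ : Subgroup.centralizer ({z} : Set G)) : G) ∈
        (Q.map (Subgroup.centralizer ({z} : Set G)).subtype).map (MulAut.conj g).toMonoidHom ∧
      orderOf ((t₂ : Subgroup.centralizer ({z} : Set G)) : G) = 2 ∧
      ¬ IsConj z ((t₂ : Subgroup.centralizer ({z} : Set G)) : G) := by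
  haveI : Fact (Nat.Prime 2) := ⟨Nat.prime_two⟩
  obtain ⟨hz2, hE, hcard, hcard', hlarge, hZ⟩ := monster_setup hM
  obtain ⟨e, ψ, hψ⟩ := hM.2
  have hcard2 : 2 < Nat.card ↥Q := by rw [hcard]; norm_num
  set Q' : Subgroup G := Q.map (Subgroup.centralizer ({z} : Set G)).subtype with hQ'
  have hgH : g ∉ Subgroup.centralizer ({z} : Set G) := by
    intro h
    apply hxz
    rw [← hg]
    have := Subgroup.mem_centralizer_singleton_iff.mp h
    calc g * z * g⁻¹ = (z * g) * g⁻¹ := by rw [this]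
      _ = z := by group
  have hxQ' : g * z * g⁻¹ ∈ Q' := by
    rw [hg]
    exact (mem_map_subtype_iff _).2 x.2
  have hP := pairCtx_of_large Q' hlarge z hZ hz2 g hgH hxQ'
  rw [hg] at hP
  set Qg : Subgroup G := Q'.map (MulAut.conj g).toMonoidHom with hQg
  have hxconj : IsConj z ((x : Subgroup.centralizer ({z} : Set G)) : G) := isConj_iff.2 ⟨g, hg⟩
  have hx1 : (x : Subgroup.centralizer ({z} : Set G)) ≠ 1 := by
    intro h
    apply hP.hEb.z1
    rw [h]
    rfl
  have hxzC : (x : Subgroup.centralizer ({z} : Set G)) ≠ zC z := by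
    intro h
    apply hxz
    rw [h]
    rfl
  obtain ⟨w, hw64, hw⟩ := type_four hM hψ hCo2 x hxconj hxz
  -- the subgroup `R`
  have hQ'2 : IsPGroup 2 Q' := hlarge.1.1.1
  have hQg2 : IsPGroup 2 Qg := hQ'2.map _
  let R : Subgroup (Subgroup.centralizer ({z} : Set G)) :=
    Qg.subgroupOf (Subgroup.centralizer ({z} : Set G))
  have hR2 : IsPGroup 2 R := hQg2.comap_subtype
  have hRmem : ∀ r : Subgroup.centralizer ({z} : Set G), r ∈ R ↔ (r : G) ∈ Qg := by
    intro r
    exact Subgroup.mem_subgroupOf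
  have hRs : ∀ r ∈ R, r * (x : Subgroup.centralizer ({z} : Set G)) = x * r := by
    intro r hr
    rw [hRmem] at hr
    apply Subtype.ext
    rw [Subgroup.coe_mul, Subgroup.coe_mul]
    exact hP.hEb.zc _ hr
  have hRn : ∀ c : Subgroup.centralizer ({z} : Set G),
      c * (x : Subgroup.centralizer ({z} : Set G)) = x * c → ∀ r ∈ R, c * r * c⁻¹ ∈ R := by
    intro c hc r hr
    rw [hRmem] at hr ⊢
    have hc' : (c : G) * ((x : Subgroup.centralizer ({z} : Set G)) : G) =
        ((x : Subgroup.centralizer ({z} : Set G)) : G) * c := by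
      have := congrArg Subtype.val hc
      rwa [Subgroup.coe_mul, Subgroup.coe_mul] at this
    have hn := hP.normQg c hc'
    rw [Subgroup.coe_mul, Subgroup.coe_mul, Subgroup.coe_inv]
    exact conj_mem_of_mem_normalizer hn hr
  obtain ⟨-, -, -, hcardT, -⟩ := structure_main hM hCo2 x g hg hxz R
    (Subgroup.centralizer ({(x : Subgroup.centralizer ({z} : Set G))} :
      Set (Subgroup.centralizer ({z} : Set G)))) rfl
    (fun c => Subgroup.mem_centralizer_singleton_iff)
  -- change of identification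
  obtain ⟨γ₁, hγ₁⟩ := co0_transitive_norm64 w (vec8 none) hw64 (sqNorm_vec8 none)
  have hψ' := isLeechModTwoIso_conj hψ γ₁
  have hw' : (fun v => ψ (γ₁⁻¹ • v)) (vec8 none) = QuotientGroup.mk x := by
    show ψ (γ₁⁻¹ • vec8 none) = _
    rw [← hγ₁, inv_smul_smul, hw]
  generalize (fun v => ψ (γ₁⁻¹ • v)) = ψ' at hψ' hw'
  generalize e.trans (MulAut.conj (QuotientGroup.mk γ₁ : Spor.Co1)) = e' at hψ'
  have hTS := image_eq_ker_rho hE hψ' x hx1 hxzC hw' R hR2 hRs hRn hcardT
  have hmemT : PhiHom e' epsC ∈ R.map (QuotientGroup.mk' Q) := by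
    rw [hTS]
    exact ⟨⟨epsC, epsC_mem_classStab⟩, epsC_mem_ker, rfl⟩
  obtain ⟨a, haR, haφ⟩ := hmemT
  have hae : (QuotientGroup.mk epsC : Spor.Co1) = e' (QuotientGroup.mk a) := by
    have : (QuotientGroup.mk a : (Subgroup.centralizer ({z} : Set G)) ⧸ Q) = PhiHom e' epsC := haφ
    rw [this, e_PhiHom]
  obtain ⟨q, hq⟩ := QuotientGroup.mk_surjective (ψ' vecX)
  have hqx : (q : Subgroup.centralizer ({z} : Set G)) * x = x * q := by
    rw [comm_iff_dvd hE hcard2 hψ' vecX (vec8 none) q x hq.symm hw', dot_vecX_8]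
  have h2 := hψ'.2.2.2 a epsC hae vecX q hq.symm
  have h3 : ψ' vecD = QuotientGroup.mk
      ((⟨a * q * a⁻¹, (inferInstance : Q.Normal).conj_mem _ q.2 _⟩ : Q) * q⁻¹) := by
    show ψ' (epsC • vecX - vecX) = _
    rw [psi_sub hψ', h2, ← hq, QuotientGroup.mk_mul, QuotientGroup.mk_inv]
  set t₂ : Q := (⟨a * q * a⁻¹, (inferInstance : Q.Normal).conj_mem _ q.2 _⟩ : Q) * q⁻¹ with ht₂
  have ht₂val : ((t₂ : Subgroup.centralizer ({z} : Set G)) : G) =
      (a : G) * ((q : Subgroup.centralizer ({z} : Set G)) : G) * (a : G)⁻¹ *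
        ((q : Subgroup.centralizer ({z} : Set G)) : G)⁻¹ := rfl
  have hnd : ¬ ∃ w : ↥leechLattice, vecD = w + w :=
    not_double_of_small (by rw [sqNorm_vecD]; norm_num) (by rw [sqNorm_vecD]; norm_num)
  have ht₂ne : ψ' vecD ≠ 1 := fun h => hnd ((hψ'.2.2.1 vecD).1 h)
  have ht₂1 : ((t₂ : Subgroup.centralizer ({z} : Set G)) : G) ≠ 1 := by
    intro h
    apply ht₂ne
    rw [h3]
    have : t₂ = 1 := by
      apply Subtype.ext
      apply Subtype.ext
      exact h
    rw [this, QuotientGroup.mk_one]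
  have ht₂z : ((t₂ : Subgroup.centralizer ({z} : Set G)) : G) ≠ z := by
    intro h
    apply ht₂ne
    rw [h3]
    obtain ⟨c, hc, hcz⟩ := hE.zmem
    have : t₂ = c := by
      apply Subtype.ext
      apply Subtype.ext
      rw [h]
      have := congrArg Subtype.val hcz
      exact this.symm
    rw [this]
    exact (QuotientGroup.eq_one_iff c).2 hc
  have ht₂sq : (t₂ : Subgroup.centralizer ({z} : Set G)) * t₂ = 1 := by
    apply sq_eq_one_of_sqv
    rw [← sqvBar_mk hE t₂, ← h3, sqvBar_psi hE hcard2 hψ' vecD, sqNorm_vecD]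
    decide
  refine ⟨t₂, ?_, ?_, ?_⟩
  · rw [ht₂val]
    have haQg : (a : G) ∈ Qg := (hRmem a).1 haR
    have hq' : ((q : Subgroup.centralizer ({z} : Set G)) : G) *
        ((x : Subgroup.centralizer ({z} : Set G)) : G) =
        ((x : Subgroup.centralizer ({z} : Set G)) : G) * (q : Subgroup.centralizer ({z} : Set G)) := by
      have := congrArg Subtype.val hqx
      rwa [Subgroup.coe_mul, Subgroup.coe_mul] at this
    have hn := hP.normQg _ hq'
    have h5 := conj_mem_of_mem_normalizer hn (Qg.inv_mem haQg)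
    have h6 : (a : G) * ((q : Subgroup.centralizer ({z} : Set G)) : G) * (a : G)⁻¹ *
        ((q : Subgroup.centralizer ({z} : Set G)) : G)⁻¹ =
        (a : G) * (((q : Subgroup.centralizer ({z} : Set G)) : G) * (a : G)⁻¹ *
          ((q : Subgroup.centralizer ({z} : Set G)) : G)⁻¹) := by group
    rw [h6]
    exact Qg.mul_mem haQg h5
  · apply orderOf_eq_prime
    · rw [pow_two]
      have := congrArg Subtype.val ht₂sq
      rwa [Subgroup.coe_mul] at this
    · exact ht₂1
  · intro hc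
    obtain ⟨g', hg'⟩ := isConj_iff.1 hc
    exact not_type_two hM hψ' hCo2 t₂ g' hg' ht₂z vecD h3 sqNorm_vecD

end Cfsg.Agent.Helper90
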