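import Mathlib
import Cfsg.Prelude.Def_MonsterType
import Cfsg.Agent.Helper90.BabyConc
import Cfsg.Agent.Helper90.BabyNwc
import Cfsg.Agent.S5411

set_option autoImplicit false

/-!
Groups of Monster type: for an involution `t ∈ Q` not conjugate to `z`, some conjugate of `z`
under `C(t)` lies in `Q` and differs from `z`.
-/

namespace Cfsg.Agent.Helper90

open Cfsg

variable {G : Type*} [Group G] {z : G} {Q : Subgroup (Subgroup.centralizer ({z} : Set G))}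

theorem exists_conj_in_centralizer [Finite G] [Q.Normal] (hM : IsOfMonsterType z Q)
    (hCo2 : ∀ v : leechLattice, sqNorm (v : GolayPt → ℤ) = 32 →
      IsCo2 (MulAction.stabilizer Co0 v))
    (t₀ : Q) (ht2 : orderOf ((t₀ : Subgroup.centralizer ({z} : Set G)) : G) = 2)
    (hnc : ¬ IsConj z ((t₀ : Subgroup.centralizer ({z} : Set G)) : G)) :
    ∃ k : G, k * ((t₀ : Subgroup.centralizer ({z} : Set G)) : G) =
        ((t₀ : Subgroup.centralizer ({z} : Set G)) : G) * k ∧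
      (∃ hk : k * z * k⁻¹ ∈ Subgroup.centralizer ({z} : Set G),
        (⟨k * z * k⁻¹, hk⟩ : Subgroup.centralizer ({z} : Set G)) ∈ Q) ∧ k * z * k⁻¹ ≠ z := by
  obtain ⟨g, ⟨hq, hgQ⟩, hgz⟩ := hM.1.2.2.2.2
  obtain ⟨t₂, ht₂Qg, ht₂o, ht₂nc⟩ := exists_type_two_inter hM hCo2 ⟨⟨g * z * g⁻¹, hq⟩, hgQ⟩ g rfl hgz
  obtain ⟨q₂', ⟨q₂, hq₂Q, hq₂⟩, hq₂t⟩ := ht₂Qg
  have hq₂t' : g * q₂' * g⁻¹ = ((t₂ : Subgroup.centralizer ({z} : Set G)) : G) := hq₂t
  have hq₂' : q₂' = (q₂ : G) := hq₂.symm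
  -- the two conjugating elements
  obtain ⟨c₁, hc₁, hc₁t⟩ := Cfsg.Agent.S5411.result z Q hM
    ((t₂ : Subgroup.centralizer ({z} : Set G)) : G) ((t₀ : Subgroup.centralizer ({z} : Set G)) : G)
    ⟨(t₂ : Subgroup.centralizer ({z} : Set G)).2, t₂.2⟩
    ⟨(t₀ : Subgroup.centralizer ({z} : Set G)).2, t₀.2⟩ ht₂o ht2 ht₂nc hnc
  have hq₂o : orderOf (q₂ : G) = 2 := by
    rw [← ht₂o, ← hq₂t', hq₂']
    exact ((MulAut.conj g).orderOf_eq (q₂ : G)).symm
  have hq₂nc : ¬ IsConj z (q₂ : G) := by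
    intro h
    apply ht₂nc
    apply h.trans
    rw [isConj_iff]
    exact ⟨g, by rw [← hq₂t', hq₂']⟩
  obtain ⟨c₂, hc₂, hc₂t⟩ := Cfsg.Agent.S5411.result z Q hM (q₂ : G)
    ((t₀ : Subgroup.centralizer ({z} : Set G)) : G) ⟨q₂.2, hq₂Q⟩
    ⟨(t₀ : Subgroup.centralizer ({z} : Set G)).2, t₀.2⟩ hq₂o ht2 hq₂nc hnc
  have hc₁z : c₁ * z = z * c₁ := Subgroup.mem_centralizer_singleton_iff.1 hc₁
  have hc₂z : c₂ * z = z * c₂ := Subgroup.mem_centralizer_singleton_iff.1 hc₂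
  have hkz : (c₁ * g * c₂⁻¹) * z * (c₁ * g * c₂⁻¹)⁻¹ = c₁ * (g * z * g⁻¹) * c₁⁻¹ := by
    have h1 : c₂⁻¹ * z * c₂ = z := by
      calc c₂⁻¹ * z * c₂ = c₂⁻¹ * (z * c₂) := by group
        _ = c₂⁻¹ * (c₂ * z) := by rw [hc₂z]
        _ = z := by group
    calc (c₁ * g * c₂⁻¹) * z * (c₁ * g * c₂⁻¹)⁻¹ = c₁ * (g * (c₂⁻¹ * z * c₂) * g⁻¹) * c₁⁻¹ := by
          group
      _ = c₁ * (g * z * g⁻¹) * c₁⁻¹ := by rw [h1]
  refine ⟨c₁ * g * c₂⁻¹, ?_, ?_, ?_⟩
  · have h1 : (c₁ * g * c₂⁻¹) * ((t₀ : Subgroup.centralizer ({z} : Set G)) : G) *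
        (c₁ * g * c₂⁻¹)⁻¹ = ((t₀ : Subgroup.centralizer ({z} : Set G)) : G) := by
      have h2 : c₂⁻¹ * ((t₀ : Subgroup.centralizer ({z} : Set G)) : G) * c₂ = (q₂ : G) := by
        rw [← hc₂t]; group
      calc (c₁ * g * c₂⁻¹) * ((t₀ : Subgroup.centralizer ({z} : Set G)) : G) * (c₁ * g * c₂⁻¹)⁻¹
          = c₁ * (g * (c₂⁻¹ * ((t₀ : Subgroup.centralizer ({z} : Set G)) : G) * c₂) * g⁻¹) * c₁⁻¹ := by
            group
        _ = c₁ * (g * q₂' * g⁻¹) * c₁⁻¹ := by rw [h2, hq₂']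
        _ = ((t₀ : Subgroup.centralizer ({z} : Set G)) : G) := by rw [hq₂t', hc₁t]
    calc (c₁ * g * c₂⁻¹) * ((t₀ : Subgroup.centralizer ({z} : Set G)) : G)
        = ((c₁ * g * c₂⁻¹) * ((t₀ : Subgroup.centralizer ({z} : Set G)) : G) *
          (c₁ * g * c₂⁻¹)⁻¹) * (c₁ * g * c₂⁻¹) := by group
      _ = ((t₀ : Subgroup.centralizer ({z} : Set G)) : G) * (c₁ * g * c₂⁻¹) := by rw [h1]
  · have hmem : c₁ * (g * z * g⁻¹) * c₁⁻¹ ∈ Subgroup.centralizer ({z} : Set G) :=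
      Subgroup.mul_mem _ (Subgroup.mul_mem _ hc₁ hq) (Subgroup.inv_mem _ hc₁)
    refine ⟨by rw [hkz]; exact hmem, ?_⟩
    have h1 : (⟨(c₁ * g * c₂⁻¹) * z * (c₁ * g * c₂⁻¹)⁻¹, by rw [hkz]; exact hmem⟩ :
        Subgroup.centralizer ({z} : Set G)) =
        (⟨c₁, hc₁⟩ : Subgroup.centralizer ({z} : Set G)) * ⟨g * z * g⁻¹, hq⟩ *
          (⟨c₁, hc₁⟩ : Subgroup.centralizer ({z} : Set G))⁻¹ := by
      apply Subtype.ext
      exact hkz
    rw [h1]
    exact (inferInstance : Q.Normal).conj_mem _ hgQ _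
  · rw [hkz]
    intro h
    apply hgz
    calc g * z * g⁻¹ = c₁⁻¹ * (c₁ * (g * z * g⁻¹) * c₁⁻¹) * c₁ := by group
      _ = c₁⁻¹ * (z * c₁) := by rw [h]; group
      _ = c₁⁻¹ * (c₁ * z) := by rw [hc₁z]
      _ = z := by group

section quot

variable (t₀ : Q)
  [hn : ((Subgroup.zpowers ((t₀ : Subgroup.centralizer ({z} : Set G)) : G)).subgroupOf
    (Subgroup.centralizer ({((t₀ : Subgroup.centralizer ({z} : Set G)) : G)} : Set G))).Normal]

theorem nwc_quot [Finite G] [Q.Normal] (hM : IsOfMonsterType z Q)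
    (hCo2 : ∀ v : leechLattice, sqNorm (v : GolayPt → ℤ) = 32 →
      IsCo2 (MulAction.stabilizer Co0 v))
    (hE : ExtraData Q (zC z))
    (ht1 : (t₀ : Subgroup.centralizer ({z} : Set G)) ≠ 1)
    (htz : (t₀ : Subgroup.centralizer ({z} : Set G)) ≠ zC z)
    (ht2 : orderOf ((t₀ : Subgroup.centralizer ({z} : Set G)) : G) = 2)
    (hnc : ¬ IsConj z ((t₀ : Subgroup.centralizer ({z} : Set G)) : G)) :
    ∃ g' : ↥(Subgroup.centralizer ({((t₀ : Subgroup.centralizer ({z} : Set G)) : G)} : Set G)) ⧸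
        (Subgroup.zpowers ((t₀ : Subgroup.centralizer ({z} : Set G)) : G)).subgroupOf
          (Subgroup.centralizer ({((t₀ : Subgroup.centralizer ({z} : Set G)) : G)} : Set G)),
      (∃ r ∈ Q.subgroupOf (Subgroup.centralizer
          ({(t₀ : Subgroup.centralizer ({z} : Set G))} : Set (Subgroup.centralizer ({z} : Set G)))),
        g' * zbar t₀ * g'⁻¹ = ((PhiC t₀ r : ↥(Subgroup.centralizer ({zbar t₀} : Set _))) : _ ⧸ _)) ∧
      g' * zbar t₀ * g'⁻¹ ≠ zbar t₀ := by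
  obtain ⟨k, hkt, ⟨hkC, hkQ⟩, hkz⟩ := exists_conj_in_centralizer hM hCo2 t₀ ht2 hnc
  have hkCt : k ∈ Subgroup.centralizer ({((t₀ : Subgroup.centralizer ({z} : Set G)) : G)} : Set G) :=
    Subgroup.mem_centralizer_singleton_iff.2 hkt
  have hrt : (⟨k * z * k⁻¹, hkC⟩ : Subgroup.centralizer ({z} : Set G)) * t₀ =
      t₀ * ⟨k * z * k⁻¹, hkC⟩ := by
    apply Subtype.ext
    rw [Subgroup.coe_mul, Subgroup.coe_mul]
    have hzt : z * ((t₀ : Subgroup.centralizer ({z} : Set G)) : G) =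
        ((t₀ : Subgroup.centralizer ({z} : Set G)) : G) * z :=
      Subgroup.mem_centralizer_singleton_iff.1 (z_mem_centralizer t₀)
    have hkt' : k⁻¹ * ((t₀ : Subgroup.centralizer ({z} : Set G)) : G) =
        ((t₀ : Subgroup.centralizer ({z} : Set G)) : G) * k⁻¹ := by
      calc k⁻¹ * ((t₀ : Subgroup.centralizer ({z} : Set G)) : G)
          = k⁻¹ * (((t₀ : Subgroup.centralizer ({z} : Set G)) : G) * k) * k⁻¹ := by group
        _ = k⁻¹ * (k * ((t₀ : Subgroup.centralizer ({z} : Set G)) : G)) * k⁻¹ := by rw [hkt]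
        _ = ((t₀ : Subgroup.centralizer ({z} : Set G)) : G) * k⁻¹ := by group
    show k * z * k⁻¹ * ((t₀ : Subgroup.centralizer ({z} : Set G)) : G) =
      ((t₀ : Subgroup.centralizer ({z} : Set G)) : G) * (k * z * k⁻¹)
    calc k * z * k⁻¹ * ((t₀ : Subgroup.centralizer ({z} : Set G)) : G)
        = k * z * (k⁻¹ * ((t₀ : Subgroup.centralizer ({z} : Set G)) : G)) := by group
      _ = k * (z * ((t₀ : Subgroup.centralizer ({z} : Set G)) : G)) * k⁻¹ := by rw [hkt']; group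
      _ = (k * ((t₀ : Subgroup.centralizer ({z} : Set G)) : G)) * z * k⁻¹ := by rw [hzt]; group
      _ = ((t₀ : Subgroup.centralizer ({z} : Set G)) : G) * (k * z * k⁻¹) := by rw [hkt]; group
  let r : ↥(Subgroup.centralizer
      ({(t₀ : Subgroup.centralizer ({z} : Set G))} : Set (Subgroup.centralizer ({z} : Set G)))) :=
    ⟨⟨k * z * k⁻¹, hkC⟩, Subgroup.mem_centralizer_singleton_iff.2 hrt⟩
  have hconj : (QuotientGroup.mk (⟨k, hkCt⟩ : ↥(Subgroup.centralizer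
      ({((t₀ : Subgroup.centralizer ({z} : Set G)) : G)} : Set G))) : _ ⧸ _) * zbar t₀ *
      (QuotientGroup.mk (⟨k, hkCt⟩ : ↥(Subgroup.centralizer
      ({((t₀ : Subgroup.centralizer ({z} : Set G)) : G)} : Set G))) : _ ⧸ _)⁻¹ = Phi0 t₀ r := rfl
  refine ⟨QuotientGroup.mk ⟨k, hkCt⟩, ⟨r, Subgroup.mem_subgroupOf.2 hkQ, ?_⟩, ?_⟩
  · rw [hconj, PhiC_val]
  · rw [hconj]
    intro h
    have h1 : (QuotientGroup.mk (jt t₀ r) : _ ⧸ _) =
      QuotientGroup.mk (⟨z, z_mem_centralizer t₀⟩ : ↥(Subgroup.centralizer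
      ({((t₀ : Subgroup.centralizer ({z} : Set G)) : G)} : Set G))) := h
    rw [QuotientGroup.eq, Subgroup.mem_subgroupOf] at h1
    have h2 : (k * z * k⁻¹)⁻¹ * z ∈
        Subgroup.zpowers ((t₀ : Subgroup.centralizer ({z} : Set G)) : G) := h1
    rcases eq_one_or_of_mem_zpowers ht2 h2 with h3 | h3
    · apply hkz
      exact (inv_mul_eq_one.1 h3)
    · apply hnc
      have htt : ((t₀ : Subgroup.centralizer ({z} : Set G)) : G) *
          ((t₀ : Subgroup.centralizer ({z} : Set G)) : G) = 1 := by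
        rw [← pow_two, ← ht2]
        exact pow_orderOf_eq_one _
      have h4 : k⁻¹ * (z * ((t₀ : Subgroup.centralizer ({z} : Set G)) : G)) * k = z := by
        have h5 : z = (k * z * k⁻¹) * ((k * z * k⁻¹)⁻¹ * z) := by group
        rw [h3] at h5
        have h6 : z * ((t₀ : Subgroup.centralizer ({z} : Set G)) : G) = k * z * k⁻¹ := by
          calc z * ((t₀ : Subgroup.centralizer ({z} : Set G)) : G)
              = (k * z * k⁻¹ * ((t₀ : Subgroup.centralizer ({z} : Set G)) : G)) *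
                ((t₀ : Subgroup.centralizer ({z} : Set G)) : G) := by rw [← h5]
            _ = k * z * k⁻¹ * (((t₀ : Subgroup.centralizer ({z} : Set G)) : G) *
                ((t₀ : Subgroup.centralizer ({z} : Set G)) : G)) := by group
            _ = k * z * k⁻¹ := by rw [htt, mul_one]
        rw [h6]
        group
      have h7 : IsConj (z * ((t₀ : Subgroup.centralizer ({z} : Set G)) : G)) z := by
        rw [isConj_iff]
        exact ⟨k⁻¹, by rw [inv_inv]; exact h4⟩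
      exact h7.symm.trans (isConj_mul t₀ hE ht1 htz).symm

end quot

end Cfsg.Agent.Helper90
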