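import Mathlib
import Cfsg.Prelude.Def_MonsterType
import Cfsg.Agent.Helper90.BabyAbs2
import Cfsg.Agent.Helper90.BabyConc3
import Cfsg.Agent.Helper90.BabyConc4
import Cfsg.Agent.Helper90.BabySelf
import Cfsg.Agent.Helper90.MonT4
import Cfsg.Agent.Helper90.MonX
import Cfsg.Agent.Helper8.Min32b

set_option autoImplicit false

/-!
Groups of Monster type: the centralizer of an involution `t ∈ Q` not conjugate to `z`, modulo
`⟨t⟩`, is of Baby Monster type.
-/

namespace Cfsg.Agent.Helper90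

open Cfsg Cfsg.Agent.Helper8

/-- the second Conway group as a stabilizer -/
def co2Equiv : ↥Spor.Co2 ≃* ↥(MulAction.stabilizer ↥Co0 Spor.leechU) where
  toFun g := ⟨co2Incl g, MulAction.mem_stabilizer_iff.2 (by rw [co2Incl_smul]; exact co2_fix g)⟩
  invFun γ := toCo2 γ.1 (MulAction.mem_stabilizer_iff.1 γ.2)
  left_inv _ := rfl
  right_inv _ := rfl
  map_mul' _ _ := rfl

theorem sporCo2_facts (hCo2 : IsCo2 (MulAction.stabilizer ↥Co0 Spor.leechU)) :
    IsSimpleGroup ↥Spor.Co2 ∧ ¬ IsPGroup 2 ↥Spor.Co2 := by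
  obtain ⟨hs, hc⟩ := hCo2
  refine ⟨co2Equiv.isSimpleGroup, ?_⟩
  intro hp
  have hcard : Nat.card ↥Spor.Co2 = 42305421312000 := by
    rw [Nat.card_congr co2Equiv.toEquiv, hc]
  haveI : Finite ↥Spor.Co2 := Nat.finite_of_card_ne_zero (by rw [hcard]; norm_num)
  obtain ⟨k, hk⟩ := hp.exists_card_eq
  rw [hcard] at hk
  have h3 : (3 : ℕ) ∣ 2 ^ k := by rw [← hk]; norm_num
  have := (Nat.Prime.dvd_of_dvd_pow Nat.prime_three h3)
  omega

variable {G : Type*} [Group G] {z : G} {Q : Subgroup (Subgroup.centralizer ({z} : Set G))}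

theorem baby_main [Finite G] [Q.Normal] (hM : IsOfMonsterType z Q)
    (hCo2 : ∀ v : leechLattice, sqNorm (v : GolayPt → ℤ) = 32 →
      IsCo2 (MulAction.stabilizer Co0 v))
    (t₀ : Q) (ht2 : orderOf ((t₀ : Subgroup.centralizer ({z} : Set G)) : G) = 2)
    (hnc : ¬ IsConj z ((t₀ : Subgroup.centralizer ({z} : Set G)) : G))
    [hn : ((Subgroup.zpowers ((t₀ : Subgroup.centralizer ({z} : Set G)) : G)).subgroupOf
      (Subgroup.centralizer ({((t₀ : Subgroup.centralizer ({z} : Set G)) : G)} : Set G))).Normal] :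
    IsOfBabyMonsterType (↥(Subgroup.centralizer
      ({((t₀ : Subgroup.centralizer ({z} : Set G)) : G)} : Set G)) ⧸
      (Subgroup.zpowers ((t₀ : Subgroup.centralizer ({z} : Set G)) : G)).subgroupOf
        (Subgroup.centralizer ({((t₀ : Subgroup.centralizer ({z} : Set G)) : G)} : Set G))) := by
  obtain ⟨hz2, hE, hcard, hcard', hlarge, hZ⟩ := monster_setup hM
  obtain ⟨e, ψ, hψ⟩ := hM.2
  have hcard2 : 2 < Nat.card ↥Q := by rw [hcard]; norm_num
  obtain ⟨ht1, htz, v, hv32, hv⟩ := type_two_of_not_conj hM hψ hCo2 t₀ ht2 hnc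
  -- change of identification
  obtain ⟨γ₁, hγ₁⟩ := co0_transitive_min32 v Spor.leechU hv32 sqNorm_leechU'
  have hψ' := isLeechModTwoIso_conj hψ γ₁
  have hv' : (fun v => ψ (γ₁⁻¹ • v)) Spor.leechU = QuotientGroup.mk t₀ := by
    show ψ (γ₁⁻¹ • Spor.leechU) = _
    rw [← hγ₁, inv_smul_smul, hv]
  generalize (fun v => ψ (γ₁⁻¹ • v)) = ψ' at hψ' hv'
  generalize e.trans (MulAut.conj (QuotientGroup.mk γ₁ : Spor.Co1)) = e' at hψ'
  have htt : (t₀ : Subgroup.centralizer ({z} : Set G)) * t₀ = 1 := by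
    apply Subtype.ext
    rw [Subgroup.coe_mul, ← pow_two, ← ht2]
    exact pow_orderOf_eq_one _
  obtain ⟨hsimple, hnot2⟩ := sporCo2_facts (hCo2 Spor.leechU sqNorm_leechU')
  obtain ⟨θ, hθs, hθk, hθe⟩ := exists_theta hE hψ' t₀ ht1 htz hv'
  haveI : Finite ↥(Subgroup.centralizer
      ({(t₀ : Subgroup.centralizer ({z} : Set G))} : Set (Subgroup.centralizer ({z} : Set G)))) :=
    inferInstance
  have hD : BabyData (PhiC t₀) (zHt t₀) (tHt t₀)
      (Q.subgroupOf (Subgroup.centralizer
        ({(t₀ : Subgroup.centralizer ({z} : Set G))} : Set (Subgroup.centralizer ({z} : Set G)))))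
      θ (lamFun hE hcard2 hψ' t₀ hv') :=
    { surj := PhiC_surjective t₀ hE ht1 htz ht2 hnc
      val_z := rfl
      ker := PhiC_eq_one_iff t₀ ht2
      z1 := by
        intro h
        apply hE.z1
        exact congrArg Subtype.val h
      t1 := by
        intro h
        apply ht1
        exact congrArg Subtype.val h
      zt := by
        intro h
        apply htz
        exact (congrArg Subtype.val h).symm
      zz := by
        apply Subtype.ext
        exact hE.zz
      tt := by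
        apply Subtype.ext
        exact htt
      zc := zHt_comm t₀
      tc := tHt_comm t₀
      zR := Subgroup.mem_subgroupOf.2 hE.zQ
      tR := Subgroup.mem_subgroupOf.2 t₀.2
      normal := inferInstance
      card := card_CQt hE t₀ ht1 htz hcard
      comm := comm_CQt hE t₀
      sq := sq_CQt hE t₀
      nc := nc_CQt hE t₀ ht1 htz hcard
      cen := cen_CQt hE t₀ ht1 htz
      θsurj := hθs
      θker := fun h => by rw [hθk, Subgroup.mem_subgroupOf]
      self := fun h hh => Subgroup.mem_subgroupOf.2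
        (self_centralizing hE hcard2 hψ' t₀ htt hv' hsimple _
          (fun k => Subgroup.mem_centralizer_singleton_iff) θ hθs hθk hθe (tHt t₀) rfl h
          (fun r hr => hh r (Subgroup.mem_subgroupOf.2 hr)))
      nwc := nwc_quot t₀ hM hCo2 hE ht1 htz ht2 hnc
      lamR := fun x => Subgroup.mem_subgroupOf.2 (lamFun_mem hE hcard2 hψ' t₀ hv' x)
      lam_add := lamFun_add hE hcard2 hψ' t₀ hv'
      lam_surj := fun r hr => lamFun_surj hE hcard2 hψ' t₀ hv' r (Subgroup.mem_subgroupOf.1 hr)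
      lam_ker := lamFun_ker hE hcard2 hψ' t₀ hv' htt
      lam_act := lamFun_act hE hcard2 hψ' t₀ hv' θ hθe }
  exact hD.isOfBabyMonsterType hsimple hnot2

end Cfsg.Agent.Helper90
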