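import Mathlib

set_option autoImplicit false

/-!
General group-theoretic tools:
* a permutation representation from an injective family permuted by conjugation;
* enumeration of a group generated by two involutions satisfying the braid relation;
* facts on `Equiv.Perm (Fin 3)`.
-/

namespace Cfsg.Agent.Helper90

/-- permutation representation from an injective family permuted by conjugation. -/
theorem exists_permHom_of_conj {G : Type*} [Group G] (N : Subgroup G) {ι : Type*} (f : ι → G)
    (hf : Function.Injective f) (hN : ∀ n ∈ N, ∀ i, ∃ j, n * f i * n⁻¹ = f j) :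
    ∃ φ : ↥N →* Equiv.Perm ι, ∀ (n : ↥N) (i : ι), f (φ n i) = (n : G) * f i * (n : G)⁻¹ := by
  classical
  choose σ hσ using fun (n : ↥N) (i : ι) => hN n n.2 i
  have h1 : ∀ i, σ 1 i = i := fun i => hf (by rw [← hσ]; simp)
  have hmul : ∀ n m i, σ (n * m) i = σ n (σ m i) := by
    intro n m i
    apply hf
    rw [← hσ, ← hσ, ← hσ]
    simp only [Subgroup.coe_mul]
    group
  refine ⟨{ toFun := fun n => ⟨σ n, σ n⁻¹, fun i => by rw [← hmul, inv_mul_cancel, h1],
                fun i => by rw [← hmul, mul_inv_cancel, h1]⟩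
            map_one' := by ext i; simp [h1]
            map_mul' := by intro n m; ext i; simp [hmul] }, fun n i => (hσ n i).symm⟩

/-- a group generated by two involutions with the braid relation has at most six elements. -/
theorem braid_enum {K : Type*} [Group K] {a c : K} (haa : a * a = 1) (hcc : c * c = 1)
    (hbr : a * c * a = c * a * c) {k : K} (hk : k ∈ Subgroup.closure ({a, c} : Set K)) :
    k = 1 ∨ k = a ∨ k = c ∨ k = a * c ∨ k = c * a ∨ k = a * c * a := by
  have hai : a⁻¹ = a := inv_eq_of_mul_eq_one_left haa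
  have hci : c⁻¹ = c := inv_eq_of_mul_eq_one_left hcc
  have key : ∀ x ∈ ({a, c} : Set K), ∀ y : K,
      (y = 1 ∨ y = a ∨ y = c ∨ y = a * c ∨ y = c * a ∨ y = a * c * a) →
      (x * y = 1 ∨ x * y = a ∨ x * y = c ∨ x * y = a * c ∨ x * y = c * a ∨ x * y = a * c * a) := by
    intro x hx y hy
    rcases hx with rfl | hx
    · rcases hy with rfl | rfl | rfl | rfl | rfl | rfl
      · right; left; simp
      · left; exact haa
      · right; right; right; left; rfl
      · right; right; left
        rw [← mul_assoc, haa, one_mul]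
      · right; right; right; right; right
        rw [← mul_assoc]
      · right; right; right; right; left
        rw [← mul_assoc, ← mul_assoc, haa, one_mul]
    · rw [Set.mem_singleton_iff] at hx
      subst hx
      rcases hy with rfl | rfl | rfl | rfl | rfl | rfl
      · right; right; left; simp
      · right; right; right; right; left; rfl
      · left; exact hcc
      · right; right; right; right; right
        rw [← mul_assoc, hbr]
      · right; left
        rw [← mul_assoc, hcc, one_mul]
      · right; right; right; left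
        rw [hbr, ← mul_assoc, ← mul_assoc, hcc, one_mul]
  induction hk using Subgroup.closure_induction_left with
  | one => left; rfl
  | mul_left x hx y _ ih => exact key x hx y ih
  | inv_mul_cancel x hx y _ ih =>
    have hxi : x⁻¹ = x := by
      rcases hx with rfl | hx
      · exact hai
      · rw [Set.mem_singleton_iff] at hx
        subst hx
        exact hci
    rw [hxi]
    exact key x hx y ih

/-- enumeration of `Equiv.Perm (Fin 3)` as words in two transpositions. -/
theorem perm_fin_three_enum : ∀ σ : Equiv.Perm (Fin 3), σ = 1 ∨ σ = Equiv.swap 1 2 ∨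
    σ = Equiv.swap 0 2 ∨ σ = Equiv.swap 1 2 * Equiv.swap 0 2 ∨
    σ = Equiv.swap 0 2 * Equiv.swap 1 2 ∨ σ = Equiv.swap 1 2 * Equiv.swap 0 2 * Equiv.swap 1 2 := by
  decide

set_option maxRecDepth 100000 in
theorem perm_fin_three_invol : ∀ σ : Equiv.Perm (Fin 3), σ * σ = 1 → σ ≠ 1 →
    ∃ τ : Equiv.Perm (Fin 3), (τ * σ * τ⁻¹ * σ) * (τ * σ * τ⁻¹ * σ) ≠ 1 := by
  decide

/-- `O_2(S_3) = 1`. -/
theorem perm_fin_three_normal_two_group (N : Subgroup (Equiv.Perm (Fin 3))) (hN : N.Normal)
    (h2 : IsPGroup 2 N) : N = ⊥ := by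
  rw [eq_bot_iff]
  intro σ hσ
  rw [Subgroup.mem_bot]
  by_contra hne
  have hsq : ∀ τ ∈ N, τ * τ = 1 := by
    intro τ hτ
    obtain ⟨k, hk⟩ := h2 ⟨τ, hτ⟩
    have hk' : τ ^ (2 ^ k) = 1 := by
      have := congrArg Subtype.val hk
      simpa using this
    have h6 : τ ^ 6 = 1 := by
      have h : Fintype.card (Equiv.Perm (Fin 3)) = 6 := by
        rw [Fintype.card_perm, Fintype.card_fin]; rfl
      rw [← h]; exact pow_card_eq_one
    have hd1 : orderOf τ ∣ 2 ^ k := orderOf_dvd_of_pow_eq_one hk'
    have hd2 : orderOf τ ∣ 6 := orderOf_dvd_of_pow_eq_one h6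
    have hd3 : orderOf τ ∣ 2 := by
      have hcop : Nat.Coprime (orderOf τ) 3 :=
        Nat.Coprime.coprime_dvd_left hd1 (Nat.Coprime.pow_left k (by decide))
      have : orderOf τ ∣ 2 * 3 := hd2
      exact hcop.dvd_of_dvd_mul_right this
    have := orderOf_dvd_iff_pow_eq_one.mp hd3
    rwa [pow_two] at this
  obtain ⟨τ, hτ⟩ := perm_fin_three_invol σ (hsq σ hσ) hne
  apply hτ
  apply hsq
  exact N.mul_mem (hN.conj_mem σ hσ τ) hσ

end Cfsg.Agent.Helper90
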