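import Mathlib
import Cfsg.Agent.Helper90.PermHom
import Cfsg.Agent.Helper90.CommClosure

set_option autoImplicit false

/-!
Coset enumeration: `X = ⟨A, B⟩`, `R ⊴ X`, `A ⊆ R ∪ yR`, `B ⊆ R ∪ uR`, `y², u² ∈ R` and the braid
relation modulo `R` give `X = ⋃ wR` over six words `w`.
-/

namespace Cfsg.Agent.Helper90

theorem coset_enum_six {G : Type*} [Group G] {A B R : Subgroup G}
    (hnorm : ∀ x ∈ A ⊔ B, ∀ r ∈ R, x * r * x⁻¹ ∈ R)
    {y u : G} (hy : y ∈ A) (hu : u ∈ B)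
    (hA : ∀ q ∈ A, q ∈ R ∨ y⁻¹ * q ∈ R) (hB : ∀ q ∈ B, q ∈ R ∨ u⁻¹ * q ∈ R)
    (hyy : y * y ∈ R) (huu : u * u ∈ R) (hbraid : y * u⁻¹ * y * u * y⁻¹ * u⁻¹ ∈ R)
    {x : G} (hx : x ∈ A ⊔ B) :
    ∃ w : G, (w = 1 ∨ w = y ∨ w = u ∨ w = y * u ∨ w = u * y ∨ w = y * u * y) ∧
      w⁻¹ * x ∈ R := by
  have hn : (R.subgroupOf (A ⊔ B)).Normal := by
    constructor
    intro r hr k
    rw [Subgroup.mem_subgroupOf] at hr ⊢
    have := hnorm k k.2 _ hr
    simpa using this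
  have hπ1 : ∀ k : ↥(A ⊔ B), (QuotientGroup.mk' (R.subgroupOf (A ⊔ B))) k = 1 ↔ (k : G) ∈ R := by
    intro k
    rw [QuotientGroup.mk'_apply, QuotientGroup.eq_one_iff, Subgroup.mem_subgroupOf]
  obtain ⟨π, hπ⟩ : ∃ π : ↥(A ⊔ B) →* ↥(A ⊔ B) ⧸ R.subgroupOf (A ⊔ B),
      π = QuotientGroup.mk' (R.subgroupOf (A ⊔ B)) := ⟨_, rfl⟩
  rw [← hπ] at hπ1
  obtain ⟨yX, hyX⟩ : ∃ yX : ↥(A ⊔ B), (yX : G) = y := ⟨⟨y, Subgroup.mem_sup_left hy⟩, rfl⟩
  obtain ⟨uX, huX⟩ : ∃ uX : ↥(A ⊔ B), (uX : G) = u := ⟨⟨u, Subgroup.mem_sup_right hu⟩, rfl⟩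
  have haa : π yX * π yX = 1 := by
    rw [← map_mul, hπ1, Subgroup.coe_mul, hyX]
    exact hyy
  have hcc : π uX * π uX = 1 := by
    rw [← map_mul, hπ1, Subgroup.coe_mul, huX]
    exact huu
  have hai : (π yX)⁻¹ = π yX := inv_eq_of_mul_eq_one_left haa
  have hci : (π uX)⁻¹ = π uX := inv_eq_of_mul_eq_one_left hcc
  have hrel : π yX * π uX * π yX * π uX * π yX * π uX = 1 := by
    have h1 : π (yX * uX⁻¹ * yX * uX * yX⁻¹ * uX⁻¹) = 1 := by
      rw [hπ1]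
      simp only [Subgroup.coe_mul, Subgroup.coe_inv, hyX, huX]
      exact hbraid
    simpa only [map_mul, map_inv, hai, hci] using h1
  have hbr : π yX * π uX * π yX = π uX * π yX * π uX := by
    have h1 : (π yX * π uX * π yX) * (π uX * π yX * π uX) = 1 := by
      rw [← hrel]; group
    have h2 := eq_inv_of_mul_eq_one_left h1
    rw [h2]
    simp only [mul_inv_rev, hai, hci, mul_assoc]
  -- generation
  have hgen : ∀ g ∈ A ⊔ B, ∀ hg : g ∈ A ⊔ B,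
      π ⟨g, hg⟩ ∈ Subgroup.closure ({π yX, π uX} : Set (↥(A ⊔ B) ⧸ R.subgroupOf (A ⊔ B))) := by
    intro g hg
    refine sup_induction' (p := fun g => ∀ hg : g ∈ A ⊔ B,
      π ⟨g, hg⟩ ∈ Subgroup.closure ({π yX, π uX} : Set (↥(A ⊔ B) ⧸ R.subgroupOf (A ⊔ B))))
      ?_ ?_ ?_ ?_ ?_ hg
    · intro q hq hqX
      rcases hA q hq with h1 | h1
      · have : π ⟨q, hqX⟩ = 1 := (hπ1 _).mpr h1
        rw [this]; exact Subgroup.one_mem _
      · have h2 : π (yX⁻¹ * ⟨q, hqX⟩) = 1 := by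
          rw [hπ1]
          simp only [Subgroup.coe_mul, Subgroup.coe_inv, hyX]
          exact h1
        rw [map_mul, map_inv] at h2
        have : π yX = π ⟨q, hqX⟩ := inv_mul_eq_one.mp h2
        rw [← this]; exact Subgroup.subset_closure (by simp)
    · intro q hq hqX
      rcases hB q hq with h1 | h1
      · have : π ⟨q, hqX⟩ = 1 := (hπ1 _).mpr h1
        rw [this]; exact Subgroup.one_mem _
      · have h2 : π (uX⁻¹ * ⟨q, hqX⟩) = 1 := by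
          rw [hπ1]
          simp only [Subgroup.coe_mul, Subgroup.coe_inv, huX]
          exact h1
        rw [map_mul, map_inv] at h2
        have : π uX = π ⟨q, hqX⟩ := inv_mul_eq_one.mp h2
        rw [← this]; exact Subgroup.subset_closure (by simp)
    · intro h1
      have : (⟨1, h1⟩ : ↥(A ⊔ B)) = 1 := rfl
      rw [this, map_one]; exact Subgroup.one_mem _
    · intro g g' hgX hg'X ih ih' hgg'
      have : (⟨g * g', hgg'⟩ : ↥(A ⊔ B)) = ⟨g, hgX⟩ * ⟨g', hg'X⟩ := rfl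
      rw [this, map_mul]; exact Subgroup.mul_mem _ (ih hgX) (ih' hg'X)
    · intro g hgX ih hginv
      have : (⟨g⁻¹, hginv⟩ : ↥(A ⊔ B)) = ⟨g, hgX⟩⁻¹ := rfl
      rw [this, map_inv]; exact Subgroup.inv_mem _ (ih hgX)
  have hk := braid_enum haa hcc hbr (hgen x hx hx)
  have conv : ∀ wX : ↥(A ⊔ B), π ⟨x, hx⟩ = π wX → (wX : G)⁻¹ * x ∈ R := by
    intro wX hw
    have h1 : π (wX⁻¹ * ⟨x, hx⟩) = 1 := by
      rw [map_mul, map_inv, hw, inv_mul_cancel]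
    rw [hπ1] at h1
    simpa using h1
  rcases hk with h1 | h1 | h1 | h1 | h1 | h1
  · refine ⟨1, Or.inl rfl, ?_⟩
    have := conv 1 (by rw [h1, map_one])
    simpa using this
  · refine ⟨y, Or.inr (Or.inl rfl), ?_⟩
    have := conv yX h1
    rwa [hyX] at this
  · refine ⟨u, Or.inr (Or.inr (Or.inl rfl)), ?_⟩
    have := conv uX h1
    rwa [huX] at this
  · refine ⟨y * u, Or.inr (Or.inr (Or.inr (Or.inl rfl))), ?_⟩
    have := conv (yX * uX) (by rw [h1, map_mul])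
    rwa [Subgroup.coe_mul, hyX, huX] at this
  · refine ⟨u * y, Or.inr (Or.inr (Or.inr (Or.inr (Or.inl rfl)))), ?_⟩
    have := conv (uX * yX) (by rw [h1, map_mul])
    rwa [Subgroup.coe_mul, hyX, huX] at this
  · refine ⟨y * u * y, Or.inr (Or.inr (Or.inr (Or.inr (Or.inr rfl)))), ?_⟩
    have := conv (yX * uX * yX) (by rw [h1, map_mul, map_mul])
    rwa [Subgroup.coe_mul, Subgroup.coe_mul, hyX, huX] at this

end Cfsg.Agent.Helper90
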