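import Mathlib
import Cfsg.Agent.Helper43.JTForm
import Cfsg.Agent.Helper37.Cov2P7A1I

/-!
# S2500 part 7, piece (Q1), abstract part

`B` nondegenerate alternating on a 6-space in characteristic 3, `u` a unipotent isometry,
`s` an isometry commuting with `u` with `s² - γ s + 1 = 0`, `γ² ≠ 4`.
If no fixed vector `x` of `u` has `B x (s x) ≠ 0`, then `(u - 1)³ = 0` and the six vectors
`u^i x, u^i s x` are linearly independent for a suitable `x`.

Idea: `D = u - u⁻¹` and `j = s - s⁻¹ = 2 s - γ` are anti-self-adjoint, so `j D`, `D²`, `j D³` are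
self-adjoint and have even rank; `ker D = ker (u - 1)` is totally isotropic, so has dimension `≤ 3`;
the kernels of the powers of the nilpotent `D` increase strictly: dimensions `2, 4, 6`.
-/

set_option autoImplicit false

namespace Cfsg.Agent.Helper90.Cov2.P7

open Module

section q1abs

variable {F : Type*} [Field F] {V : Type*} [AddCommGroup V] [Module F V]

/-- (L1) the kernels of the powers of a nilpotent endomorphism increase strictly -/
theorem q1_ker_lt [FiniteDimensional F V] (N : Module.End F V) (hN : IsNilpotent N) (k : ℕ)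
    (hk : N ^ k ≠ 0) :
    finrank F (LinearMap.ker (N ^ k)) < finrank F (LinearMap.ker (N ^ (k + 1))) := by
  have hle : LinearMap.ker (N ^ k) ≤ LinearMap.ker (N ^ (k + 1)) := by
    intro x hx
    rw [LinearMap.mem_ker] at hx ⊢
    rw [pow_succ', Module.End.mul_apply, hx, map_zero]
  rcases lt_or_eq_of_le hle with h | h
  · exact Submodule.finrank_lt_finrank_of_lt h
  · exfalso
    obtain ⟨m, hm⟩ := hN
    have h1 := Module.End.ker_pow_constant h m
    have h2 : N ^ (k + m) = 0 := by rw [pow_add, hm, mul_zero]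
    rw [h2, LinearMap.ker_zero] at h1
    exact hk (LinearMap.ker_eq_top.1 h1)

/-- (L2) chain independence -/
theorem q1_chain (D s : V →ₗ[F] V) (hDs : ∀ x, D (s x) = s (D x)) (hD3 : ∀ x, D (D (D x)) = 0)
    (x : V) (hx : ∀ a b : F, a • D (D x) + b • s (D (D x)) = 0 → a = 0 ∧ b = 0) :
    LinearIndependent F ![x, D x, D (D x), s x, s (D x), s (D (D x))] := by
  rw [Fintype.linearIndependent_iff]
  intro c hc
  simp only [Fin.sum_univ_six, Matrix.cons_val_zero, Matrix.cons_val_one, Matrix.cons_val] at hc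
  have h1 := congrArg (fun y => D (D y)) hc
  simp only [map_add, map_smul, map_zero, hDs, hD3, smul_zero, add_zero] at h1
  obtain ⟨c0, c3⟩ := hx _ _ h1
  rw [c0, c3, zero_smul, zero_smul, zero_add, add_zero] at hc
  have h2 := congrArg (fun y => D y) hc
  simp only [map_add, map_smul, map_zero, hDs, hD3, smul_zero, add_zero] at h2
  obtain ⟨c1, c4⟩ := hx _ _ h2
  rw [c1, c4, zero_smul, zero_smul, zero_add, add_zero] at hc
  obtain ⟨c2, c5⟩ := hx _ _ hc
  intro i
  fin_cases i <;> assumption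

/-- (L3) a self-adjoint endomorphism of a nondegenerate alternating space has even rank -/
theorem q1_even_ker [FiniteDimensional F V] (h2 : (2 : F) ≠ 0) (B : LinearMap.BilinForm F V)
    (hB : B.Nondegenerate) (hA : B.IsAlt) (hdim : finrank F V = 6)
    (G : Module.End F V) (hG : ∀ x y, B (G x) y = B x (G y)) :
    Even (finrank F (LinearMap.ker G)) := by
  have h0 : ∀ x, B x (G x) = 0 := by
    intro x
    have h1 : B x (G x) = - B (G x) x := (hA.neg_eq _ _).symm
    rw [hG] at h1
    have : 2 * B x (G x) = 0 := by linear_combination h1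
    exact (mul_eq_zero.1 this).resolve_left h2
  have he := Cfsg.Agent.Helper43.JT.even_finrank_range_of_alt B hB G h0
  have hrn := LinearMap.finrank_range_add_finrank_ker G
  rw [hdim] at hrn
  have h6 : Even (6 : ℕ) := by decide
  rw [← hrn] at h6
  exact (Nat.even_add.1 h6).1 he

/-- the data of (Q1) -/
structure QD (B : LinearMap.BilinForm F V) (u v s : V →ₗ[F] V) (γ : F) : Prop where
  three : (3 : F) = 0
  nd : B.Nondegenerate
  alt : B.IsAlt
  dim : finrank F V = 6
  uv : ∀ x, u (v x) = x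
  vu : ∀ x, v (u x) = x
  uiso : ∀ x y, B (u x) (u y) = B x y
  siso : ∀ x y, B (s x) (s y) = B x y
  su : ∀ x, s (u x) = u (s x)
  ss : ∀ x, s (s x) = γ • s x - x
  γ4 : γ ^ 2 ≠ 4

variable {B : LinearMap.BilinForm F V} {u v s : V →ₗ[F] V} {γ : F}

theorem QD.two (h : QD B u v s γ) : (2 : F) ≠ 0 := by
  intro h2
  have : (1 : F) = 0 := by linear_combination h.three - h2
  exact one_ne_zero this

theorem QD.sv (h : QD B u v s γ) (x : V) : s (v x) = v (s x) := by
  have h1 : v (s x) = v (s (u (v x))) := by rw [h.uv]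
  rw [h1, h.su, h.vu]

theorem QD.uadj (h : QD B u v s γ) (x y : V) : B (u x) y = B x (v y) := by
  conv_lhs => rw [← h.uv y]
  exact h.uiso _ _

theorem QD.vadj (h : QD B u v s γ) (x y : V) : B (v x) y = B x (u y) := by
  conv_rhs => rw [← h.uv x]
  exact (h.uiso _ _).symm

theorem QD.sadj (h : QD B u v s γ) (x y : V) : B (s x) y = γ * B x y - B x (s y) := by
  have h1 : y = s (γ • y - s y) := by
    rw [map_sub, map_smul, h.ss]; abel
  conv_lhs => rw [h1]
  rw [h.siso, map_sub, map_smul, smul_eq_mul]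

theorem QD.skew (h : QD B u v s γ) (x y : V) : B y x = - B x y := (h.alt.neg_eq x y).symm

/-- `D = u - u⁻¹` -/
def qD (u v : V →ₗ[F] V) : V →ₗ[F] V := u - v

/-- `j = 2 s - γ` -/
def qJ (s : V →ₗ[F] V) (γ : F) : V →ₗ[F] V := (2 : F) • s - γ • LinearMap.id

theorem qD_apply (x : V) : qD u v x = u x - v x := rfl

theorem qJ_apply (x : V) : qJ s γ x = (2 : F) • s x - γ • x := rfl

theorem QD.Dadj (h : QD B u v s γ) (x y : V) : B (qD u v x) y = - B x (qD u v y) := by
  rw [qD_apply, qD_apply, map_sub, LinearMap.sub_apply, h.uadj, h.vadj, map_sub]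
  ring

theorem QD.Jadj (h : QD B u v s γ) (x y : V) : B (qJ s γ x) y = - B x (qJ s γ y) := by
  rw [qJ_apply, qJ_apply, map_sub, LinearMap.sub_apply, map_smul, map_smul, LinearMap.smul_apply,
    LinearMap.smul_apply, h.sadj, map_sub, map_smul, map_smul]
  simp only [smul_eq_mul]
  ring

theorem QD.JJ (h : QD B u v s γ) (x : V) : qJ s γ (qJ s γ x) = (γ ^ 2 - 4) • x := by
  simp only [qJ_apply, map_sub, map_smul, h.ss]
  module

theorem QD.J_inj (h : QD B u v s γ) (x : V) (hx : qJ s γ x = 0) : x = 0 := by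
  have h1 := h.JJ x
  rw [hx, map_zero] at h1
  have h2 : γ ^ 2 - 4 ≠ 0 := sub_ne_zero.2 h.γ4
  exact ((smul_eq_zero.1 h1.symm).resolve_left h2)

theorem QD.DJ (h : QD B u v s γ) (x : V) : qD u v (qJ s γ x) = qJ s γ (qD u v x) := by
  simp only [qJ_apply, qD_apply, map_sub, map_smul, h.su, h.sv]
  module

theorem QD.Ds (h : QD B u v s γ) (x : V) : qD u v (s x) = s (qD u v x) := by
  simp only [qD_apply, map_sub, h.su, h.sv]

theorem qJ_s (x : V) : qJ s γ (s x) = s (qJ s γ x) := by
  simp only [qJ_apply, map_sub, map_smul]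

/-- `N = u - 1` pointwise -/
theorem qN_apply (x : V) : (u - 1 : Module.End F V) x = u x - x := rfl

/-- `D = (1 + v) N` -/
theorem QD.D_eq (h : QD B u v s γ) (x : V) :
    qD u v x = (u - 1 : Module.End F V) x + v ((u - 1 : Module.End F V) x) := by
  rw [qN_apply, qD_apply, map_sub, h.vu]; abel

/-- `N` commutes with `1 + v` -/
theorem QD.N_c (h : QD B u v s γ) (y : V) :
    (u - 1 : Module.End F V) (y + v y) = (u - 1 : Module.End F V) y + v ((u - 1 : Module.End F V) y) := by
  simp only [qN_apply, map_add, map_sub, h.uv, h.vu]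

theorem QD.c_inj (h : QD B u v s γ) (hnil : IsNilpotent (u - 1 : Module.End F V)) (y : V)
    (hy : y + v y = 0) : y = 0 := by
  have h1 : v y = - y := eq_neg_of_add_eq_zero_right hy
  have h2 : u y = - y := by
    have : u (v y) = u (- y) := by rw [h1]
    rw [h.uv, map_neg] at this
    exact (neg_eq_iff_eq_neg.1 this.symm)
  have h3 : (u - 1 : Module.End F V) y = y := by
    rw [qN_apply, h2]
    have : (3 : F) • y = 0 := by rw [h.three, zero_smul]
    have e : - y - y = y - (3 : F) • y := by module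
    rw [e, this, sub_zero]
  have h4 : ∀ m : ℕ, ((u - 1 : Module.End F V) ^ m) y = y := by
    intro m
    induction m with
    | zero => simp
    | succ m ih => rw [pow_succ, Module.End.mul_apply, h3, ih]
  obtain ⟨m, hm⟩ := hnil
  have := h4 m
  rw [hm] at this
  exact this.symm

/-- `ker D` is fixed by `u` -/
theorem QD.fix_of_D (h : QD B u v s γ) (hnil : IsNilpotent (u - 1 : Module.End F V)) (x : V)
    (hx : qD u v x = 0) : u x = x := by
  rw [h.D_eq] at hx
  have := h.c_inj hnil _ hx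
  rw [qN_apply] at this
  exact sub_eq_zero.1 this

/-- `ker D` is totally isotropic if no fixed vector of `u` has `B x (s x) ≠ 0` -/
theorem QD.isoK (h : QD B u v s γ) (hnil : IsNilpotent (u - 1 : Module.End F V))
    (hK : ∀ x, u x = x → B x (s x) = 0) (x y : V) (hx : qD u v x = 0) (hy : qD u v y = 0) :
    B x y = 0 := by
  have hq : ∀ x, qD u v x = 0 → B x (s x) = 0 := fun x hx => hK x (h.fix_of_D hnil x hx)
  have pol : ∀ x y, qD u v x = 0 → qD u v y = 0 → B x (qJ s γ y) = 0 := by
    intro x y hx hy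
    have h1 := hq (x + y) (by rw [map_add, hx, hy, add_zero])
    simp only [map_add, LinearMap.add_apply, hq x hx, hq y hy] at h1
    have h2 : B y (s x) = - (γ * B x y - B x (s y)) := by rw [h.skew, h.sadj]
    rw [qJ_apply, map_sub, map_smul, map_smul, smul_eq_mul, smul_eq_mul]
    rw [h2] at h1
    linear_combination h1
  have hJy : qD u v (qJ s γ y) = 0 := by rw [h.DJ, hy, map_zero]
  have h3 := pol x (qJ s γ y) hx hJy
  rw [h.JJ, map_smul, smul_eq_mul] at h3
  exact (mul_eq_zero.1 h3).resolve_left (sub_ne_zero.2 h.γ4)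

theorem QD.DDadj (h : QD B u v s γ) (x y : V) :
    B (qD u v (qD u v x)) y = B x (qD u v (qD u v y)) := by
  rw [h.Dadj, h.Dadj, neg_neg]

theorem QD.JDadj (h : QD B u v s γ) (x y : V) :
    B (qJ s γ (qD u v x)) y = B x (qJ s γ (qD u v y)) := by
  rw [h.Jadj, h.Dadj, neg_neg, h.DJ]

/-- `D³ = 0 ≠ D²` -/
theorem QD.D_cube [FiniteDimensional F V] (h : QD B u v s γ)
    (hnil : IsNilpotent (u - 1 : Module.End F V))
    (hK : ∀ x, u x = x → B x (s x) = 0) :
    (∀ x, qD u v (qD u v (qD u v x)) = 0) ∧ ∃ y, qD u v (qD u v y) ≠ 0 := by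
  obtain ⟨D, hD⟩ : ∃ D : Module.End F V, D = qD u v := ⟨_, rfl⟩
  obtain ⟨J, hJ⟩ : ∃ J : Module.End F V, J = qJ s γ := ⟨_, rfl⟩
  have hDnil : IsNilpotent D := by
    have hDc : D = (1 + v : Module.End F V) * (u - 1) := by
      apply LinearMap.ext; intro x
      rw [Module.End.mul_apply, hD, h.D_eq]; rfl
    have hcomm : Commute (1 + v : Module.End F V) (u - 1 : Module.End F V) := by
      apply LinearMap.ext; intro y
      exact (h.N_c y).symm
    rw [hDc]
    exact hcomm.isNilpotent_mul_left hnil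
  have p1 : ∀ x, (D ^ 1) x = D x := fun x => by rw [pow_one]
  have p2 : ∀ x, (D ^ 2) x = D (D x) := fun x => by rw [pow_two, Module.End.mul_apply]
  have p3 : ∀ x, (D ^ 3) x = D (D (D x)) := fun x => by
    rw [pow_succ, pow_two, Module.End.mul_apply, Module.End.mul_apply]
  have two := h.two
  have Jinj : ∀ x, J x = 0 → x = 0 := fun x hx => h.J_inj x (by rw [← hJ]; exact hx)
  have e1 : Even (finrank F (LinearMap.ker (D ^ 1))) := by
    have := q1_even_ker two B h.nd h.alt h.dim (J * D)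
      (fun x y => by rw [hJ, hD]; exact h.JDadj x y)
    have hk : LinearMap.ker (J * D) = LinearMap.ker (D ^ 1) := by
      ext x
      rw [LinearMap.mem_ker, LinearMap.mem_ker, Module.End.mul_apply, p1]
      exact ⟨fun hx => Jinj _ hx, fun hx => by rw [hx, map_zero]⟩
    rwa [hk] at this
  have e2 : Even (finrank F (LinearMap.ker (D ^ 2))) := by
    have := q1_even_ker two B h.nd h.alt h.dim (D * D)
      (fun x y => by rw [hD]; exact h.DDadj x y)
    rwa [← pow_two] at this
  have e3 : Even (finrank F (LinearMap.ker (D ^ 3))) := by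
    have := q1_even_ker two B h.nd h.alt h.dim ((J * D) * (D * D))
      (fun x y => by
        rw [hJ, hD]
        show B (qJ s γ (qD u v (qD u v (qD u v x)))) y =
          B x (qJ s γ (qD u v (qD u v (qD u v y))))
        rw [h.JDadj, h.DDadj, h.DJ, h.DJ])
    have hk : LinearMap.ker ((J * D) * (D * D)) = LinearMap.ker (D ^ 3) := by
      ext x
      rw [LinearMap.mem_ker, LinearMap.mem_ker, p3]
      show J (D (D (D x))) = 0 ↔ _
      exact ⟨fun hx => Jinj _ hx, fun hx => by rw [hx, map_zero]⟩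
    rwa [hk] at this
  obtain ⟨n, hn⟩ : ∃ n : ℕ → ℕ, ∀ k, n k = finrank F (LinearMap.ker (D ^ k)) := ⟨_, fun _ => rfl⟩
  rw [← hn] at e1 e2 e3
  have hn1 : 2 * n 1 ≤ 6 := by
    have := Cfsg.Agent.Helper37.Cov2.P7.two_mul_finrank_le B h.nd (LinearMap.ker (D ^ 1)) (by
      intro x hx y hy
      rw [LinearMap.mem_ker, p1, hD] at hx hy
      exact h.isoK hnil hK x y hx hy)
    rwa [h.dim, ← hn] at this
  have hnontriv : Nontrivial V := by
    apply Module.nontrivial_of_finrank_pos (R := F); rw [h.dim]; norm_num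
  have hn0 : n 0 = 0 := by
    rw [hn, pow_zero]
    have : LinearMap.ker (1 : Module.End F V) = ⊥ := LinearMap.ker_id
    rw [this, finrank_bot]
  have lt : ∀ k, D ^ k ≠ 0 → n k < n (k + 1) := fun k hk => by
    rw [hn, hn]; exact q1_ker_lt D hDnil k hk
  have le6 : ∀ k, n k ≤ 6 := fun k => by rw [hn, ← h.dim]; exact Submodule.finrank_le _
  have top : ∀ k, n k = 6 → D ^ k = 0 := by
    intro k hk
    apply LinearMap.ker_eq_top.1
    apply Submodule.eq_top_of_finrank_eq
    rw [h.dim, ← hn]; exact hk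
  have zero6 : ∀ k, D ^ k = 0 → n k = 6 := by
    intro k hk
    rw [hn, hk, LinearMap.ker_zero, finrank_top, h.dim]
  have h0 : D ^ 0 ≠ 0 := by rw [pow_zero]; exact one_ne_zero
  have l01 : n 0 < n 1 := lt 0 h0
  obtain ⟨a1, ha1⟩ := e1
  have n1 : n 1 = 2 := by omega
  have h1 : D ^ 1 ≠ 0 := fun hh => by have := zero6 1 hh; omega
  have l12 : n 1 < n 2 := lt 1 h1
  have h2 : D ^ 2 ≠ 0 := by
    intro hh
    have hr : LinearMap.range D ≤ LinearMap.ker D := by
      rintro _ ⟨x, rfl⟩
      rw [LinearMap.mem_ker, ← p2, hh]; rfl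
    have h3 := Submodule.finrank_mono hr
    have h4 := LinearMap.finrank_range_add_finrank_ker D
    have h5 : finrank F (LinearMap.ker D) = 2 := by
      have := hn 1
      rw [pow_one] at this
      rw [← this]; exact n1
    rw [h.dim] at h4
    omega
  have l23 : n 2 < n 3 := lt 2 h2
  obtain ⟨a2, ha2⟩ := e2
  obtain ⟨a3, ha3⟩ := e3
  have := le6 3
  have n3 : n 3 = 6 := by omega
  have hD3 := top 3 n3
  refine ⟨fun x => ?_, ?_⟩
  · have := p3 x
    rw [hD3, hD] at this
    exact this.symm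
  · by_contra hcon
    push Not at hcon
    apply h2
    apply LinearMap.ext
    intro y
    rw [p2, hD, hcon y]; rfl

/-- `N³ = 0` from `D³ = 0` -/
theorem QD.N_cube (h : QD B u v s γ) (hnil : IsNilpotent (u - 1 : Module.End F V))
    (hD3 : ∀ x, qD u v (qD u v (qD u v x)) = 0) (x : V) :
    (u - 1 : Module.End F V) ((u - 1 : Module.End F V) ((u - 1 : Module.End F V) x)) = 0 := by
  obtain ⟨N, hN⟩ : ∃ N : Module.End F V, N = u - 1 := ⟨_, rfl⟩
  obtain ⟨c, hc⟩ : ∃ c : V →ₗ[F] V, c = LinearMap.id + v := ⟨_, rfl⟩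
  have hcy : ∀ y, c y = y + v y := fun y => by rw [hc]; rfl
  have hDc : ∀ y, qD u v y = c (N y) := fun y => by rw [h.D_eq, hcy, hN]
  have hNc : ∀ y, N (c y) = c (N y) := fun y => by rw [hcy, hcy, hN]; exact h.N_c y
  have hci : ∀ y, c y = 0 → y = 0 := fun y hy => h.c_inj hnil y (by rw [← hcy]; exact hy)
  have h1 := hD3 x
  rw [hDc, hDc, hDc, hNc, hNc, hNc] at h1
  have h2 := hci _ (hci _ (hci _ h1))
  rw [← hN]
  exact h2

/-- the family `u^i x, u^i s x` -/
def qfam (u s : V →ₗ[F] V) (x : V) : Fin 3 × Fin 2 → V :=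
  fun p => ![![x, s x] p.2, u (![x, s x] p.2), u (u (![x, s x] p.2))] p.1

/-- the vector `x` -/
theorem QD.exists_indep [FiniteDimensional F V] (h : QD B u v s γ)
    (hD3 : ∀ x, qD u v (qD u v (qD u v x)) = 0) (y₀ : V) (hy₀ : qD u v (qD u v y₀) ≠ 0) :
    ∃ z : V, LinearIndependent F ![z, qD u v z, qD u v (qD u v z), s z, s (qD u v z),
      s (qD u v (qD u v z))] := by
  obtain ⟨D, hD⟩ : ∃ D : V →ₗ[F] V, D = qD u v := ⟨_, rfl⟩
  obtain ⟨J, hJ⟩ : ∃ J : V →ₗ[F] V, J = qJ s γ := ⟨_, rfl⟩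
  rw [← hD] at hD3 hy₀ ⊢
  have two := h.two
  have Jinj : ∀ x, J x = 0 → x = 0 := fun x hx => h.J_inj x (by rw [← hJ]; exact hx)
  have hJDD : J (D (D y₀)) ≠ 0 := fun hh => hy₀ (Jinj _ hh)
  obtain ⟨x₀, hx₀⟩ : ∃ x₀, B x₀ (J (D (D y₀))) ≠ 0 := by
    by_contra hcon
    push Not at hcon
    exact hJDD (h.nd.2 _ hcon)
  -- the symmetric form `Φ x y = B x (J (D (D y)))`
  have hsymm : ∀ x y, B y (J (D (D x))) = B x (J (D (D y))) := by
    intro x y
    rw [h.skew, hJ, hD, h.Jadj, h.DDadj, ← h.DJ, ← h.DJ, neg_neg]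
  obtain ⟨z, hz⟩ : ∃ z, B z (J (D (D z))) ≠ 0 := by
    by_contra hcon
    push Not at hcon
    have h1 := hcon (x₀ + y₀)
    simp only [map_add, LinearMap.add_apply, hcon x₀, hcon y₀, hsymm x₀ y₀] at h1
    have : 2 * B x₀ (J (D (D y₀))) = 0 := by linear_combination h1
    exact hx₀ ((mul_eq_zero.1 this).resolve_left two)
  have hzw : B z (D (D z)) = 0 := by
    rw [hD]
    have h3 := h.Dadj z (qD u v z)
    rw [h.alt (qD u v z)] at h3
    exact neg_eq_zero.1 h3.symm
  have hsw : B z (s (D (D z))) ≠ 0 := by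
    intro hh
    apply hz
    rw [hJ, qJ_apply, map_sub, map_smul, map_smul, hh, hzw, smul_zero, smul_zero, sub_zero]
  refine ⟨z, ?_⟩
  have hDs : ∀ x, D (s x) = s (D x) := fun x => by rw [hD]; exact h.Ds x
  apply q1_chain D s hDs hD3 z
  intro a b hab
  have h1 := congrArg (fun w => B z w) hab
  simp only [map_add, map_smul, smul_eq_mul, hzw, mul_zero, zero_add, map_zero] at h1
  have hb : b = 0 := (mul_eq_zero.1 h1).resolve_right hsw
  rw [hb, zero_smul, add_zero] at hab
  have hw : D (D z) ≠ 0 := fun hh => hz (by rw [hh, map_zero, map_zero])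
  exact ⟨(smul_eq_zero.1 hab).resolve_right hw, hb⟩

/-- the abstract form of (Q1) -/
theorem QD.main [FiniteDimensional F V] (h : QD B u v s γ)
    (hnil : IsNilpotent (u - 1 : Module.End F V))
    (hK : ∀ x, u x = x → B x (s x) = 0) :
    (∀ x, (u - 1 : Module.End F V) ((u - 1 : Module.End F V) ((u - 1 : Module.End F V) x)) = 0) ∧
      ∃ x, LinearIndependent F (qfam u s x) := by
  obtain ⟨hD3, y₀, hy₀⟩ := h.D_cube hnil hK
  have hN3 := h.N_cube hnil hD3
  refine ⟨hN3, ?_⟩
  obtain ⟨z, hz⟩ := h.exists_indep hD3 y₀ hy₀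
  refine ⟨z, ?_⟩
  have hu3 : ∀ x, u (u (u x)) = x := by
    intro x
    have h1 := hN3 x
    simp only [qN_apply, map_sub] at h1
    have h2 : (3 : F) • (u (u x) - u x) = 0 := by rw [h.three, zero_smul]
    have : u (u (u x)) - x = (u (u (u x)) - u (u x) - (u (u x) - u x) -
        (u (u x) - u x - (u x - x))) + (3 : F) • (u (u x) - u x) := by module
    rw [h1, h2, add_zero] at this
    exact sub_eq_zero.1 this
  have hv : ∀ x, v x = u (u x) := by
    intro x
    conv_lhs => rw [← hu3 x]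
    rw [h.vu]
  have hDx : ∀ x, qD u v x = u x - u (u x) := fun x => by rw [qD_apply, hv]
  have hDDx : ∀ x, qD u v (qD u v x) = x + u x + u (u x) := by
    intro x
    rw [hDx x, hDx]
    simp only [map_sub, hu3]
    have h2 : (3 : F) • x = 0 := by rw [h.three, zero_smul]
    have : u (u x) - x - (x - u x) = x + u x + u (u x) - (3 : F) • x := by module
    rw [this, h2, sub_zero]
  have hspan := hz.span_eq_top_of_card_eq_finrank (by rw [Fintype.card_fin, h.dim])
  apply linearIndependent_of_top_le_span_of_card_eq_finrank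
  · rw [← hspan]
    apply Submodule.span_le.2
    rintro _ ⟨i, rfl⟩
    have m : ∀ p, qfam u s z p ∈ Submodule.span F (Set.range (qfam u s z)) :=
      fun p => Submodule.subset_span ⟨p, rfl⟩
    fin_cases i
    · exact m (0, 0)
    · show qD u v z ∈ _
      rw [hDx]
      exact Submodule.sub_mem _ (m (1, 0)) (m (2, 0))
    · show qD u v (qD u v z) ∈ _
      rw [hDDx]
      exact Submodule.add_mem _ (Submodule.add_mem _ (m (0, 0)) (m (1, 0))) (m (2, 0))
    · exact m (0, 1)
    · show s (qD u v z) ∈ _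
      rw [← h.Ds, hDx]
      exact Submodule.sub_mem _ (m (1, 1)) (m (2, 1))
    · show s (qD u v (qD u v z)) ∈ _
      rw [← h.Ds, ← h.Ds, hDDx]
      exact Submodule.add_mem _ (Submodule.add_mem _ (m (0, 1)) (m (1, 1))) (m (2, 1))
  · rw [Fintype.card_prod, Fintype.card_fin, Fintype.card_fin, h.dim]

end q1abs

end Cfsg.Agent.Helper90.Cov2.P7
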