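import Cfsg.Agent.Helper43.Cov2.P7Defs
import Cfsg.Agent.Helper13.SympTrans
import Cfsg.Agent.Helper87.Cov2P7UN
import Cfsg.Agent.Helper90.Cov2P7U3b
import Cfsg.Agent.Helper90.Cov2P7Q1a

/-!
# S2500 part 7, piece (Q1) `quad_cases` (verbatim skeleton statement; `uFam` restated locally)
-/

set_option autoImplicit false

namespace Cfsg.Agent.Helper90.Cov2.P7

open Matrix Module Cfsg.Agent.Helper43.Cov2.P7 Cfsg.Agent.Helper13

variable {F : Type*} [Field F]

/-- the family `u^i x, u^i s x` (copy of the skeleton definition) -/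
def uFam (u s : M6 F) (x : V6 F) : Fin 3 × Fin 2 → V6 F :=
  fun p => (u ^ (p.1 : ℕ)) *ᵥ (if p.2 = 0 then x else s *ᵥ x)

theorem sympB_nondegenerate : (sympB F).Nondegenerate := by
  have hr : ∀ y : V6 F, (∀ x, sympB F x y = 0) → y = 0 := by
    intro y hy
    by_contra hne
    obtain ⟨x, hx⟩ := sympForm_nondeg_left hne
    exact hx (hy x)
  refine ⟨fun x hx => hr x fun y => ?_, hr⟩
  rw [sympB_apply, sympForm_swap, ← sympB_apply, hx y, neg_zero]

theorem finrank_V6 : finrank F (V6 F) = 6 := by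
  rw [Module.finrank_fintype_fun_eq_card]
  simp

theorem mulVecLin_pow_apply (M : M6 F) (k : ℕ) (x : V6 F) :
    ((Matrix.mulVecLin M : Module.End F (V6 F)) ^ k) x = (M ^ k) *ᵥ x := by
  induction k generalizing x with
  | zero => simp
  | succ k ih =>
    rw [pow_succ, Module.End.mul_apply, ih, Matrix.mulVecLin_apply, Matrix.mulVec_mulVec, ← pow_succ]

/-- matrix form of (Q1) -/
theorem quad_cases_mat (h3F : (3 : F) = 0) (U Ui S : M6 F) (γ : F)
    (hUsp : ∀ x y : V6 F, Cfsg.sympForm 3 F (U *ᵥ x) (U *ᵥ y) = Cfsg.sympForm 3 F x y)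
    (hSsp : ∀ x y : V6 F, Cfsg.sympForm 3 F (S *ᵥ x) (S *ᵥ y) = Cfsg.sympForm 3 F x y)
    (hUUi : U * Ui = 1) (hUiU : Ui * U = 1) (hSU : S * U = U * S) (hSS : S * S = γ • S - 1)
    (hγ : γ ^ 2 ≠ 4) (hN6 : (U - 1) ^ 6 = 0) :
    FixesPlane (S * U) ∨
      ((U - 1) ^ 3 = 0 ∧ ∃ x : V6 F, LinearIndependent F (uFam U S x)) := by
  by_cases hex : ∃ x : V6 F, U *ᵥ x = x ∧ Cfsg.sympForm 3 F x (S *ᵥ x) ≠ 0
  · left
    obtain ⟨x, hx, hne⟩ := hex
    refine ⟨x, S *ᵥ x, hne, ⟨0, 1, ?_⟩, ⟨-1, γ, ?_⟩⟩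
    · rw [← Matrix.mulVec_mulVec, hx, zero_smul, one_smul, zero_add]
    · rw [Matrix.mulVec_mulVec, mul_assoc, ← hSU, ← mul_assoc, ← Matrix.mulVec_mulVec, hx, hSS,
        Matrix.sub_mulVec, Matrix.smul_mulVec, Matrix.one_mulVec]
      module
  · right
    push Not at hex
    obtain ⟨uL, huL⟩ : ∃ uL : V6 F →ₗ[F] V6 F, uL = Matrix.mulVecLin U := ⟨_, rfl⟩
    obtain ⟨vL, hvL⟩ : ∃ vL : V6 F →ₗ[F] V6 F, vL = Matrix.mulVecLin Ui := ⟨_, rfl⟩
    obtain ⟨sL, hsL⟩ : ∃ sL : V6 F →ₗ[F] V6 F, sL = Matrix.mulVecLin S := ⟨_, rfl⟩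
    have au : ∀ x, uL x = U *ᵥ x := fun x => by rw [huL]; rfl
    have av : ∀ x, vL x = Ui *ᵥ x := fun x => by rw [hvL]; rfl
    have as : ∀ x, sL x = S *ᵥ x := fun x => by rw [hsL]; rfl
    have hQ : QD (sympB F) uL vL sL γ := by
      refine ⟨h3F, sympB_nondegenerate, fun x => by rw [sympB_apply, sympForm_self], finrank_V6,
        ?_, ?_, ?_, ?_, ?_, ?_, hγ⟩
      · intro x; rw [au, av, Matrix.mulVec_mulVec, hUUi, Matrix.one_mulVec]
      · intro x; rw [au, av, Matrix.mulVec_mulVec, hUiU, Matrix.one_mulVec]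
      · intro x y
        rw [sympB_apply, sympB_apply, au, au]
        exact hUsp x y
      · intro x y
        rw [sympB_apply, sympB_apply, as, as]
        exact hSsp x y
      · intro x; rw [au, as, as, au, Matrix.mulVec_mulVec, Matrix.mulVec_mulVec, hSU]
      · intro x
        rw [as, as, Matrix.mulVec_mulVec, hSS, Matrix.sub_mulVec, Matrix.smul_mulVec,
          Matrix.one_mulVec]
    have hN : (uL - 1 : Module.End F (V6 F)) = Matrix.mulVecLin (U - 1) := by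
      apply LinearMap.ext
      intro x
      rw [qN_apply, au, Matrix.mulVecLin_apply, Matrix.sub_mulVec, Matrix.one_mulVec]
    have hnil : IsNilpotent (uL - 1 : Module.End F (V6 F)) := by
      refine ⟨6, ?_⟩
      apply LinearMap.ext
      intro x
      rw [hN, mulVecLin_pow_apply, hN6, Matrix.zero_mulVec]
      rfl
    have hK : ∀ x, uL x = x → sympB F x (sL x) = 0 := by
      intro x hx
      rw [sympB_apply, as]
      exact hex x (by rw [← au]; exact hx)
    obtain ⟨hN3, x, hx⟩ := hQ.main hnil hK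
    refine ⟨?_, x, ?_⟩
    · apply matrix_eq_of_mulVec
      intro y
      have := hN3 y
      rw [hN] at this
      rw [Matrix.zero_mulVec, ← this, pow_succ, pow_two, ← Matrix.mulVec_mulVec,
        ← Matrix.mulVec_mulVec]
      rfl
    · have hfam : uFam U S x = qfam uL sL x := by
        funext p
        obtain ⟨i, b⟩ := p
        fin_cases i <;> fin_cases b <;>
          simp [uFam, qfam, au, as, pow_two, Matrix.mulVec_mulVec, mul_assoc]
      rw [hfam]
      exact hx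

/-- (Q1) the case `γ² ≠ 4`. -/
theorem quad_cases [Fintype F] (a : ℕ) (ha : 1 ≤ a) (hF : Fintype.card F = 3 ^ a) (s u : Sp6 F)
    (hcomm : Commute s u) (e : ℕ) (hu : u ^ (3 ^ e) = 1) (γ : F) (hγ : γ ^ 2 ≠ 4)
    (hs : (s : M6 F) * (s : M6 F) - γ • (s : M6 F) + 1 = 0) :
    FixesPlane ((s * u : Sp6 F) : M6 F) ∨
      (((u : M6 F) - 1) ^ 3 = 0 ∧
        ∃ x : V6 F, LinearIndependent F (uFam (u : M6 F) (s : M6 F) x)) := by
  have := charP3 a hF
  have h3F : (3 : F) = 0 := by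
    have := CharP.cast_eq_zero F 3
    exact_mod_cast this
  have hSU : (s : M6 F) * (u : M6 F) = (u : M6 F) * (s : M6 F) := by
    rw [← coe_mul_Sp6, ← coe_mul_Sp6, hcomm.eq]
  have hSS : (s : M6 F) * (s : M6 F) = γ • (s : M6 F) - 1 := by
    have : (s : M6 F) * (s : M6 F) =
        ((s : M6 F) * (s : M6 F) - γ • (s : M6 F) + 1) + (γ • (s : M6 F) - 1) := by abel
    rw [this, hs, zero_add]
  rw [coe_mul_Sp6]
  exact quad_cases_mat h3F (u : M6 F) ((u⁻¹ : Sp6 F) : M6 F) (s : M6 F) γ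
    ((mem_symplecticGroup_iff_preserves (u : M6 F)).1 u.2)
    ((mem_symplecticGroup_iff_preserves (s : M6 F)).1 s.2)
    (coe_mul_inv_Sp6 u) (coe_inv_mul_Sp6 u) hSU hSS hγ
    (Cfsg.Agent.Helper87.Cov2.P7.pow_six_eq_zero a ha hF u e hu)

end Cfsg.Agent.Helper90.Cov2.P7
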