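import Mathlib
import Cfsg.Agent.Helper90.Conj

set_option autoImplicit false

/-!
A Thompson-transfer statement for a central involution of a Sylow 2-subgroup (extremal form):
if `d ∈ Z(P)` is an involution, `M` has index 2 in `P`, and no `N_G(P)`-conjugate of `d` lies
in `M`, then `G` has a homomorphism onto `{±1}` sending `d` to `-1`.
-/

namespace Cfsg.Agent.Helper90

theorem extremal_transfer {G : Type*} [Group G] [Finite G] (P : Sylow 2 G) (M : Subgroup G)
    (hMP : M ≤ (P : Subgroup G)) (hMi : M.relIndex (P : Subgroup G) = 2)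
    (d : G) (hdd : d * d = 1)
    (hdc : ∀ p ∈ (P : Subgroup G), p * d = d * p)
    (hN : ∀ g ∈ Subgroup.normalizer ((P : Subgroup G) : Set G), g⁻¹ * d * g ∉ M) :
    ∃ φ : G →* ℤˣ, φ d = -1 := by
  classical
  have : Fact (Nat.Prime 2) := ⟨Nat.prime_two⟩
  have : Fintype (G ⧸ M) := Fintype.ofFinite _
  have hdinv : d⁻¹ = d := inv_eq_of_mul_eq_one_left hdd
  -- `M` is normal in `P`
  have hMn : (M.subgroupOf (P : Subgroup G)).Normal := Subgroup.normal_of_index_eq_two hMi
  have hMconj : ∀ p ∈ (P : Subgroup G), ∀ m ∈ M, p * m * p⁻¹ ∈ M := by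
    intro p hp m hm
    have := hMn.conj_mem ⟨m, hMP hm⟩ (Subgroup.mem_subgroupOf.mpr hm) ⟨p, hp⟩
    rw [Subgroup.mem_subgroupOf] at this
    simpa using this
  -- the predicate on `G ⧸ P`
  obtain ⟨FM, hFM⟩ : ∃ FM : G ⧸ (P : Subgroup G) → Prop,
      ∀ b, FM b ↔ ∃ g : G, (g : G ⧸ (P : Subgroup G)) = b ∧ g⁻¹ * d * g ∈ M := ⟨_, fun b => Iff.rfl⟩
  have K1 : ∀ g : G, FM (g : G ⧸ (P : Subgroup G)) ↔ g⁻¹ * d * g ∈ M := by
    intro g
    rw [hFM]
    constructor
    · rintro ⟨g', hg', hm⟩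
      rw [QuotientGroup.eq] at hg'
      -- `p = g'⁻¹ g ∈ P`
      have h1 := hMconj _ (Subgroup.inv_mem _ hg') _ hm
      have e : (g'⁻¹ * g)⁻¹ * (g'⁻¹ * d * g') * (g'⁻¹ * g)⁻¹⁻¹ = g⁻¹ * d * g := by group
      rwa [e] at h1
    · intro hm
      exact ⟨g, rfl, hm⟩
  -- fixed points of `d` on `G ⧸ M`
  have K2 : ∀ a : G ⧸ M, (MulAction.toPermHom G (G ⧸ M) d) a = a ↔
      FM (Subgroup.quotientEquivProdOfLE hMP a).1 := by
    intro a
    induction a using QuotientGroup.induction_on with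
    | H g =>
      have h1 : (Subgroup.quotientEquivProdOfLE hMP (g : G ⧸ M)).1 = (g : G ⧸ (P : Subgroup G)) :=
        rfl
      rw [h1, K1]
      have h2 : (MulAction.toPermHom G (G ⧸ M) d) (g : G ⧸ M) = ((d * g : G) : G ⧸ M) := rfl
      rw [h2, QuotientGroup.eq]
      have e : (d * g)⁻¹ * g = g⁻¹ * d⁻¹ * g := by group
      rw [e, hdinv]
  -- the sub-action of `P` on the set `FM`
  let S : SubMulAction ↥(P : Subgroup G) (G ⧸ (P : Subgroup G)) :=
    { carrier := {b | FM b}
      smul_mem' := by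
        intro c x hx
        induction x using QuotientGroup.induction_on with
        | H g =>
          have hx' : g⁻¹ * d * g ∈ M := (K1 g).mp hx
          have h1 : c • (g : G ⧸ (P : Subgroup G)) = (((c : G) * g : G) : G ⧸ (P : Subgroup G)) := rfl
          show FM (c • (g : G ⧸ (P : Subgroup G)))
          rw [h1, K1]
          have e : ((c : G) * g)⁻¹ * d * ((c : G) * g) = g⁻¹ * ((c : G)⁻¹ * (d * (c : G))) * g := by
            group
          rw [e, ← hdc c c.2]
          have e2 : g⁻¹ * ((c : G)⁻¹ * ((c : G) * d)) * g = g⁻¹ * d * g := by group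
          rw [e2]
          exact hx' }
  have hSeven : Even (Nat.card ↥S) := by
    have h1 := IsPGroup.card_modEq_card_fixedPoints P.2 ↥S
    have h2 : IsEmpty ↥(MulAction.fixedPoints ↥(P : Subgroup G) ↥S) := by
      constructor
      rintro ⟨⟨b, hb⟩, hfix⟩
      induction b using QuotientGroup.induction_on with
      | H g =>
        have hb' : g⁻¹ * d * g ∈ M := (K1 g).mp hb
        have hnorm : g⁻¹ ∈ Subgroup.normalizer ((P : Subgroup G) : Set G) := by
          apply mem_normalizer_of_conj_mem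
          intro c hc
          have h3 := hfix ⟨c, hc⟩
          have h4 : (⟨c, hc⟩ : ↥(P : Subgroup G)) • (g : G ⧸ (P : Subgroup G)) =
              (g : G ⧸ (P : Subgroup G)) := congrArg Subtype.val h3
          have h5 : (⟨c, hc⟩ : ↥(P : Subgroup G)) • (g : G ⧸ (P : Subgroup G)) =
              ((c * g : G) : G ⧸ (P : Subgroup G)) := rfl
          rw [h5, QuotientGroup.eq] at h4
          have h6 := Subgroup.inv_mem _ h4
          have e : ((c * g)⁻¹ * g)⁻¹ = g⁻¹ * c * g⁻¹⁻¹ := by group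
          rwa [e] at h6
        have := hN g (by simpa using Subgroup.inv_mem _ hnorm)
        exact this hb'
    have h3 : Nat.card ↥(MulAction.fixedPoints ↥(P : Subgroup G) ↥S) = 0 := Nat.card_of_isEmpty
    rw [h3] at h1
    exact Nat.even_iff.mpr h1
  -- count the fixed points
  have hcardfix : Nat.card ↥(Function.fixedPoints (MulAction.toPermHom G (G ⧸ M) d)) =
      Nat.card ↥S * 2 := by
    have e1 : ↥(Function.fixedPoints (MulAction.toPermHom G (G ⧸ M) d)) ≃
        {y : (G ⧸ (P : Subgroup G)) × (↥(P : Subgroup G) ⧸ M.subgroupOf (P : Subgroup G)) //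
          FM y.1} :=
      Equiv.subtypeEquiv (Subgroup.quotientEquivProdOfLE hMP) (fun a => K2 a)
    have e2 : {y : (G ⧸ (P : Subgroup G)) × (↥(P : Subgroup G) ⧸ M.subgroupOf (P : Subgroup G)) //
          FM y.1} ≃ {b // FM b} × (↥(P : Subgroup G) ⧸ M.subgroupOf (P : Subgroup G)) :=
      Equiv.prodSubtypeFstEquivSubtypeProd
    rw [Nat.card_congr (e1.trans e2), Nat.card_prod]
    congr 1
  have hfix4 : 4 ∣ Fintype.card ↥(Function.fixedPoints (MulAction.toPermHom G (G ⧸ M) d)) := by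
    rw [← Nat.card_eq_fintype_card, hcardfix]
    obtain ⟨j, hj⟩ := hSeven
    exact ⟨j, by rw [hj]; ring⟩
  have hσ2 : (MulAction.toPermHom G (G ⧸ M) d) ^ 2 = 1 := by
    rw [← map_pow, pow_two, hdd, map_one]
  have hcard : Fintype.card (G ⧸ M) = 2 * (P : Subgroup G).index := by
    rw [← Nat.card_eq_fintype_card, ← Subgroup.index_eq_card, ← Subgroup.relIndex_mul_index hMP, hMi]
  have hodd : Odd (P : Subgroup G).index := by
    rw [← Nat.not_even_iff_odd, even_iff_two_dvd]
    exact P.not_dvd_index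
  have hle : Fintype.card ↥(Function.fixedPoints (MulAction.toPermHom G (G ⧸ M) d)) ≤
      Fintype.card (G ⧸ M) := Fintype.card_subtype_le _
  refine ⟨Equiv.Perm.sign.comp (MulAction.toPermHom G (G ⧸ M)), ?_⟩
  show Equiv.Perm.sign (MulAction.toPermHom G (G ⧸ M) d) = -1
  rw [Equiv.Perm.sign_of_pow_two_eq_one hσ2]
  obtain ⟨j, hj⟩ := hfix4
  obtain ⟨k, hk⟩ := hodd
  rw [hcard, hk] at hle ⊢
  rw [hj] at hle ⊢
  have e : (2 * (2 * k + 1) - 4 * j) / 2 = 2 * (k - j) + 1 := by omega
  rw [e, pow_succ, pow_mul]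
  simp

end Cfsg.Agent.Helper90
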