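import Mathlib
import Cfsg.Agent.Helper90.ExtremalTransfer

set_option autoImplicit false

/-!
The structure of a Sylow 2-subgroup `P = C(z)` with `Φ(P) = ⟨z⟩` in a perfect group: it is
generated by two involutions whose product has order 4.
-/

namespace Cfsg.Agent.Helper90

theorem d8_structure {L : Type*} [Group L] [Finite L] (P : Sylow 2 L) (z : L)
    (hz1 : z ≠ 1) (hzz : z * z = 1)
    (hRC : ∀ x : L, x ∈ (P : Subgroup L) ↔ x * z = z * x)
    (hsq : ∀ x ∈ (P : Subgroup L), x * x = 1 ∨ x * x = z)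
    (hcomm : ∀ x ∈ (P : Subgroup L), ∀ y ∈ (P : Subgroup L),
      x * y * x⁻¹ * y⁻¹ = 1 ∨ x * y * x⁻¹ * y⁻¹ = z)
    (hwit : (∃ x ∈ (P : Subgroup L), x * x = z) ∨
      ∃ x ∈ (P : Subgroup L), ∃ y ∈ (P : Subgroup L), x * y * x⁻¹ * y⁻¹ = z)
    (hnoniso : ∃ g : L, g * z * g⁻¹ ≠ z ∧ (g * z * g⁻¹) * z = z * (g * z * g⁻¹))
    (hperf : ∀ φ : L →* ℤˣ, ∀ x : L, φ x = 1)
    (hfrat : ∀ d ∈ (P : Subgroup L), d ≠ 1 → d ≠ z →
      ∃ M : Subgroup L, M ≤ (P : Subgroup L) ∧ M.relIndex (P : Subgroup L) = 2 ∧ d ∉ M) :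
    ∃ x y : L, x * x = 1 ∧ x ≠ 1 ∧ y * y = 1 ∧ y ≠ 1 ∧ x ≠ y ∧ orderOf (x * y) = 4 ∧
      (P : Subgroup L) = Subgroup.closure ({x, y} : Set L) := by
  classical
  have hzinv : z⁻¹ = z := inv_eq_of_mul_eq_one_left hzz
  have hzP : z ∈ (P : Subgroup L) := (hRC z).mpr rfl
  have hPz : ∀ x ∈ (P : Subgroup L), x * z = z * x := fun x hx => (hRC x).mp hx
  -- Step 1: `N(P) = P`
  have hNP : ∀ g ∈ Subgroup.normalizer ((P : Subgroup L) : Set L), g ∈ (P : Subgroup L) := by
    intro g hg
    have hconj : ∀ x ∈ (P : Subgroup L), g * x * g⁻¹ ∈ (P : Subgroup L) := fun x hx =>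
      conj_mem_of_mem_normalizer hg hx
    have hne : g * z * g⁻¹ ≠ 1 := by
      intro h
      apply hz1
      calc z = g⁻¹ * (g * z * g⁻¹) * g := by group
        _ = 1 := by rw [h]; group
    have hgz : g * z * g⁻¹ = z := by
      rcases hwit with ⟨x, hx, hxx⟩ | ⟨x, hx, y, hy, hxy⟩
      · have e : g * z * g⁻¹ = (g * x * g⁻¹) * (g * x * g⁻¹) := by rw [← hxx]; group
        rcases hsq _ (hconj x hx) with h | h
        · exact absurd (e.trans h) hne
        · exact e.trans h
      · have e : g * z * g⁻¹ =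
            (g * x * g⁻¹) * (g * y * g⁻¹) * (g * x * g⁻¹)⁻¹ * (g * y * g⁻¹)⁻¹ := by
          rw [← hxy]; group
        rcases hcomm _ (hconj x hx) _ (hconj y hy) with h | h
        · exact absurd (e.trans h) hne
        · exact e.trans h
    rw [hRC]
    calc g * z = (g * z * g⁻¹) * g := by group
      _ = z * g := by rw [hgz]
  -- Step 3: the conjugate `t`
  obtain ⟨g, htz, htzc⟩ := hnoniso
  obtain ⟨t, ht⟩ : ∃ t : L, t = g * z * g⁻¹ := ⟨_, rfl⟩
  rw [← ht] at htz htzc
  have htP : t ∈ (P : Subgroup L) := (hRC t).mpr htzc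
  have htt : t * t = 1 := by
    rw [ht]
    calc g * z * g⁻¹ * (g * z * g⁻¹) = g * (z * z) * g⁻¹ := by group
      _ = 1 := by rw [hzz]; group
  have htinv : t⁻¹ = t := inv_eq_of_mul_eq_one_left htt
  have ht1 : t ≠ 1 := by
    intro h
    apply hz1
    calc z = g⁻¹ * (g * z * g⁻¹) * g := by group
      _ = 1 := by rw [← ht, h]; group
  -- centralizer of `t` is the conjugate of `P`
  have hCt : ∀ x : L, x * t = t * x → g⁻¹ * x * g ∈ (P : Subgroup L) := by
    intro x hx
    rw [hRC]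
    rw [ht] at hx
    calc g⁻¹ * x * g * z = g⁻¹ * (x * (g * z * g⁻¹)) * g := by group
      _ = g⁻¹ * ((g * z * g⁻¹) * x) * g := by rw [hx]
      _ = z * (g⁻¹ * x * g) := by group
  have hsq_t : ∀ x : L, x * t = t * x → x * x = 1 ∨ x * x = t := by
    intro x hx
    have e : x * x = g * ((g⁻¹ * x * g) * (g⁻¹ * x * g)) * g⁻¹ := by group
    rcases hsq _ (hCt x hx) with h | h
    · left; rw [e, h]; group
    · right; rw [e, h, ht]
  have hcomm_t : ∀ x y : L, x * t = t * x → y * t = t * y →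
      x * y * x⁻¹ * y⁻¹ = 1 ∨ x * y * x⁻¹ * y⁻¹ = t := by
    intro x y hx hy
    have e : x * y * x⁻¹ * y⁻¹ =
        g * ((g⁻¹ * x * g) * (g⁻¹ * y * g) * (g⁻¹ * x * g)⁻¹ * (g⁻¹ * y * g)⁻¹) * g⁻¹ := by group
    rcases hcomm _ (hCt x hx) _ (hCt y hy) with h | h
    · left; rw [e, h]; group
    · right; rw [e, h, ht]
  -- Step 4: `D = C_P(t)` is elementary abelian
  have hDsq : ∀ x ∈ (P : Subgroup L), x * t = t * x → x * x = 1 := by
    intro x hx hxt
    rcases hsq x hx with h | h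
    · exact h
    · rcases hsq_t x hxt with h' | h'
      · exact h'
      · exact absurd (h'.symm.trans h) htz
  have hDcomm : ∀ x ∈ (P : Subgroup L), ∀ y ∈ (P : Subgroup L), x * t = t * x → y * t = t * y →
      x * y = y * x := by
    intro x hx y hy hxt hyt
    have h1 : x * y * x⁻¹ * y⁻¹ = 1 := by
      rcases hcomm x hx y hy with h | h
      · exact h
      · rcases hcomm_t x y hxt hyt with h' | h'
        · exact h'
        · exact absurd (h'.symm.trans h) htz
    calc x * y = (x * y * x⁻¹ * y⁻¹) * (y * x) := by group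
      _ = y * x := by rw [h1, one_mul]
  -- Step 5: conjugates of `t` under `P`
  have hconj_t : ∀ x ∈ (P : Subgroup L), x * t * x⁻¹ = t ∨ x * t * x⁻¹ = z * t := by
    intro x hx
    rcases hcomm x hx t htP with h | h
    · left
      calc x * t * x⁻¹ = (x * t * x⁻¹ * t⁻¹) * t := by group
        _ = t := by rw [h, one_mul]
    · right
      calc x * t * x⁻¹ = (x * t * x⁻¹ * t⁻¹) * t := by group
        _ = z * t := by rw [h]
  obtain ⟨x₀, hx₀P, hx₀t⟩ : ∃ x₀ ∈ (P : Subgroup L), x₀ * t * x₀⁻¹ = z * t := by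
    by_contra hcon
    push Not at hcon
    have hall : ∀ x ∈ (P : Subgroup L), x * t = t * x := by
      intro x hx
      rcases hconj_t x hx with h | h
      · calc x * t = (x * t * x⁻¹) * x := by group
          _ = t * x := by rw [h]
      · exact absurd h (hcon x hx)
    have hgN : g⁻¹ ∈ Subgroup.normalizer ((P : Subgroup L) : Set L) := by
      apply mem_normalizer_of_conj_mem
      intro x hx
      have := hCt x (hall x hx)
      simpa using this
    have hgP : g ∈ (P : Subgroup L) := by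
      have := hNP _ hgN
      simpa using Subgroup.inv_mem _ this
    apply htz
    rw [ht, hPz g hgP]
    group
  have hx₀inv_t : x₀⁻¹ * t * x₀ = z * t := by
    have h1 : t = x₀⁻¹ * (z * t) * x₀ := by rw [← hx₀t]; group
    have h2 : x₀⁻¹ * (z * t) * x₀ = z * (x₀⁻¹ * t * x₀) := by
      have := hPz x₀⁻¹ (Subgroup.inv_mem _ hx₀P)
      calc x₀⁻¹ * (z * t) * x₀ = (x₀⁻¹ * z) * t * x₀ := by group
        _ = (z * x₀⁻¹) * t * x₀ := by rw [this]
        _ = z * (x₀⁻¹ * t * x₀) := by group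
    have h3 : z * t = z * (z * (x₀⁻¹ * t * x₀)) := by rw [← h2, ← h1]
    rw [← mul_assoc, hzz, one_mul] at h3
    exact h3.symm
  -- coset decomposition `P = D ∪ x₀ D`
  have hcoset : ∀ p ∈ (P : Subgroup L), p * t = t * p ∨ (x₀⁻¹ * p) * t = t * (x₀⁻¹ * p) := by
    intro p hp
    rcases hconj_t p hp with h | h
    · left
      calc p * t = (p * t * p⁻¹) * p := by group
        _ = t * p := by rw [h]
    · right
      have h1 : (x₀⁻¹ * p) * t * (x₀⁻¹ * p)⁻¹ = t := by
        calc (x₀⁻¹ * p) * t * (x₀⁻¹ * p)⁻¹ = x₀⁻¹ * (p * t * p⁻¹) * x₀ := by group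
          _ = x₀⁻¹ * (z * t) * x₀ := by rw [h]
          _ = x₀⁻¹ * (x₀ * t * x₀⁻¹) * x₀ := by rw [hx₀t]
          _ = t := by group
      calc (x₀⁻¹ * p) * t = ((x₀⁻¹ * p) * t * (x₀⁻¹ * p)⁻¹) * (x₀⁻¹ * p) := by group
        _ = t * (x₀⁻¹ * p) := by rw [h1]
  -- Step 6: central elements
  have hcentral : ∀ d ∈ (P : Subgroup L), (∀ p ∈ (P : Subgroup L), p * d = d * p) →
      d = 1 ∨ d = z := by
    intro d hdP hdc
    by_contra hcon
    push Not at hcon
    obtain ⟨hd1, hdz⟩ := hcon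
    have hdd : d * d = 1 := hDsq d hdP (hdc t htP).symm
    obtain ⟨M, hMP, hMi, hdM⟩ := hfrat d hdP hd1 hdz
    obtain ⟨φ, hφ⟩ := extremal_transfer P M hMP hMi d hdd hdc (by
      intro n hn
      have hnP := hNP n hn
      have : n⁻¹ * d * n = d := by
        calc n⁻¹ * d * n = n⁻¹ * (d * n) := by group
          _ = n⁻¹ * (n * d) := by rw [hdc n hnP]
          _ = d := by group
      rw [this]
      exact hdM)
    rw [hperf φ d] at hφ
    exact absurd hφ (by decide)
  -- Step 7: `D = {1, z, t, z t}`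
  have hztcomm : z * t = t * z := (hPz t htP).symm
  have hD : ∀ e ∈ (P : Subgroup L), e * t = t * e → e = 1 ∨ e = z ∨ e = t ∨ e = z * t := by
    intro e he het
    -- elements of `D` commuting with `x₀` are central
    have key : ∀ e' ∈ (P : Subgroup L), e' * t = t * e' → x₀ * e' = e' * x₀ →
        e' = 1 ∨ e' = z := by
      intro e' he' he't he'x
      apply hcentral e' he'
      intro p hp
      rcases hcoset p hp with h | h
      · exact hDcomm p hp e' he' h he't
      · have h1 := hDcomm (x₀⁻¹ * p) (Subgroup.mul_mem _ (Subgroup.inv_mem _ hx₀P) hp) e' he' h he't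
        calc p * e' = x₀ * ((x₀⁻¹ * p) * e') := by group
          _ = x₀ * (e' * (x₀⁻¹ * p)) := by rw [h1]
          _ = (x₀ * e') * (x₀⁻¹ * p) := by group
          _ = (e' * x₀) * (x₀⁻¹ * p) := by rw [he'x]
          _ = e' * p := by group
    rcases hcomm x₀ hx₀P e he with h | h
    · have hxe : x₀ * e = e * x₀ := by
        calc x₀ * e = (x₀ * e * x₀⁻¹ * e⁻¹) * (e * x₀) := by group
          _ = e * x₀ := by rw [h, one_mul]
      rcases key e he het hxe with h1 | h1
      · exact Or.inl h1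
      · exact Or.inr (Or.inl h1)
    · -- `x₀ e x₀⁻¹ = z e`; then `e t` is central
      have hxe : x₀ * e * x₀⁻¹ = z * e := by
        calc x₀ * e * x₀⁻¹ = (x₀ * e * x₀⁻¹ * e⁻¹) * e := by group
          _ = z * e := by rw [h]
      have hetP : e * t ∈ (P : Subgroup L) := Subgroup.mul_mem _ he htP
      have hett : (e * t) * t = t * (e * t) := by
        calc (e * t) * t = e * (t * t) := by group
          _ = (t * t) * e := by rw [htt]; group
          _ = t * (t * e) := by group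
          _ = t * (e * t) := by rw [het]
      have hzeP : z * e = e * z := (hPz e he).symm
      have hxet : x₀ * (e * t) = (e * t) * x₀ := by
        have h1 : x₀ * (e * t) * x₀⁻¹ = e * t := by
          calc x₀ * (e * t) * x₀⁻¹ = (x₀ * e * x₀⁻¹) * (x₀ * t * x₀⁻¹) := by group
            _ = (z * e) * (z * t) := by rw [hxe, hx₀t]
            _ = (e * z) * (z * t) := by rw [hzeP]
            _ = e * (z * z) * t := by group
            _ = e * t := by rw [hzz, mul_one]
        calc x₀ * (e * t) = (x₀ * (e * t) * x₀⁻¹) * x₀ := by group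
          _ = (e * t) * x₀ := by rw [h1]
      rcases key (e * t) hetP hett hxet with h1 | h1
      · right; right; left
        calc e = (e * t) * t⁻¹ := by group
          _ = t := by rw [h1, one_mul, htinv]
      · right; right; right
        calc e = (e * t) * t⁻¹ := by group
          _ = z * t := by rw [h1, htinv]
  -- Step 9: an involution `x₁` outside `D`
  obtain ⟨x₁, hx₁P, hx₁t, hx₁x₁⟩ : ∃ x₁ ∈ (P : Subgroup L), x₁ * t * x₁⁻¹ = z * t ∧ x₁ * x₁ = 1 := by
    rcases hsq x₀ hx₀P with h | h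
    · exact ⟨x₀, hx₀P, hx₀t, h⟩
    · refine ⟨x₀ * t, Subgroup.mul_mem _ hx₀P htP, ?_, ?_⟩
      · calc x₀ * t * t * (x₀ * t)⁻¹ = x₀ * t * x₀⁻¹ := by group
          _ = z * t := hx₀t
      · calc x₀ * t * (x₀ * t) = (x₀ * t * x₀⁻¹) * (x₀ * x₀) * t := by group
          _ = (z * t) * z * t := by rw [hx₀t, h]
          _ = z * (t * z) * t := by group
          _ = z * (z * t) * t := by rw [hztcomm]
          _ = (z * z) * (t * t) := by group
          _ = 1 := by rw [hzz, htt, one_mul]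
  have hx₁inv : x₁⁻¹ = x₁ := inv_eq_of_mul_eq_one_left hx₁x₁
  have hx₁1 : x₁ ≠ 1 := by
    intro h
    rw [h] at hx₁t
    have : t = z * t := by simpa using hx₁t
    apply hz1
    calc z = (z * t) * t⁻¹ := by group
      _ = 1 := by rw [← this]; group
  have hx₁ne : x₁ ≠ t := by
    intro h
    rw [h] at hx₁t
    have : t = z * t := by
      calc t = t * t * t⁻¹ := by group
        _ = z * t := hx₁t
    apply hz1
    calc z = (z * t) * t⁻¹ := by group
      _ = 1 := by rw [← this]; group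
  -- `(x₁ t)² = z`
  have hsqz : (x₁ * t) * (x₁ * t) = z := by
    calc (x₁ * t) * (x₁ * t) = (x₁ * t * x₁⁻¹) * (x₁ * x₁) * t := by group
      _ = (z * t) * t := by rw [hx₁t, hx₁x₁, mul_one]
      _ = z * (t * t) := by group
      _ = z := by rw [htt, mul_one]
  have hord : orderOf (x₁ * t) = 4 := by
    have h1 : ¬ (x₁ * t) ^ 2 ^ 1 = 1 := by
      rw [pow_one, pow_two, hsqz]; exact hz1
    have h2 : (x₁ * t) ^ 2 ^ (1 + 1) = 1 := by
      have : (x₁ * t) ^ 2 ^ (1 + 1) = ((x₁ * t) * (x₁ * t)) * ((x₁ * t) * (x₁ * t)) := by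
        norm_num [pow_succ, mul_assoc]
      rw [this, hsqz, hzz]
    have := orderOf_eq_prime_pow h1 h2
    simpa using this
  refine ⟨x₁, t, hx₁x₁, hx₁1, htt, ht1, hx₁ne, hord, ?_⟩
  -- Step 11: generation
  apply le_antisymm
  · intro p hp
    have hx₁C : x₁ ∈ Subgroup.closure ({x₁, t} : Set L) := Subgroup.subset_closure (by simp)
    have htC : t ∈ Subgroup.closure ({x₁, t} : Set L) := Subgroup.subset_closure (by simp)
    have hzC : z ∈ Subgroup.closure ({x₁, t} : Set L) := by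
      rw [← hsqz]
      exact Subgroup.mul_mem _ (Subgroup.mul_mem _ hx₁C htC) (Subgroup.mul_mem _ hx₁C htC)
    have hDC : ∀ e ∈ (P : Subgroup L), e * t = t * e → e ∈ Subgroup.closure ({x₁, t} : Set L) := by
      intro e he het
      rcases hD e he het with h | h | h | h <;> rw [h]
      · exact Subgroup.one_mem _
      · exact hzC
      · exact htC
      · exact Subgroup.mul_mem _ hzC htC
    rcases hconj_t p hp with h | h
    · apply hDC p hp
      calc p * t = (p * t * p⁻¹) * p := by group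
        _ = t * p := by rw [h]
    · have h1 : (x₁⁻¹ * p) * t * (x₁⁻¹ * p)⁻¹ = t := by
        calc (x₁⁻¹ * p) * t * (x₁⁻¹ * p)⁻¹ = x₁⁻¹ * (p * t * p⁻¹) * x₁ := by group
          _ = x₁⁻¹ * (z * t) * x₁ := by rw [h]
          _ = x₁⁻¹ * (x₁ * t * x₁⁻¹) * x₁ := by rw [hx₁t]
          _ = t := by group
      have h2 : (x₁⁻¹ * p) * t = t * (x₁⁻¹ * p) := by
        calc (x₁⁻¹ * p) * t = ((x₁⁻¹ * p) * t * (x₁⁻¹ * p)⁻¹) * (x₁⁻¹ * p) := by group
          _ = t * (x₁⁻¹ * p) := by rw [h1]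
      have h3 := hDC _ (Subgroup.mul_mem _ (Subgroup.inv_mem _ hx₁P) hp) h2
      have e : p = x₁ * (x₁⁻¹ * p) := by group
      rw [e]
      exact Subgroup.mul_mem _ hx₁C h3
  · rw [Subgroup.closure_le]
    intro x hx
    rcases hx with rfl | hx
    · exact hx₁P
    · rw [Set.mem_singleton_iff] at hx
      rw [hx]; exact htP

end Cfsg.Agent.Helper90
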