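import Mathlib.GroupTheory.OrderOfElement
import Mathlib.GroupTheory.Sylow

set_option autoImplicit false

/-!
Elementary computations in the group generated by two involutions (copied from helper20's
`Cfsg/Agent/Helper20/Dihedral.lean`, renamed into this namespace so that this file is self-contained),
plus the odd-order case: two involutions whose product has odd order are conjugate.
-/

namespace Cfsg.Agent.Helper90

variable {G : Type*} [Group G]

theorem inv_eq_self_of_sq {x : G} (hx : x * x = 1) : x⁻¹ = x :=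
  inv_eq_of_mul_eq_one_right hx

/-- an involution conjugates the product `x * y` to its inverse -/
theorem inv_conj_mul {x y : G} (hx : x * x = 1) (hy : y * y = 1) :
    x * (x * y) * x = (x * y)⁻¹ := by
  rw [mul_inv_rev, inv_eq_self_of_sq hx, inv_eq_self_of_sq hy, ← mul_assoc, hx, one_mul]

theorem inv_conj_mul_pow {x y : G} (hx : x * x = 1) (hy : y * y = 1) (j : ℕ) :
    x * (x * y) ^ j * x = ((x * y) ^ j)⁻¹ := by
  have hx' : x⁻¹ = x := inv_eq_self_of_sq hx
  have h1 : x * (x * y) ^ j * x = (x * (x * y) * x⁻¹) ^ j := by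
    rw [conj_pow, hx']
  rw [h1, hx', inv_conj_mul hx hy, inv_pow]

theorem inv_conj_mul' {x y : G} (hx : x * x = 1) (hy : y * y = 1) :
    y * (x * y) * y = (x * y)⁻¹ := by
  rw [mul_inv_rev, inv_eq_self_of_sq hx, inv_eq_self_of_sq hy, mul_assoc, mul_assoc, hy, mul_one]

theorem inv_conj_mul_pow' {x y : G} (hx : x * x = 1) (hy : y * y = 1) (j : ℕ) :
    y * (x * y) ^ j * y = ((x * y) ^ j)⁻¹ := by
  have hy' : y⁻¹ = y := inv_eq_self_of_sq hy
  have h1 : y * (x * y) ^ j * y = (y * (x * y) * y⁻¹) ^ j := by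
    rw [conj_pow, hy']
  rw [h1, hy', inv_conj_mul' hx hy, inv_pow]

/-- if the involution `y` inverts `a` then `a y a⁻¹ = a a y` -/
theorem conj_of_inverts {a y : G} (hy : y * y = 1) (h : y * a * y = a⁻¹) :
    a * y * a⁻¹ = a * a * y := by
  rw [← h]
  simp only [mul_assoc]
  rw [← mul_assoc y y, hy, one_mul]

/-- conjugating `x` by `(x*y)^j` gives `(x*y)^(2j) * x` -/
theorem pow_conj_left {x y : G} (hx : x * x = 1) (hy : y * y = 1) (j : ℕ) :
    (x * y) ^ j * x * ((x * y) ^ j)⁻¹ = (x * y) ^ (2 * j) * x := by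
  rw [conj_of_inverts hx (inv_conj_mul_pow hx hy j), two_mul, pow_add]

/-- conjugating `y` by `(x*y)^(j+1)` gives `(x*y)^(2j+1) * x` -/
theorem pow_conj_right {x y : G} (hx : x * x = 1) (hy : y * y = 1) (j : ℕ) :
    (x * y) ^ (j + 1) * y * ((x * y) ^ (j + 1))⁻¹ = (x * y) ^ (2 * j + 1) * x := by
  rw [conj_of_inverts hy (inv_conj_mul_pow' hx hy (j + 1)), ← pow_add]
  have e : j + 1 + (j + 1) = (2 * j + 1) + 1 := by ring
  rw [e, pow_succ (x * y) (2 * j + 1)]
  simp only [mul_assoc]
  rw [hy, mul_one]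

/-- The "middle" element of the dihedral group generated by two involutions whose product has
even order `2k`: `w = (x*y)^k * x` is conjugate to `x` or to `y`, commutes with `x`, differs from `x`,
and `x * w = (x*y)^k` (up to inversion, which does not matter as this is an involution). -/
theorem dihedral_middle {x y : G} (hx : x * x = 1) (hy : y * y = 1) {k : ℕ} (hk : 0 < k)
    (hord : orderOf (x * y) = 2 * k) :
    ((∃ c : G, c * x * c⁻¹ = (x * y) ^ k * x) ∨ (∃ c : G, c * y * c⁻¹ = (x * y) ^ k * x)) ∧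
    (x * y) ^ k * x ≠ x ∧ Commute x ((x * y) ^ k * x) ∧ ((x * y) ^ k * x) * x = (x * y) ^ k ∧
    ((x * y) ^ k) * ((x * y) ^ k) = 1 ∧ (x * y) ^ k ≠ 1 := by
  have hsq : ((x * y) ^ k) * ((x * y) ^ k) = 1 := by
    rw [← pow_add, ← two_mul, ← hord, pow_orderOf_eq_one]
  have hne : (x * y) ^ k ≠ 1 := by
    intro h
    have := orderOf_dvd_of_pow_eq_one h
    rw [hord] at this
    have := Nat.le_of_dvd hk this
    omega
  refine ⟨?_, ?_, ?_, ?_, hsq, hne⟩
  · rcases Nat.even_or_odd' k with ⟨j, rfl | rfl⟩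
    · left
      exact ⟨(x * y) ^ j, pow_conj_left hx hy j⟩
    · right
      exact ⟨(x * y) ^ (j + 1), pow_conj_right hx hy j⟩
  · intro h
    apply hne
    have := mul_right_cancel (h.trans (one_mul x).symm)
    exact this
  · have h := inv_conj_mul_pow hx hy k
    have hinv : ((x * y) ^ k)⁻¹ = (x * y) ^ k := inv_eq_self_of_sq hsq
    rw [hinv] at h
    -- x * u^k * x = u^k
    show x * ((x * y) ^ k * x) = (x * y) ^ k * x * x
    rw [← mul_assoc, h, mul_assoc, hx, mul_one]
  · rw [mul_assoc, hx, mul_one]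



/-- Two involutions whose product has odd order are conjugate. -/
theorem conj_of_odd_order {x y : G} (hx : x * x = 1) (hy : y * y = 1) {k : ℕ}
    (hord : orderOf (x * y) = 2 * k + 1) : ∃ c : G, c * y * c⁻¹ = x := by
  refine ⟨(x * y) ^ (k + 1), ?_⟩
  rw [pow_conj_right hx hy k, ← hord, pow_orderOf_eq_one, one_mul]

end Cfsg.Agent.Helper90
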