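import Mathlib

set_option autoImplicit false

/-!
The automorphism group of a finite elementary abelian 2-group of order `2 ^ n` is `GL_n(2)`.
-/

namespace Cfsg.Agent.Helper90

/-- The automorphism group of a finite group of exponent two and order `2 ^ n` is isomorphic to
`GL (Fin n) (ZMod 2)`. -/
theorem mulAut_equiv_GL_two {H : Type*} [Group H] [Finite H] (hcomm : ∀ a b : H, a * b = b * a)
    (hsq : ∀ a : H, a * a = 1) (n : ℕ) (hcard : Nat.card H = 2 ^ n) :
    Nonempty (MulAut H ≃* Matrix.GeneralLinearGroup (Fin n) (ZMod 2)) := by
  classical
  letI : CommGroup H := { (inferInstance : Group H) with mul_comm := hcomm }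
  letI : Module (ZMod 2) (Additive H) := AddCommGroup.zmodModule (n := 2) (by
    intro x
    induction x using Additive.rec with
    | ofMul a =>
      rw [two_nsmul, ← ofMul_mul, hsq]
      rfl)
  haveI : Fact (Nat.Prime 2) := ⟨Nat.prime_two⟩
  haveI : Finite (Additive H) := inferInstanceAs (Finite H)
  haveI : Module.Finite (ZMod 2) (Additive H) := Module.Finite.of_finite
  have hfr : Module.finrank (ZMod 2) (Additive H) = n := by
    have h1 : Nat.card (Additive H) = Nat.card (ZMod 2) ^ Module.finrank (ZMod 2) (Additive H) :=
      Module.natCard_eq_pow_finrank
    have h2 : Nat.card (Additive H) = 2 ^ n := hcard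
    have h3 : Nat.card (ZMod 2) = 2 := by simp
    rw [h2, h3] at h1
    exact (Nat.pow_right_injective (le_refl 2) h1).symm
  let b : Module.Basis (Fin n) (ZMod 2) (Additive H) := Module.finBasisOfFinrankEq (ZMod 2) (Additive H) hfr
  -- step 1: MulAut H ≃* (Additive H ≃ₗ[ZMod 2] Additive H)
  let e1 : MulAut H ≃* (Additive H ≃ₗ[ZMod 2] Additive H) :=
    { toFun := fun φ =>
        { toFun := fun x => Additive.ofMul (φ x.toMul)
          invFun := fun x => Additive.ofMul (φ.symm x.toMul)
          left_inv := fun x => by simp
          right_inv := fun x => by simp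
          map_add' := fun x y => by simp
          map_smul' := fun c x => by
            have key : ∀ (f : Additive H →+ Additive H) (c : ZMod 2) (x : Additive H),
                f (c • x) = c • f x := fun f c x => ZMod.map_smul f c x
            exact key
              { toFun := fun x => Additive.ofMul (φ x.toMul)
                map_zero' := by simp
                map_add' := fun x y => by simp } c x }
      invFun := fun f =>
        { toFun := fun a => (f (Additive.ofMul a)).toMul
          invFun := fun a => (f.symm (Additive.ofMul a)).toMul
          left_inv := fun a => by simp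
          right_inv := fun a => by simp
          map_mul' := fun a b => by
            rw [ofMul_mul, map_add, toMul_add] }
      left_inv := fun φ => by
        ext a
        rfl
      right_inv := fun f => by
        ext x
        rfl
      map_mul' := fun φ ψ => by
        ext x
        rfl }
  let e2 : (Additive H ≃ₗ[ZMod 2] Additive H) ≃* LinearMap.GeneralLinearGroup (ZMod 2) (Additive H) :=
    (LinearMap.GeneralLinearGroup.generalLinearEquiv (ZMod 2) (Additive H)).symm
  let e3 : LinearMap.GeneralLinearGroup (ZMod 2) (Additive H) ≃* Matrix.GeneralLinearGroup (Fin n) (ZMod 2) :=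
    Units.mapEquiv (LinearMap.toMatrixAlgEquiv b).toMulEquiv
  exact ⟨(e1.trans e2).trans e3⟩

end Cfsg.Agent.Helper90
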