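import Mathlib
import Cfsg.Prelude.Def_MonsterType
import Cfsg.Agent.Helper90.EsTransfer
import Cfsg.Agent.Lib.Cores

set_option autoImplicit false

/-!
Set-up lemmas for transfer arguments in a group `G = O^2(G)` with an involution `z` such that
`E = O_2(C_G(z))` is extraspecial and self-centralizing.
-/

namespace Cfsg.Agent.Helper90

open Cfsg

variable {G : Type*} [Group G]

/-- An involution of `Q` outside a subgroup `K` meeting `Q` in a subgroup of index two. -/
theorem ExtraData.exists_invol_not_mem [Finite G] {Q : Subgroup G} {z : G} (hE : ExtraData Q z)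
    (hcard : 32 ≤ Nat.card ↥Q) (K : Subgroup G)
    (hidx : ∀ a ∈ Q, ∀ b ∈ Q, (a * b ∈ K ↔ (a ∈ K ↔ b ∈ K)))
    (e : G) (heQ : e ∈ Q) (heK : e ∉ K) : ∃ u ∈ Q, u ∉ K ∧ u * u = 1 := by
  by_contra hcon
  push Not at hcon
  have hsq : ∀ q ∈ Q, q ∉ K → q * q = z := by
    intro q hq hqK
    rcases hE.sq_mem hq with h | h
    · exact absurd h (hcon q hq hqK)
    · exact h
  have hinvK : ∀ q ∈ Q, q ∉ K → e⁻¹ * q ∈ K := by
    intro q hq hqK
    rw [hidx _ (Q.inv_mem heQ) q hq, inv_mem_iff]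
    exact iff_of_false heK hqK
  -- conjugation by `e` inverts `Q ∩ K`
  have hinv : ∀ m ∈ Q, m ∈ K → e * m * e⁻¹ = m⁻¹ := by
    intro m hm hmK
    have h1 : e * m ∉ K := by
      rw [hidx e heQ m hm]
      intro h
      exact heK (h.mpr hmK)
    have h2 := hsq (e * m) (Q.mul_mem heQ hm) h1
    have h3 := hsq e heQ heK
    have h4 : m * e * m = e := by
      calc m * e * m = e⁻¹ * ((e * m) * (e * m)) := by group
        _ = e⁻¹ * (e * e) := by rw [h2, h3]
        _ = e := by group
    calc e * m * e⁻¹ = m⁻¹ * (m * e * m) * e⁻¹ := by group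
      _ = m⁻¹ := by rw [h4]; group
  -- `Q ∩ K` is commutative
  have hab : ∀ m ∈ Q, m ∈ K → ∀ m' ∈ Q, m' ∈ K → m * m' = m' * m := by
    intro m hm hmK m' hm' hm'K
    have h1 := hinv m hm hmK
    have h2 := hinv m' hm' hm'K
    have h3 := hinv (m * m') (Q.mul_mem hm hm') (K.mul_mem hmK hm'K)
    have h4 : m⁻¹ * m'⁻¹ = m'⁻¹ * m⁻¹ := by
      calc m⁻¹ * m'⁻¹ = (e * m * e⁻¹) * (e * m' * e⁻¹) := by rw [h1, h2]
        _ = e * (m * m') * e⁻¹ := by group
        _ = (m * m')⁻¹ := h3
        _ = m'⁻¹ * m⁻¹ := by group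
    calc m * m' = (m'⁻¹ * m⁻¹)⁻¹ := by group
      _ = (m⁻¹ * m'⁻¹)⁻¹ := by rw [h4]
      _ = m' * m := by group
  by_cases hex : ∃ a ∈ Q, a ∈ K ∧ a ≠ 1 ∧ a ≠ z
  · obtain ⟨a, haQ, haK, ha1, haz⟩ := hex
    obtain ⟨y, hyQ, hya⟩ := hE.exists_conj_inv haQ ha1 haz
    -- the centralizer of `a` in `Q` lies in `K`
    have hCK : ∀ p ∈ Q, p * a = a * p → p ∈ K := by
      intro p hp hpa
      by_contra hpK
      have hall : ∀ q ∈ Q, q * a = a * q := by
        intro q hq
        by_cases hqK : q ∈ K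
        · exact hab q hq hqK a haQ haK
        · have h1 : p⁻¹ * q ∈ K := by
            rw [hidx _ (Q.inv_mem hp) q hq, inv_mem_iff]
            exact iff_of_false hpK hqK
          have h2 := hab (p⁻¹ * q) (Q.mul_mem (Q.inv_mem hp) hq) h1 a haQ haK
          calc q * a = p * ((p⁻¹ * q) * a) := by group
            _ = p * (a * (p⁻¹ * q)) := by rw [h2]
            _ = (p * a) * (p⁻¹ * q) := by group
            _ = (a * p) * (p⁻¹ * q) := by rw [hpa]
            _ = a * q := by group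
      rcases hE.cen a haQ hall with h | h
      · exact ha1 h
      · exact haz h
    have hQ0 : ∀ v ∈ Q, v ∈ K → v = 1 ∨ v = z ∨ v = a ∨ v = z * a := by
      intro v hv hvK
      apply hE.double_centralizer' haQ hyQ hya hv
      intro p hp hpa
      exact hab v hv hvK p hp (hCK p hp hpa)
    have h8 : Nat.card ↥Q ≤ 8 := by
      apply card_le_eight_of_forall Q e a z
      intro q hq
      by_cases hqK : q ∈ K
      · left; exact hQ0 q hq hqK
      · right; exact hQ0 _ (Q.mul_mem (Q.inv_mem heQ) hq) (hinvK q hq hqK)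
    omega
  · push Not at hex
    have hQ0 : ∀ v ∈ Q, v ∈ K → v = 1 ∨ v = z ∨ v = 1 ∨ v = z * 1 := by
      intro v hv hvK
      by_cases h1 : v = 1
      · exact Or.inl h1
      · right; left
        exact hex v hv hvK h1
    have h8 : Nat.card ↥Q ≤ 8 := by
      apply card_le_eight_of_forall Q e 1 z
      intro q hq
      by_cases hqK : q ∈ K
      · left; exact hQ0 q hq hqK
      · right; exact hQ0 _ (Q.mul_mem (Q.inv_mem heQ) hq) (hinvK q hq hqK)
    omega

/-- Every homomorphism to `ℤˣ` is trivial when `O^2(G) = G`. -/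
theorem hom_units_trivial_of_pResidual (hres : Cfsg.pResidual 2 G = ⊤) (φ : G →* ℤˣ) (g : G) :
    φ g = 1 := by
  have hg : g ∈ Cfsg.pResidual 2 G := by rw [hres]; trivial
  unfold Cfsg.pResidual at hg
  induction hg using Subgroup.closure_induction with
  | mem x hx =>
    have hodd : Odd (orderOf x) := Nat.Coprime.odd_of_right hx
    obtain ⟨k, hk⟩ := hodd
    have h1 : φ x ^ orderOf x = 1 := by rw [← map_pow, pow_orderOf_eq_one, map_one]
    have h2 : φ x ^ 2 = 1 := by rw [pow_two]; exact Int.units_mul_self _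
    rw [hk, pow_succ, pow_mul, h2, one_pow, one_mul] at h1
    exact h1
  | one => exact map_one φ
  | mul x y _ _ hx hy => rw [map_mul, hx, hy, one_mul]
  | inv x _ hx => rw [map_inv, hx, inv_one]

/-- In an index-two subgroup `K` of `H`, products behave as in `ZMod 2`. -/
theorem mul_mem_iff_of_relIndex_two {H K : Subgroup G} (hKi : K.relIndex H = 2) :
    ∀ a ∈ H, ∀ b ∈ H, (a * b ∈ K ↔ (a ∈ K ↔ b ∈ K)) := by
  intro a ha b hb
  have h := Subgroup.mul_mem_iff_of_index_two (H := K.subgroupOf H) hKi (a := ⟨a, ha⟩) (b := ⟨b, hb⟩)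
  simpa [Subgroup.mem_subgroupOf] using h

/-- Commutators of `H` lie in an index-two subgroup `K`. -/
theorem comm_mem_of_relIndex_two {H K : Subgroup G} (hKi : K.relIndex H = 2) :
    ∀ a ∈ H, ∀ b ∈ H, a * b * a⁻¹ * b⁻¹ ∈ K := by
  intro a ha b hb
  have h := mul_mem_iff_of_relIndex_two hKi
  have e : a * b * a⁻¹ * b⁻¹ = (a * b) * (a⁻¹ * b⁻¹) := by group
  rw [e, h _ (H.mul_mem ha hb) _ (H.mul_mem (H.inv_mem ha) (H.inv_mem hb)), h a ha b hb,
    h _ (H.inv_mem ha) _ (H.inv_mem hb), inv_mem_iff, inv_mem_iff]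

/-- The set-up: `E = O_2(C_G(z))` extraspecial with `C_G(E) ≤ E`. -/
theorem es_setup [Finite G] (z : G) (hz : orderOf z = 2) (E : Subgroup G)
    (hE : E = (Cfsg.pCore 2 ↥(Subgroup.centralizer ({z} : Set G))).map
      (Subgroup.centralizer ({z} : Set G)).subtype)
    (hext : Cfsg.IsExtraspecial 2 ↥E) (hcent : Subgroup.centralizer (E : Set G) ≤ E) :
    ExtraData E z ∧ E ≤ Subgroup.centralizer ({z} : Set G) ∧
      Subgroup.centralizer ({z} : Set G) ≤ Subgroup.normalizer (E : Set G) ∧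
      (∀ y : G, (∀ q ∈ E, q * y = y * q) → y = 1 ∨ y = z) ∧
      Odd (Subgroup.centralizer ({z} : Set G)).index := by
  classical
  have : Fact (Nat.Prime 2) := ⟨Nat.prime_two⟩
  have hz1 : z ≠ 1 := by
    intro h
    rw [h, orderOf_one] at hz
    omega
  have hzH : z ∈ Subgroup.centralizer ({z} : Set G) := Subgroup.mem_centralizer_singleton_iff.mpr rfl
  have hEH : E ≤ Subgroup.centralizer ({z} : Set G) := by
    rw [hE]; exact Subgroup.map_subtype_le _
  have hEz : ∀ q ∈ E, q * z = z * q := fun q hq => Subgroup.mem_centralizer_singleton_iff.mp (hEH hq)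
  -- `z ∈ E`
  have hzE : z ∈ E := by
    rw [hE]
    refine ⟨⟨z, hzH⟩, ?_, rfl⟩
    have hn : (Subgroup.zpowers (⟨z, hzH⟩ : ↥(Subgroup.centralizer ({z} : Set G)))).Normal := by
      have hc : (⟨z, hzH⟩ : ↥(Subgroup.centralizer ({z} : Set G))) ∈
          Subgroup.center ↥(Subgroup.centralizer ({z} : Set G)) := by
        rw [Subgroup.mem_center_iff]
        intro h
        apply Subtype.ext
        exact Subgroup.mem_centralizer_singleton_iff.mp h.2
      have hle : Subgroup.zpowers (⟨z, hzH⟩ : ↥(Subgroup.centralizer ({z} : Set G))) ≤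
          Subgroup.center ↥(Subgroup.centralizer ({z} : Set G)) := Subgroup.zpowers_le.mpr hc
      exact ⟨fun n hn g => by
        have := (Subgroup.mem_center_iff.mp (hle hn)) g
        rw [this, mul_inv_cancel_right]
        exact hn⟩
    have hp : IsPGroup 2 (Subgroup.zpowers (⟨z, hzH⟩ : ↥(Subgroup.centralizer ({z} : Set G)))) := by
      apply IsPGroup.of_card (n := 1)
      rw [Nat.card_zpowers, Subgroup.orderOf_mk, hz, pow_one]
    exact Cfsg.Agent.Lib.le_pCore hn hp (Subgroup.mem_zpowers _)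
  -- `ExtraData`
  have hED : ExtraData E z := by
    obtain ⟨z', hE'⟩ := exists_extraData hext
    rcases hE'.cen z hzE hEz with h | h
    · exact absurd h hz1
    · rw [h]; exact hE'
  -- normality
  have hHN : Subgroup.centralizer ({z} : Set G) ≤ Subgroup.normalizer (E : Set G) := by
    intro h hh
    apply mem_normalizer_of_conj_mem
    intro x hx
    rw [hE] at hx ⊢
    obtain ⟨x', hx', rfl⟩ := hx
    have hn : (Cfsg.pCore 2 ↥(Subgroup.centralizer ({z} : Set G))).Normal :=
      Subgroup.normal_of_characteristic _ (h := Cfsg.Agent.Lib.pCore_characteristic 2)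
    exact ⟨⟨h, hh⟩ * x' * ⟨h, hh⟩⁻¹, hn.conj_mem x' hx' ⟨h, hh⟩, by simp⟩
  have hC : ∀ y : G, (∀ q ∈ E, q * y = y * q) → y = 1 ∨ y = z := by
    intro y hy
    have h1 : y ∈ Subgroup.centralizer (E : Set G) := Subgroup.mem_centralizer_iff.mpr hy
    exact hED.cen y (hcent h1) hy
  refine ⟨hED, hEH, hHN, hC, ?_⟩
  -- odd index
  obtain ⟨P, hEP⟩ := IsPGroup.exists_le_sylow (isPGroup_of_isExtraspecial hext)
  have hzP : z ∈ (P : Subgroup G) := hEP hzE
  have hnt : Nontrivial ↥(P : Subgroup G) :=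
    ⟨⟨⟨z, hzP⟩, 1, fun h => hz1 (congrArg Subtype.val h)⟩⟩
  have hcn := IsPGroup.center_nontrivial P.2
  obtain ⟨c, hc1⟩ := exists_ne (1 : ↥(Subgroup.center ↥(P : Subgroup G)))
  have hcP : ∀ p ∈ (P : Subgroup G), p * ((c : ↥(P : Subgroup G)) : G) =
      ((c : ↥(P : Subgroup G)) : G) * p := by
    intro p hp
    have := Subgroup.mem_center_iff.mp c.2 ⟨p, hp⟩
    exact congrArg Subtype.val this
  have hcz : ((c : ↥(P : Subgroup G)) : G) = z := by
    rcases hC _ (fun q hq => hcP q (hEP hq)) with h | h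
    · exfalso
      apply hc1
      apply Subtype.ext
      apply Subtype.ext
      exact h
    · exact h
  have hPH : (P : Subgroup G) ≤ Subgroup.centralizer ({z} : Set G) := by
    intro p hp
    rw [Subgroup.mem_centralizer_singleton_iff, ← hcz]
    exact hcP p hp
  have hdvd : (Subgroup.centralizer ({z} : Set G)).index ∣ (P : Subgroup G).index :=
    Subgroup.index_dvd_of_le hPH
  rw [← Nat.not_even_iff_odd, even_iff_two_dvd]
  intro h2
  exact P.not_dvd_index (h2.trans hdvd)

end Cfsg.Agent.Helper90
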