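import Mathlib

set_option autoImplicit false

/-!
Four-subgroups of groups with a cyclic subgroup of index two (dihedral, quasi-dihedral) are self-centralizing.
-/

namespace Cfsg.Agent.Helper90

/-- a cyclic group has at most one element of order two (elementwise form, no finiteness of the ambient group) -/
theorem cyclic_sq_one_unique {D : Type*} [Group D] {x a b : D} (hx : IsOfFinOrder x)
    (ha : a ∈ Subgroup.zpowers x) (hb : b ∈ Subgroup.zpowers x) (ha2 : a * a = 1) (hb2 : b * b = 1)
    (ha1 : a ≠ 1) (hb1 : b ≠ 1) : a = b := by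
  classical
  by_contra hab
  haveI : Finite (Subgroup.zpowers x) := Nat.finite_of_card_ne_zero (by
      rw [Nat.card_zpowers]; exact (orderOf_pos_iff.mpr hx).ne')
  have : Fintype (Subgroup.zpowers x) := Fintype.ofFinite _
  have hle := IsCyclic.card_pow_eq_one_le (α := Subgroup.zpowers x) (n := 2) (by norm_num)
  set A : Subgroup.zpowers x := ⟨a, ha⟩ with hA
  set B : Subgroup.zpowers x := ⟨b, hb⟩ with hB
  have hA2 : A ^ 2 = 1 := by
    apply Subtype.ext
    simp only [hA, Subgroup.coe_pow, Subgroup.coe_one]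
    rw [pow_two]; exact ha2
  have hB2 : B ^ 2 = 1 := by
    apply Subtype.ext
    simp only [hB, Subgroup.coe_pow, Subgroup.coe_one]
    rw [pow_two]; exact hb2
  have hA1 : A ≠ 1 := fun h => ha1 (congrArg Subtype.val h)
  have hB1 : B ≠ 1 := fun h => hb1 (congrArg Subtype.val h)
  have hAB : A ≠ B := fun h => hab (congrArg Subtype.val h)
  have hsub : ({1, A, B} : Finset (Subgroup.zpowers x)) ⊆
      Finset.univ.filter (fun y : Subgroup.zpowers x => y ^ 2 = 1) := by
    intro y hy
    simp only [Finset.mem_insert, Finset.mem_singleton] at hy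
    simp only [Finset.mem_filter, Finset.mem_univ, true_and]
    rcases hy with rfl | rfl | rfl
    · exact one_pow 2
    · exact hA2
    · exact hB2
  have hcard : ({1, A, B} : Finset (Subgroup.zpowers x)).card = 3 := by
    rw [Finset.card_insert_of_notMem, Finset.card_insert_of_notMem, Finset.card_singleton]
    · simpa using hAB
    · simp only [Finset.mem_insert, Finset.mem_singleton, not_or]
      exact ⟨fun h => hA1 h.symm, fun h => hB1 h.symm⟩
  have := Finset.card_le_card hsub
  omega

/-- Let `N = ⟨x⟩` be a cyclic subgroup of index two of `D` such that the only elements of `N` commuting with some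
element outside `N` are of order at most two. If `V` is a subgroup of exponent two with at least three elements,
then every element centralizing `V` lies in `V`. -/
theorem four_self_centralizing {D : Type*} [Group D] {x : D} (hx : IsOfFinOrder x)
    (hidx : (Subgroup.zpowers x).index = 2)
    (hN : ∀ d : D, d ∉ Subgroup.zpowers x → ∀ c ∈ Subgroup.zpowers x, c * d = d * c → c * c = 1)
    (V : Subgroup D) (hV2 : ∀ v ∈ V, v * v = 1)
    (hV3 : ∃ a ∈ V, ∃ b ∈ V, a ≠ 1 ∧ b ≠ 1 ∧ a ≠ b)
    (c : D) (hc : ∀ v ∈ V, c * v = v * c) : c ∈ V := by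
  set N := Subgroup.zpowers x with hNdef
  have hmul : ∀ a b : D, a * b ∈ N ↔ (a ∈ N ↔ b ∈ N) := fun a b =>
    Subgroup.mul_mem_iff_of_index_two hidx
  obtain ⟨a, haV, b, hbV, ha1, hb1, hab⟩ := hV3
  -- an element d of V outside N
  obtain ⟨d, hdV, hdN⟩ : ∃ d ∈ V, d ∉ N := by
    by_contra hcon
    push_neg at hcon
    exact hab (cyclic_sq_one_unique hx (hcon a haV) (hcon b hbV) (hV2 a haV) (hV2 b hbV) ha1 hb1)
  have hd1 : d ≠ 1 := fun h => hdN (h ▸ N.one_mem)
  have hdd : d * d = 1 := hV2 d hdV
  have hdinv : d⁻¹ = d := inv_eq_of_mul_eq_one_left hdd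
  -- an element u ≠ 1 of V inside N
  obtain ⟨u, huV, huN, hu1⟩ : ∃ u ∈ V, u ∈ N ∧ u ≠ 1 := by
    -- pick e ∈ V \ {1, d}
    obtain ⟨e, heV, he1, hed⟩ : ∃ e ∈ V, e ≠ 1 ∧ e ≠ d := by
      by_cases had : a = d
      · refine ⟨b, hbV, hb1, fun h => hab ?_⟩
        rw [had, h]
      · exact ⟨a, haV, ha1, had⟩
    by_cases heN : e ∈ N
    · exact ⟨e, heV, heN, he1⟩
    · refine ⟨e * d, V.mul_mem heV hdV, ?_, ?_⟩
      · rw [hmul]
        exact ⟨fun h => absurd h heN, fun h => absurd h hdN⟩
      · intro h
        apply hed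
        calc e = (e * d) * d⁻¹ := by group
          _ = d := by rw [h, hdinv, one_mul]
  have huu : u * u = 1 := hV2 u huV
  by_cases hcN : c ∈ N
  · have hcc : c * c = 1 := hN d hdN c hcN (hc d hdV)
    by_cases hc1 : c = 1
    · rw [hc1]; exact V.one_mem
    · have := cyclic_sq_one_unique hx hcN huN hcc huu hc1 hu1
      rw [this]; exact huV
  · have hcdN : c * d ∈ N := by
      rw [hmul]
      exact ⟨fun h => absurd h hcN, fun h => absurd h hdN⟩
    have hcomm : (c * d) * d = d * (c * d) := by
      have := hc d hdV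
      calc (c * d) * d = (d * c) * d := by rw [this]
        _ = d * (c * d) := by group
    have hsq : (c * d) * (c * d) = 1 := hN d hdN (c * d) hcdN hcomm
    by_cases h1 : c * d = 1
    · have : c = d⁻¹ := eq_inv_of_mul_eq_one_left h1
      rw [this, hdinv]; exact hdV
    · have h2 := cyclic_sq_one_unique hx hcdN huN hsq huu h1 hu1
      have : c = u * d := by
        calc c = (c * d) * d⁻¹ := by group
          _ = u * d := by rw [h2, hdinv]
      rw [this]; exact V.mul_mem huV hdV

end Cfsg.Agent.Helper90
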