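import Mathlib
import Cfsg.Agent.Helper90.ElemGL

set_option autoImplicit false

/-!
A subgroup `M` acting faithfully by conjugation on an elementary abelian 2-group `U` of order `2 ^ n`, with
`|M| ≥ |GL_n(2)|`, induces every automorphism of `U`.
-/

namespace Cfsg.Agent.Helper90

/-- Conjugation by an element normalizing `U`, as an automorphism of `U`. -/
def conjAutOf {G : Type*} [Group G] (U : Subgroup G) (m : G) (hm : ∀ u ∈ U, m * u * m⁻¹ ∈ U)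
    (hm' : ∀ u ∈ U, m⁻¹ * u * m ∈ U) : ↥U ≃* ↥U where
  toFun u := ⟨m * u * m⁻¹, hm u u.2⟩
  invFun u := ⟨m⁻¹ * u * m, hm' u u.2⟩
  left_inv u := by
    apply Subtype.ext
    show m⁻¹ * (m * (u : G) * m⁻¹) * m = u
    group
  right_inv u := by
    apply Subtype.ext
    show m * (m⁻¹ * (u : G) * m) * m⁻¹ = u
    group
  map_mul' u v := by
    apply Subtype.ext
    show m * ((u : G) * (v : G)) * m⁻¹ = (m * u * m⁻¹) * (m * v * m⁻¹)
    group

theorem conjAutOf_apply {G : Type*} [Group G] (U : Subgroup G) (m : G)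
    (hm : ∀ u ∈ U, m * u * m⁻¹ ∈ U) (hm' : ∀ u ∈ U, m⁻¹ * u * m ∈ U) (u : ↥U) :
    ((conjAutOf U m hm hm' u : ↥U) : G) = m * u * m⁻¹ := rfl

theorem full_of_card_le {G : Type*} [Group G] (U M : Subgroup G)
    (hnorm : ∀ m ∈ M, ∀ u ∈ U, m * u * m⁻¹ ∈ U)
    (faith : ∀ m ∈ M, (∀ u ∈ U, m * u * m⁻¹ = u) → m = 1)
    (Ucomm : ∀ u ∈ U, ∀ v ∈ U, u * v = v * u) (Usq : ∀ u ∈ U, u * u = 1)
    (n : ℕ) (hU : Nat.card ↥U = 2 ^ n)
    (hM : Nat.card (Matrix.GeneralLinearGroup (Fin n) (ZMod 2)) ≤ Nat.card ↥M) :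
    ∀ φ : ↥U ≃* ↥U, ∃ m ∈ M, ∀ u : ↥U, ((φ u : ↥U) : G) = m * u * m⁻¹ := by
  haveI : Finite ↥U := Nat.finite_of_card_ne_zero (by rw [hU]; positivity)
  have hnorm' : ∀ m ∈ M, ∀ u ∈ U, m⁻¹ * u * m ∈ U := by
    intro m hm u hu
    have := hnorm m⁻¹ (M.inv_mem hm) u hu
    rwa [inv_inv] at this
  let F : ↥M → (↥U ≃* ↥U) := fun m => conjAutOf U (m : G) (hnorm m m.2) (hnorm' m m.2)
  have hF : ∀ (m : ↥M) (u : ↥U), ((F m u : ↥U) : G) = (m : G) * u * (m : G)⁻¹ := fun m u => rfl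
  have hinj : Function.Injective F := by
    intro a b hab
    have h1 : ∀ u ∈ U, ((b : G)⁻¹ * a) * u * ((b : G)⁻¹ * a)⁻¹ = u := by
      intro u hu
      have h2 := congrArg (fun φ : ↥U ≃* ↥U => ((φ ⟨u, hu⟩ : ↥U) : G)) hab
      simp only [hF] at h2
      calc ((b : G)⁻¹ * a) * u * ((b : G)⁻¹ * a)⁻¹
          = (b : G)⁻¹ * ((a : G) * u * (a : G)⁻¹) * b := by group
        _ = (b : G)⁻¹ * ((b : G) * u * (b : G)⁻¹) * b := by rw [h2]
        _ = u := by group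
    have h3 := faith _ (M.mul_mem (M.inv_mem b.2) a.2) h1
    apply Subtype.ext
    calc (a : G) = (b : G) * ((b : G)⁻¹ * a) := by group
      _ = b := by rw [h3, mul_one]
  have hcomm : ∀ a b : ↥U, a * b = b * a := fun a b => Subtype.ext (Ucomm a a.2 b b.2)
  have hsq : ∀ a : ↥U, a * a = 1 := fun a => Subtype.ext (Usq a a.2)
  obtain ⟨e⟩ := mulAut_equiv_GL_two hcomm hsq n hU
  have hcard : Nat.card (↥U ≃* ↥U) ≤ Nat.card ↥M := by
    have h1 : Nat.card (↥U ≃* ↥U)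
        = Nat.card (Matrix.GeneralLinearGroup (Fin n) (ZMod 2)) := Nat.card_congr e.toEquiv
    rw [h1]
    exact hM
  haveI : Finite (↥U ≃* ↥U) := Finite.of_injective _ e.injective
  have hbij := Function.Injective.bijective_of_nat_card_le hinj hcard
  intro φ
  obtain ⟨mm, hmm⟩ := hbij.2 φ
  refine ⟨mm, mm.2, fun u => ?_⟩
  rw [← hmm]
  rfl

end Cfsg.Agent.Helper90
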