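import Mathlib
import Cfsg.Agent.Helper89.HeisTwo

set_option autoImplicit false

/-!
Automorphisms of the group `HeisTwo β` (non-degenerate polar form): the induced linear
automorphism of `W`, which preserves the quadratic form `w ↦ β w w`.
-/

namespace Cfsg.Agent.Helper90

open Cfsg.Agent.Helper89 Cfsg.Agent.Helper89.HeisTwo

variable {W : Type} [AddCommGroup W] [Module (ZMod 2) W] {β : LinearMap.BilinForm (ZMod 2) W}

theorem zmod2_cases (a : ZMod 2) : a = 0 ∨ a = 1 := by
  revert a; decide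

/-- Automorphisms preserve the centre. -/
theorem mulAut_mem_center {H : Type*} [Group H] (φ : MulAut H) {x : H}
    (hx : x ∈ Subgroup.center H) : φ x ∈ Subgroup.center H := by
  rw [Subgroup.mem_center_iff] at hx ⊢
  intro g
  have h1 := hx (φ.symm g)
  have h2 := congrArg φ h1
  simpa using h2

/-- Automorphisms fix the central element `zel`. -/
theorem heis_aut_zel (hnd : ∀ w : W, w ≠ 0 → ∃ w', polar β w w' ≠ 0) (φ : MulAut (HeisTwo β)) :
    φ zel = zel := by
  have h1 : (zel : HeisTwo β) ∈ Subgroup.center (HeisTwo β) := by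
    rw [center_eq hnd, mem_Zsub_iff]; exact Or.inr rfl
  have h2 := mulAut_mem_center φ h1
  rw [center_eq hnd, mem_Zsub_iff] at h2
  rcases h2 with h | h
  · exfalso
    apply zel_ne_one (β := β)
    apply φ.injective
    rw [h, map_one]
  · exact h

/-- Automorphisms fix the elements `(c, 0)`. -/
theorem heis_aut_central (hnd : ∀ w : W, w ≠ 0 → ∃ w', polar β w w' ≠ 0)
    (φ : MulAut (HeisTwo β)) (c : ZMod 2) : φ ⟨c, 0⟩ = ⟨c, 0⟩ := by
  rcases zmod2_cases c with rfl | rfl
  · exact map_one φ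
  · exact heis_aut_zel hnd φ

theorem heis_split (a : HeisTwo β) : a = (⟨a.c, 0⟩ : HeisTwo β) * ⟨0, a.w⟩ := by
  ext <;> simp

/-- The map induced on `W` by an automorphism. -/
def wmap (φ : MulAut (HeisTwo β)) (w : W) : W := (φ ⟨0, w⟩).w

theorem wmap_apply (hnd : ∀ w : W, w ≠ 0 → ∃ w', polar β w w' ≠ 0) (φ : MulAut (HeisTwo β))
    (a : HeisTwo β) : (φ a).w = wmap φ a.w := by
  conv_lhs => rw [heis_split a, map_mul, heis_aut_central hnd φ]
  simp [wmap]

theorem wmap_add (hnd : ∀ w : W, w ≠ 0 → ∃ w', polar β w w' ≠ 0) (φ : MulAut (HeisTwo β))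
    (u v : W) : wmap φ (u + v) = wmap φ u + wmap φ v := by
  have h1 : ((⟨0, u⟩ : HeisTwo β) * ⟨0, v⟩).w = u + v := rfl
  rw [← h1, ← wmap_apply hnd, map_mul, mul_w]
  rfl

theorem wmap_mul (hnd : ∀ w : W, w ≠ 0 → ∃ w', polar β w w' ≠ 0) (φ ψ : MulAut (HeisTwo β))
    (w : W) : wmap (φ * ψ) w = wmap φ (wmap ψ w) := by
  unfold wmap
  rw [MulAut.mul_apply, wmap_apply hnd φ]
  rfl

theorem wmap_one (w : W) : wmap (1 : MulAut (HeisTwo β)) w = w := rfl

/-- The induced map preserves the quadratic form. -/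
theorem wmap_quad (hnd : ∀ w : W, w ≠ 0 → ∃ w', polar β w w' ≠ 0) (φ : MulAut (HeisTwo β))
    (w : W) : β (wmap φ w) (wmap φ w) = β w w := by
  have h1 : φ ((⟨0, w⟩ : HeisTwo β) ^ 2) = (φ ⟨0, w⟩) ^ 2 := map_pow φ _ 2
  rw [sq_eq, sq_eq, heis_aut_central hnd] at h1
  have h2 := congrArg HeisTwo.c h1
  exact h2.symm

/-- The linear automorphism of `W` induced by an automorphism of `HeisTwo β`. -/
def wequiv (hnd : ∀ w : W, w ≠ 0 → ∃ w', polar β w w' ≠ 0) (φ : MulAut (HeisTwo β)) :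
    W ≃ₗ[ZMod 2] W where
  toFun := wmap φ
  invFun := wmap φ⁻¹
  map_add' := wmap_add hnd φ
  map_smul' := by
    intro a w
    rcases zmod2_cases a with rfl | rfl
    · simp only [zero_smul, RingHom.id_apply]
      have := wmap_add hnd φ 0 0
      rw [add_zero] at this
      exact left_eq_add.mp this
    · simp
  left_inv := by
    intro w
    rw [← wmap_mul hnd, inv_mul_cancel, wmap_one]
  right_inv := by
    intro w
    rw [← wmap_mul hnd, mul_inv_cancel, wmap_one]

@[simp] theorem wequiv_apply (hnd : ∀ w : W, w ≠ 0 → ∃ w', polar β w w' ≠ 0)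
    (φ : MulAut (HeisTwo β)) (w : W) : wequiv hnd φ w = wmap φ w := rfl

/-- The homomorphism `Aut(HeisTwo β) → GL(W)`. -/
def wequivHom (hnd : ∀ w : W, w ≠ 0 → ∃ w', polar β w w' ≠ 0) :
    MulAut (HeisTwo β) →* (W ≃ₗ[ZMod 2] W) where
  toFun := wequiv hnd
  map_one' := by
    ext w
    rfl
  map_mul' := by
    intro φ ψ
    ext w
    exact wmap_mul hnd φ ψ w

@[simp] theorem wequivHom_apply (hnd : ∀ w : W, w ≠ 0 → ∃ w', polar β w w' ≠ 0)
    (φ : MulAut (HeisTwo β)) (w : W) : wequivHom hnd φ w = wmap φ w := rfl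

end Cfsg.Agent.Helper90
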