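import Mathlib
import Cfsg.Prelude.Def_KGroupFacts
import Cfsg.Agent.Helper89.HeisTwoES
import Cfsg.Agent.Helper90.HeisAut

set_option autoImplicit false

/-!
The kernel of `Aut(HeisTwo β) → GL(W)` is the group of inner automorphisms.
-/

namespace Cfsg.Agent.Helper90

open Cfsg.Agent.Helper89 Cfsg.Agent.Helper89.HeisTwo

variable {W : Type} [AddCommGroup W] [Module (ZMod 2) W] {β : LinearMap.BilinForm (ZMod 2) W}

/-- Conjugation in `HeisTwo β`. -/
theorem heis_conj (g a : HeisTwo β) : g * a * g⁻¹ = ⟨a.c + polar β g.w a.w, a.w⟩ := by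
  ext
  · simp only [mul_c, mul_w, inv_c, inv_w, map_add, LinearMap.add_apply, polar_apply]
    have h1 := CharTwo.add_self_eq_zero g.c
    have h2 := CharTwo.add_self_eq_zero (β g.w g.w)
    linear_combination h1 + h2
  · simp only [mul_w, inv_w]
    have h1 := ZModModule.add_self g.w
    calc g.w + a.w + g.w = a.w + (g.w + g.w) := by abel
      _ = a.w := by rw [h1, add_zero]

theorem wequivHom_ker [Finite W] (hnd : ∀ w : W, w ≠ 0 → ∃ w', polar β w w' ≠ 0) :
    (wequivHom hnd).ker = Cfsg.Inn (HeisTwo β) := by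
  apply le_antisymm
  · intro φ hφ
    rw [MonoidHom.mem_ker] at hφ
    have hw : ∀ w : W, wmap φ w = w := by
      intro w
      have := congrArg (fun f : W ≃ₗ[ZMod 2] W => f w) hφ
      simpa using this
    -- the functional `λ`
    have hφ0 : ∀ w : W, φ ⟨0, w⟩ = ⟨(φ ⟨0, w⟩).c, w⟩ := by
      intro w
      ext
      · rfl
      · exact hw w
    have hladd : ∀ u v : W, (φ ⟨0, u + v⟩).c = (φ ⟨0, u⟩).c + (φ ⟨0, v⟩).c := by
      intro u v
      have h1 : (⟨0, u⟩ : HeisTwo β) * ⟨0, v⟩ = (⟨β u v, 0⟩ : HeisTwo β) * ⟨0, u + v⟩ := by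
        ext <;> simp
      have h2 := congrArg φ h1
      rw [map_mul, map_mul, heis_aut_central hnd, hφ0 u, hφ0 v, hφ0 (u + v)] at h2
      have h3 := congrArg HeisTwo.c h2
      simp only [mul_c, map_zero, LinearMap.zero_apply, add_zero] at h3
      linear_combination (-1 : ZMod 2) * h3
    let lam : W →+ ZMod 2 :=
      { toFun := fun w => (φ ⟨0, w⟩).c
        map_zero' := by
          have : (⟨0, 0⟩ : HeisTwo β) = 1 := rfl
          rw [this, map_one]; rfl
        map_add' := hladd }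
    have hB := polar_nondegenerate hnd
    obtain ⟨u₀, hu₀⟩ : ∃ u₀ : W, ∀ v : W, polar β u₀ v = (φ ⟨0, v⟩).c := by
      refine ⟨((polar β).toDual hB).symm (lam.toZModLinearMap 2), fun v => ?_⟩
      rw [LinearMap.BilinForm.apply_toDual_symm_apply]
      rfl
    refine ⟨⟨0, u₀⟩, ?_⟩
    refine MulEquiv.ext (fun a => ?_)
    rw [MulAut.conj_apply, heis_conj]
    conv_rhs => rw [heis_split a, map_mul, heis_aut_central hnd, hφ0 a.w]
    ext
    · simp only [mul_c, map_zero, LinearMap.zero_apply, add_zero]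
      rw [hu₀]
    · simp
  · rintro _ ⟨g, rfl⟩
    rw [MonoidHom.mem_ker]
    ext w
    simp only [wequivHom_apply, wmap, MulAut.conj_apply, heis_conj]
    rfl

end Cfsg.Agent.Helper90
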