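import Mathlib
import Cfsg.Agent.Helper89.HeisTwo
import Cfsg.Agent.Helper90.HeisAut

set_option autoImplicit false

/-!
Lifting isometries of the quadratic form `w ↦ β w w` to automorphisms of `HeisTwo β`.
-/

namespace Cfsg.Agent.Helper90

open Cfsg.Agent.Helper89 Cfsg.Agent.Helper89.HeisTwo

/-- An alternating bilinear form over `ZMod 2` on a coordinate space is `γ + γᵀ`. -/
theorem exists_upper {ι : Type} [Fintype ι] [DecidableEq ι]
    (D : LinearMap.BilinForm (ZMod 2) (ι → ZMod 2)) (hD : ∀ v, D v v = 0) :
    ∃ γ : LinearMap.BilinForm (ZMod 2) (ι → ZMod 2), ∀ u v, D u v = γ u v + γ v u := by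
  classical
  have hsymm : ∀ u v, D u v = D v u := by
    intro u v
    have h1 := hD (u + v)
    simp only [map_add, LinearMap.add_apply, hD, zero_add, add_zero] at h1
    have h2 := CharTwo.add_self_eq_zero (D v u)
    linear_combination h1 - h2
  let e := Fintype.equivFin ι
  let M : Matrix ι ι (ZMod 2) := LinearMap.BilinForm.toMatrix' D
  have hM : ∀ i j, M i j = D (Pi.single i 1) (Pi.single j 1) :=
    fun i j => LinearMap.BilinForm.toMatrix'_apply D i j
  let U : Matrix ι ι (ZMod 2) := Matrix.of fun i j => if e i < e j then M i j else 0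
  have hMU : M = U + U.transpose := by
    ext i j
    simp only [Matrix.add_apply, Matrix.transpose_apply, U, Matrix.of_apply]
    rcases lt_trichotomy (e i) (e j) with h | h | h
    · rw [if_pos h, if_neg (not_lt.mpr h.le), add_zero]
    · have hij : i = j := e.injective h
      subst hij
      rw [if_neg (lt_irrefl _), add_zero, hM, hD]
    · rw [if_neg (not_lt.mpr h.le), if_pos h, zero_add, hM, hM, hsymm]
  refine ⟨Matrix.toBilin' U, fun u v => ?_⟩
  have h1 : D = Matrix.toBilin' M := (Matrix.toBilin'_toMatrix' D).symm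
  have h2 : Matrix.toBilin' U.transpose u v = Matrix.toBilin' U v u := by
    rw [Matrix.toBilin'_apply', Matrix.toBilin'_apply', Matrix.mulVec_transpose,
      Matrix.dotProduct_mulVec, dotProduct_comm]
  rw [h1, hMU, map_add, LinearMap.add_apply, LinearMap.add_apply, h2]

variable {W : Type} [AddCommGroup W] [Module (ZMod 2) W] {β : LinearMap.BilinForm (ZMod 2) W}

/-- The automorphism `(c, w) ↦ (c + γ w w, f w)` of `HeisTwo β` for an isometry `f`. -/
def heisLift (f : W ≃ₗ[ZMod 2] W) (γ : LinearMap.BilinForm (ZMod 2) W)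
    (hγ : ∀ u v, β (f u) (f v) + β u v = γ u v + γ v u) : MulAut (HeisTwo β) where
  toFun a := ⟨a.c + γ a.w a.w, f a.w⟩
  invFun a := ⟨a.c + γ (f.symm a.w) (f.symm a.w), f.symm a.w⟩
  left_inv := by
    intro a
    ext
    · simp only [LinearEquiv.symm_apply_apply]
      have h := CharTwo.add_self_eq_zero (γ a.w a.w)
      linear_combination h
    · simp
  right_inv := by
    intro a
    ext
    · simp only
      have h := CharTwo.add_self_eq_zero (γ (f.symm a.w) (f.symm a.w))
      linear_combination h
    · simp
  map_mul' := by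
    intro a b
    ext
    · simp only [mul_c, mul_w, map_add, LinearMap.add_apply]
      have h1 := hγ a.w b.w
      have h2 := CharTwo.add_self_eq_zero (β a.w b.w)
      linear_combination h2 - h1
    · simp

theorem wmap_heisLift (f : W ≃ₗ[ZMod 2] W) (γ : LinearMap.BilinForm (ZMod 2) W)
    (hγ : ∀ u v, β (f u) (f v) + β u v = γ u v + γ v u) (w : W) :
    wmap (heisLift f γ hγ) w = f w := rfl

end Cfsg.Agent.Helper90
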