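import Mathlib
import Cfsg.Prelude.Def_Classical
import Cfsg.Agent.Helper89.HeisTwoForms

set_option autoImplicit false

/-!
The standard quadratic forms `quadFormPlus` and `quadFormMinus` over `ZMod 2` as the diagonals of
bilinear forms transported from the cocycles `cocyc k δ` of helper89.
-/

namespace Cfsg.Agent.Helper90

open Cfsg.Agent.Helper89 Cfsg.Agent.Helper89.HeisTwo

/-- Transport of `HeisTwo` along a linear equivalence compatible with the cocycles. -/
def heisCongr {W W' : Type} [AddCommGroup W] [Module (ZMod 2) W] [AddCommGroup W']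
    [Module (ZMod 2) W'] {β : LinearMap.BilinForm (ZMod 2) W} {β' : LinearMap.BilinForm (ZMod 2) W'}
    (e : W ≃ₗ[ZMod 2] W') (h : ∀ u v, β' (e u) (e v) = β u v) : HeisTwo β ≃* HeisTwo β' where
  toFun a := ⟨a.c, e a.w⟩
  invFun a := ⟨a.c, e.symm a.w⟩
  left_inv := by intro a; ext <;> simp
  right_inv := by intro a; ext <;> simp
  map_mul' := by
    intro a b
    ext
    · simp [h]
    · simp

/-- Non-degeneracy of the polar form is preserved under transport. -/
theorem polar_congr_nondeg {W W' : Type} [AddCommGroup W] [Module (ZMod 2) W] [AddCommGroup W']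
    [Module (ZMod 2) W'] {β : LinearMap.BilinForm (ZMod 2) W} (e : W ≃ₗ[ZMod 2] W')
    (hnd : ∀ w : W, w ≠ 0 → ∃ w', polar β w w' ≠ 0) :
    ∀ w : W', w ≠ 0 → ∃ w', polar (LinearMap.BilinForm.congr e β) w w' ≠ 0 := by
  intro w hw
  have h1 : e.symm w ≠ 0 := by
    intro h
    apply hw
    have := congrArg e h
    simpa using this
  obtain ⟨w₀, hw₀⟩ := hnd _ h1
  refine ⟨e w₀, ?_⟩
  simpa [polar_apply] using hw₀

/-! ### The plus type -/

/-- The coordinate change for the plus type. -/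
def ePlus (k : ℕ) : (Vec2 k × Vec2 k) ≃ₗ[ZMod 2] (Fin (k + 1) ⊕ Fin (k + 1) → ZMod 2) :=
  (LinearEquiv.sumArrowLequivProdArrow (Fin (k + 1)) (Fin (k + 1)) (ZMod 2) (ZMod 2)).symm

/-- The bilinear form on `Fin (k+1) ⊕ Fin (k+1) → ZMod 2` of plus type. -/
def betaPlus (k : ℕ) : LinearMap.BilinForm (ZMod 2) (Fin (k + 1) ⊕ Fin (k + 1) → ZMod 2) :=
  LinearMap.BilinForm.congr (ePlus k) (cocyc k 0)

theorem betaPlus_nondeg (k : ℕ) :
    ∀ w : Fin (k + 1) ⊕ Fin (k + 1) → ZMod 2, w ≠ 0 → ∃ w', polar (betaPlus k) w w' ≠ 0 :=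
  polar_congr_nondeg (ePlus k) (cocyc_nondeg k 0)

theorem betaPlus_self (k : ℕ) (v : Fin (k + 1) ⊕ Fin (k + 1) → ZMod 2) :
    Cfsg.quadFormPlus (k + 1) (ZMod 2) v = betaPlus k v v := by
  unfold betaPlus Cfsg.quadFormPlus
  rw [LinearMap.BilinForm.congr_apply, cocyc_apply, zero_mul, add_zero]
  rfl

/-- The plus-type model. -/
def heisPlusEquiv (k : ℕ) : HeisTwo (cocyc k 0) ≃* HeisTwo (betaPlus k) :=
  heisCongr (ePlus k) (by
    intro u v
    unfold betaPlus
    rw [LinearMap.BilinForm.congr_apply, LinearEquiv.symm_apply_apply,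
      LinearEquiv.symm_apply_apply])

/-! ### The minus type -/

/-- The coordinate change for the minus type. -/
def eMinus (k : ℕ) : ((Fin k ⊕ Fin k) ⊕ Fin 2 → ZMod 2) ≃ₗ[ZMod 2] (Vec2 k × Vec2 k) where
  toFun v := (Fin.cons (v (.inr 0)) (fun i => v (.inl (.inl i))),
    Fin.cons (v (.inr 1)) (fun i => v (.inl (.inr i))))
  invFun p := Sum.elim (Sum.elim (fun i => p.1 i.succ) (fun i => p.2 i.succ))
    (fun j => if j = 0 then p.1 0 else p.2 0)
  map_add' := by
    intro u v
    ext i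
    · refine Fin.cases ?_ (fun i => ?_) i <;> simp
    · refine Fin.cases ?_ (fun i => ?_) i <;> simp
  map_smul' := by
    intro a v
    ext i
    · refine Fin.cases ?_ (fun i => ?_) i <;> simp
    · refine Fin.cases ?_ (fun i => ?_) i <;> simp
  left_inv := by
    intro v
    ext ((i | i) | j)
    · simp
    · simp
    · fin_cases j <;> simp
  right_inv := by
    intro p
    ext i
    · refine Fin.cases ?_ (fun i => ?_) i <;> simp
    · refine Fin.cases ?_ (fun i => ?_) i <;> simp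

/-- The bilinear form on `(Fin k ⊕ Fin k) ⊕ Fin 2 → ZMod 2` of minus type. -/
def betaMinus (k : ℕ) : LinearMap.BilinForm (ZMod 2) ((Fin k ⊕ Fin k) ⊕ Fin 2 → ZMod 2) :=
  LinearMap.BilinForm.congr (eMinus k).symm (cocyc k 1)

theorem betaMinus_nondeg (k : ℕ) :
    ∀ w : (Fin k ⊕ Fin k) ⊕ Fin 2 → ZMod 2, w ≠ 0 → ∃ w', polar (betaMinus k) w w' ≠ 0 :=
  polar_congr_nondeg (eMinus k).symm (cocyc_nondeg k 1)

theorem betaMinus_self (k : ℕ) (v : (Fin k ⊕ Fin k) ⊕ Fin 2 → ZMod 2) :
    Cfsg.quadFormMinus k (ZMod 2) 1 1 v = betaMinus k v v := by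
  unfold betaMinus Cfsg.quadFormMinus
  rw [LinearMap.BilinForm.congr_apply, cocyc_apply, LinearEquiv.symm_symm]
  simp only [eMinus, LinearEquiv.coe_mk, LinearMap.coe_mk, AddHom.coe_mk, dotProduct,
    Fin.sum_univ_succ, Fin.cons_zero, Fin.cons_succ]
  ring

/-- The minus-type model. -/
def heisMinusEquiv (k : ℕ) : HeisTwo (cocyc k 1) ≃* HeisTwo (betaMinus k) :=
  heisCongr (eMinus k).symm (by
    intro u v
    unfold betaMinus
    rw [LinearMap.BilinForm.congr_apply, LinearEquiv.symm_apply_apply,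
      LinearEquiv.symm_apply_apply])

end Cfsg.Agent.Helper90
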