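import Mathlib
import Cfsg.Prelude.Def_KGroupFacts
import Cfsg.Prelude.Def_Classical
import Cfsg.Agent.Helper90.HeisKer
import Cfsg.Agent.Helper90.HeisLift

set_option autoImplicit false

/-!
`Out(HeisTwo β)` is the isometry group of the quadratic form `v ↦ β v v`, for a coordinate space
`ι → ZMod 2` and a bilinear form `β` with non-degenerate polar form.
-/

namespace Cfsg.Agent.Helper90

open Cfsg.Agent.Helper89 Cfsg.Agent.Helper89.HeisTwo
open scoped Matrix

/-- The outer automorphism group transports along isomorphisms. -/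
noncomputable def outCongr {G H : Type*} [Group G] [Group H] (e : G ≃* H) :
    Cfsg.Out G ≃* Cfsg.Out H :=
  QuotientGroup.congr (Cfsg.Inn G) (Cfsg.Inn H) (MulAut.congr e) (by
    apply le_antisymm
    · rintro _ ⟨_, ⟨g, rfl⟩, rfl⟩
      refine ⟨e g, ?_⟩
      ext x
      simp [MulAut.congr, MulAut.conj_apply]
    · rintro _ ⟨h, rfl⟩
      refine ⟨MulAut.conj (e.symm h), ⟨e.symm h, rfl⟩, ?_⟩
      ext x
      simp [MulAut.congr, MulAut.conj_apply])

variable {ι : Type} [Fintype ι] [DecidableEq ι]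

/-- `GL ι (ZMod 2)` as the group of linear automorphisms of `ι → ZMod 2`. -/
noncomputable def glEquiv (ι : Type) [Fintype ι] [DecidableEq ι] :
    GL ι (ZMod 2) ≃* ((ι → ZMod 2) ≃ₗ[ZMod 2] (ι → ZMod 2)) :=
  Matrix.GeneralLinearGroup.toLin.trans
    (LinearMap.GeneralLinearGroup.generalLinearEquiv (ZMod 2) (ι → ZMod 2))

theorem glEquiv_apply (M : GL ι (ZMod 2)) (v : ι → ZMod 2) :
    glEquiv ι M v = (M : Matrix ι ι (ZMod 2)) *ᵥ v := by
  simp [glEquiv, Matrix.GeneralLinearGroup.toLin_apply]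

variable {β : LinearMap.BilinForm (ZMod 2) (ι → ZMod 2)}

/-- The homomorphism `Aut(HeisTwo β) → GL ι (ZMod 2)`. -/
noncomputable def outHom (hnd : ∀ w : ι → ZMod 2, w ≠ 0 → ∃ w', polar β w w' ≠ 0) :
    MulAut (HeisTwo β) →* GL ι (ZMod 2) :=
  (glEquiv ι).symm.toMonoidHom.comp (wequivHom hnd)

theorem glEquiv_outHom (hnd : ∀ w : ι → ZMod 2, w ≠ 0 → ∃ w', polar β w w' ≠ 0)
    (φ : MulAut (HeisTwo β)) : glEquiv ι (outHom hnd φ) = wequivHom hnd φ := by
  simp [outHom]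

theorem outHom_mulVec (hnd : ∀ w : ι → ZMod 2, w ≠ 0 → ∃ w', polar β w w' ≠ 0)
    (φ : MulAut (HeisTwo β)) (v : ι → ZMod 2) :
    ((outHom hnd φ : GL ι (ZMod 2)) : Matrix ι ι (ZMod 2)) *ᵥ v = wmap φ v := by
  rw [← glEquiv_apply, glEquiv_outHom]
  rfl

theorem outHom_ker (hnd : ∀ w : ι → ZMod 2, w ≠ 0 → ∃ w', polar β w w' ≠ 0) :
    (outHom hnd).ker = Cfsg.Inn (HeisTwo β) := by
  rw [← wequivHom_ker hnd]
  ext φ
  rw [MonoidHom.mem_ker, MonoidHom.mem_ker]
  constructor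
  · intro h
    have h1 := glEquiv_outHom hnd φ
    rw [h, map_one] at h1
    exact h1.symm
  · intro h
    apply (glEquiv ι).injective
    rw [glEquiv_outHom, h, map_one]

theorem mem_isometryGroup_iff (Q : (ι → ZMod 2) → ZMod 2) (M : GL ι (ZMod 2)) :
    M ∈ Cfsg.isometryGroup (ZMod 2) Q ↔
      ∀ u : ι → ZMod 2, Q ((M : Matrix ι ι (ZMod 2)) *ᵥ u) = Q u := by
  constructor
  · intro h u
    exact h u u
  · intro h u v
    exact h u

theorem outHom_range (hnd : ∀ w : ι → ZMod 2, w ≠ 0 → ∃ w', polar β w w' ≠ 0)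
    (Q : (ι → ZMod 2) → ZMod 2) (hQ : ∀ v, Q v = β v v) :
    (outHom hnd).range = Cfsg.isometryGroup (ZMod 2) Q := by
  apply le_antisymm
  · rintro _ ⟨φ, rfl⟩
    rw [mem_isometryGroup_iff]
    intro u
    rw [outHom_mulVec, hQ, hQ, wmap_quad hnd]
  · intro M hM
    rw [mem_isometryGroup_iff] at hM
    have hf : ∀ u, β (glEquiv ι M u) (glEquiv ι M u) = β u u := by
      intro u
      rw [glEquiv_apply, ← hQ, ← hQ, hM]
    obtain ⟨γ, hγ⟩ := exists_upper
      (β.comp (glEquiv ι M : (ι → ZMod 2) →ₗ[ZMod 2] (ι → ZMod 2))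
        (glEquiv ι M : (ι → ZMod 2) →ₗ[ZMod 2] (ι → ZMod 2)) + β) (by
        intro v
        simp only [LinearMap.add_apply, LinearMap.BilinForm.comp_apply, LinearEquiv.coe_coe]
        rw [hf]
        exact CharTwo.add_self_eq_zero _)
    have hγ' : ∀ u v, β (glEquiv ι M u) (glEquiv ι M v) + β u v = γ u v + γ v u := by
      intro u v
      have := hγ u v
      simpa using this
    refine ⟨heisLift (glEquiv ι M) γ hγ', ?_⟩
    apply (glEquiv ι).injective
    rw [glEquiv_outHom]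
    ext w
    rfl

/-- `Out(HeisTwo β)` is the isometry group of `v ↦ β v v`. -/
noncomputable def outHeisEquiv (hnd : ∀ w : ι → ZMod 2, w ≠ 0 → ∃ w', polar β w w' ≠ 0)
    (Q : (ι → ZMod 2) → ZMod 2) (hQ : ∀ v, Q v = β v v) :
    Cfsg.Out (HeisTwo β) ≃* Cfsg.isometryGroup (ZMod 2) Q :=
  ((QuotientGroup.quotientMulEquivOfEq (outHom_ker hnd).symm).trans
    (QuotientGroup.quotientKerEquivRange (outHom hnd))).trans
    (MulEquiv.subgroupCongr (outHom_range hnd Q hQ))

end Cfsg.Agent.Helper90
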