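import Mathlib
import Cfsg.Prelude.Def_MonsterType
import Cfsg.Agent.Helper90.Pair

set_option autoImplicit false

/-!
Symmetry of "orthogonality" for conjugates of the centre of a large extraspecial 2-subgroup:
if `g z g⁻¹ ∈ Q` then `z ∈ g Q g⁻¹` (no hypothesis on the width).
-/

namespace Cfsg.Agent.Helper90

open Cfsg

theorem z_mem_conj_of_conj_mem {G : Type*} [Group G] [Finite G] {Q : Subgroup G} {z : G}
    (hE : ExtraData Q z) (hL1 : Cfsg.IsExtraspecial 2 ↥Q)
    (hL2 : Subgroup.centralizer (Q : Set G) = ((Subgroup.center ↥Q).map Q.subtype))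
    (hL3 : Subgroup.centralizer (((Subgroup.center ↥Q).map Q.subtype) : Set G) ≤
      Subgroup.normalizer (Q : Set G))
    (g : G) (hgQ : g * z * g⁻¹ ∈ Q) : z ∈ Q.map (MulAut.conj g).toMonoidHom := by
  classical
  obtain ⟨b, hb⟩ : ∃ b : G, b = g * z * g⁻¹ := ⟨_, rfl⟩
  have hbQ : b ∈ Q := by rw [hb]; exact hgQ
  by_cases hbz : b = z
  · -- `g` centralizes `z`, hence normalizes `Q`
    rw [mem_map_conj_iff]
    have h1 : g * z = z * g := by
      calc g * z = (g * z * g⁻¹) * g := by group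
        _ = z * g := by rw [← hb, hbz]
    have h3 := mem_normalizer_of_comm hE hL3 h1
    exact inv_conj_mem_of_mem_normalizer h3 hE.zQ
  have hbb : b * b = 1 := by
    rw [hb]
    calc g * z * g⁻¹ * (g * z * g⁻¹) = g * (z * z) * g⁻¹ := by group
      _ = 1 := by rw [hE.zz]; group
  have hb1 : b ≠ 1 := by
    intro h
    apply hE.z1
    calc z = g⁻¹ * (g * z * g⁻¹) * g := by group
      _ = 1 := by rw [← hb, h]; group
  have hbZ : b ∉ (Subgroup.center ↥Q).map Q.subtype := by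
    intro h
    rcases hE.zall b h with h1 | h1
    · exact hb1 h1
    · exact hbz h1
  obtain ⟨n, hnb, hnz⟩ := exists_conj_z_to_zb hE hL1 hL2 hL3 g b hb hbQ hbz
  obtain ⟨y, hyQ, hyb⟩ := hE.exists_conj hbQ hbZ
  have hyz : y * z * y⁻¹ = z := by
    rw [hE.zc y hyQ]; group
  have hnb' : n * b * n⁻¹ = b := by rw [hnb]; group
  have hninv : n⁻¹ * z * n = z * b := by
    have h1 : n * (z * b) * n⁻¹ = z := by
      calc n * (z * b) * n⁻¹ = (n * z * n⁻¹) * (n * b * n⁻¹) := by group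
        _ = (z * b) * b := by rw [hnz, hnb']
        _ = z := by rw [mul_assoc, hbb, mul_one]
    calc n⁻¹ * z * n = n⁻¹ * (n * (z * b) * n⁻¹) * n := by rw [h1]
      _ = z * b := by group
  have htz : (n * y * n⁻¹) * z * (n * y * n⁻¹)⁻¹ = b := by
    calc (n * y * n⁻¹) * z * (n * y * n⁻¹)⁻¹ = n * (y * (n⁻¹ * z * n) * y⁻¹) * n⁻¹ := by group
      _ = n * (y * (z * b) * y⁻¹) * n⁻¹ := by rw [hninv]
      _ = n * ((y * z * y⁻¹) * (y * b * y⁻¹)) * n⁻¹ := by group
      _ = n * (z * (z * b)) * n⁻¹ := by rw [hyz, hyb]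
      _ = n * b * n⁻¹ := by rw [← mul_assoc z z b, hE.zz, one_mul]
      _ = b := hnb'
  have htb : (n * y * n⁻¹) * b * (n * y * n⁻¹)⁻¹ = z := by
    have h1 : n⁻¹ * b * n = b := by
      calc n⁻¹ * b * n = n⁻¹ * (b * n) := by group
        _ = n⁻¹ * (n * b) := by rw [hnb]
        _ = b := by group
    calc (n * y * n⁻¹) * b * (n * y * n⁻¹)⁻¹ = n * (y * (n⁻¹ * b * n) * y⁻¹) * n⁻¹ := by group
      _ = n * (y * b * y⁻¹) * n⁻¹ := by rw [h1]
      _ = n * (z * b) * n⁻¹ := by rw [hyb]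
      _ = (n * z * n⁻¹) * (n * b * n⁻¹) := by group
      _ = (z * b) * b := by rw [hnz, hnb']
      _ = z := by rw [mul_assoc, hbb, mul_one]
  rw [mem_map_conj_iff]
  have h1 : ((n * y * n⁻¹)⁻¹ * g) * z = z * ((n * y * n⁻¹)⁻¹ * g) := by
    have h2 : (n * y * n⁻¹)⁻¹ * (g * z * g⁻¹) * (n * y * n⁻¹) = z := by
      rw [← hb, ← htz]; group
    calc ((n * y * n⁻¹)⁻¹ * g) * z = ((n * y * n⁻¹)⁻¹ * (g * z * g⁻¹) * (n * y * n⁻¹)) *
          ((n * y * n⁻¹)⁻¹ * g) := by group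
      _ = z * ((n * y * n⁻¹)⁻¹ * g) := by rw [h2]
  have h3 := mem_normalizer_of_comm hE hL3 h1
  have h4 := inv_conj_mem_of_mem_normalizer h3 hbQ
  have e : ((n * y * n⁻¹)⁻¹ * g)⁻¹ * b * ((n * y * n⁻¹)⁻¹ * g) =
      g⁻¹ * ((n * y * n⁻¹) * b * (n * y * n⁻¹)⁻¹) * g := by group
  rw [e, htb] at h4
  exact h4

/-- The `2`-core of the centralizer of an involution `z`, as a subgroup of `G`: basic facts. -/
theorem pCore_centralizer_facts {G : Type*} [Group G] [Finite G] (z : G) (hzz : z * z = 1)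
    (Qz : Subgroup G)
    (hQz : Qz = (Cfsg.pCore 2 ↥(Subgroup.centralizer ({z} : Set G))).map
      (Subgroup.centralizer ({z} : Set G)).subtype) :
    (∀ q ∈ Qz, q * z = z * q) ∧ z ∈ Qz ∧
      (∀ c : G, c * z = z * c → c ∈ Subgroup.normalizer (Qz : Set G)) ∧ IsPGroup 2 Qz := by
  have hmemC : ∀ c : G, c ∈ Subgroup.centralizer ({z} : Set G) ↔ c * z = z * c := by
    intro c
    rw [Subgroup.mem_centralizer_iff]
    constructor
    · intro h; exact (h z rfl).symm
    · intro h y hy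
      rw [Set.mem_singleton_iff] at hy
      subst hy
      exact h.symm
  have hzC : z ∈ Subgroup.centralizer ({z} : Set G) := (hmemC z).mpr rfl
  refine ⟨?_, ?_, ?_, ?_⟩
  · intro q hq
    rw [hQz] at hq
    obtain ⟨w, _, rfl⟩ := hq
    exact (hmemC _).mp w.2
  · -- `⟨z⟩` is a normal 2-subgroup of `C(z)`
    rw [hQz]
    refine ⟨⟨z, hzC⟩, ?_, rfl⟩
    have hn : (Subgroup.zpowers (⟨z, hzC⟩ : ↥(Subgroup.centralizer ({z} : Set G)))).Normal := by
      constructor
      intro x hx c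
      obtain ⟨k, rfl⟩ := Subgroup.mem_zpowers_iff.mp hx
      have hcz : c * ⟨z, hzC⟩ = ⟨z, hzC⟩ * c := Subtype.ext ((hmemC _).mp c.2)
      have : c * (⟨z, hzC⟩ : ↥(Subgroup.centralizer ({z} : Set G))) ^ k * c⁻¹ =
          (⟨z, hzC⟩ : ↥(Subgroup.centralizer ({z} : Set G))) ^ k := by
        have hcomm : Commute c (⟨z, hzC⟩ : ↥(Subgroup.centralizer ({z} : Set G))) := hcz
        rw [(hcomm.zpow_right k).eq]
        group
      rw [this]
      exact Subgroup.zpow_mem_zpowers _ k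
    have hp : IsPGroup 2 (Subgroup.zpowers (⟨z, hzC⟩ : ↥(Subgroup.centralizer ({z} : Set G)))) := by
      rintro ⟨x, hx⟩
      obtain ⟨k, rfl⟩ := Subgroup.mem_zpowers_iff.mp hx
      refine ⟨1, Subtype.ext ?_⟩
      have hz2 : (⟨z, hzC⟩ : ↥(Subgroup.centralizer ({z} : Set G))) ^ 2 = 1 := by
        apply Subtype.ext
        rw [pow_two]
        exact hzz
      show ((⟨z, hzC⟩ : ↥(Subgroup.centralizer ({z} : Set G))) ^ k) ^ 2 ^ 1 = 1
      rw [pow_one, ← zpow_natCast, ← zpow_mul, mul_comm, zpow_mul, zpow_natCast, hz2, one_zpow]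
    have hle : Subgroup.zpowers (⟨z, hzC⟩ : ↥(Subgroup.centralizer ({z} : Set G))) ≤
        Cfsg.pCore 2 ↥(Subgroup.centralizer ({z} : Set G)) := le_sSup ⟨hn, hp⟩
    exact hle (Subgroup.mem_zpowers _)
  · intro c hc
    have hcC : c ∈ Subgroup.centralizer ({z} : Set G) := (hmemC c).mpr hc
    have hn : (Cfsg.pCore 2 ↥(Subgroup.centralizer ({z} : Set G))).Normal := by
      have hchar : (Cfsg.pCore 2 ↥(Subgroup.centralizer ({z} : Set G))).Characteristic := by
        rw [Subgroup.characteristic_iff_map_le]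
        intro φ
        unfold Cfsg.pCore
        rw [Subgroup.map_le_iff_le_comap]
        refine sSup_le fun N hN => ?_
        rw [← Subgroup.map_le_iff_le_comap]
        refine le_sSup ⟨?_, ?_⟩
        · exact Subgroup.Normal.map hN.1 φ.toMonoidHom φ.surjective
        · exact hN.2.map φ.toMonoidHom
      exact Subgroup.normal_of_characteristic _
    apply mem_normalizer_of_conj_mem
    intro q hq
    rw [hQz] at hq ⊢
    obtain ⟨w, hw, rfl⟩ := hq
    refine ⟨⟨c, hcC⟩ * w * ⟨c, hcC⟩⁻¹, hn.conj_mem w hw ⟨c, hcC⟩, ?_⟩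
    simp
  · rw [hQz]
    exact (Sylow.sSup_of_normal _ (fun H hH => hH.2) (fun H hH => hH.1) :
      IsPGroup 2 (Cfsg.pCore 2 ↥(Subgroup.centralizer ({z} : Set G)))).map _

end Cfsg.Agent.Helper90
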