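import Mathlib
import Cfsg.Agent.Helper90.SymmOrth

set_option autoImplicit false

/-!
General facts about the function `x ↦ Q x = O_2(C_G(x))` (as a subgroup of `G`): equivariance under
conjugation, and for a large-extraspecial-type setting the inclusion `Q u ⊓ Q v ≤ Q (u v)` for
orthogonal conjugates `u, v` of `z`.
-/

namespace Cfsg.Agent.Helper90

open Cfsg

/-- basic facts on `Qx = O_2(C(x))` for an arbitrary element `x`. -/
theorem qfun_facts {G : Type*} [Group G] [Finite G] (x : G) (Qx : Subgroup G)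
    (hQx : Qx = (Cfsg.pCore 2 ↥(Subgroup.centralizer ({x} : Set G))).map
      (Subgroup.centralizer ({x} : Set G)).subtype) :
    (∀ q ∈ Qx, q * x = x * q) ∧
      (∀ c : G, c * x = x * c → c ∈ Subgroup.normalizer (Qx : Set G)) ∧ IsPGroup 2 Qx := by
  have hmemC : ∀ c : G, c ∈ Subgroup.centralizer ({x} : Set G) ↔ c * x = x * c := by
    intro c
    rw [Subgroup.mem_centralizer_iff]
    constructor
    · intro h; exact (h x rfl).symm
    · intro h y hy
      rw [Set.mem_singleton_iff] at hy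
      subst hy
      exact h.symm
  refine ⟨?_, ?_, ?_⟩
  · intro q hq
    rw [hQx] at hq
    obtain ⟨w, _, rfl⟩ := hq
    exact (hmemC _).mp w.2
  · intro c hc
    have hcC : c ∈ Subgroup.centralizer ({x} : Set G) := (hmemC c).mpr hc
    have hn : (Cfsg.pCore 2 ↥(Subgroup.centralizer ({x} : Set G))).Normal := by
      have hchar : (Cfsg.pCore 2 ↥(Subgroup.centralizer ({x} : Set G))).Characteristic := by
        rw [Subgroup.characteristic_iff_map_le]
        intro φ
        unfold Cfsg.pCore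
        rw [Subgroup.map_le_iff_le_comap]
        refine sSup_le fun N hN => ?_
        rw [← Subgroup.map_le_iff_le_comap]
        refine le_sSup ⟨?_, ?_⟩
        · exact Subgroup.Normal.map hN.1 φ.toMonoidHom φ.surjective
        · exact hN.2.map φ.toMonoidHom
      exact Subgroup.normal_of_characteristic _
    apply mem_normalizer_of_conj_mem
    intro q hq
    rw [hQx] at hq ⊢
    obtain ⟨w, hw, rfl⟩ := hq
    refine ⟨⟨c, hcC⟩ * w * ⟨c, hcC⟩⁻¹, hn.conj_mem w hw ⟨c, hcC⟩, ?_⟩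
    simp
  · rw [hQx]
    exact (Sylow.sSup_of_normal _ (fun H hH => hH.2) (fun H hH => hH.1) :
      IsPGroup 2 (Cfsg.pCore 2 ↥(Subgroup.centralizer ({x} : Set G)))).map _

/-- `g (Q x) g⁻¹ ≤ Q (g x g⁻¹)`. -/
theorem qfun_conj_le {G : Type*} [Group G] [Finite G] (Q : G → Subgroup G)
    (hQ : ∀ x : G, Q x = (Cfsg.pCore 2 ↥(Subgroup.centralizer ({x} : Set G))).map
      (Subgroup.centralizer ({x} : Set G)).subtype) (g x : G) :
    (Q x).map (MulAut.conj g).toMonoidHom ≤ Q (g * x * g⁻¹) := by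
  obtain ⟨hQc, hQn, hQ2⟩ := qfun_facts x (Q x) (hQ x)
  have hmemC : ∀ c : G, c ∈ Subgroup.centralizer ({g * x * g⁻¹} : Set G) ↔
      c * (g * x * g⁻¹) = (g * x * g⁻¹) * c := by
    intro c
    rw [Subgroup.mem_centralizer_iff]
    constructor
    · intro h; exact (h _ rfl).symm
    · intro h y hy
      rw [Set.mem_singleton_iff] at hy
      subst hy
      exact h.symm
  have hle0 : (Q x).map (MulAut.conj g).toMonoidHom ≤ Subgroup.centralizer ({g * x * g⁻¹} : Set G) := by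
    intro q hq
    rw [mem_map_conj_iff] at hq
    rw [hmemC]
    have h1 := hQc _ hq
    calc q * (g * x * g⁻¹) = g * ((g⁻¹ * q * g) * x) * g⁻¹ := by group
      _ = g * (x * (g⁻¹ * q * g)) * g⁻¹ := by rw [h1]
      _ = g * x * g⁻¹ * q := by group
  have hnormal : (((Q x).map (MulAut.conj g).toMonoidHom).subgroupOf
      (Subgroup.centralizer ({g * x * g⁻¹} : Set G))).Normal := by
    constructor
    intro q hq c
    rw [Subgroup.mem_subgroupOf] at hq ⊢
    rw [mem_map_conj_iff] at hq ⊢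
    have hc := (hmemC _).mp c.2
    have hc' : (g⁻¹ * c * g) * x = x * (g⁻¹ * c * g) := by
      calc (g⁻¹ * c * g) * x = g⁻¹ * (c * (g * x * g⁻¹)) * g := by group
        _ = g⁻¹ * ((g * x * g⁻¹) * c) * g := by rw [hc]
        _ = x * (g⁻¹ * c * g) := by group
    have hn := hQn _ hc'
    have := conj_mem_of_mem_normalizer hn hq
    have e : g⁻¹ * ((c : G) * q * (c : G)⁻¹) * g =
        (g⁻¹ * c * g) * (g⁻¹ * q * g) * (g⁻¹ * c * g)⁻¹ := by group
    simp only [Subgroup.coe_mul, Subgroup.coe_inv]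
    rw [e]
    exact this
  have hpg : IsPGroup 2 (((Q x).map (MulAut.conj g).toMonoidHom).subgroupOf
      (Subgroup.centralizer ({g * x * g⁻¹} : Set G))) := (hQ2.map _).comap_subtype
  have hle : ((Q x).map (MulAut.conj g).toMonoidHom).subgroupOf
      (Subgroup.centralizer ({g * x * g⁻¹} : Set G)) ≤
      Cfsg.pCore 2 ↥(Subgroup.centralizer ({g * x * g⁻¹} : Set G)) := le_sSup ⟨hnormal, hpg⟩
  intro y hy
  rw [hQ (g * x * g⁻¹)]
  refine ⟨⟨y, hle0 hy⟩, hle ?_, rfl⟩
  rw [Subgroup.mem_subgroupOf]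
  exact hy

/-- membership in `Q` of a conjugate. -/
theorem qfun_mem_conj_iff {G : Type*} [Group G] [Finite G] (Q : G → Subgroup G)
    (hQ : ∀ x : G, Q x = (Cfsg.pCore 2 ↥(Subgroup.centralizer ({x} : Set G))).map
      (Subgroup.centralizer ({x} : Set G)).subtype) (g x y : G) :
    y ∈ Q (g * x * g⁻¹) ↔ g⁻¹ * y * g ∈ Q x := by
  constructor
  · intro hy
    have h1 := qfun_conj_le Q hQ g⁻¹ (g * x * g⁻¹)
    have e : g⁻¹ * (g * x * g⁻¹) * g⁻¹⁻¹ = x := by group
    rw [e] at h1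
    have h2 : g⁻¹ * y * g⁻¹⁻¹ ∈ (Q (g * x * g⁻¹)).map (MulAut.conj g⁻¹).toMonoidHom :=
      conj_mem_map_conj _ g⁻¹ hy
    have := h1 h2
    simpa using this
  · intro hy
    apply qfun_conj_le Q hQ g x
    rw [mem_map_conj_iff]
    exact hy

/-- variant with an equation. -/
theorem qfun_mem_of_conj {G : Type*} [Group G] [Finite G] (Q : G → Subgroup G)
    (hQ : ∀ x : G, Q x = (Cfsg.pCore 2 ↥(Subgroup.centralizer ({x} : Set G))).map
      (Subgroup.centralizer ({x} : Set G)).subtype) {g x y w : G} (hw : w = g * x * g⁻¹)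
    (hy : g⁻¹ * y * g ∈ Q x) : y ∈ Q w := by
  rw [hw]; exact (qfun_mem_conj_iff Q hQ g x y).mpr hy

/-- the base case: for `v ∈ Q z` a non-central element with `z ∈ Q v`, `Q z ⊓ Q v ≤ Q (z v)`. -/
theorem qfun_inf_le_mul_base {G : Type*} [Group G] [Finite G] (Q : G → Subgroup G)
    (hQ : ∀ x : G, Q x = (Cfsg.pCore 2 ↥(Subgroup.centralizer ({x} : Set G))).map
      (Subgroup.centralizer ({x} : Set G)).subtype)
    (z : G) (hz : orderOf z = 2) (hE : Cfsg.IsExtraspecial 2 ↥(Q z))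
    {v : G} (hvQ : v ∈ Q z) (hv1 : v ≠ 1) (hvz : v ≠ z) (hzv : z ∈ Q v) :
    Q z ⊓ Q v ≤ Q (z * v) := by
  have hzz : z * z = 1 := by rw [← pow_two, ← hz, pow_orderOf_eq_one]
  have hz1 : z ≠ 1 := by
    intro h
    rw [h, orderOf_one] at hz
    norm_num at hz
  obtain ⟨hQzc, hzQz, hQzn, hQz2⟩ := pCore_centralizer_facts z hzz (Q z) (hQ z)
  obtain ⟨z', hE'⟩ := exists_extraData hE
  have hzcen : z ∈ (Subgroup.center ↥(Q z)).map (Q z).subtype :=
    (mem_center_map_iff _ z).mpr ⟨hzQz, fun q hq => hQzc q hq⟩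
  have hz'z : z' = z := by
    rcases hE'.zall z hzcen with h | h
    · exact absurd h hz1
    · exact h.symm
  rw [hz'z] at hE'
  have hvZ : v ∉ (Subgroup.center ↥(Q z)).map (Q z).subtype := by
    intro h
    rcases hE'.zall v h with h | h
    · exact hv1 h
    · exact hvz h
  obtain ⟨y, hyQ, hyv⟩ := hE'.exists_conj hvQ hvZ
  intro x hx
  have hxz : x ∈ Q z := hx.1
  have hxv : x ∈ Q v := hx.2
  apply qfun_mem_of_conj Q hQ hyv.symm
  have hy' : y⁻¹ ∈ Q z := (Q z).inv_mem hyQ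
  rcases hE'.conj_eq_or hxz hy' with h | h
  · rw [inv_inv] at h; rw [h]; exact hxv
  · rw [inv_inv] at h; rw [h]; exact (Q v).mul_mem hzv hxv

/-- the general case, for a conjugate `u` of `z`. -/
theorem qfun_inf_le_mul {G : Type*} [Group G] [Finite G] (Q : G → Subgroup G)
    (hQ : ∀ x : G, Q x = (Cfsg.pCore 2 ↥(Subgroup.centralizer ({x} : Set G))).map
      (Subgroup.centralizer ({x} : Set G)).subtype)
    (z : G) (hz : orderOf z = 2) (hE : Cfsg.IsExtraspecial 2 ↥(Q z))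
    {u v g : G} (hu : g * z * g⁻¹ = u) (hvu : v ∈ Q u) (hv1 : v ≠ 1) (hvne : v ≠ u) (huv : u ∈ Q v) :
    Q u ⊓ Q v ≤ Q (u * v) := by
  subst hu
  set v' := g⁻¹ * v * g with hv'
  have hvv' : v = g * v' * g⁻¹ := by rw [hv']; group
  have hv'Q : v' ∈ Q z := (qfun_mem_conj_iff Q hQ g z v).mp hvu
  have hv'1 : v' ≠ 1 := by
    intro h
    apply hv1
    rw [hvv', h]; group
  have hv'z : v' ≠ z := by
    intro h
    apply hvne
    rw [hvv', h]
  have hzv' : z ∈ Q v' := by
    have h1 : g * z * g⁻¹ ∈ Q (g * v' * g⁻¹) := by rw [← hvv']; exact huv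
    have h2 := (qfun_mem_conj_iff Q hQ g v' (g * z * g⁻¹)).mp h1
    have e : g⁻¹ * (g * z * g⁻¹) * g = z := by group
    rw [e] at h2
    exact h2
  have hbase := qfun_inf_le_mul_base Q hQ z hz hE hv'Q hv'1 hv'z hzv'
  intro x hx
  have hx1 : g⁻¹ * x * g ∈ Q z := (qfun_mem_conj_iff Q hQ g z x).mp hx.1
  have hx2 : g⁻¹ * x * g ∈ Q v' := by
    have h1 : x ∈ Q (g * v' * g⁻¹) := by rw [← hvv']; exact hx.2
    exact (qfun_mem_conj_iff Q hQ g v' x).mp h1
  have hx3 := hbase ⟨hx1, hx2⟩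
  have e : g * z * g⁻¹ * v = g * (z * v') * g⁻¹ := by rw [hvv']; group
  exact qfun_mem_of_conj Q hQ e hx3

end Cfsg.Agent.Helper90
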