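import Mathlib
import Cfsg.Agent.Helper90.QFun

set_option autoImplicit false

/-!
Tools for singular subgroups in the large extraspecial setting:
* `extraData_of` / `extraData_conj` : transport of `ExtraData` along conjugation;
* `ExtraData.double_centralizer_finset` : in an extraspecial 2-group `Q` with centre `⟨z⟩`, an element of `Q`
  commuting with `C_Q(S)` lies in `⟨S, z⟩`;
* `exists_hyperplane` : in an elementary abelian 2-group, a subgroup missing `v` extends to an index-two
  subgroup missing `v`.
-/

namespace Cfsg.Agent.Helper90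

open Cfsg

/-- build `ExtraData` from the elementwise fields -/
theorem extraData_of {G : Type*} [Group G] {Q : Subgroup G} {z : G}
    (zQ : z ∈ Q) (z1 : z ≠ 1) (zz : z * z = 1) (zc : ∀ q ∈ Q, q * z = z * q)
    (comm : ∀ x ∈ Q, ∀ y ∈ Q, x * y * x⁻¹ * y⁻¹ = 1 ∨ x * y * x⁻¹ * y⁻¹ = z)
    (cen : ∀ x ∈ Q, (∀ q ∈ Q, q * x = x * q) → x = 1 ∨ x = z) : ExtraData Q z where
  zQ := zQ
  z1 := z1
  zz := zz
  zc := zc
  comm := comm
  cen := cen
  zmem := (mem_center_map_iff Q z).mpr ⟨zQ, zc⟩
  zall := fun w hw => cen w ((mem_center_map_iff Q w).mp hw).1 ((mem_center_map_iff Q w).mp hw).2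

/-- transport of `ExtraData` to a conjugate -/
theorem extraData_conj {G : Type*} [Group G] {Q : Subgroup G} {z : G} (hE : ExtraData Q z) (g : G)
    {Q' : Subgroup G} (hQ' : ∀ y, y ∈ Q' ↔ g⁻¹ * y * g ∈ Q) : ExtraData Q' (g * z * g⁻¹) := by
  have hback : ∀ q ∈ Q, g * q * g⁻¹ ∈ Q' := by
    intro q hq
    rw [hQ']
    have : g⁻¹ * (g * q * g⁻¹) * g = q := by group
    rw [this]; exact hq
  apply extraData_of
  · exact hback z hE.zQ
  · intro h
    apply hE.z1
    calc z = g⁻¹ * (g * z * g⁻¹) * g := by group
      _ = 1 := by rw [h]; group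
  · calc g * z * g⁻¹ * (g * z * g⁻¹) = g * (z * z) * g⁻¹ := by group
      _ = 1 := by rw [hE.zz]; group
  · intro q hq
    have h1 := hE.zc _ ((hQ' q).mp hq)
    calc q * (g * z * g⁻¹) = g * ((g⁻¹ * q * g) * z) * g⁻¹ := by group
      _ = g * (z * (g⁻¹ * q * g)) * g⁻¹ := by rw [h1]
      _ = g * z * g⁻¹ * q := by group
  · intro x hx y hy
    have e : x * y * x⁻¹ * y⁻¹ =
        g * ((g⁻¹ * x * g) * (g⁻¹ * y * g) * (g⁻¹ * x * g)⁻¹ * (g⁻¹ * y * g)⁻¹) * g⁻¹ := by group
    rcases hE.comm _ ((hQ' x).mp hx) _ ((hQ' y).mp hy) with h | h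
    · left; rw [e, h]; group
    · right; rw [e, h]
  · intro x hx hc
    have hc' : ∀ q ∈ Q, q * (g⁻¹ * x * g) = (g⁻¹ * x * g) * q := by
      intro q hq
      have := hc _ (hback q hq)
      calc q * (g⁻¹ * x * g) = g⁻¹ * ((g * q * g⁻¹) * x) * g := by group
        _ = g⁻¹ * (x * (g * q * g⁻¹)) * g := by rw [this]
        _ = (g⁻¹ * x * g) * q := by group
    rcases hE.cen _ ((hQ' x).mp hx) hc' with h | h
    · left
      calc x = g * (g⁻¹ * x * g) * g⁻¹ := by group
        _ = 1 := by rw [h]; group
    · right
      calc x = g * (g⁻¹ * x * g) * g⁻¹ := by group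
        _ = g * z * g⁻¹ := by rw [h]

/-- In the setting `Q x = O_2(C(x))` with `Q z` extraspecial: `ExtraData (Q u) u` for every conjugate `u` of `z`. -/
theorem extraData_qfun {G : Type*} [Group G] [Finite G] (Q : G → Subgroup G)
    (hQ : ∀ x : G, Q x = (Cfsg.pCore 2 ↥(Subgroup.centralizer ({x} : Set G))).map
      (Subgroup.centralizer ({x} : Set G)).subtype)
    (z : G) (hz : orderOf z = 2) (hE : Cfsg.IsExtraspecial 2 ↥(Q z)) {u g : G} (hu : g * z * g⁻¹ = u) :
    ExtraData (Q u) u := by
  have hzz : z * z = 1 := by rw [← pow_two, ← hz, pow_orderOf_eq_one]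
  have hz1 : z ≠ 1 := by
    intro h
    rw [h, orderOf_one] at hz
    norm_num at hz
  obtain ⟨hQzc, hzQz, hQzn, hQz2⟩ := pCore_centralizer_facts z hzz (Q z) (hQ z)
  obtain ⟨z', hE'⟩ := exists_extraData hE
  have hzcen : z ∈ (Subgroup.center ↥(Q z)).map (Q z).subtype :=
    (mem_center_map_iff _ z).mpr ⟨hzQz, fun q hq => hQzc q hq⟩
  have hz'z : z' = z := by
    rcases hE'.zall z hzcen with h | h
    · exact absurd h hz1
    · exact h.symm
  rw [hz'z] at hE'
  subst hu
  exact extraData_conj hE' g (fun y => qfun_mem_conj_iff Q hQ g z y)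

namespace ExtraData

variable {G : Type*} [Group G] {Q : Subgroup G} {z : G}

/-- double centralizer: an element of `Q` commuting with everything in `Q` that centralizes the finite set `S ⊆ Q`
lies in `⟨S, z⟩`. -/
theorem double_centralizer_finset [DecidableEq G] (hE : ExtraData Q z) (S : Finset G) :
    (∀ s ∈ S, s ∈ Q) → ∀ x ∈ Q, (∀ c ∈ Q, (∀ s ∈ S, c * s = s * c) → c * x = x * c) →
      x ∈ Subgroup.closure ((S : Set G) ∪ {z}) := by
  induction S using Finset.induction_on with
  | empty =>
    intro _ x hxQ hx
    have hcen : ∀ q ∈ Q, q * x = x * q := fun q hq => hx q hq (fun s hs => absurd hs (Finset.notMem_empty s))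
    rcases hE.cen x hxQ hcen with h | h
    · rw [h]; exact Subgroup.one_mem _
    · rw [h]; exact Subgroup.subset_closure (Or.inr rfl)
  | insert a S' ha ih =>
    intro hS x hxQ hx
    have haQ : a ∈ Q := hS a (Finset.mem_insert_self a S')
    have hS' : ∀ s ∈ S', s ∈ Q := fun s hs => hS s (Finset.mem_insert_of_mem hs)
    have hmono : Subgroup.closure ((S' : Set G) ∪ {z}) ≤
        Subgroup.closure (((insert a S' : Finset G) : Set G) ∪ {z}) := by
      apply Subgroup.closure_mono
      intro w hw
      rcases hw with hw | hw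
      · left; exact Finset.mem_coe.mpr (Finset.mem_insert_of_mem (Finset.mem_coe.mp hw))
      · right; exact hw
    have ha_cl : a ∈ Subgroup.closure (((insert a S' : Finset G) : Set G) ∪ {z}) :=
      Subgroup.subset_closure (Or.inl (Finset.mem_coe.mpr (Finset.mem_insert_self a S')))
    by_cases hcase : ∀ c ∈ Q, (∀ s ∈ S', c * s = s * c) → c * a = a * c
    · apply hmono
      apply ih hS' x hxQ
      intro c hcQ hc
      apply hx c hcQ
      intro s hs
      rcases Finset.mem_insert.mp hs with h | h
      · rw [h]; exact hcase c hcQ hc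
      · exact hc s h
    · push_neg at hcase
      obtain ⟨y, hyQ, hyS', hya⟩ := hcase
      have hyb : y * a * y⁻¹ = z * a := by
        rcases hE.conj_eq_or haQ hyQ with h | h
        · exfalso
          apply hya
          calc y * a = (y * a * y⁻¹) * y := by group
            _ = a * y := by rw [h]
        · exact h
      -- sublemma
      have sub : ∀ x' ∈ Q, (∀ c ∈ Q, (∀ s ∈ insert a S', c * s = s * c) → c * x' = x' * c) →
          y * x' = x' * y → x' ∈ Subgroup.closure ((S' : Set G) ∪ {z}) := by
        intro x' hx'Q hx' hyx'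
        apply ih hS' x' hx'Q
        intro c hcQ hc
        rcases hE.coset_cases haQ hyQ hyb hcQ with h | h
        · apply hx' c hcQ
          intro s hs
          rcases Finset.mem_insert.mp hs with h' | h'
          · rw [h']; exact h
          · exact hc s h'
        · have hyc : y⁻¹ * c ∈ Q := Q.mul_mem (Q.inv_mem hyQ) hcQ
          have h2 : (y⁻¹ * c) * x' = x' * (y⁻¹ * c) := by
            apply hx' _ hyc
            intro s hs
            rcases Finset.mem_insert.mp hs with h' | h'
            · rw [h']; exact h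
            · have h3 := hyS' s h'
              have h4 := hc s h'
              have h5 : y⁻¹ * s = s * y⁻¹ := by
                calc y⁻¹ * s = y⁻¹ * (s * y) * y⁻¹ := by group
                  _ = y⁻¹ * (y * s) * y⁻¹ := by rw [h3]
                  _ = s * y⁻¹ := by group
              calc y⁻¹ * c * s = y⁻¹ * (c * s) := by group
                _ = y⁻¹ * (s * c) := by rw [h4]
                _ = (y⁻¹ * s) * c := by group
                _ = (s * y⁻¹) * c := by rw [h5]
                _ = s * (y⁻¹ * c) := by group
          calc c * x' = y * ((y⁻¹ * c) * x') := by group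
            _ = y * (x' * (y⁻¹ * c)) := by rw [h2]
            _ = (y * x') * (y⁻¹ * c) := by group
            _ = (x' * y) * (y⁻¹ * c) := by rw [hyx']
            _ = x' * c := by group
      by_cases hxy : y * x = x * y
      · exact hmono (sub x hxQ hx hxy)
      · -- x y x⁻¹ y⁻¹ = z
        have hcomm : x * y * x⁻¹ * y⁻¹ = z := by
          rcases hE.comm x hxQ y hyQ with h | h
          · exfalso
            apply hxy
            calc y * x = (x * y * x⁻¹ * y⁻¹)⁻¹ * (x * y) := by group
              _ = x * y := by rw [h]; group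
          · exact h
        have hxy' : x * y = z * (y * x) := by
          calc x * y = (x * y * x⁻¹ * y⁻¹) * (y * x) := by group
            _ = z * (y * x) := by rw [hcomm]
        have hya' : y * a = z * (a * y) := by
          calc y * a = (y * a * y⁻¹) * y := by group
            _ = z * a * y := by rw [hyb]
            _ = z * (a * y) := by group
        have hzy : y * z = z * y := hE.zc y hyQ
        have hzx : x * z = z * x := hE.zc x hxQ
        have hx'Q : x * a ∈ Q := Q.mul_mem hxQ haQ
        have hx'c : ∀ c ∈ Q, (∀ s ∈ insert a S', c * s = s * c) → c * (x * a) = (x * a) * c := by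
          intro c hcQ hc
          have h1 := hx c hcQ hc
          have h2 := hc a (Finset.mem_insert_self a S')
          calc c * (x * a) = (c * x) * a := by group
            _ = (x * c) * a := by rw [h1]
            _ = x * (c * a) := by group
            _ = x * (a * c) := by rw [h2]
            _ = x * a * c := by group
        have hyx' : y * (x * a) = (x * a) * y := by
          -- y x a = z⁻¹ x y a ... use z z = 1
          have h1 : y * x = z * (x * y) := by
            calc y * x = (z * z) * (y * x) := by rw [hE.zz, one_mul]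
              _ = z * (z * (y * x)) := by group
              _ = z * (x * y) := by rw [← hxy']
          calc y * (x * a) = (y * x) * a := by group
            _ = z * (x * y) * a := by rw [h1]
            _ = z * x * (y * a) := by group
            _ = z * x * (z * (a * y)) := by rw [hya']
            _ = z * (x * z) * (a * y) := by group
            _ = z * (z * x) * (a * y) := by rw [hzx]
            _ = (z * z) * x * (a * y) := by group
            _ = x * a * y := by rw [hE.zz]; group
        have h3 := hmono (sub (x * a) hx'Q hx'c hyx')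
        have : x = (x * a) * a⁻¹ := by group
        rw [this]
        exact Subgroup.mul_mem _ h3 (Subgroup.inv_mem _ ha_cl)

end ExtraData

/-- In an elementary abelian 2-group `U`, a subgroup `F' ≤ U` missing `v ∈ U` extends to an index-two subgroup `H`
missing `v`. -/
theorem exists_hyperplane {G : Type*} [Group G] [Finite G] {U : Subgroup G} (hU2 : ∀ u ∈ U, u * u = 1)
    (hUc : ∀ u ∈ U, ∀ v ∈ U, u * v = v * u) (F' : Subgroup G) (hF' : F' ≤ U) {v : G} (hvU : v ∈ U)
    (hv : v ∉ F') :
    ∃ H : Subgroup G, F' ≤ H ∧ H ≤ U ∧ v ∉ H ∧ ∀ y ∈ U, y ∈ H ∨ y * v ∈ H := by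
  classical
  have hfin : {H : Subgroup G | F' ≤ H ∧ H ≤ U ∧ v ∉ H}.Finite := Set.toFinite _
  obtain ⟨H, hH, hmax⟩ := hfin.exists_maximal ⟨F', le_refl _, hF', hv⟩
  obtain ⟨hFH, hHU, hvH⟩ := hH
  refine ⟨H, hFH, hHU, hvH, ?_⟩
  intro y hyU
  by_contra hcon
  push_neg at hcon
  obtain ⟨hyH, hyvH⟩ := hcon
  -- K = H ∪ H y
  let K : Subgroup G :=
    { carrier := {x | x ∈ U ∧ (x ∈ H ∨ x * y ∈ H)}
      one_mem' := ⟨U.one_mem, Or.inl H.one_mem⟩
      mul_mem' := by
        rintro a b ⟨haU, ha⟩ ⟨hbU, hb⟩
        refine ⟨U.mul_mem haU hbU, ?_⟩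
        rcases ha with ha | ha <;> rcases hb with hb | hb
        · left; exact H.mul_mem ha hb
        · right
          have : a * b * y = a * (b * y) := by group
          rw [this]; exact H.mul_mem ha hb
        · right
          have : a * b * y = (a * y) * b := by
            calc a * b * y = a * (b * y) := by group
              _ = a * (y * b) := by rw [hUc b hbU y hyU]
              _ = (a * y) * b := by group
          rw [this]; exact H.mul_mem ha hb
        · left
          have : a * b = (a * y) * (b * y) := by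
            calc a * b = a * (y * y) * b := by rw [hU2 y hyU]; group
              _ = (a * y) * (y * b) := by group
              _ = (a * y) * (b * y) := by rw [hUc y hyU b hbU]
          rw [this]; exact H.mul_mem ha hb
      inv_mem' := by
        rintro a ⟨haU, ha⟩
        have hinv : a⁻¹ = a := inv_eq_of_mul_eq_one_left (hU2 a haU)
        rw [Set.mem_setOf_eq, hinv]
        exact ⟨haU, ha⟩ }
  have hHK : H ≤ K := fun x hx => ⟨hHU hx, Or.inl hx⟩
  have hyK : y ∈ K := ⟨hyU, Or.inr (by rw [hU2 y hyU]; exact H.one_mem)⟩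
  have hvK : v ∉ K := by
    rintro ⟨_, h | h⟩
    · exact hvH h
    · apply hyvH
      rw [hUc y hyU v hvU]; exact h
  have hKmem : K ∈ {H : Subgroup G | F' ≤ H ∧ H ≤ U ∧ v ∉ H} :=
    ⟨hFH.trans hHK, fun x hx => hx.1, hvK⟩
  have := hmax hKmem hHK
  exact hyH (this hyK)

end Cfsg.Agent.Helper90
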