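import Mathlib
import Cfsg.Agent.Helper90.Singular

set_option autoImplicit false

/-!
More tools for singular subgroups: adjoining an element to a subgroup of an elementary abelian 2-group,
and the automorphism of a subgroup induced by a normalizing element.
-/

namespace Cfsg.Agent.Helper90

/-- `H ∪ H y` inside the elementary abelian 2-group `U`. -/
def adjoinTwo {G : Type*} [Group G] (U H : Subgroup G) (hU2 : ∀ u ∈ U, u * u = 1)
    (hUc : ∀ u ∈ U, ∀ v ∈ U, u * v = v * u) (y : G) (hyU : y ∈ U) : Subgroup G where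
  carrier := {x | x ∈ U ∧ (x ∈ H ∨ x * y ∈ H)}
  one_mem' := ⟨U.one_mem, Or.inl H.one_mem⟩
  mul_mem' := by
    rintro a b ⟨haU, ha⟩ ⟨hbU, hb⟩
    refine ⟨U.mul_mem haU hbU, ?_⟩
    rcases ha with ha | ha <;> rcases hb with hb | hb
    · left; exact H.mul_mem ha hb
    · right
      have : a * b * y = a * (b * y) := by group
      rw [this]; exact H.mul_mem ha hb
    · right
      have : a * b * y = (a * y) * b := by
        calc a * b * y = a * (b * y) := by group
          _ = a * (y * b) := by rw [hUc b hbU y hyU]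
          _ = (a * y) * b := by group
      rw [this]; exact H.mul_mem ha hb
    · left
      have : a * b = (a * y) * (b * y) := by
        calc a * b = a * (y * y) * b := by rw [hU2 y hyU]; group
          _ = (a * y) * (y * b) := by group
          _ = (a * y) * (b * y) := by rw [hUc y hyU b hbU]
      rw [this]; exact H.mul_mem ha hb
  inv_mem' := by
    rintro a ⟨haU, ha⟩
    have hinv : a⁻¹ = a := inv_eq_of_mul_eq_one_left (hU2 a haU)
    show a⁻¹ ∈ U ∧ (a⁻¹ ∈ H ∨ a⁻¹ * y ∈ H)
    rw [hinv]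
    exact ⟨haU, ha⟩

theorem mem_adjoinTwo {G : Type*} [Group G] (U H : Subgroup G) (hU2 : ∀ u ∈ U, u * u = 1)
    (hUc : ∀ u ∈ U, ∀ v ∈ U, u * v = v * u) (y : G) (hyU : y ∈ U) (x : G) :
    x ∈ adjoinTwo U H hU2 hUc y hyU ↔ x ∈ U ∧ (x ∈ H ∨ x * y ∈ H) := Iff.rfl

/-- conjugation by a normalizing element as an automorphism of the subgroup. -/
def conjEquivOfNormalizer {G : Type*} [Group G] (U : Subgroup G) (c : G)
    (hc : c ∈ Subgroup.normalizer (U : Set G)) : ↥U ≃* ↥U where
  toFun u := ⟨c * (u : G) * c⁻¹, conj_mem_of_mem_normalizer hc u.2⟩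
  invFun u := ⟨c⁻¹ * (u : G) * c, inv_conj_mem_of_mem_normalizer hc u.2⟩
  left_inv u := by
    apply Subtype.ext
    show c⁻¹ * (c * (u : G) * c⁻¹) * c = u
    group
  right_inv u := by
    apply Subtype.ext
    show c * (c⁻¹ * (u : G) * c) * c⁻¹ = u
    group
  map_mul' u v := by
    apply Subtype.ext
    show c * ((u : G) * (v : G)) * c⁻¹ = (c * (u : G) * c⁻¹) * (c * (v : G) * c⁻¹)
    group

theorem conjEquivOfNormalizer_apply {G : Type*} [Group G] (U : Subgroup G) (c : G)
    (hc : c ∈ Subgroup.normalizer (U : Set G)) (u : ↥U) :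
    ((conjEquivOfNormalizer U c hc u : ↥U) : G) = c * (u : G) * c⁻¹ := rfl

end Cfsg.Agent.Helper90
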