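import Mathlib
import Cfsg.Agent.Helper90.Singular2
import Cfsg.Agent.Helper90.Conj

set_option autoImplicit false

/-!
The holomorph of an elementary abelian 2-group: `G = U ⋊ M` with `M` acting faithfully on `U` and inducing
every automorphism.  For an involution `z ∈ U` we study `T = {g | [g, U] ⊆ ⟨z⟩}`.
-/

namespace Cfsg.Agent.Helper90

/-- The holomorph context. -/
structure HolCtx {G : Type*} [Group G] (U M : Subgroup G) (z : G) : Prop where
  Unorm : ∀ g : G, ∀ u ∈ U, g * u * g⁻¹ ∈ U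
  Ucomm : ∀ u ∈ U, ∀ v ∈ U, u * v = v * u
  Usq : ∀ u ∈ U, u * u = 1
  inf : ∀ x, x ∈ U → x ∈ M → x = 1
  sup : ∀ g : G, ∃ u ∈ U, ∃ m ∈ M, g = u * m
  faith : ∀ m ∈ M, (∀ u ∈ U, m * u * m⁻¹ = u) → m = 1
  full : ∀ φ : ↥U ≃* ↥U, ∃ m ∈ M, ∀ u : ↥U, ((φ u : ↥U) : G) = m * u * m⁻¹
  zU : z ∈ U
  z1 : z ≠ 1

namespace HolCtx

variable {G : Type*} [Group G] {U M : Subgroup G} {z : G}

theorem zz (h : HolCtx U M z) : z * z = 1 := h.Usq z h.zU

theorem zinv (h : HolCtx U M z) : z⁻¹ = z := inv_eq_of_mul_eq_one_left h.zz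

theorem Uinv (h : HolCtx U M z) {u : G} (hu : u ∈ U) : u⁻¹ = u := inv_eq_of_mul_eq_one_left (h.Usq u hu)

theorem Unorm' (h : HolCtx U M z) (g : G) {u : G} (hu : u ∈ U) : g⁻¹ * u * g ∈ U := by
  have := h.Unorm g⁻¹ u hu
  rwa [inv_inv] at this

/-- `C_G(U) = U`. -/
theorem cent_U (h : HolCtx U M z) {g : G} (hg : ∀ u ∈ U, g * u = u * g) : g ∈ U := by
  obtain ⟨u0, hu0, m, hm, rfl⟩ := h.sup g
  have hm1 : m = 1 := by
    apply h.faith m hm
    intro u hu
    have h1 := hg u hu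
    -- u0 * m * u = u * (u0 * m)
    have h2 : m * u = u * m := by
      have : u0 * (m * u) = u0 * (u * m) := by
        calc u0 * (m * u) = u0 * m * u := by group
          _ = u * (u0 * m) := h1
          _ = (u * u0) * m := by group
          _ = (u0 * u) * m := by rw [h.Ucomm u hu u0 hu0]
          _ = u0 * (u * m) := by group
      exact mul_left_cancel this
    calc m * u * m⁻¹ = (u * m) * m⁻¹ := by rw [h2]
      _ = u := by group
  rw [hm1, mul_one]
  exact hu0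

/-- An element acting as `u ↦ u` or `u ↦ u z` on `U` fixes `z`. -/
theorem fix_z_of (h : HolCtx U M z) {g : G}
    (hg : ∀ u ∈ U, g * u * g⁻¹ = u ∨ g * u * g⁻¹ = u * z) : g * z * g⁻¹ = z := by
  rcases hg z h.zU with h1 | h1
  · exact h1
  · exfalso
    rw [h.zz] at h1
    apply h.z1
    have : z = g⁻¹ * (g * z * g⁻¹) * g := by group
    rw [this, h1]
    group

/-- The subgroup `T` of elements acting trivially on `U / ⟨z⟩` (and on `⟨z⟩`). -/
def T (h : HolCtx U M z) : Subgroup G where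
  carrier := {g | ∀ u ∈ U, g * u * g⁻¹ = u ∨ g * u * g⁻¹ = u * z}
  one_mem' := by
    intro u _
    left
    group
  mul_mem' := by
    intro g k hg hk u hu
    have e : g * k * u * (g * k)⁻¹ = g * (k * u * k⁻¹) * g⁻¹ := by group
    rw [e]
    rcases hk u hu with h1 | h1
    · rw [h1]; exact hg u hu
    · rw [h1]
      have e2 : g * (u * z) * g⁻¹ = (g * u * g⁻¹) * (g * z * g⁻¹) := by group
      rw [e2, h.fix_z_of hg]
      rcases hg u hu with h2 | h2
      · right; rw [h2]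
      · left; rw [h2, mul_assoc, h.zz, mul_one]
  inv_mem' := by
    intro g hg u hu
    have hv : g⁻¹ * u * g ∈ U := h.Unorm' g hu
    have e : g⁻¹ * u * g⁻¹⁻¹ = g⁻¹ * u * g := by rw [inv_inv]
    rw [e]
    have e2 : g * (g⁻¹ * u * g) * g⁻¹ = u := by group
    rcases hg _ hv with h1 | h1
    · left
      rw [e2] at h1
      exact h1.symm
    · right
      rw [e2] at h1
      calc g⁻¹ * u * g = (g⁻¹ * u * g) * (z * z) := by rw [h.zz, mul_one]
        _ = (g⁻¹ * u * g * z) * z := by group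
        _ = u * z := by rw [← h1]

theorem mem_T (h : HolCtx U M z) {g : G} :
    g ∈ h.T ↔ ∀ u ∈ U, g * u * g⁻¹ = u ∨ g * u * g⁻¹ = u * z := Iff.rfl

theorem U_le_T (h : HolCtx U M z) : U ≤ h.T := by
  intro v hv u hu
  left
  calc v * u * v⁻¹ = (u * v) * v⁻¹ := by rw [h.Ucomm v hv u hu]
    _ = u := by group

theorem T_fix_z (h : HolCtx U M z) {g : G} (hg : g ∈ h.T) : g * z * g⁻¹ = z := h.fix_z_of hg

theorem T_comm_z (h : HolCtx U M z) {g : G} (hg : g ∈ h.T) : g * z = z * g := by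
  have := h.T_fix_z hg
  calc g * z = (g * z * g⁻¹) * g := by group
    _ = z * g := by rw [this]

/-- `T` is normalized by the centralizer of `z`. -/
theorem conj_mem_T (h : HolCtx U M z) {c g : G} (hc : c * z = z * c) (hg : g ∈ h.T) :
    c * g * c⁻¹ ∈ h.T := by
  intro u hu
  have hv : c⁻¹ * u * c ∈ U := h.Unorm' c hu
  have e : c * g * c⁻¹ * u * (c * g * c⁻¹)⁻¹ = c * (g * (c⁻¹ * u * c) * g⁻¹) * c⁻¹ := by group
  rw [e]
  rcases hg _ hv with h1 | h1
  · left
    rw [h1]; group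
  · right
    rw [h1]
    calc c * (c⁻¹ * u * c * z) * c⁻¹ = u * (c * z) * c⁻¹ := by group
      _ = u * (z * c) * c⁻¹ := by rw [hc]
      _ = u * z := by group

/-- Decomposition of elements of `T`. -/
theorem T_decomp (h : HolCtx U M z) {t : G} (ht : t ∈ h.T) :
    ∃ u ∈ U, ∃ w ∈ M, w ∈ h.T ∧ t = u * w := by
  obtain ⟨u, hu, m, hm, rfl⟩ := h.sup t
  refine ⟨u, hu, m, hm, ?_, rfl⟩
  have : m = u⁻¹ * (u * m) := by group
  rw [this]
  exact h.T.mul_mem (h.T.inv_mem (h.U_le_T hu)) ht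

/-- Two elements of `T` act on `U` in commuting ways. -/
theorem T_act_comm (h : HolCtx U M z) {s t : G} (hs : s ∈ h.T) (ht : t ∈ h.T) {u : G} (hu : u ∈ U) :
    s * t * u * (s * t)⁻¹ = t * s * u * (t * s)⁻¹ := by
  have e1 : s * t * u * (s * t)⁻¹ = s * (t * u * t⁻¹) * s⁻¹ := by group
  have e2 : t * s * u * (t * s)⁻¹ = t * (s * u * s⁻¹) * t⁻¹ := by group
  rw [e1, e2]
  have hsz := h.T_fix_z hs
  have htz := h.T_fix_z ht
  have es : ∀ x, s * (x * z) * s⁻¹ = (s * x * s⁻¹) * z := by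
    intro x
    calc s * (x * z) * s⁻¹ = (s * x * s⁻¹) * (s * z * s⁻¹) := by group
      _ = _ := by rw [hsz]
  have et : ∀ x, t * (x * z) * t⁻¹ = (t * x * t⁻¹) * z := by
    intro x
    calc t * (x * z) * t⁻¹ = (t * x * t⁻¹) * (t * z * t⁻¹) := by group
      _ = _ := by rw [htz]
  rcases hs u hu with h1 | h1 <;> rcases ht u hu with h2 | h2 <;> simp only [h1, h2, es, et]

/-- Elements of `T ∩ M` commute. -/
theorem TM_comm (h : HolCtx U M z) {w w' : G} (hw : w ∈ h.T) (hwM : w ∈ M) (hw' : w' ∈ h.T)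
    (hw'M : w' ∈ M) : w * w' = w' * w := by
  have key : (w' * w)⁻¹ * (w * w') = 1 := by
    apply h.faith _ (M.mul_mem (M.inv_mem (M.mul_mem hw'M hwM)) (M.mul_mem hwM hw'M))
    intro u hu
    have h1 := h.T_act_comm hw hw' hu
    calc (w' * w)⁻¹ * (w * w') * u * ((w' * w)⁻¹ * (w * w'))⁻¹
        = (w' * w)⁻¹ * (w * w' * u * (w * w')⁻¹) * (w' * w) := by group
      _ = (w' * w)⁻¹ * (w' * w * u * (w' * w)⁻¹) * (w' * w) := by rw [h1]
      _ = u := by group
  calc w * w' = (w' * w) * ((w' * w)⁻¹ * (w * w')) := by group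
    _ = w' * w := by rw [key, mul_one]

/-- Elements of `T ∩ M` are involutions. -/
theorem TM_sq (h : HolCtx U M z) {w : G} (hw : w ∈ h.T) (hwM : w ∈ M) : w * w = 1 := by
  apply h.faith _ (M.mul_mem hwM hwM)
  intro u hu
  have e1 : w * w * u * (w * w)⁻¹ = w * (w * u * w⁻¹) * w⁻¹ := by group
  rw [e1]
  rcases hw u hu with h1 | h1
  · rw [h1, h1]
  · rw [h1]
    calc w * (u * z) * w⁻¹ = (w * u * w⁻¹) * (w * z * w⁻¹) := by group
      _ = u * z * z := by rw [h1, h.T_fix_z hw]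
      _ = u := by rw [mul_assoc, h.zz, mul_one]

/-- Squares in `T` lie in `{1, z}`. -/
theorem T_sq (h : HolCtx U M z) {t : G} (ht : t ∈ h.T) : t * t = 1 ∨ t * t = z := by
  obtain ⟨u, hu, w, hwM, hwT, rfl⟩ := h.T_decomp ht
  have e : u * w * (u * w) = u * (w * u * w⁻¹) * (w * w) := by group
  rw [e, h.TM_sq hwT hwM, mul_one]
  rcases hwT u hu with h1 | h1
  · left; rw [h1]; exact h.Usq u hu
  · right; rw [h1, ← mul_assoc, h.Usq u hu, one_mul]

theorem mulZ (h : HolCtx U M z) {x y : G} (hx : x = 1 ∨ x = z) (hy : y = 1 ∨ y = z) :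
    x * y = 1 ∨ x * y = z := by
  rcases hx with rfl | rfl <;> rcases hy with rfl | rfl
  · left; rw [mul_one]
  · right; rw [one_mul]
  · right; rw [mul_one]
  · left; exact h.zz

/-- Commutators in `T` lie in `{1, z}`. -/
theorem T_comm (h : HolCtx U M z) {s t : G} (hs : s ∈ h.T) (ht : t ∈ h.T) :
    s * t * s⁻¹ * t⁻¹ = 1 ∨ s * t * s⁻¹ * t⁻¹ = z := by
  have hst := h.T.mul_mem hs ht
  have e : s * t * s⁻¹ * t⁻¹ = (s * t * (s * t)) * ((t * t)⁻¹ * (t * (s * s)⁻¹ * t⁻¹)) := by group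
  have hzc : t * z * t⁻¹ = z := h.T_fix_z ht
  rw [e]
  have hb : (t * t)⁻¹ = 1 ∨ (t * t)⁻¹ = z := by
    rcases h.T_sq ht with h2 | h2
    · left; rw [h2, inv_one]
    · right; rw [h2, h.zinv]
  have hc : t * (s * s)⁻¹ * t⁻¹ = 1 ∨ t * (s * s)⁻¹ * t⁻¹ = z := by
    rcases h.T_sq hs with h3 | h3
    · left; rw [h3]; group
    · right; rw [h3, h.zinv, hzc]
  exact h.mulZ (h.T_sq hst) (h.mulZ hb hc)

/-- Realizing a "transvection" of `U` by an element of `M`: for a subgroup `H ≤ U` of index at most two and a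
direction `a ∈ H`. -/
theorem exists_transvection (h : HolCtx U M z) {H : Subgroup G} (hH : H ≤ U)
    (hidx : ∀ x ∈ U, ∀ y ∈ U, x ∉ H → y ∉ H → x * y ∈ H) {a : G} (ha : a ∈ H) :
    ∃ m ∈ M, ∀ u ∈ U, (u ∈ H → m * u * m⁻¹ = u) ∧ (u ∉ H → m * u * m⁻¹ = u * a) := by
  classical
  have haU : a ∈ U := hH ha
  let f : ↥U → ↥U := fun x => if (x : G) ∈ H then x else x * ⟨a, haU⟩
  have hf_in : ∀ x : ↥U, (x : G) ∈ H → ((f x : ↥U) : G) = x := by
    intro x hx
    simp only [f, if_pos hx]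
  have hf_out : ∀ x : ↥U, (x : G) ∉ H → ((f x : ↥U) : G) = x * a := by
    intro x hx
    simp only [f, if_neg hx]
    rfl
  have hout_mem : ∀ x : G, x ∉ H → x * a ∉ H := by
    intro x hx hxa
    apply hx
    have : x = (x * a) * a⁻¹ := by group
    rw [this]
    exact H.mul_mem hxa (H.inv_mem ha)
  have hinv : ∀ x : ↥U, f (f x) = x := by
    intro x
    apply Subtype.ext
    by_cases hx : (x : G) ∈ H
    · have h1 := hf_in x hx
      have h2 : ((f x : ↥U) : G) ∈ H := by rw [h1]; exact hx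
      rw [hf_in (f x) h2, h1]
    · have h1 := hf_out x hx
      have h2 : ((f x : ↥U) : G) ∉ H := by rw [h1]; exact hout_mem _ hx
      rw [hf_out (f x) h2, h1, mul_assoc, h.Usq a haU, mul_one]
  have hmul : ∀ x y : ↥U, f (x * y) = f x * f y := by
    intro x y
    apply Subtype.ext
    rw [Subgroup.coe_mul]
    by_cases hx : (x : G) ∈ H <;> by_cases hy : (y : G) ∈ H
    · have hxy : ((x * y : ↥U) : G) ∈ H := by rw [Subgroup.coe_mul]; exact H.mul_mem hx hy
      rw [hf_in _ hxy, hf_in x hx, hf_in y hy, Subgroup.coe_mul]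
    · have hxy : ((x * y : ↥U) : G) ∉ H := by
        rw [Subgroup.coe_mul]
        intro hc
        apply hy
        have : (y : G) = (x : G)⁻¹ * ((x : G) * y) := by group
        rw [this]
        exact H.mul_mem (H.inv_mem hx) hc
      rw [hf_out _ hxy, hf_in x hx, hf_out y hy, Subgroup.coe_mul, mul_assoc]
    · have hxy : ((x * y : ↥U) : G) ∉ H := by
        rw [Subgroup.coe_mul]
        intro hc
        apply hx
        have : (x : G) = ((x : G) * y) * (y : G)⁻¹ := by group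
        rw [this]
        exact H.mul_mem hc (H.inv_mem hy)
      rw [hf_out _ hxy, hf_out x hx, hf_in y hy, Subgroup.coe_mul]
      calc (x : G) * y * a = x * (y * a) := by group
        _ = x * (a * y) := by rw [h.Ucomm y y.2 a haU]
        _ = x * a * y := by group
    · have hxy : ((x * y : ↥U) : G) ∈ H := by
        rw [Subgroup.coe_mul]
        exact hidx x x.2 y y.2 hx hy
      rw [hf_in _ hxy, hf_out x hx, hf_out y hy, Subgroup.coe_mul]
      calc (x : G) * y = x * (y * (a * a)) := by rw [h.Usq a haU, mul_one]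
        _ = x * ((y * a) * a) := by group
        _ = x * ((a * y) * a) := by rw [h.Ucomm y y.2 a haU]
        _ = x * a * (y * a) := by group
  let φ : ↥U ≃* ↥U :=
    { toFun := f
      invFun := f
      left_inv := hinv
      right_inv := hinv
      map_mul' := hmul }
  obtain ⟨m, hm, hmφ⟩ := h.full φ
  refine ⟨m, hm, fun u hu => ⟨fun huH => ?_, fun huH => ?_⟩⟩
  · have := hmφ ⟨u, hu⟩
    rw [← this]
    exact hf_in ⟨u, hu⟩ huH
  · have := hmφ ⟨u, hu⟩
    rw [← this]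
    exact hf_out ⟨u, hu⟩ huH

/-- A hyperplane in the sense of `exists_hyperplane` has index at most two. -/
theorem idx_of_hyp (h : HolCtx U M z) {H : Subgroup G} {v : G} (hv : v ∈ U)
    (hyp : ∀ y ∈ U, y ∈ H ∨ y * v ∈ H) :
    ∀ x ∈ U, ∀ y ∈ U, x ∉ H → y ∉ H → x * y ∈ H := by
  intro x hx y hy hxH hyH
  have h1 : x * v ∈ H := (hyp x hx).resolve_left hxH
  have h2 : y * v ∈ H := (hyp y hy).resolve_left hyH
  have e : x * y = (x * v) * (y * v) := by
    calc x * y = x * ((v * v) * y) := by rw [h.Usq v hv, one_mul]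
      _ = x * v * (v * y) := by group
      _ = x * v * (y * v) := by rw [h.Ucomm v hv y hy]
  rw [e]
  exact H.mul_mem h1 h2

/-- For `x ∈ U` outside `Z = {1, z}` some element of `T ∩ M` moves `x` to `x z`. -/
theorem exists_moving [Finite G] (h : HolCtx U M z) (Z : Subgroup G) (hZ : ∀ x, x ∈ Z ↔ x = 1 ∨ x = z)
    {x : G} (hxU : x ∈ U) (hxZ : x ∉ Z) :
    ∃ m ∈ M, m ∈ h.T ∧ m * x * m⁻¹ = x * z := by
  have hZU : Z ≤ U := by
    intro y hy
    rcases (hZ y).mp hy with rfl | rfl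
    · exact U.one_mem
    · exact h.zU
  obtain ⟨H, hZH, hHU, hxH, hyp⟩ := exists_hyperplane h.Usq h.Ucomm Z hZU hxU hxZ
  have hzH : z ∈ H := hZH ((hZ z).mpr (Or.inr rfl))
  obtain ⟨m, hm, hmu⟩ := h.exists_transvection hHU (h.idx_of_hyp hxU hyp) hzH
  refine ⟨m, hm, ?_, (hmu x hxU).2 hxH⟩
  intro u hu
  by_cases huH : u ∈ H
  · left; exact (hmu u hu).1 huH
  · right; exact (hmu u hu).2 huH

/-- The centre of `T` is `{1, z}`. -/
theorem T_center [Finite G] (h : HolCtx U M z) (Z : Subgroup G) (hZ : ∀ x, x ∈ Z ↔ x = 1 ∨ x = z)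
    {x : G} (hx : ∀ t ∈ h.T, t * x = x * t) : x = 1 ∨ x = z := by
  have hxU : x ∈ U := h.cent_U (fun u hu => (hx u (h.U_le_T hu)).symm)
  by_contra hcon
  have hxZ : x ∉ Z := fun hc => hcon ((hZ x).mp hc)
  obtain ⟨m, _, hmT, hmx⟩ := h.exists_moving Z hZ hxU hxZ
  have h1 : m * x * m⁻¹ = x := by
    rw [hx m hmT]; group
  rw [h1] at hmx
  apply h.z1
  have : x * 1 = x * z := by rw [mul_one]; exact hmx
  exact (mul_left_cancel this).symm

/-- `T` is a 2-group. -/
theorem T_isPGroup (h : HolCtx U M z) : IsPGroup 2 ↥h.T := by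
  intro g
  refine ⟨2, ?_⟩
  apply Subtype.ext
  rw [Subgroup.coe_pow, Subgroup.coe_one]
  have e : (g : G) ^ 2 ^ 2 = ((g : G) * g) * ((g : G) * g) := by
    norm_num [pow_succ, mul_assoc]
  rw [e]
  rcases h.T_sq g.2 with h1 | h1
  · rw [h1, mul_one]
  · rw [h1, h.zz]

end HolCtx

end Cfsg.Agent.Helper90
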