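import Mathlib
import Cfsg.Prelude.Def_MonsterType
import Cfsg.Agent.Helper90.Holomorph
import Cfsg.Agent.Helper90.Basic

set_option autoImplicit false

/-!
In the holomorph context, `T = O₂(C_G(z))`.
-/

namespace Cfsg.Agent.Helper90

open Cfsg

/-- the `p`-core is normal (copy of `pCore_normal`, to keep imports light) -/
theorem pCore_normal_hol (p : ℕ) (G : Type*) [Group G] : (Cfsg.pCore p G).Normal := by
  have hc : (Cfsg.pCore p G).Characteristic := by
    rw [Subgroup.characteristic_iff_map_le]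
    intro φ
    unfold Cfsg.pCore
    rw [Subgroup.map_le_iff_le_comap]
    refine sSup_le fun N hN => ?_
    rw [← Subgroup.map_le_iff_le_comap]
    refine le_sSup ⟨?_, ?_⟩
    · exact Subgroup.Normal.map hN.1 φ.toMonoidHom φ.surjective
    · exact hN.2.map φ.toMonoidHom
  exact Subgroup.normal_of_characteristic _

/-- A nontrivial normal subgroup of a finite `p`-group meets the centre nontrivially
(same statement and proof as helper25's `exists_mem_center_of_normal_ne_bot`). -/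
theorem exists_mem_center_of_normal_hol {p : ℕ} [Fact p.Prime] {P : Type*} [Group P] [Finite P]
    (hP : IsPGroup p P) (N : Subgroup P) [hN : N.Normal] (hne : N ≠ ⊥) :
    ∃ c ∈ N, c ≠ 1 ∧ c ∈ Subgroup.center P := by
  have hP' : IsPGroup p (ConjAct P) := hP.of_equiv ConjAct.toConjAct
  have hNp : IsPGroup p N := hP.to_subgroup N
  have hnt : Nontrivial N := (Subgroup.nontrivial_iff_ne_bot N).mpr hne
  have hdvd : p ∣ Nat.card N := by
    obtain ⟨n, hn0, hn⟩ := hNp.nontrivial_iff_card.mp hnt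
    exact hn.symm ▸ dvd_pow_self _ (ne_of_gt hn0)
  have h1 : (1 : N) ∈ MulAction.fixedPoints (ConjAct P) N := by
    intro g
    exact smul_one g
  obtain ⟨b, hb, hb1⟩ := hP'.exists_fixed_point_of_prime_dvd_card_of_fixed_point N hdvd h1
  refine ⟨(b : P), b.2, ?_, ?_⟩
  · intro h
    apply hb1
    exact Subtype.ext h.symm
  · rw [Subgroup.mem_center_iff]
    intro g
    have := hb (ConjAct.toConjAct g)
    have h2 := congrArg (Subtype.val) this
    rw [ConjAct.Subgroup.val_conj_smul, ConjAct.smul_def, ConjAct.ofConjAct_toConjAct] at h2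
    calc g * (b : P) = (g * b * g⁻¹) * g := by group
      _ = b * g := by rw [h2]

namespace HolCtx

variable {G : Type*} [Group G] {U M : Subgroup G} {z : G}

/-- A 2-subgroup `R ≥ U` centralizing `z` acts trivially modulo `⟨z⟩` on some element of `U` outside `⟨z⟩`. -/
theorem exists_fixed_mod_z [Finite G] (h : HolCtx U M z) (Z : Subgroup G)
    (hZ : ∀ x, x ∈ Z ↔ x = 1 ∨ x = z) (R : Subgroup G) (hR2 : IsPGroup 2 ↥R) (hUR : U ≤ R)
    (hRz : ∀ g ∈ R, g * z = z * g) (hU4 : ∃ x ∈ U, x ∉ Z) :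
    ∃ u ∈ U, u ∉ Z ∧ ∀ g ∈ R, g * u * g⁻¹ = u ∨ g * u * g⁻¹ = u * z := by
  haveI : Fact (Nat.Prime 2) := ⟨Nat.prime_two⟩
  let Zr : Subgroup ↥R := Z.subgroupOf R
  haveI hZrn : Zr.Normal := by
    refine ⟨fun n hn g => ?_⟩
    have hn' : (n : G) ∈ Z := Subgroup.mem_subgroupOf.mp hn
    show g * n * g⁻¹ ∈ Z.subgroupOf R
    rw [Subgroup.mem_subgroupOf]
    have e : ((g * n * g⁻¹ : ↥R) : G) = (g : G) * n * (g : G)⁻¹ := by
      simp
    rw [e]
    rcases (hZ _).mp hn' with h1 | h1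
    · rw [h1]
      have : (g : G) * 1 * (g : G)⁻¹ = 1 := by group
      rw [this]; exact Z.one_mem
    · rw [h1]
      have : (g : G) * z * (g : G)⁻¹ = z := by
        rw [hRz g g.2]; group
      rw [this]; exact (hZ z).mpr (Or.inr rfl)
  let Ur : Subgroup ↥R := U.subgroupOf R
  have hUrn : Ur.Normal := by
    refine ⟨fun n hn g => ?_⟩
    have hn' : (n : G) ∈ U := Subgroup.mem_subgroupOf.mp hn
    show g * n * g⁻¹ ∈ U.subgroupOf R
    rw [Subgroup.mem_subgroupOf]
    have e : ((g * n * g⁻¹ : ↥R) : G) = (g : G) * n * (g : G)⁻¹ := by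
      simp
    rw [e]
    exact h.Unorm g n hn'
  let π : ↥R →* ↥R ⧸ Zr := QuotientGroup.mk' Zr
  let Ub : Subgroup (↥R ⧸ Zr) := Ur.map π
  haveI hUbn : Ub.Normal := Subgroup.Normal.map hUrn π (QuotientGroup.mk'_surjective Zr)
  have hne : Ub ≠ ⊥ := by
    obtain ⟨x, hxU, hxZ⟩ := hU4
    intro hbot
    have h1 : π ⟨x, hUR hxU⟩ ∈ Ub := ⟨⟨x, hUR hxU⟩, Subgroup.mem_subgroupOf.mpr hxU, rfl⟩
    rw [hbot, Subgroup.mem_bot] at h1
    have h2 : (⟨x, hUR hxU⟩ : ↥R) ∈ Zr := (QuotientGroup.eq_one_iff _).mp h1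
    exact hxZ (Subgroup.mem_subgroupOf.mp h2)
  have hRb : IsPGroup 2 (↥R ⧸ Zr) := hR2.to_quotient Zr
  obtain ⟨ub, hub, hub1, hubc⟩ := exists_mem_center_of_normal_hol hRb Ub hne
  obtain ⟨ur, hur, rfl⟩ := hub
  have huU : (ur : G) ∈ U := Subgroup.mem_subgroupOf.mp hur
  refine ⟨(ur : G), huU, ?_, ?_⟩
  · intro hc
    apply hub1
    exact (QuotientGroup.eq_one_iff _).mpr (Subgroup.mem_subgroupOf.mpr hc)
  · intro g hg
    have hcomm : π ⟨g, hg⟩ * π ur = π ur * π ⟨g, hg⟩ := Subgroup.mem_center_iff.mp hubc _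
    have h1 : π (⟨g, hg⟩ * ur * (⟨g, hg⟩ : ↥R)⁻¹ * ur⁻¹) = 1 := by
      rw [map_mul, map_mul, map_mul, map_inv, map_inv, hcomm]
      group
    have h2 : (⟨g, hg⟩ * ur * (⟨g, hg⟩ : ↥R)⁻¹ * ur⁻¹ : ↥R) ∈ Zr := (QuotientGroup.eq_one_iff _).mp h1
    have h3 : g * (ur : G) * g⁻¹ * (ur : G)⁻¹ ∈ Z := by
      have := Subgroup.mem_subgroupOf.mp h2
      simpa using this
    rcases (hZ _).mp h3 with h4 | h4
    · left
      calc g * (ur : G) * g⁻¹ = (g * (ur : G) * g⁻¹ * (ur : G)⁻¹) * ur := by group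
        _ = ur := by rw [h4, one_mul]
    · right
      calc g * (ur : G) * g⁻¹ = (g * (ur : G) * g⁻¹ * (ur : G)⁻¹) * ur := by group
        _ = z * ur := by rw [h4]
        _ = ur * z := h.Ucomm z h.zU _ huU

/-- `T` is the largest normal 2-subgroup of `C_G(Z)`. -/
theorem core_eq_T [Finite G] (h : HolCtx U M z) (Z : Subgroup G)
    (hZ : ∀ x, x ∈ Z ↔ x = 1 ∨ x = z) (hU4 : ∃ x ∈ U, x ∉ Z) :
    (Cfsg.pCore 2 ↥(Subgroup.centralizer (Z : Set G))).map (Subgroup.centralizer (Z : Set G)).subtype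
      = h.T := by
  set C := Subgroup.centralizer (Z : Set G) with hCdef
  have hzZ : z ∈ Z := (hZ z).mpr (Or.inr rfl)
  have hZU : Z ≤ U := by
    intro y hy
    rcases (hZ y).mp hy with rfl | rfl
    · exact U.one_mem
    · exact h.zU
  have hC_iff : ∀ g : G, g ∈ C ↔ g * z = z * g := by
    intro g
    rw [hCdef, Subgroup.mem_centralizer_iff]
    constructor
    · intro hg; exact (hg z hzZ).symm
    · intro hg y hy
      rcases (hZ y).mp hy with rfl | rfl
      · rw [one_mul, mul_one]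
      · exact hg.symm
  have hTC : h.T ≤ C := fun t ht => (hC_iff t).mpr (h.T_comm_z ht)
  -- first inclusion
  have hge : h.T ≤ (Cfsg.pCore 2 ↥C).map C.subtype := by
    have hn : (h.T.subgroupOf C).Normal := by
      refine ⟨fun n hn g => ?_⟩
      rw [Subgroup.mem_subgroupOf] at hn ⊢
      have e : ((g * n * g⁻¹ : ↥C) : G) = (g : G) * n * (g : G)⁻¹ := by simp
      rw [e]
      exact h.conj_mem_T ((hC_iff g).mp g.2) hn
    have hp : IsPGroup 2 (h.T.subgroupOf C) := h.T_isPGroup.comap_subtype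
    have hle : h.T.subgroupOf C ≤ Cfsg.pCore 2 ↥C := le_sSup ⟨hn, hp⟩
    calc h.T = (h.T.subgroupOf C).map C.subtype := (Subgroup.map_subgroupOf_eq_of_le hTC).symm
      _ ≤ (Cfsg.pCore 2 ↥C).map C.subtype := Subgroup.map_mono hle
  apply le_antisymm _ hge
  -- second inclusion
  set R := (Cfsg.pCore 2 ↥C).map C.subtype with hRdef
  have hRC : R ≤ C := by
    rintro _ ⟨y, _, rfl⟩
    exact y.2
  have hR2 : IsPGroup 2 ↥R := (pCore_isPGroup 2 ↥C).map C.subtype
  have hRn : ∀ c ∈ C, ∀ g ∈ R, c * g * c⁻¹ ∈ R := by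
    rintro c hc _ ⟨y, hy, rfl⟩
    have hnorm := pCore_normal_hol 2 ↥C
    refine ⟨⟨c, hc⟩ * y * (⟨c, hc⟩ : ↥C)⁻¹, hnorm.conj_mem y hy ⟨c, hc⟩, ?_⟩
    simp
  have hUR : U ≤ R := le_trans h.U_le_T hge
  have hRz : ∀ g ∈ R, g * z = z * g := fun g hg => (hC_iff g).mp (hRC hg)
  obtain ⟨u0, hu0U, hu0Z, hu0⟩ := h.exists_fixed_mod_z Z hZ R hR2 hUR hRz hU4
  -- the property is invariant under `C`
  have stepB : ∀ c ∈ C, ∀ u ∈ U, (∀ g ∈ R, g * u * g⁻¹ = u ∨ g * u * g⁻¹ = u * z) →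
      ∀ g ∈ R, g * (c * u * c⁻¹) * g⁻¹ = c * u * c⁻¹ ∨ g * (c * u * c⁻¹) * g⁻¹ = c * u * c⁻¹ * z := by
    intro c hc u _ hP g hg
    have hg' : c⁻¹ * g * c⁻¹⁻¹ ∈ R := hRn c⁻¹ (C.inv_mem hc) g hg
    rw [inv_inv] at hg'
    have e : g * (c * u * c⁻¹) * g⁻¹ = c * ((c⁻¹ * g * c) * u * (c⁻¹ * g * c)⁻¹) * c⁻¹ := by group
    rw [e]
    rcases hP _ hg' with h1 | h1
    · left; rw [h1]
    · right
      rw [h1]
      have hcz := (hC_iff c).mp hc
      calc c * (u * z) * c⁻¹ = c * u * (z * c⁻¹) := by group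
        _ = c * u * (c⁻¹ * z) := by
            have : z * c⁻¹ = c⁻¹ * z := by
              calc z * c⁻¹ = c⁻¹ * (c * z) * c⁻¹ := by group
                _ = c⁻¹ * (z * c) * c⁻¹ := by rw [hcz]
                _ = c⁻¹ * z := by group
            rw [this]
        _ = c * u * c⁻¹ * z := by group
  -- every element of `U` has the property
  have stepC : ∀ b ∈ U, ∀ g ∈ R, g * b * g⁻¹ = b ∨ g * b * g⁻¹ = b * z := by
    intro b hbU
    by_cases hbZ : b ∈ Z
    · intro g hg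
      left
      rcases (hZ b).mp hbZ with rfl | rfl
      · group
      · rw [hRz g hg]; group
    · -- transvection moving `u0` to `b`
      have hdU : u0 * b ∈ U := U.mul_mem hu0U hbU
      let F' := adjoinTwo U Z h.Usq h.Ucomm (u0 * b) hdU
      have hF'U : F' ≤ U := fun x hx => ((mem_adjoinTwo U Z h.Usq h.Ucomm (u0 * b) hdU x).mp hx).1
      have hu0F' : u0 ∉ F' := by
        intro hc
        rcases ((mem_adjoinTwo U Z h.Usq h.Ucomm (u0 * b) hdU u0).mp hc).2 with h1 | h1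
        · exact hu0Z h1
        · apply hbZ
          have : u0 * (u0 * b) = b := by rw [← mul_assoc, h.Usq u0 hu0U, one_mul]
          rwa [this] at h1
      obtain ⟨H, hF'H, hHU, hu0H, hyp⟩ := exists_hyperplane h.Usq h.Ucomm F' hF'U hu0U hu0F'
      have hdH : u0 * b ∈ H := by
        apply hF'H
        rw [mem_adjoinTwo]
        refine ⟨hdU, Or.inr ?_⟩
        rw [h.Usq _ hdU]
        exact Z.one_mem
      have hzH : z ∈ H := by
        apply hF'H
        rw [mem_adjoinTwo]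
        exact ⟨h.zU, Or.inl hzZ⟩
      obtain ⟨m, _, hmu⟩ := h.exists_transvection hHU (h.idx_of_hyp hu0U hyp) hdH
      have hmz : m * z * m⁻¹ = z := (hmu z h.zU).1 hzH
      have hmC : m ∈ C := by
        rw [hC_iff]
        calc m * z = (m * z * m⁻¹) * m := by group
          _ = z * m := by rw [hmz]
      have hmb : m * u0 * m⁻¹ = b := by
        rw [(hmu u0 hu0U).2 hu0H, ← mul_assoc, h.Usq u0 hu0U, one_mul]
      have := stepB m hmC u0 hu0U hu0
      rw [hmb] at this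
      exact this
  intro g hg
  rw [mem_T]
  intro u hu
  exact stepC u hu g hg

end HolCtx

end Cfsg.Agent.Helper90
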