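import Mathlib
import Cfsg.Agent.Helper90.Holomorph

set_option autoImplicit false

/-!
The order of `T` in the holomorph context.
-/

namespace Cfsg.Agent.Helper90

/-- A pairing into `{±1}` that is multiplicative in the first variable and separates the points of the second
variable bounds the second group by the first. -/
theorem card_le_of_pairing {A B : Type*} [CommGroup A] [Finite A] [Finite B]
    (hA2 : ∀ a : A, a ^ 2 = 1) (β : A → B → (ZMod 3)ˣ)
    (hl : ∀ a a' b, β (a * a') b = β a b * β a' b)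
    (hinj : ∀ b b', (∀ a, β a b = β a b') → b = b') : Nat.card B ≤ Nat.card A := by
  haveI : Fact (Nat.Prime 3) := ⟨by norm_num⟩
  haveI h2 : HasEnoughRootsOfUnity (ZMod 3) 2 :=
    inferInstanceAs (HasEnoughRootsOfUnity (ZMod 3) (3 - 1))
  have hdvd : Monoid.exponent A ∣ 2 := Monoid.exponent_dvd_of_forall_pow_eq_one hA2
  haveI : HasEnoughRootsOfUnity (ZMod 3) (Monoid.exponent A) := HasEnoughRootsOfUnity.of_dvd (ZMod 3) hdvd
  have hone : ∀ b, β 1 b = 1 := by
    intro b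
    have := hl 1 1 b
    rw [mul_one] at this
    exact (mul_eq_left.mp this.symm)
  let F : B → (A →* (ZMod 3)ˣ) := fun b =>
    { toFun := fun a => β a b
      map_one' := hone b
      map_mul' := fun a a' => hl a a' b }
  have hF : Function.Injective F := by
    intro b b' hbb
    apply hinj
    intro a
    exact DFunLike.congr_fun hbb a
  calc Nat.card B ≤ Nat.card (A →* (ZMod 3)ˣ) := Nat.card_le_card_of_injective F hF
    _ = Nat.card A := CommGroup.card_monoidHom_of_hasEnoughRootsOfUnity A (ZMod 3)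

open Classical in
/-- The sign of the action of `w` on `u`. -/
noncomputable def sgn {G : Type*} [Group G] (w u : G) : (ZMod 3)ˣ :=
  if w * u * w⁻¹ = u then 1 else -1

theorem sgn_of_fix {G : Type*} [Group G] {w u : G} (hwu : w * u * w⁻¹ = u) : sgn w u = 1 := by
  unfold sgn; rw [if_pos hwu]

theorem sgn_of_move {G : Type*} [Group G] {w u : G} (hwu : w * u * w⁻¹ ≠ u) : sgn w u = -1 := by
  unfold sgn; rw [if_neg hwu]

theorem sgn_eq_iff {G : Type*} [Group G] {w u w' u' : G} :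
    sgn w u = sgn w' u' ↔ (w * u * w⁻¹ = u ↔ w' * u' * w'⁻¹ = u') := by
  have hne : (1 : (ZMod 3)ˣ) ≠ -1 := by decide
  by_cases h1 : w * u * w⁻¹ = u <;> by_cases h2 : w' * u' * w'⁻¹ = u'
  · rw [sgn_of_fix h1, sgn_of_fix h2]; simp [h1, h2]
  · rw [sgn_of_fix h1, sgn_of_move h2]; simp [h1, h2, hne]
  · rw [sgn_of_move h1, sgn_of_fix h2]; simp [h1, h2, hne.symm]
  · rw [sgn_of_move h1, sgn_of_move h2]; simp [h1, h2]

namespace HolCtx

variable {G : Type*} [Group G] {U M : Subgroup G} {z : G}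

theorem mul_z_ne (h : HolCtx U M z) (x : G) : x * z ≠ x := by
  intro hc
  apply h.z1
  have : x * z = x * 1 := by rw [mul_one]; exact hc
  exact mul_left_cancel this

theorem sgn_mul_right (h : HolCtx U M z) {w : G} (hw : w ∈ h.T) {u u' : G} (hu : u ∈ U) (hu' : u' ∈ U) :
    sgn w (u * u') = sgn w u * sgn w u' := by
  have e : w * (u * u') * w⁻¹ = (w * u * w⁻¹) * (w * u' * w⁻¹) := by group
  have hneg : (-1 : (ZMod 3)ˣ) * -1 = 1 := by decide
  rcases hw u hu with h1 | h1 <;> rcases hw u' hu' with h2 | h2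
  · have h3 : w * (u * u') * w⁻¹ = u * u' := by rw [e, h1, h2]
    rw [sgn_of_fix h1, sgn_of_fix h2, sgn_of_fix h3, mul_one]
  · have h3 : w * (u * u') * w⁻¹ ≠ u * u' := by
      rw [e, h1, h2, ← mul_assoc]; exact h.mul_z_ne _
    have h2' : w * u' * w⁻¹ ≠ u' := by rw [h2]; exact h.mul_z_ne _
    rw [sgn_of_fix h1, sgn_of_move h2', sgn_of_move h3, one_mul]
  · have h3 : w * (u * u') * w⁻¹ ≠ u * u' := by
      rw [e, h1, h2]
      have : u * z * u' = u * u' * z := by
        rw [mul_assoc, h.Ucomm z h.zU u' hu', ← mul_assoc]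
      rw [this]; exact h.mul_z_ne _
    have h1' : w * u * w⁻¹ ≠ u := by rw [h1]; exact h.mul_z_ne _
    rw [sgn_of_move h1', sgn_of_fix h2, sgn_of_move h3, mul_one]
  · have h3 : w * (u * u') * w⁻¹ = u * u' := by
      rw [e, h1, h2]
      calc u * z * (u' * z) = u * (z * u') * z := by group
        _ = u * (u' * z) * z := by rw [h.Ucomm z h.zU u' hu']
        _ = u * u' * (z * z) := by group
        _ = u * u' := by rw [h.zz, mul_one]
    have h1' : w * u * w⁻¹ ≠ u := by rw [h1]; exact h.mul_z_ne _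
    have h2' : w * u' * w⁻¹ ≠ u' := by rw [h2]; exact h.mul_z_ne _
    rw [sgn_of_move h1', sgn_of_move h2', sgn_of_fix h3, hneg]

theorem sgn_mul_left (h : HolCtx U M z) {w w' : G} (hw : w ∈ h.T) (hw' : w' ∈ h.T) {u : G} (hu : u ∈ U) :
    sgn (w * w') u = sgn w u * sgn w' u := by
  have e : w * w' * u * (w * w')⁻¹ = w * (w' * u * w'⁻¹) * w⁻¹ := by group
  have hneg : (-1 : (ZMod 3)ˣ) * -1 = 1 := by decide
  have ez : ∀ x, w * (x * z) * w⁻¹ = (w * x * w⁻¹) * z := by
    intro x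
    calc w * (x * z) * w⁻¹ = (w * x * w⁻¹) * (w * z * w⁻¹) := by group
      _ = _ := by rw [h.T_fix_z hw]
  rcases hw u hu with h1 | h1 <;> rcases hw' u hu with h2 | h2
  · have h3 : w * w' * u * (w * w')⁻¹ = u := by rw [e, h2, h1]
    rw [sgn_of_fix h1, sgn_of_fix h2, sgn_of_fix h3, mul_one]
  · have h3 : w * w' * u * (w * w')⁻¹ ≠ u := by
      rw [e, h2, ez, h1]; exact h.mul_z_ne _
    have h2' : w' * u * w'⁻¹ ≠ u := by rw [h2]; exact h.mul_z_ne _
    rw [sgn_of_fix h1, sgn_of_move h2', sgn_of_move h3, one_mul]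
  · have h3 : w * w' * u * (w * w')⁻¹ ≠ u := by
      rw [e, h2, h1]; exact h.mul_z_ne _
    have h1' : w * u * w⁻¹ ≠ u := by rw [h1]; exact h.mul_z_ne _
    rw [sgn_of_move h1', sgn_of_fix h2, sgn_of_move h3, mul_one]
  · have h3 : w * w' * u * (w * w')⁻¹ = u := by
      rw [e, h2, ez, h1, mul_assoc, h.zz, mul_one]
    have h1' : w * u * w⁻¹ ≠ u := by rw [h1]; exact h.mul_z_ne _
    have h2' : w' * u * w'⁻¹ ≠ u := by rw [h2]; exact h.mul_z_ne _
    rw [sgn_of_move h1', sgn_of_move h2', sgn_of_fix h3, hneg]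

/-- Two elements of `T` with the same signs on a hyperplane `H₀` (complementing `z`) act identically on `U`. -/
theorem act_eq_of_sgn_eq (h : HolCtx U M z) {H0 : Subgroup G}
    (hyp : ∀ y ∈ U, y ∈ H0 ∨ y * z ∈ H0) (hH0U : H0 ≤ U)
    {w w' : G} (hw : w ∈ h.T) (hw' : w' ∈ h.T)
    (hs : ∀ x ∈ H0, sgn w x = sgn w' x) : ∀ u ∈ U, w * u * w⁻¹ = w' * u * w'⁻¹ := by
  have key : ∀ x ∈ H0, w * x * w⁻¹ = w' * x * w'⁻¹ := by
    intro x hx
    have hxU := hH0U hx
    have hiff := sgn_eq_iff.mp (hs x hx)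
    rcases hw x hxU with h1 | h1 <;> rcases hw' x hxU with h2 | h2
    · rw [h1, h2]
    · exfalso
      have := hiff.mp h1
      rw [h2] at this
      exact h.mul_z_ne _ this
    · exfalso
      have := hiff.mpr h2
      rw [h1] at this
      exact h.mul_z_ne _ this
    · rw [h1, h2]
  intro u hu
  rcases hyp u hu with h1 | h1
  · exact key u h1
  · have e : u = (u * z) * z := by rw [mul_assoc, h.zz, mul_one]
    have e1 : w * u * w⁻¹ = (w * (u * z) * w⁻¹) * (w * z * w⁻¹) := by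
      calc w * u * w⁻¹ = w * ((u * z) * z) * w⁻¹ := by rw [← e]
        _ = _ := by group
    have e2 : w' * u * w'⁻¹ = (w' * (u * z) * w'⁻¹) * (w' * z * w'⁻¹) := by
      calc w' * u * w'⁻¹ = w' * ((u * z) * z) * w'⁻¹ := by rw [← e]
        _ = _ := by group
    rw [e1, e2, key _ h1, h.T_fix_z hw, h.T_fix_z hw']

/-- `|T ∩ M| = |H₀|` for a hyperplane `H₀` of `U` complementing `z`. -/
theorem card_TM [Finite G] (h : HolCtx U M z) (Z : Subgroup G) (hZ : ∀ x, x ∈ Z ↔ x = 1 ∨ x = z)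
    {H0 : Subgroup G} (hH0U : H0 ≤ U) (hzH0 : z ∉ H0) (hyp : ∀ y ∈ U, y ∈ H0 ∨ y * z ∈ H0) :
    Nat.card ↥(h.T ⊓ M) = Nat.card ↥H0 := by
  letI iH : CommGroup ↥H0 :=
    { (inferInstance : Group ↥H0) with
      mul_comm := fun a b => Subtype.ext (h.Ucomm a (hH0U a.2) b (hH0U b.2)) }
  letI iW : CommGroup ↥(h.T ⊓ M) :=
    { (inferInstance : Group ↥(h.T ⊓ M)) with
      mul_comm := fun a b => Subtype.ext (h.TM_comm a.2.1 a.2.2 b.2.1 b.2.2) }
  apply le_antisymm
  · -- `|W| ≤ |H₀|`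
    refine card_le_of_pairing (A := ↥H0) (B := ↥(h.T ⊓ M)) ?_ (fun x w => sgn (w : G) (x : G)) ?_ ?_
    · intro a
      apply Subtype.ext
      rw [Subgroup.coe_pow, Subgroup.coe_one, pow_two]
      exact h.Usq a (hH0U a.2)
    · intro a a' w
      exact h.sgn_mul_right w.2.1 (hH0U a.2) (hH0U a'.2)
    · intro w w' hww
      have hact := h.act_eq_of_sgn_eq hyp hH0U w.2.1 w'.2.1 (fun x hx => hww ⟨x, hx⟩)
      have h1 : (w' : G)⁻¹ * w = 1 := by
        apply h.faith _ (M.mul_mem (M.inv_mem w'.2.2) w.2.2)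
        intro u hu
        calc (w' : G)⁻¹ * w * u * ((w' : G)⁻¹ * w)⁻¹ = (w' : G)⁻¹ * (w * u * (w : G)⁻¹) * w' := by group
          _ = (w' : G)⁻¹ * (w' * u * (w' : G)⁻¹) * w' := by rw [hact u hu]
          _ = u := by group
      apply Subtype.ext
      calc (w : G) = w' * ((w' : G)⁻¹ * w) := by group
        _ = w' := by rw [h1, mul_one]
  · -- `|H₀| ≤ |W|`
    refine card_le_of_pairing (A := ↥(h.T ⊓ M)) (B := ↥H0) ?_ (fun w x => sgn (w : G) (x : G)) ?_ ?_
    · intro a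
      apply Subtype.ext
      rw [Subgroup.coe_pow, Subgroup.coe_one, pow_two]
      exact h.TM_sq a.2.1 a.2.2
    · intro a a' x
      exact h.sgn_mul_left a.2.1 a'.2.1 (hH0U x.2)
    · intro x x' hxx
      -- `x * x'` is central in `T`
      have hxU := hH0U x.2
      have hx'U := hH0U x'.2
      have hfix : ∀ w ∈ h.T, w ∈ M → w * ((x : G) * x') * w⁻¹ = (x : G) * x' := by
        intro w hwT hwM
        have hiff := sgn_eq_iff.mp (hxx ⟨w, hwT, hwM⟩)
        have e : w * ((x : G) * x') * w⁻¹ = (w * x * w⁻¹) * (w * x' * w⁻¹) := by group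
        rw [e]
        rcases hwT x hxU with h1 | h1 <;> rcases hwT x' hx'U with h2 | h2
        · rw [h1, h2]
        · exfalso
          have := hiff.mp h1
          simp only at this
          rw [h2] at this
          exact h.mul_z_ne _ this
        · exfalso
          have := hiff.mpr h2
          simp only at this
          rw [h1] at this
          exact h.mul_z_ne _ this
        · rw [h1, h2]
          calc (x : G) * z * (x' * z) = x * (z * x') * z := by group
            _ = x * (x' * z) * z := by rw [h.Ucomm z h.zU x' hx'U]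
            _ = x * x' * (z * z) := by group
            _ = x * x' := by rw [h.zz, mul_one]
      have hcen : ∀ t ∈ h.T, t * ((x : G) * x') = (x : G) * x' * t := by
        intro t ht
        obtain ⟨u, hu, w, hwM, hwT, rfl⟩ := h.T_decomp ht
        have hxx'U : (x : G) * x' ∈ U := U.mul_mem hxU hx'U
        have h1 := hfix w hwT hwM
        calc u * w * ((x : G) * x') = u * (w * ((x : G) * x') * w⁻¹) * w := by group
          _ = u * ((x : G) * x') * w := by rw [h1]
          _ = ((x : G) * x') * u * w := by rw [h.Ucomm u hu _ hxx'U]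
          _ = (x : G) * x' * (u * w) := by group
      have hxx'H : (x : G) * x' ∈ H0 := H0.mul_mem x.2 x'.2
      rcases h.T_center Z hZ hcen with h1 | h1
      · apply Subtype.ext
        have : (x : G) = (x' : G)⁻¹ := eq_inv_of_mul_eq_one_left h1
        rw [this, h.Uinv hx'U]
      · exfalso
        rw [h1] at hxx'H
        exact hzH0 hxx'H

/-- `|U| = 2 |H₀|`. -/
theorem card_hyp (h : HolCtx U M z) [Finite G] {H0 : Subgroup G} (hH0U : H0 ≤ U) (hzH0 : z ∉ H0)
    (hyp : ∀ y ∈ U, y ∈ H0 ∨ y * z ∈ H0) : Nat.card ↥U = Nat.card ↥H0 * 2 := by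
  have hidx : (H0.subgroupOf U).index = 2 := by
    rw [Subgroup.index_eq_two_iff]
    refine ⟨⟨z, h.zU⟩, fun b => ?_⟩
    have hb1 : (b * ⟨z, h.zU⟩ ∈ H0.subgroupOf U) ↔ (b : G) * z ∈ H0 := by
      rw [Subgroup.mem_subgroupOf]; rfl
    have hb2 : (b ∈ H0.subgroupOf U) ↔ (b : G) ∈ H0 := Subgroup.mem_subgroupOf
    rw [hb1, hb2]
    rcases hyp b b.2 with h1 | h1
    · right
      refine ⟨h1, fun h2 => hzH0 ?_⟩
      have : z = (b : G)⁻¹ * ((b : G) * z) := by group
      rw [this]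
      exact H0.mul_mem (H0.inv_mem h1) h2
    · left
      refine ⟨h1, fun h2 => hzH0 ?_⟩
      have : z = (b : G)⁻¹ * ((b : G) * z) := by group
      rw [this]
      exact H0.mul_mem (H0.inv_mem h2) h1
  have h1 := (H0.subgroupOf U).card_mul_index
  rw [hidx] at h1
  rw [← h1, Nat.card_congr (Subgroup.subgroupOfEquivOfLe hH0U).toEquiv]

/-- `|T| = |U| |T ∩ M|`. -/
theorem card_T_eq (h : HolCtx U M z) [Finite G] :
    Nat.card ↥h.T = Nat.card ↥U * Nat.card ↥(h.T ⊓ M) := by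
  let f : ↥U × ↥(h.T ⊓ M) → ↥h.T := fun p =>
    ⟨(p.1 : G) * (p.2 : G), h.T.mul_mem (h.U_le_T p.1.2) p.2.2.1⟩
  have hinj : Function.Injective f := by
    rintro ⟨u, w⟩ ⟨u', w'⟩ hff
    have h1 : (u : G) * w = (u' : G) * w' := congrArg Subtype.val hff
    have h2 : (u' : G)⁻¹ * u = (w' : G) * (w : G)⁻¹ := by
      calc (u' : G)⁻¹ * u = (u' : G)⁻¹ * ((u : G) * w) * (w : G)⁻¹ := by group
        _ = (u' : G)⁻¹ * ((u' : G) * w') * (w : G)⁻¹ := by rw [h1]
        _ = _ := by group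
    have h3 : (u' : G)⁻¹ * u = 1 := by
      apply h.inf _ (U.mul_mem (U.inv_mem u'.2) u.2)
      rw [h2]
      exact M.mul_mem w'.2.2 (M.inv_mem w.2.2)
    have h4 : (u : G) = u' := by
      calc (u : G) = u' * ((u' : G)⁻¹ * u) := by group
        _ = u' := by rw [h3, mul_one]
    have h5 : (w : G) = w' := by
      rw [h4] at h1
      exact mul_left_cancel h1
    exact Prod.ext (Subtype.ext h4) (Subtype.ext h5)
  have hsurj : Function.Surjective f := by
    intro t
    obtain ⟨u, hu, w, hwM, hwT, ht⟩ := h.T_decomp t.2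
    exact ⟨⟨⟨u, hu⟩, ⟨w, hwT, hwM⟩⟩, Subtype.ext ht.symm⟩
  rw [← Nat.card_prod]
  exact (Nat.card_congr (Equiv.ofBijective f ⟨hinj, hsurj⟩)).symm

/-- A hyperplane of `U` complementing `z`. -/
theorem exists_compl_hyp (h : HolCtx U M z) [Finite G] :
    ∃ H0 : Subgroup G, H0 ≤ U ∧ z ∉ H0 ∧ ∀ y ∈ U, y ∈ H0 ∨ y * z ∈ H0 := by
  have hz : z ∉ (⊥ : Subgroup G) := by
    rw [Subgroup.mem_bot]; exact h.z1
  obtain ⟨H, _, hHU, hzH, hyp⟩ := exists_hyperplane h.Usq h.Ucomm ⊥ bot_le h.zU hz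
  exact ⟨H, hHU, hzH, hyp⟩

/-- The order of `T`. -/
theorem card_T (h : HolCtx U M z) [Finite G] (Z : Subgroup G) (hZ : ∀ x, x ∈ Z ↔ x = 1 ∨ x = z)
    (n : ℕ) (hcard : Nat.card ↥U = 2 ^ (n + 1)) : Nat.card ↥h.T = 2 ^ (2 * n + 1) := by
  obtain ⟨H0, hH0U, hzH0, hyp⟩ := h.exists_compl_hyp
  have h1 := h.card_hyp hH0U hzH0 hyp
  have h2 := h.card_TM Z hZ hH0U hzH0 hyp
  have h3 : Nat.card ↥H0 = 2 ^ n := by
    rw [hcard, pow_succ] at h1
    exact (Nat.eq_of_mul_eq_mul_right (by norm_num) h1).symm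
  rw [h.card_T_eq, hcard, h2, h3, ← pow_add]
  congr 1
  ring

end HolCtx

end Cfsg.Agent.Helper90
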