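import Mathlib
import Cfsg.Agent.Helper90.Holomorph3
import Cfsg.Agent.Helper90.ElemGL

set_option autoImplicit false

/-!
The complement `K ≅ GL_n(2)` to `T` in `C_G(z)` in the holomorph context.
-/

namespace Cfsg.Agent.Helper90

namespace HolCtx

variable {G : Type*} [Group G] {U M : Subgroup G} {z : G}

/-- Membership of a product in a hyperplane. -/
theorem hyp_mul_iff (h : HolCtx U M z) {H0 : Subgroup G}
    (hyp : ∀ y ∈ U, y ∈ H0 ∨ y * z ∈ H0) {x y : G} (hx : x ∈ U) (hy : y ∈ U) :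
    x * y ∈ H0 ↔ (x ∈ H0 ↔ y ∈ H0) := by
  by_cases hxH : x ∈ H0 <;> by_cases hyH : y ∈ H0
  · exact ⟨fun _ => ⟨fun _ => hyH, fun _ => hxH⟩, fun _ => H0.mul_mem hxH hyH⟩
  · constructor
    · intro hc
      exfalso
      apply hyH
      have : y = x⁻¹ * (x * y) := by group
      rw [this]
      exact H0.mul_mem (H0.inv_mem hxH) hc
    · intro hiff
      exact absurd (hiff.mp hxH) hyH
  · constructor
    · intro hc
      exfalso
      apply hxH
      have : x = (x * y) * y⁻¹ := by group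
      rw [this]
      exact H0.mul_mem hc (H0.inv_mem hyH)
    · intro hiff
      exact absurd (hiff.mpr hyH) hxH
  · exact ⟨fun _ => ⟨fun hc => absurd hc hxH, fun hc => absurd hc hyH⟩,
      fun _ => h.idx_of_hyp h.zU hyp x hx y hy hxH hyH⟩

/-- Every automorphism of a hyperplane `H₀` complementing `z` is induced by an element of `M` fixing `z`. -/
theorem exists_extend (h : HolCtx U M z) [Finite G] {H0 : Subgroup G} (hH0U : H0 ≤ U) (hzH0 : z ∉ H0)
    (hyp : ∀ y ∈ U, y ∈ H0 ∨ y * z ∈ H0) (ψ : ↥H0 ≃* ↥H0) :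
    ∃ m ∈ M, m * z * m⁻¹ = z ∧ ∀ x : ↥H0, m * (x : G) * m⁻¹ = ((ψ x : ↥H0) : G) := by
  classical
  let s : ↥U → ↥U := fun x => if (x : G) ∈ H0 then 1 else ⟨z, h.zU⟩
  have hs_in : ∀ x : ↥U, (x : G) ∈ H0 → ((s x : ↥U) : G) = 1 := by
    intro x hx
    simp only [s, if_pos hx]
    rfl
  have hs_out : ∀ x : ↥U, (x : G) ∉ H0 → ((s x : ↥U) : G) = z := by
    intro x hx
    simp only [s, if_neg hx]
  have hs_mul : ∀ x y : ↥U, ((s (x * y) : ↥U) : G) = (s x : G) * (s y : G) := by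
    intro x y
    have hiff := h.hyp_mul_iff hyp x.2 y.2
    by_cases hx : (x : G) ∈ H0 <;> by_cases hy : (y : G) ∈ H0
    · have hxy : ((x * y : ↥U) : G) ∈ H0 := by rw [Subgroup.coe_mul]; exact hiff.mpr (by simp [hx, hy])
      rw [hs_in _ hxy, hs_in x hx, hs_in y hy, mul_one]
    · have hxy : ((x * y : ↥U) : G) ∉ H0 := by
        rw [Subgroup.coe_mul]; intro hc; have := hiff.mp hc; exact hy (this.mp hx)
      rw [hs_out _ hxy, hs_in x hx, hs_out y hy, one_mul]
    · have hxy : ((x * y : ↥U) : G) ∉ H0 := by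
        rw [Subgroup.coe_mul]; intro hc; have := hiff.mp hc; exact hx (this.mpr hy)
      rw [hs_out _ hxy, hs_out x hx, hs_in y hy, mul_one]
    · have hxy : ((x * y : ↥U) : G) ∈ H0 := by rw [Subgroup.coe_mul]; exact hiff.mpr (by simp [hx, hy])
      rw [hs_in _ hxy, hs_out x hx, hs_out y hy, h.zz]
  have hp_mem : ∀ x : ↥U, (x : G) * (s x : G) ∈ H0 := by
    intro x
    by_cases hx : (x : G) ∈ H0
    · rw [hs_in x hx, mul_one]; exact hx
    · rw [hs_out x hx]; exact (hyp x x.2).resolve_left hx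
  let p : ↥U → ↥H0 := fun x => ⟨(x : G) * (s x : G), hp_mem x⟩
  have hp_mul : ∀ x y : ↥U, p (x * y) = p x * p y := by
    intro x y
    apply Subtype.ext
    show ((x * y : ↥U) : G) * (s (x * y) : G) = ((x : G) * (s x : G)) * ((y : G) * (s y : G))
    rw [hs_mul, Subgroup.coe_mul]
    calc (x : G) * y * ((s x : G) * (s y : G)) = x * ((y : G) * (s x : G)) * (s y : G) := by group
      _ = x * ((s x : G) * (y : G)) * (s y : G) := by rw [h.Ucomm y y.2 _ (s x).2]
      _ = _ := by group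
  let Ψ : ↥U →* ↥U := MonoidHom.mk' (fun x => ⟨((ψ (p x) : ↥H0) : G), hH0U (ψ (p x)).2⟩ * s x) (by
    intro x y
    apply Subtype.ext
    show ((ψ (p (x * y)) : ↥H0) : G) * (s (x * y) : G)
      = (((ψ (p x) : ↥H0) : G) * (s x : G)) * (((ψ (p y) : ↥H0) : G) * (s y : G))
    rw [hp_mul, map_mul, hs_mul, Subgroup.coe_mul]
    have hA : ((ψ (p y) : ↥H0) : G) ∈ U := hH0U (ψ (p y)).2
    calc ((ψ (p x) : ↥H0) : G) * ((ψ (p y) : ↥H0) : G) * ((s x : G) * (s y : G))
        = ((ψ (p x) : ↥H0) : G) * (((ψ (p y) : ↥H0) : G) * (s x : G)) * (s y : G) := by group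
      _ = ((ψ (p x) : ↥H0) : G) * ((s x : G) * ((ψ (p y) : ↥H0) : G)) * (s y : G) := by
          rw [h.Ucomm _ hA _ (s x).2]
      _ = _ := by group)
  have hΨ_val : ∀ x : ↥U, ((Ψ x : ↥U) : G) = ((ψ (p x) : ↥H0) : G) * (s x : G) := fun x => rfl
  have hΨinj : Function.Injective Ψ := by
    rw [injective_iff_map_eq_one]
    intro x hx
    have h1 : ((ψ (p x) : ↥H0) : G) * (s x : G) = 1 := by
      rw [← hΨ_val, hx]; rfl
    by_cases hxH : (x : G) ∈ H0
    · rw [hs_in x hxH, mul_one] at h1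
      have h2 : ψ (p x) = 1 := Subtype.ext h1
      have h3 : p x = 1 := by
        have := congrArg ψ.symm h2
        simpa using this
      have h4 : (x : G) * (s x : G) = 1 := congrArg Subtype.val h3
      rw [hs_in x hxH, mul_one] at h4
      exact Subtype.ext h4
    · exfalso
      rw [hs_out x hxH] at h1
      have h2 : ((ψ (p x) : ↥H0) : G) = z := by
        have : ((ψ (p x) : ↥H0) : G) = z⁻¹ := eq_inv_of_mul_eq_one_left h1
        rw [this, h.zinv]
      apply hzH0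
      rw [← h2]
      exact (ψ (p x)).2
  have hΨbij : Function.Bijective Ψ := Finite.injective_iff_bijective.mp hΨinj
  let e : ↥U ≃* ↥U := MulEquiv.ofBijective Ψ hΨbij
  obtain ⟨m, hm, hme⟩ := h.full e
  refine ⟨m, hm, ?_, ?_⟩
  · have h1 := hme ⟨z, h.zU⟩
    rw [← h1]
    show ((Ψ ⟨z, h.zU⟩ : ↥U) : G) = z
    rw [hΨ_val, hs_out ⟨z, h.zU⟩ hzH0]
    have hpz : p ⟨z, h.zU⟩ = 1 := by
      apply Subtype.ext
      show z * ((s ⟨z, h.zU⟩ : ↥U) : G) = 1
      rw [hs_out ⟨z, h.zU⟩ hzH0, h.zz]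
    rw [hpz, map_one, Subgroup.coe_one, one_mul]
  · intro x
    have h1 := hme ⟨x, hH0U x.2⟩
    rw [← h1]
    show ((Ψ ⟨x, hH0U x.2⟩ : ↥U) : G) = _
    rw [hΨ_val, hs_in ⟨(x : G), hH0U x.2⟩ x.2, mul_one]
    have hpx : p ⟨x, hH0U x.2⟩ = x := by
      apply Subtype.ext
      show (x : G) * ((s ⟨x, hH0U x.2⟩ : ↥U) : G) = x
      rw [hs_in ⟨(x : G), hH0U x.2⟩ x.2, mul_one]
    rw [hpx]

/-- The complement to `T` in the centralizer of `z`. -/
theorem exists_complement (h : HolCtx U M z) [Finite G] (Z : Subgroup G)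
    (hZ : ∀ x, x ∈ Z ↔ x = 1 ∨ x = z) (n : ℕ) (hcard : Nat.card ↥U = 2 ^ (n + 1)) :
    ∃ K : Subgroup G, K ≤ Subgroup.centralizer (Z : Set G) ∧ h.T ⊓ K = ⊥ ∧
      h.T ⊔ K = Subgroup.centralizer (Z : Set G) ∧
      Nonempty (↥K ≃* Matrix.GeneralLinearGroup (Fin n) (ZMod 2)) := by
  classical
  set C := Subgroup.centralizer (Z : Set G) with hCdef
  have hzZ : z ∈ Z := (hZ z).mpr (Or.inr rfl)
  have hC_iff : ∀ g : G, g ∈ C ↔ g * z = z * g := by
    intro g
    rw [hCdef, Subgroup.mem_centralizer_iff]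
    constructor
    · intro hg; exact (hg z hzZ).symm
    · intro hg y hy
      rcases (hZ y).mp hy with rfl | rfl
      · rw [one_mul, mul_one]
      · exact hg.symm
  have hTC : h.T ≤ C := fun t ht => (hC_iff t).mpr (h.T_comm_z ht)
  obtain ⟨H0, hH0U, hzH0, hyp⟩ := h.exists_compl_hyp
  have hH0card : Nat.card ↥H0 = 2 ^ n := by
    have h1 := h.card_hyp hH0U hzH0 hyp
    rw [hcard, pow_succ] at h1
    exact (Nat.eq_of_mul_eq_mul_right (by norm_num) h1).symm
  let K : Subgroup G := M ⊓ C ⊓ Subgroup.normalizer (H0 : Set G)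
  have hKM : K ≤ M := fun x hx => hx.1.1
  have hKC : K ≤ C := fun x hx => hx.1.2
  have hKN : K ≤ Subgroup.normalizer (H0 : Set G) := fun x hx => hx.2
  -- conjugation formula `g (u z) g⁻¹`
  have conj_mul_z : ∀ g ∈ C, ∀ u : G, g * (u * z) * g⁻¹ = (g * u * g⁻¹) * z := by
    intro g hg u
    have hgz := (hC_iff g).mp hg
    calc g * (u * z) * g⁻¹ = g * u * (z * g⁻¹) := by group
      _ = g * u * (g⁻¹ * z) := by
          have : z * g⁻¹ = g⁻¹ * z := by
            calc z * g⁻¹ = g⁻¹ * (g * z) * g⁻¹ := by group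
              _ = g⁻¹ * (z * g) * g⁻¹ := by rw [hgz]
              _ = g⁻¹ * z := by group
          rw [this]
      _ = _ := by group
  -- an element of `C` centralizing `H₀` centralizes `U`
  have cent_of_H0 : ∀ g ∈ C, (∀ x ∈ H0, g * x * g⁻¹ = x) → ∀ u ∈ U, g * u * g⁻¹ = u := by
    intro g hg hgH u hu
    rcases hyp u hu with h1 | h1
    · exact hgH u h1
    · have e : u = (u * z) * z := by rw [mul_assoc, h.zz, mul_one]
      calc g * u * g⁻¹ = g * ((u * z) * z) * g⁻¹ := by rw [← e]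
        _ = (g * (u * z) * g⁻¹) * z := conj_mul_z g hg _
        _ = (u * z) * z := by rw [hgH _ h1]
        _ = u := e.symm
  refine ⟨K, hKC, ?_, ?_, ?_⟩
  · -- `T ∩ K = 1`
    rw [eq_bot_iff]
    intro x hx
    rw [Subgroup.mem_bot]
    obtain ⟨hxT, hxK⟩ := hx
    apply h.faith x (hKM hxK)
    apply cent_of_H0 x (hKC hxK)
    intro y hy
    have hyU := hH0U hy
    have hconj : x * y * x⁻¹ ∈ H0 := conj_mem_of_mem_normalizer (hKN hxK) hy
    rcases hxT y hyU with h1 | h1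
    · exact h1
    · exfalso
      rw [h1] at hconj
      apply hzH0
      have : z = y⁻¹ * (y * z) := by group
      rw [this]
      exact H0.mul_mem (H0.inv_mem hy) hconj
  · -- `T K = C`
    apply le_antisymm (sup_le hTC hKC)
    intro c hc
    obtain ⟨u, hu, m, hm, rfl⟩ := h.sup c
    have huC : u ∈ C := hTC (h.U_le_T hu)
    have hmC : m ∈ C := by
      have : m = u⁻¹ * (u * m) := by group
      rw [this]
      exact C.mul_mem (C.inv_mem huC) hc
    have hm'C : m⁻¹ ∈ C := C.inv_mem hmC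
    -- the hyperplane `H'`
    have conj_mem_U : ∀ x ∈ U, m⁻¹ * x * m ∈ U := fun x hx => h.Unorm' m hx
    have conj_mul : ∀ x y : G, m⁻¹ * (x * y) * m = (m⁻¹ * x * m) * (m⁻¹ * y * m) := by
      intro x y; group
    let H' : Subgroup G :=
      { carrier := {x | x ∈ U ∧ (x ∈ H0 ↔ m⁻¹ * x * m ∈ H0)}
        one_mem' := by
          refine ⟨U.one_mem, ?_⟩
          have : m⁻¹ * 1 * m = 1 := by group
          rw [this]
        mul_mem' := by
          rintro x y ⟨hxU, hx⟩ ⟨hyU, hy⟩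
          refine ⟨U.mul_mem hxU hyU, ?_⟩
          rw [conj_mul, h.hyp_mul_iff hyp hxU hyU,
            h.hyp_mul_iff hyp (conj_mem_U x hxU) (conj_mem_U y hyU), hx, hy]
        inv_mem' := by
          rintro x ⟨hxU, hx⟩
          show x⁻¹ ∈ U ∧ (x⁻¹ ∈ H0 ↔ m⁻¹ * x⁻¹ * m ∈ H0)
          rw [h.Uinv hxU]
          exact ⟨hxU, hx⟩ }
    have hH'U : H' ≤ U := fun x hx => hx.1
    have hH'idx : ∀ x ∈ U, ∀ y ∈ U, x ∉ H' → y ∉ H' → x * y ∈ H' := by
      intro x hxU y hyU hx hy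
      have hx' : ¬ (x ∈ H0 ↔ m⁻¹ * x * m ∈ H0) := fun hc => hx ⟨hxU, hc⟩
      have hy' : ¬ (y ∈ H0 ↔ m⁻¹ * y * m ∈ H0) := fun hc => hy ⟨hyU, hc⟩
      refine ⟨U.mul_mem hxU hyU, ?_⟩
      rw [conj_mul, h.hyp_mul_iff hyp hxU hyU,
        h.hyp_mul_iff hyp (conj_mem_U x hxU) (conj_mem_U y hyU)]
      tauto
    have hzH' : z ∈ H' := by
      refine ⟨h.zU, ?_⟩
      have hmz : m⁻¹ * z * m = z := by
        have := (hC_iff m).mp hmC
        calc m⁻¹ * z * m = m⁻¹ * (z * m) := by group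
          _ = m⁻¹ * (m * z) := by rw [this]
          _ = z := by group
      rw [hmz]
    obtain ⟨w, hwM, hwu⟩ := h.exists_transvection hH'U hH'idx hzH'
    have hwT : w ∈ h.T := by
      intro x hx
      by_cases hxH : x ∈ H'
      · left; exact (hwu x hx).1 hxH
      · right; exact (hwu x hx).2 hxH
    have hwC : w ∈ C := hTC hwT
    -- `k' = m⁻¹ w ∈ K`
    have hk'K : m⁻¹ * w ∈ K := by
      refine ⟨⟨M.mul_mem (M.inv_mem hm) hwM, C.mul_mem hm'C hwC⟩, ?_⟩
      apply mem_normalizer_of_conj_mem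
      intro x hx
      have hxU := hH0U hx
      have e : m⁻¹ * w * x * (m⁻¹ * w)⁻¹ = m⁻¹ * (w * x * w⁻¹) * m := by group
      rw [e]
      by_cases hxH : x ∈ H'
      · rw [(hwu x hxU).1 hxH]
        exact hxH.2.mp hx
      · rw [(hwu x hxU).2 hxH]
        have hx' : ¬ (x ∈ H0 ↔ m⁻¹ * x * m ∈ H0) := fun hc => hxH ⟨hxU, hc⟩
        have hnot : m⁻¹ * x * m ∉ H0 := fun hc => hx' ⟨fun _ => hc, fun _ => hx⟩
        have e2 : m⁻¹ * (x * z) * m = (m⁻¹ * x * m) * z := by
          have := conj_mul_z m⁻¹ hm'C x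
          rw [inv_inv] at this
          exact this
        rw [e2]
        exact (hyp _ (conj_mem_U x hxU)).resolve_left hnot
    have e : u * m = (u * w) * (m⁻¹ * w)⁻¹ := by group
    rw [e]
    exact Subgroup.mul_mem_sup (h.T.mul_mem (h.U_le_T hu) hwT) (K.inv_mem hk'K)
  · -- `K ≅ GL_n(2)`
    let Φ : ↥K →* MulAut ↥H0 :=
      { toFun := fun k => conjEquivOfNormalizer H0 (k : G) (hKN k.2)
        map_one' := by
          ext x
          show (1 : G) * (x : G) * (1 : G)⁻¹ = x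
          group
        map_mul' := by
          intro k k'
          ext x
          show ((k * k' : ↥K) : G) * (x : G) * ((k * k' : ↥K) : G)⁻¹
            = (k : G) * ((k' : G) * (x : G) * (k' : G)⁻¹) * (k : G)⁻¹
          rw [Subgroup.coe_mul]
          group }
    have hΦ_apply : ∀ (k : ↥K) (x : ↥H0), ((Φ k x : ↥H0) : G) = (k : G) * x * (k : G)⁻¹ := fun k x => rfl
    have hΦinj : Function.Injective Φ := by
      rw [injective_iff_map_eq_one]
      intro k hk
      apply Subtype.ext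
      rw [Subgroup.coe_one]
      apply h.faith _ (hKM k.2)
      apply cent_of_H0 _ (hKC k.2)
      intro x hx
      have := hΦ_apply k ⟨x, hx⟩
      rw [hk] at this
      exact this.symm
    have hΦsurj : Function.Surjective Φ := by
      intro ψ
      obtain ⟨m, hm, hmz, hmψ⟩ := h.exists_extend hH0U hzH0 hyp ψ
      have hmC : m ∈ C := by
        rw [hC_iff]
        calc m * z = (m * z * m⁻¹) * m := by group
          _ = z * m := by rw [hmz]
      have hmN : m ∈ Subgroup.normalizer (H0 : Set G) := by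
        apply mem_normalizer_of_conj_mem
        intro x hx
        rw [hmψ ⟨x, hx⟩]
        exact (ψ ⟨x, hx⟩).2
      refine ⟨⟨m, ⟨hm, hmC⟩, hmN⟩, ?_⟩
      ext x
      rw [hΦ_apply]
      exact hmψ x
    have e1 : ↥K ≃* MulAut ↥H0 := MulEquiv.ofBijective Φ ⟨hΦinj, hΦsurj⟩
    obtain ⟨e2⟩ := mulAut_equiv_GL_two (H := ↥H0)
      (fun a b => Subtype.ext (h.Ucomm a (hH0U a.2) b (hH0U b.2)))
      (fun a => Subtype.ext (h.Usq a (hH0U a.2))) n hH0card
    exact ⟨e1.trans e2⟩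

end HolCtx

end Cfsg.Agent.Helper90
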