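import Mathlib
import Cfsg.Agent.Helper90.Holomorph2
import Cfsg.Agent.Helper90.Holomorph4
import Cfsg.Agent.Helper90.ExtraCrit
import Cfsg.Agent.Helper90.Large
import Cfsg.Agent.Helper90.Invert
import Cfsg.Agent.Helper90.Basic

set_option autoImplicit false

/-!
A subgroup `P` of `G` which is a holomorph `U ⋊ M` of an elementary abelian 2-group `U`, and which contains the
centralizer of every involution of `U`: the results on the holomorph are transferred to `G`.
-/

namespace Cfsg.Agent.Helper90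

open Cfsg

/-- The `p`-core is carried to the `p`-core by an isomorphism (one inclusion). -/
theorem pCore_map_mulEquiv_le (p : ℕ) {A B : Type*} [Group A] [Group B] (e : A ≃* B) :
    (Cfsg.pCore p A).map e.toMonoidHom ≤ Cfsg.pCore p B := by
  apply le_sSup
  refine ⟨?_, ?_⟩
  · have := pCore_normal_hol p A
    exact Subgroup.Normal.map inferInstance e.toMonoidHom e.surjective
  · exact (pCore_isPGroup p A).map e.toMonoidHom

/-- The `p`-core is carried to the `p`-core by an isomorphism. -/
theorem pCore_map_mulEquiv (p : ℕ) {A B : Type*} [Group A] [Group B] (e : A ≃* B) :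
    (Cfsg.pCore p A).map e.toMonoidHom = Cfsg.pCore p B := by
  apply le_antisymm (pCore_map_mulEquiv_le p e)
  intro x hx
  have h1 : e.symm x ∈ Cfsg.pCore p A := by
    apply pCore_map_mulEquiv_le p e.symm
    exact Subgroup.mem_map_of_mem _ hx
  refine ⟨e.symm x, h1, ?_⟩
  simp

/-- The `p`-core of the image of a subgroup under an injective homomorphism. -/
theorem pCoreOf_map_injective (p : ℕ) {A B : Type*} [Group A] [Group B] (f : A →* B)
    (hf : Function.Injective f) (H : Subgroup A) :
    (Cfsg.pCore p ↥(H.map f)).map (H.map f).subtype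
      = ((Cfsg.pCore p ↥H).map H.subtype).map f := by
  rw [← pCore_map_mulEquiv p (H.equivMapOfInjective f hf), Subgroup.map_map, Subgroup.map_map]
  congr 1

/-- The subgroup `{1, z}` for an element with `z * z = 1`. -/
def twoSub {G : Type*} [Group G] (z : G) (hz : z * z = 1) : Subgroup G where
  carrier := {x | x = 1 ∨ x = z}
  one_mem' := Or.inl rfl
  mul_mem' := by
    rintro a b (rfl | rfl) (rfl | rfl)
    · left; rw [mul_one]
    · right; rw [one_mul]
    · right; rw [mul_one]
    · left; exact hz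
  inv_mem' := by
    rintro a (rfl | rfl)
    · left; exact inv_one
    · right; exact inv_eq_of_mul_eq_one_left hz

theorem mem_twoSub {G : Type*} [Group G] (z : G) (hz : z * z = 1) (x : G) :
    x ∈ twoSub z hz ↔ x = 1 ∨ x = z := Iff.rfl

theorem card_twoSub_le {G : Type*} [Group G] (z : G) (hz : z * z = 1) :
    Nat.card ↥(twoSub z hz) ≤ 2 := by
  classical
  have hinj : Function.Injective (fun x : ↥(twoSub z hz) => decide ((x : G) = 1)) := by
    intro a b hab
    apply Subtype.ext
    have hab' : decide ((a : G) = 1) = decide ((b : G) = 1) := hab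
    by_cases ha : (a : G) = 1
    · have hb : (b : G) = 1 := by
        by_contra hb
        simp [ha, hb] at hab'
      rw [ha, hb]
    · have hb : (b : G) ≠ 1 := by
        intro hb
        simp [ha, hb] at hab'
      have ha' := ((mem_twoSub z hz a).mp a.2).resolve_left ha
      have hb' := ((mem_twoSub z hz b).mp b.2).resolve_left hb
      rw [ha', hb']
  have := Nat.card_le_card_of_injective _ hinj
  simpa using this

/-- The relative holomorph context: `P = U ⋊ M` is a subgroup of `G` containing the centralizers of the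
nontrivial elements of `U`. -/
structure HolRel {G : Type*} [Group G] (P U M : Subgroup G) (z : G) : Prop where
  UP : U ≤ P
  MP : M ≤ P
  Unorm : ∀ g ∈ P, ∀ u ∈ U, g * u * g⁻¹ ∈ U
  Ucomm : ∀ u ∈ U, ∀ v ∈ U, u * v = v * u
  Usq : ∀ u ∈ U, u * u = 1
  inf : ∀ x, x ∈ U → x ∈ M → x = 1
  sup : ∀ g ∈ P, ∃ u ∈ U, ∃ m ∈ M, g = u * m
  faith : ∀ m ∈ M, (∀ u ∈ U, m * u * m⁻¹ = u) → m = 1
  full : ∀ φ : ↥U ≃* ↥U, ∃ m ∈ M, ∀ u : ↥U, ((φ u : ↥U) : G) = m * u * m⁻¹
  zU : z ∈ U
  z1 : z ≠ 1
  cz : ∀ t ∈ U, t ≠ 1 → ∀ g : G, g * t = t * g → g ∈ P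

namespace HolRel

variable {G : Type*} [Group G] {P U M : Subgroup G} {z : G}

/-- `z` as an element of `P`. -/
def zP (h : HolRel P U M z) : ↥P := ⟨z, h.UP h.zU⟩

theorem coe_zP (h : HolRel P U M z) : ((h.zP : ↥P) : G) = z := rfl

theorem toCtx (h : HolRel P U M z) : HolCtx (U.subgroupOf P) (M.subgroupOf P) h.zP where
  Unorm := by
    intro g u hu
    rw [Subgroup.mem_subgroupOf] at hu ⊢
    have e : ((g * u * g⁻¹ : ↥P) : G) = (g : G) * u * (g : G)⁻¹ := by simp
    rw [e]
    exact h.Unorm g g.2 u hu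
  Ucomm := by
    intro u hu v hv
    rw [Subgroup.mem_subgroupOf] at hu hv
    apply Subtype.ext
    rw [Subgroup.coe_mul, Subgroup.coe_mul]
    exact h.Ucomm u hu v hv
  Usq := by
    intro u hu
    rw [Subgroup.mem_subgroupOf] at hu
    apply Subtype.ext
    rw [Subgroup.coe_mul, Subgroup.coe_one]
    exact h.Usq u hu
  inf := by
    intro x hxU hxM
    rw [Subgroup.mem_subgroupOf] at hxU hxM
    apply Subtype.ext
    rw [Subgroup.coe_one]
    exact h.inf x hxU hxM
  sup := by
    intro g
    obtain ⟨u, hu, m, hm, hg⟩ := h.sup g g.2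
    refine ⟨⟨u, h.UP hu⟩, ?_, ⟨m, h.MP hm⟩, ?_, ?_⟩
    · rw [Subgroup.mem_subgroupOf]; exact hu
    · rw [Subgroup.mem_subgroupOf]; exact hm
    · apply Subtype.ext
      rw [Subgroup.coe_mul]
      exact hg
  faith := by
    intro m hm hmu
    rw [Subgroup.mem_subgroupOf] at hm
    apply Subtype.ext
    rw [Subgroup.coe_one]
    apply h.faith m hm
    intro u hu
    have := hmu ⟨u, h.UP hu⟩ (by rw [Subgroup.mem_subgroupOf]; exact hu)
    have := congrArg Subtype.val this
    simpa using this
  full := by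
    intro φ
    let e : ↥(U.subgroupOf P) ≃* ↥U := Subgroup.subgroupOfEquivOfLe h.UP
    have he : ∀ x : ↥(U.subgroupOf P), ((e x : ↥U) : G) = ((x : ↥P) : G) := fun x => rfl
    obtain ⟨m, hm, hmφ⟩ := h.full (e.symm.trans (φ.trans e))
    refine ⟨⟨m, h.MP hm⟩, ?_, ?_⟩
    · rw [Subgroup.mem_subgroupOf]; exact hm
    · intro u
      apply Subtype.ext
      have h1 := hmφ (e u)
      have h2 : (e.symm.trans (φ.trans e)) (e u) = e (φ u) := by simp
      rw [h2, he, he] at h1
      rw [h1]
      simp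
  zU := by
    rw [Subgroup.mem_subgroupOf]; exact h.zU
  z1 := by
    intro hc
    apply h.z1
    have h1 : ((h.zP : ↥P) : G) = ((1 : ↥P) : G) := congrArg Subtype.val hc
    exact h1

/-- The main transfer theorem. -/
theorem main [Finite G] (h : HolRel P U M z) (n : ℕ) (hn : 1 ≤ n)
    (hUcard : Nat.card ↥U = 2 ^ (n + 1)) (Q : Subgroup G)
    (hQ : Q = (Cfsg.pCore 2 ↥(Subgroup.centralizer ({z} : Set G))).map
      (Subgroup.centralizer ({z} : Set G)).subtype) :
    Cfsg.IsExtraspecial 2 ↥Q ∧ Nat.card ↥Q = 2 ^ (2 * n + 1) ∧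
    (∃ E : Subgroup G, E ≤ Q ∧ Cfsg.IsElementaryAbelian 2 E ∧ Nat.card ↥E = 2 ^ (n + 1)) ∧
    Cfsg.IsLargeExtraspecial Q ∧
    ∃ K : Subgroup G, K ≤ Subgroup.centralizer ({z} : Set G) ∧ Q ⊓ K = ⊥ ∧
      Q ⊔ K = Subgroup.centralizer ({z} : Set G) ∧
      Nonempty (↥K ≃* Matrix.GeneralLinearGroup (Fin n) (ZMod 2)) := by
  classical
  haveI : Fact (Nat.Prime 2) := ⟨Nat.prime_two⟩
  have hc := h.toCtx
  have hzz : h.zP * h.zP = 1 := hc.zz
  have hZiff : ∀ x, x ∈ twoSub h.zP hzz ↔ x = 1 ∨ x = h.zP := fun x => Iff.rfl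
  have hUcard' : Nat.card ↥(U.subgroupOf P) = 2 ^ (n + 1) := by
    rw [← hUcard]
    exact Nat.card_congr (Subgroup.subgroupOfEquivOfLe h.UP).toEquiv
  have hU4 : ∃ x ∈ U.subgroupOf P, x ∉ twoSub h.zP hzz := by
    by_contra hcon
    push_neg at hcon
    have hUZ : U.subgroupOf P ≤ twoSub h.zP hzz := hcon
    have h1 : Nat.card ↥(U.subgroupOf P) ≤ Nat.card ↥(twoSub h.zP hzz) :=
      Nat.card_le_card_of_injective (Subgroup.inclusion hUZ) (Subgroup.inclusion_injective hUZ)
    have h2 := card_twoSub_le h.zP hzz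
    rw [hUcard'] at h1
    have h3 : 2 ^ 2 ≤ 2 ^ (n + 1) := Nat.pow_le_pow_right (by norm_num) (by omega)
    omega
  -- the centralizer of `z` lies in `P`
  have hC : Subgroup.centralizer ({z} : Set G)
      = (Subgroup.centralizer ((twoSub h.zP hzz : Subgroup ↥P) : Set ↥P)).map P.subtype := by
    ext x
    rw [Subgroup.mem_centralizer_iff, Subgroup.mem_map]
    constructor
    · intro hx
      have hxz : x * z = z * x := (hx z rfl).symm
      have hxP : x ∈ P := h.cz z h.zU h.z1 x hxz
      refine ⟨⟨x, hxP⟩, ?_, rfl⟩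
      rw [Subgroup.mem_centralizer_iff]
      intro y hy
      rcases (hZiff y).mp hy with rfl | rfl
      · rw [one_mul, mul_one]
      · apply Subtype.ext
        rw [Subgroup.coe_mul, Subgroup.coe_mul]
        exact hxz.symm
    · rintro ⟨x', hx', rfl⟩
      rw [Subgroup.mem_centralizer_iff] at hx'
      intro y hy
      rw [Set.mem_singleton_iff] at hy
      rw [hy]
      have := hx' h.zP ((hZiff h.zP).mpr (Or.inr rfl))
      exact congrArg Subtype.val this
  have hQT : Q = hc.T.map P.subtype := by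
    rw [hQ, hC, pCoreOf_map_injective 2 P.subtype P.subtype_injective,
      hc.core_eq_T (twoSub h.zP hzz) hZiff hU4]
  have hmemQ : ∀ x : G, x ∈ Q ↔ ∃ hx : x ∈ P, (⟨x, hx⟩ : ↥P) ∈ hc.T := by
    intro x
    rw [hQT, Subgroup.mem_map]
    constructor
    · rintro ⟨t, ht, rfl⟩
      exact ⟨t.2, ht⟩
    · rintro ⟨hx, ht⟩
      exact ⟨⟨x, hx⟩, ht, rfl⟩
  have hzQ : z ∈ Q := (hmemQ z).mpr ⟨h.UP h.zU, hc.U_le_T hc.zU⟩
  have hUQ : U ≤ Q := by
    intro u hu
    refine (hmemQ u).mpr ⟨h.UP hu, hc.U_le_T ?_⟩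
    rw [Subgroup.mem_subgroupOf]
    exact hu
  -- commuting with `z` puts an element in `P`
  have hPz : ∀ x : G, x * z = z * x → x ∈ P := fun x hx => h.cz z h.zU h.z1 x hx
  -- centralizer of `Q`
  have hcentQ : ∀ x : G, (∀ t ∈ Q, t * x = x * t) → x = 1 ∨ x = z := by
    intro x hx
    have hxP : x ∈ P := hPz x (hx z hzQ).symm
    have : (⟨x, hxP⟩ : ↥P) = 1 ∨ (⟨x, hxP⟩ : ↥P) = h.zP := by
      apply hc.T_center (twoSub h.zP hzz) hZiff
      intro t ht
      apply Subtype.ext
      rw [Subgroup.coe_mul, Subgroup.coe_mul]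
      exact hx t ((hmemQ t).mpr ⟨t.2, ht⟩)
    rcases this with h1 | h1
    · left; exact congrArg Subtype.val h1
    · right; exact congrArg Subtype.val h1
  have hQz : ∀ q ∈ Q, q * z = z * q := by
    intro q hq
    obtain ⟨hqP, hqT⟩ := (hmemQ q).mp hq
    have := hc.T_comm_z hqT
    exact congrArg Subtype.val this
  -- extraspecial
  have hextra : Cfsg.IsExtraspecial 2 ↥Q := by
    refine isExtraspecial_of_data Q z hzQ h.z1 ?_ ?_ hQz ?_ ?_ ?_
    · rw [hQT]
      exact hc.T_isPGroup.map P.subtype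
    · intro x _ hx
      exact hcentQ x hx
    · intro a ha b hb
      obtain ⟨haP, haT⟩ := (hmemQ a).mp ha
      obtain ⟨hbP, hbT⟩ := (hmemQ b).mp hb
      rcases hc.T_comm haT hbT with h1 | h1
      · left
        have := congrArg Subtype.val h1
        simpa using this
      · right
        have := congrArg Subtype.val h1
        rw [h.coe_zP] at this
        simpa using this
    · intro a ha
      obtain ⟨haP, haT⟩ := (hmemQ a).mp ha
      rcases hc.T_sq haT with h1 | h1
      · left
        have := congrArg Subtype.val h1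
        simpa using this
      · right
        have := congrArg Subtype.val h1
        rw [h.coe_zP] at this
        simpa using this
    · obtain ⟨x, hxU, hxZ⟩ := hU4
      obtain ⟨m, _, hmT, hmx⟩ := hc.exists_moving (twoSub h.zP hzz) hZiff hxU hxZ
      refine ⟨(m : G), (hmemQ m).mpr ⟨m.2, hmT⟩, (x : G),
        (hmemQ x).mpr ⟨x.2, hc.U_le_T hxU⟩, ?_⟩
      intro hcomm
      have hcomm' : m * x = x * m := by
        apply Subtype.ext
        rw [Subgroup.coe_mul, Subgroup.coe_mul]
        exact hcomm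
      have : m * x * m⁻¹ = x := by rw [hcomm']; group
      rw [this] at hmx
      exact hc.mul_z_ne x hmx.symm
  have hcardQ : Nat.card ↥Q = 2 ^ (2 * n + 1) := by
    rw [hQT, ← hc.card_T (twoSub h.zP hzz) hZiff n hUcard']
    exact Nat.card_congr (hc.T.equivMapOfInjective P.subtype P.subtype_injective).toEquiv.symm
  have hUel : Cfsg.IsElementaryAbelian 2 U := by
    refine ⟨⟨⟨fun a b => Subtype.ext (h.Ucomm a a.2 b b.2)⟩⟩, ?_⟩
    intro a ha
    rw [pow_two]
    exact h.Usq a ha
  have hcenter_map : ∀ x : G, x ∈ (Subgroup.center ↥Q).map Q.subtype ↔ x = 1 ∨ x = z := by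
    intro x
    rw [mem_center_map_iff]
    constructor
    · rintro ⟨_, hx⟩
      exact hcentQ x hx
    · rintro (rfl | rfl)
      · exact ⟨Subgroup.one_mem _, fun q _ => by rw [mul_one, one_mul]⟩
      · exact ⟨hzQ, fun q hq => hQz q hq⟩
  -- conjugation by elements commuting with `z`
  have hconjQ : ∀ c : G, c * z = z * c → ∀ t ∈ Q, c * t * c⁻¹ ∈ Q := by
    intro c hcz t ht
    have hcP : c ∈ P := hPz c hcz
    obtain ⟨htP, htT⟩ := (hmemQ t).mp ht
    have hcz' : (⟨c, hcP⟩ : ↥P) * h.zP = h.zP * ⟨c, hcP⟩ := by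
      apply Subtype.ext
      rw [Subgroup.coe_mul, Subgroup.coe_mul]
      exact hcz
    have := hc.conj_mem_T hcz' htT
    refine (hmemQ _).mpr ⟨P.mul_mem (P.mul_mem hcP htP) (P.inv_mem hcP), ?_⟩
    exact this
  refine ⟨hextra, hcardQ, ⟨U, hUQ, hUel, hUcard⟩, ⟨hextra, ?_, ?_, ?_⟩, ?_⟩
  · -- `C_G(Q) = Z(Q)`
    ext x
    rw [hcenter_map, Subgroup.mem_centralizer_iff]
    constructor
    · intro hx
      exact hcentQ x (fun t ht => hx t ht)
    · rintro (rfl | rfl)
      · intro t _; rw [mul_one, one_mul]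
      · intro t ht; exact hQz t ht
  · -- `C_G(Z(Q)) ≤ N_G(Q)`
    intro c hc'
    rw [Subgroup.mem_centralizer_iff] at hc'
    have hcz : c * z = z * c := (hc' z ((hcenter_map z).mpr (Or.inr rfl))).symm
    have hc'z : c⁻¹ * z = z * c⁻¹ := by
      calc c⁻¹ * z = c⁻¹ * (z * c) * c⁻¹ := by group
        _ = c⁻¹ * (c * z) * c⁻¹ := by rw [hcz]
        _ = z * c⁻¹ := by group
    rw [Subgroup.mem_normalizer_iff]
    intro t
    constructor
    · intro ht
      exact hconjQ c hcz t ht
    · intro ht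
      have := hconjQ c⁻¹ hc'z _ ht
      rw [inv_inv] at this
      have e : c⁻¹ * (c * t * c⁻¹) * c = t := by group
      rwa [e] at this
  · -- no odd-order subgroup normalized by `Q`
    intro K hKodd hQK
    have hU2 : IsPGroup 2 ↥(U.subgroupOf P) := IsPGroup.of_card (n := n + 1) hUcard'
    -- nontrivial elements of `U` act fixed-point-freely on `K`
    have hfpf : ∀ t ∈ U, t ≠ 1 → ∀ k ∈ K, t * k * t⁻¹ = k → k = 1 := by
      intro t ht ht1 k hk hfix
      set D : Subgroup G := K ⊓ Subgroup.centralizer ({t} : Set G) with hD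
      have hDP : D ≤ P := by
        intro d hd
        have hd2 : d ∈ Subgroup.centralizer ({t} : Set G) := (Subgroup.mem_inf.mp hd).2
        rw [Subgroup.mem_centralizer_iff] at hd2
        exact h.cz t ht ht1 d (hd2 t rfl).symm
      have hDbot : D.subgroupOf P = ⊥ := by
        apply eq_bot_of_odd_of_normalizes hU2
        · have e1 : Nat.card ↥(D.subgroupOf P) = Nat.card ↥D :=
            Nat.card_congr (Subgroup.subgroupOfEquivOfLe hDP).toEquiv
          rw [e1]
          exact Odd.of_dvd_nat hKodd (Subgroup.card_dvd_of_le inf_le_left)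
        · intro u hu
          rw [Subgroup.mem_subgroupOf] at hu
          apply mem_normalizer_of_conj_mem
          intro d hd
          rw [Subgroup.mem_subgroupOf] at hd ⊢
          have e : ((u * d * u⁻¹ : ↥P) : G) = (u : G) * d * (u : G)⁻¹ := by simp
          rw [e]
          refine Subgroup.mem_inf.mpr ⟨conj_mem_of_mem_normalizer (hQK (hUQ hu)) (Subgroup.mem_inf.mp hd).1, ?_⟩
          have hd2 : (d : G) ∈ Subgroup.centralizer ({t} : Set G) := (Subgroup.mem_inf.mp hd).2
          rw [Subgroup.mem_centralizer_iff] at hd2 ⊢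
          intro y hy
          rw [Set.mem_singleton_iff] at hy
          rw [hy]
          have h1 : t * (d : G) = (d : G) * t := hd2 t rfl
          have h2 : (u : G) * t = t * (u : G) := h.Ucomm _ hu t ht
          have h3 : (u : G)⁻¹ * t = t * (u : G)⁻¹ := by
            calc (u : G)⁻¹ * t = (u : G)⁻¹ * (t * (u : G)) * (u : G)⁻¹ := by group
              _ = (u : G)⁻¹ * ((u : G) * t) * (u : G)⁻¹ := by rw [h2]
              _ = t * (u : G)⁻¹ := by group
          calc t * ((u : G) * d * (u : G)⁻¹) = (t * (u : G)) * d * (u : G)⁻¹ := by group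
            _ = ((u : G) * t) * d * (u : G)⁻¹ := by rw [h2]
            _ = (u : G) * (t * d) * (u : G)⁻¹ := by group
            _ = (u : G) * ((d : G) * t) * (u : G)⁻¹ := by rw [h1]
            _ = (u : G) * (d : G) * (t * (u : G)⁻¹) := by group
            _ = (u : G) * (d : G) * ((u : G)⁻¹ * t) := by rw [h3]
            _ = (u : G) * d * (u : G)⁻¹ * t := by group
        · intro d _
          apply mem_normalizer_of_conj_mem
          intro u hu
          exact hc.Unorm d u hu
        · intro x hx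
          rw [Subgroup.mem_centralizer_iff] at hx
          exact hc.cent_U (fun u hu => (hx u hu).symm)
      have hkD : k ∈ D := by
        refine Subgroup.mem_inf.mpr ⟨hk, ?_⟩
        rw [Subgroup.mem_centralizer_iff]
        intro y hy
        rw [Set.mem_singleton_iff] at hy
        rw [hy]
        calc t * k = (t * k * t⁻¹) * t := by group
          _ = k * t := by rw [hfix]
      have : (⟨k, hDP hkD⟩ : ↥P) ∈ D.subgroupOf P := by
        rw [Subgroup.mem_subgroupOf]; exact hkD
      rw [hDbot, Subgroup.mem_bot] at this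
      exact congrArg Subtype.val this
    -- hence they invert `K`
    have hinv : ∀ t ∈ U, t ≠ 1 → ∀ k ∈ K, t * k * t⁻¹ = k⁻¹ := by
      intro t ht ht1
      apply inverts_of_fixed_point_free (h.Usq t ht)
      · intro k hk
        exact conj_mem_of_mem_normalizer (hQK (hUQ ht)) hk
      · exact hfpf t ht ht1
    obtain ⟨x, hxU, hxZ⟩ := hU4
    rw [Subgroup.mem_subgroupOf] at hxU
    have hx1 : (x : G) ≠ 1 := by
      intro hx1
      apply hxZ
      left
      exact Subtype.ext hx1
    have hxz : (x : G) ≠ z := by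
      intro hxz
      apply hxZ
      right
      exact Subtype.ext hxz
    have hxz1 : (x : G) * z ≠ 1 := by
      intro hxz1
      apply hxz
      calc (x : G) = (x : G) * z * z := by rw [mul_assoc, h.Usq z h.zU, mul_one]
        _ = z := by rw [hxz1, one_mul]
    rw [Subgroup.eq_bot_iff_forall]
    intro k hk
    apply hfpf ((x : G) * z) (U.mul_mem hxU h.zU) hxz1 k hk
    have h1 := hinv z h.zU h.z1 k hk
    have h2 := hinv (x : G) hxU hx1 k⁻¹ (K.inv_mem hk)
    calc (x : G) * z * k * ((x : G) * z)⁻¹ = (x : G) * (z * k * z⁻¹) * (x : G)⁻¹ := by group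
      _ = (x : G) * k⁻¹ * (x : G)⁻¹ := by rw [h1]
      _ = k := by rw [h2, inv_inv]
  · -- the complement
    obtain ⟨K', hK'C, hinf, hsup, ⟨e⟩⟩ := hc.exists_complement (twoSub h.zP hzz) hZiff n hUcard'
    refine ⟨K'.map P.subtype, ?_, ?_, ?_, ⟨?_⟩⟩
    · rw [hC]
      exact Subgroup.map_mono hK'C
    · rw [hQT, ← Subgroup.map_inf _ _ P.subtype P.subtype_injective, hinf, Subgroup.map_bot]
    · rw [hQT, ← Subgroup.map_sup, hsup, hC]
    · exact (K'.equivMapOfInjective P.subtype P.subtype_injective).symm.trans e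

end HolRel

end Cfsg.Agent.Helper90
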