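import Mathlib
import Cfsg.Agent.Helper90.HolRel

set_option autoImplicit false

/-!
Uniqueness of the holomorph: two holomorph contexts over elementary abelian 2-groups of the same order are
isomorphic, by an isomorphism matching the distinguished involutions.
-/

namespace Cfsg.Agent.Helper90

/-- A finite group of exponent two and order `2 ^ n` is, additively, `(ZMod 2)^n`. -/
theorem nonempty_addEquiv_fun_of_exp_two {H : Type*} [Group H] [Finite H]
    (hcomm : ∀ a b : H, a * b = b * a) (hsq : ∀ a : H, a * a = 1) (n : ℕ)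
    (hcard : Nat.card H = 2 ^ n) : Nonempty (Additive H ≃+ (Fin n → ZMod 2)) := by
  classical
  letI : CommGroup H := { (inferInstance : Group H) with mul_comm := hcomm }
  letI : Module (ZMod 2) (Additive H) := AddCommGroup.zmodModule (n := 2) (by
    intro x
    induction x using Additive.rec with
    | ofMul a =>
      rw [two_nsmul, ← ofMul_mul, hsq]
      rfl)
  haveI : Fact (Nat.Prime 2) := ⟨Nat.prime_two⟩
  haveI : Finite (Additive H) := inferInstanceAs (Finite H)
  haveI : Module.Finite (ZMod 2) (Additive H) := Module.Finite.of_finite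
  have hfr : Module.finrank (ZMod 2) (Additive H) = n := by
    have h1 : Nat.card (Additive H) = Nat.card (ZMod 2) ^ Module.finrank (ZMod 2) (Additive H) :=
      Module.natCard_eq_pow_finrank
    have h2 : Nat.card (Additive H) = 2 ^ n := hcard
    have h3 : Nat.card (ZMod 2) = 2 := by simp
    rw [h2, h3] at h1
    exact (Nat.pow_right_injective (le_refl 2) h1).symm
  let b : Module.Basis (Fin n) (ZMod 2) (Additive H) :=
    Module.finBasisOfFinrankEq (ZMod 2) (Additive H) hfr
  exact ⟨b.equivFun.toAddEquiv⟩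

/-- Two finite groups of exponent two and the same order `2 ^ n` are isomorphic. -/
theorem nonempty_mulEquiv_of_exp_two {H H' : Type*} [Group H] [Finite H] [Group H'] [Finite H']
    (hcomm : ∀ a b : H, a * b = b * a) (hsq : ∀ a : H, a * a = 1)
    (hcomm' : ∀ a b : H', a * b = b * a) (hsq' : ∀ a : H', a * a = 1) (n : ℕ)
    (hcard : Nat.card H = 2 ^ n) (hcard' : Nat.card H' = 2 ^ n) : Nonempty (H ≃* H') := by
  obtain ⟨e⟩ := nonempty_addEquiv_fun_of_exp_two hcomm hsq n hcard
  obtain ⟨e'⟩ := nonempty_addEquiv_fun_of_exp_two hcomm' hsq' n hcard'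
  exact ⟨MulEquiv.toAdditive.symm (e.trans e'.symm)⟩

namespace HolCtx

variable {G : Type*} [Group G] {U M : Subgroup G} {z : G}

theorem normalU (h : HolCtx U M z) : U.Normal := ⟨fun u hu g => h.Unorm g u hu⟩

theorem isComplement' (h : HolCtx U M z) : U.IsComplement' M := by
  rw [Subgroup.isComplement'_def, Subgroup.isComplement_iff_existsUnique]
  intro g
  obtain ⟨u, hu, m, hm, rfl⟩ := h.sup g
  refine ⟨(⟨u, hu⟩, ⟨m, hm⟩), rfl, ?_⟩
  rintro ⟨⟨u', hu'⟩, ⟨m', hm'⟩⟩ hx
  have hx' : u' * m' = u * m := hx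
  have h1 : u⁻¹ * u' = m * m'⁻¹ := by
    calc u⁻¹ * u' = u⁻¹ * (u' * m') * m'⁻¹ := by group
      _ = u⁻¹ * (u * m) * m'⁻¹ := by rw [hx']
      _ = m * m'⁻¹ := by group
  have h2 : u⁻¹ * u' = 1 := by
    apply h.inf _ (U.mul_mem (U.inv_mem hu) hu')
    rw [h1]
    exact M.mul_mem hm (M.inv_mem hm')
  have h3 : u' = u := by
    calc u' = u * (u⁻¹ * u') := by group
      _ = u := by rw [h2, mul_one]
  have h4 : m' = m := by
    subst h3
    exact mul_left_cancel hx'
  subst h3
  subst h4
  rfl

/-- All non-identity elements of `U` are conjugate under `M`. -/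
theorem exists_conj_eq [Finite G] (h : HolCtx U M z) {a b : G} (ha : a ∈ U) (hb : b ∈ U)
    (ha1 : a ≠ 1) (hb1 : b ≠ 1) : ∃ m ∈ M, m * a * m⁻¹ = b := by
  by_cases hab : a = b
  · exact ⟨1, M.one_mem, by rw [hab]; group⟩
  have habU : a * b ∈ U := U.mul_mem ha hb
  have hsq : (a * b) * (a * b) = 1 := h.Usq _ habU
  have hF : twoSub (a * b) hsq ≤ U := by
    intro x hx
    rcases (mem_twoSub _ hsq x).mp hx with rfl | rfl
    · exact U.one_mem
    · exact habU
  have haF : a ∉ twoSub (a * b) hsq := by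
    intro hx
    rcases (mem_twoSub _ hsq a).mp hx with h1 | h1
    · exact ha1 h1
    · apply hb1
      have : a * 1 = a * b := by rw [mul_one]; exact h1
      exact (mul_left_cancel this).symm
  obtain ⟨H, hFH, hHU, haH, hyp⟩ := exists_hyperplane h.Usq h.Ucomm (twoSub (a * b) hsq) hF ha haF
  have habH : a * b ∈ H := hFH ((mem_twoSub _ hsq _).mpr (Or.inr rfl))
  obtain ⟨m, hm, hmu⟩ := h.exists_transvection hHU (h.idx_of_hyp ha hyp) habH
  refine ⟨m, hm, ?_⟩
  rw [(hmu a ha).2 haH, ← mul_assoc, h.Usq a ha, one_mul]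

end HolCtx

theorem mulEquivSubgroup_inl_eq {G : Type*} [Group G] {H K : Subgroup G} [H.Normal]
    (hc : H.IsComplement' K) (u : ↥H) :
    SemidirectProduct.mulEquivSubgroup hc (SemidirectProduct.inl u) = (u : G) := by
  simp

section Iso

variable {G : Type*} [Group G] {U M : Subgroup G} {z : G}
variable {G' : Type*} [Group G'] {U' M' : Subgroup G'} {z' : G'}

/-- The conjugation action of `M` on `U`. -/
def HolCtx.act (h : HolCtx U M z) : ↥M →* MulAut ↥U :=
  haveI := h.normalU
  (U.normalizerMonoidHom).comp (Subgroup.inclusion (U.normalizer_eq_top ▸ le_top))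

theorem HolCtx.act_apply (h : HolCtx U M z) (m : ↥M) (u : ↥U) :
    ((h.act m u : ↥U) : G) = (m : G) * u * (m : G)⁻¹ := rfl

theorem HolCtx.act_bijective (h : HolCtx U M z) : Function.Bijective h.act := by
  constructor
  · rw [injective_iff_map_eq_one]
    intro m hm
    apply Subtype.ext
    rw [Subgroup.coe_one]
    apply h.faith m m.2
    intro u hu
    have := congrArg (fun φ : MulAut ↥U => ((φ ⟨u, hu⟩ : ↥U) : G)) hm
    simpa [HolCtx.act_apply] using this
  · intro φ
    obtain ⟨m, hm, hmφ⟩ := h.full φ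
    refine ⟨⟨m, hm⟩, ?_⟩
    ext u
    rw [HolCtx.act_apply]
    exact (hmφ u).symm

/-- `M` is the full automorphism group of `U`. -/
noncomputable def HolCtx.actEquiv (h : HolCtx U M z) : ↥M ≃* MulAut ↥U :=
  MulEquiv.ofBijective h.act h.act_bijective

theorem HolCtx.actEquiv_apply (h : HolCtx U M z) (m : ↥M) : h.actEquiv m = h.act m := rfl

/-- Two holomorph contexts are isomorphic along any isomorphism of the normal subgroups. -/
theorem HolCtx.exists_iso (h : HolCtx U M z) (h' : HolCtx U' M' z') (α : ↥U ≃* ↥U') :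
    ∃ Φ : G ≃* G', ∀ u : ↥U, Φ (u : G) = ((α u : ↥U') : G') := by
  haveI := h.normalU
  haveI := h'.normalU
  let S : ↥U ⋊[h.act] ↥M ≃* G := SemidirectProduct.mulEquivSubgroup h.isComplement'
  let S' : ↥U' ⋊[h'.act] ↥M' ≃* G' := SemidirectProduct.mulEquivSubgroup h'.isComplement'
  let ψ : ↥M ≃* ↥M' := h.actEquiv.trans ((MulAut.congr α).trans h'.actEquiv.symm)
  have hcompat : ∀ m : ↥M, (h.act m).trans α = α.trans (h'.act (ψ m)) := by
    intro m
    have h1 : h'.act (ψ m) = MulAut.congr α (h.act m) := by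
      show h'.actEquiv (h'.actEquiv.symm (MulAut.congr α (h.actEquiv m))) = _
      rw [MulEquiv.apply_symm_apply]
      rfl
    rw [h1]
    ext u
    simp [MulAut.congr]
  let C : ↥U ⋊[h.act] ↥M ≃* ↥U' ⋊[h'.act] ↥M' := SemidirectProduct.congr α ψ hcompat
  refine ⟨S.symm.trans (C.trans S'), fun u => ?_⟩
  have h1 : S.symm (u : G) = SemidirectProduct.inl u := by
    rw [MulEquiv.symm_apply_eq]
    exact (mulEquivSubgroup_inl_eq h.isComplement' u).symm
  have h2 : C (SemidirectProduct.inl u) = SemidirectProduct.inl (α u) := by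
    ext <;> simp [C]
  have h3 : S' (SemidirectProduct.inl (α u)) = ((α u : ↥U') : G') := by
    exact mulEquivSubgroup_inl_eq h'.isComplement' (α u)
  simp only [MulEquiv.trans_apply, h1, h2, h3]

end Iso

section Cent

/-- An isomorphism carrying `z` to `z'` carries the centralizer of `z` to that of `z'`. -/
theorem nonempty_centralizer_equiv_of_map {G G' : Type*} [Group G] [Group G'] (Φ : G ≃* G') {z : G} {z' : G'}
    (hz : Φ z = z') :
    Nonempty (↥(Subgroup.centralizer ({z} : Set G)) ≃* ↥(Subgroup.centralizer ({z'} : Set G'))) := by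
  have hmap : (Subgroup.centralizer ({z} : Set G)).map Φ.toMonoidHom
      = Subgroup.centralizer ({z'} : Set G') := by
    ext x
    rw [Subgroup.mem_map, Subgroup.mem_centralizer_iff]
    constructor
    · rintro ⟨y, hy, rfl⟩
      rw [Subgroup.mem_centralizer_iff] at hy
      intro w hw
      rw [Set.mem_singleton_iff] at hw
      rw [hw, ← hz]
      have := hy z rfl
      show Φ z * Φ y = Φ y * Φ z
      rw [← map_mul, ← map_mul, this]
    · intro hx
      refine ⟨Φ.symm x, ?_, by simp⟩
      rw [Subgroup.mem_centralizer_iff]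
      intro w hw
      rw [Set.mem_singleton_iff] at hw
      rw [hw]
      apply Φ.injective
      rw [map_mul, map_mul, hz, MulEquiv.apply_symm_apply]
      exact hx z' rfl
  exact ⟨(Φ.subgroupMap (Subgroup.centralizer ({z} : Set G))).trans (MulEquiv.subgroupCongr hmap)⟩

variable {G : Type*} [Group G] {U M : Subgroup G} {z : G}
variable {G' : Type*} [Group G'] {U' M' : Subgroup G'} {z' : G'}

/-- Two holomorph contexts of the same order are isomorphic by an isomorphism matching the involutions. -/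
theorem HolCtx.exists_iso_z [Finite G] [Finite G'] (h : HolCtx U M z) (h' : HolCtx U' M' z') (n : ℕ)
    (hU : Nat.card ↥U = 2 ^ n) (hU' : Nat.card ↥U' = 2 ^ n) : ∃ Φ : G ≃* G', Φ z = z' := by
  have hcomm : ∀ a b : ↥U, a * b = b * a := fun a b => Subtype.ext (h.Ucomm a a.2 b b.2)
  have hsq : ∀ a : ↥U, a * a = 1 := fun a => Subtype.ext (h.Usq a a.2)
  have hcomm' : ∀ a b : ↥U', a * b = b * a := fun a b => Subtype.ext (h'.Ucomm a a.2 b b.2)
  have hsq' : ∀ a : ↥U', a * a = 1 := fun a => Subtype.ext (h'.Usq a a.2)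
  obtain ⟨α⟩ := nonempty_mulEquiv_of_exp_two hcomm hsq hcomm' hsq' n hU hU'
  obtain ⟨Φ0, hΦ0⟩ := h.exists_iso h' α
  have hw1 : ((α ⟨z, h.zU⟩ : ↥U') : G') ≠ 1 := by
    intro hc
    have h1 : α ⟨z, h.zU⟩ = 1 := Subtype.ext hc
    have h2 : (⟨z, h.zU⟩ : ↥U) = 1 := by
      apply α.injective
      rw [h1, map_one]
    exact h.z1 (congrArg Subtype.val h2)
  obtain ⟨m, _, hm⟩ := h'.exists_conj_eq (α ⟨z, h.zU⟩).2 h'.zU hw1 h'.z1
  refine ⟨Φ0.trans (MulAut.conj m), ?_⟩
  have h3 : Φ0 z = ((α ⟨z, h.zU⟩ : ↥U') : G') := hΦ0 ⟨z, h.zU⟩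
  rw [MulEquiv.trans_apply, h3, MulAut.conj_apply]
  exact hm

end Cent

namespace HolRel

variable {G : Type*} [Group G] {P U M : Subgroup G} {z : G}
variable {G' : Type*} [Group G'] {P' U' M' : Subgroup G'} {z' : G'}

/-- The centralizer of `z` in `G` is that of `z` in `P`. -/
theorem nonempty_centralizer_equiv_P (h : HolRel P U M z) :
    Nonempty (↥(Subgroup.centralizer ({z} : Set G))
      ≃* ↥(Subgroup.centralizer ({h.zP} : Set ↥P))) := by
  have hC : Subgroup.centralizer ({z} : Set G)
      = (Subgroup.centralizer ({h.zP} : Set ↥P)).map P.subtype := by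
    ext x
    rw [Subgroup.mem_centralizer_iff, Subgroup.mem_map]
    constructor
    · intro hx
      have hxz : x * z = z * x := (hx z rfl).symm
      have hxP : x ∈ P := h.cz z h.zU h.z1 x hxz
      refine ⟨⟨x, hxP⟩, ?_, rfl⟩
      rw [Subgroup.mem_centralizer_iff]
      intro y hy
      rw [Set.mem_singleton_iff] at hy
      rw [hy]
      apply Subtype.ext
      rw [Subgroup.coe_mul, Subgroup.coe_mul]
      exact hxz.symm
    · rintro ⟨x', hx', rfl⟩
      rw [Subgroup.mem_centralizer_iff] at hx'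
      intro y hy
      rw [Set.mem_singleton_iff] at hy
      rw [hy]
      have := hx' h.zP rfl
      exact congrArg Subtype.val this
  exact ⟨(MulEquiv.subgroupCongr hC).trans
    ((Subgroup.centralizer ({h.zP} : Set ↥P)).equivMapOfInjective P.subtype
      P.subtype_injective).symm⟩

/-- The centralizers of the distinguished involutions in two relative holomorph contexts of the same order are
isomorphic. -/
theorem nonempty_centralizer_equiv [Finite G] [Finite G'] (h : HolRel P U M z)
    (h' : HolRel P' U' M' z') (n : ℕ) (hU : Nat.card ↥U = 2 ^ n) (hU' : Nat.card ↥U' = 2 ^ n) :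
    Nonempty (↥(Subgroup.centralizer ({z} : Set G)) ≃* ↥(Subgroup.centralizer ({z'} : Set G'))) := by
  obtain ⟨e1⟩ := h.nonempty_centralizer_equiv_P
  obtain ⟨e2⟩ := h'.nonempty_centralizer_equiv_P
  have hc1 : Nat.card ↥(U.subgroupOf P) = 2 ^ n := by
    rw [← hU]
    exact Nat.card_congr (Subgroup.subgroupOfEquivOfLe h.UP).toEquiv
  have hc2 : Nat.card ↥(U'.subgroupOf P') = 2 ^ n := by
    rw [← hU']
    exact Nat.card_congr (Subgroup.subgroupOfEquivOfLe h'.UP).toEquiv
  obtain ⟨Φ, hΦ⟩ := h.toCtx.exists_iso_z h'.toCtx n hc1 hc2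
  obtain ⟨e3⟩ := nonempty_centralizer_equiv_of_map Φ hΦ
  exact ⟨e1.trans (e3.trans e2.symm)⟩

end HolRel

end Cfsg.Agent.Helper90
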