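import Mathlib
import Cfsg.Prelude.Def_MonsterType
import Cfsg.Agent.Helper90.LgInv

set_option autoImplicit false

/-!
In an extraspecial 2-group `Q` with central involution `z`: if `t ∈ Q ∩ Q^g` is an involution not
conjugate to `z`, then the conjugate `g z g⁻¹ ∈ Q` of `z` is conjugate to `z` under
`⟨C_Q(t), C_{Q^g}(t)⟩`.
-/

namespace Cfsg.Agent.Helper90

open Cfsg

variable {G : Type*} [Group G]

theorem ExtraData.exists_conj_to_z_inv {Q : Subgroup G} {z : G} (hE : ExtraData Q z) (t g : G)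
    (htt : t * t = 1) (ht1 : t ≠ 1) (htQ : t ∈ Q) (htQg : g⁻¹ * t * g ∈ Q)
    (hnc : ∀ c : G, c * z * c⁻¹ ≠ t)
    (hgQ : g * z * g⁻¹ ∈ Q) (hgz : g * z * g⁻¹ ≠ z) (hzg : g⁻¹ * z * g ∈ Q) :
    ∃ x ∈ (Q ⊓ Subgroup.centralizer ({t} : Set G)) ⊔
        ((Q).map (MulAut.conj g).toMonoidHom ⊓ Subgroup.centralizer ({t} : Set G)),
      x * (g * z * g⁻¹) * x⁻¹ = z := by
  have htz : t ≠ z := by
    intro h
    apply hnc 1
    rw [h]; group
  -- no conjugate of `z` is `z u` for a non-central involution `u` of `Q` conjugate to `t`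
  have hnc2 : ∀ (u d : G), u ∈ Q → u ≠ 1 → u ≠ z → d * u * d⁻¹ = t →
      ∀ c : G, c * z * c⁻¹ ≠ z * u := by
    intro u d huQ hu1 huz hdu c h
    obtain ⟨y, -, hyu⟩ := hE.exists_conj_inv huQ hu1 huz
    apply hnc (d * y⁻¹ * c)
    calc d * y⁻¹ * c * z * (d * y⁻¹ * c)⁻¹ = d * (y⁻¹ * (c * z * c⁻¹) * y) * d⁻¹ := by group
      _ = d * (y⁻¹ * (y * u * y⁻¹) * y) * d⁻¹ := by rw [h, hyu]
      _ = d * u * d⁻¹ := by group
      _ = t := hdu
  obtain ⟨s, hs⟩ : ∃ s : G, s = g * z * g⁻¹ := ⟨_, rfl⟩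
  obtain ⟨t', ht'⟩ : ∃ t' : G, t' = g⁻¹ * t * g := ⟨_, rfl⟩
  obtain ⟨z', hz'⟩ : ∃ z' : G, z' = g⁻¹ * z * g := ⟨_, rfl⟩
  rw [← hs] at hgQ hgz ⊢
  rw [← ht'] at htQg
  rw [← hz'] at hzg
  -- `s ∈ C_Q(t)` and is not central there
  have hst : s * t = t * s := by
    have h1 : t' * z = z * t' := hE.zc t' htQg
    calc s * t = g * (z * t') * g⁻¹ := by rw [hs, ht']; group
      _ = g * (t' * z) * g⁻¹ := by rw [h1]
      _ = t * s := by rw [hs, ht']; group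
  have hsP : s ∈ Q ⊓ Subgroup.centralizer ({t} : Set G) :=
    Subgroup.mem_inf.mpr ⟨hgQ, Subgroup.mem_centralizer_singleton_iff.mpr hst⟩
  have hs1 : s ≠ 1 := by
    intro h
    apply hE.z1
    calc z = g⁻¹ * s * g := by rw [hs]; group
      _ = 1 := by rw [h]; group
  have hs_t : s ≠ t := by rw [hs]; exact hnc g
  have hs_zt : s ≠ z * t := by
    rw [hs]
    exact hnc2 t 1 htQ ht1 htz (by group) g
  obtain ⟨r, hr, hrs⟩ := hE.exists_conj_fix_inv htQ htt ht1 htz hsP hs1 hgz hs_t hs_zt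
  -- the same inside `Q` for `t' = g⁻¹ t g` and `z' = g⁻¹ z g`
  have ht't' : t' * t' = 1 := by
    calc t' * t' = g⁻¹ * (t * t) * g := by rw [ht']; group
      _ = 1 := by rw [htt]; group
  have ht'1 : t' ≠ 1 := by
    intro h
    apply ht1
    calc t = g * t' * g⁻¹ := by rw [ht']; group
      _ = 1 := by rw [h]; group
  have ht'z : t' ≠ z := by
    intro h
    apply hnc g
    calc g * z * g⁻¹ = g * t' * g⁻¹ := by rw [h]
      _ = t := by rw [ht']; group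
  have hzt : t * z = z * t := hE.zc t htQ
  have hz't' : z' * t' = t' * z' := by
    calc z' * t' = g⁻¹ * (z * t) * g := by rw [hz', ht']; group
      _ = g⁻¹ * (t * z) * g := by rw [hzt]
      _ = t' * z' := by rw [hz', ht']; group
  have hz'P : z' ∈ Q ⊓ Subgroup.centralizer ({t'} : Set G) :=
    Subgroup.mem_inf.mpr ⟨hzg, Subgroup.mem_centralizer_singleton_iff.mpr hz't'⟩
  have hz'1 : z' ≠ 1 := by
    intro h
    apply hE.z1
    calc z = g * z' * g⁻¹ := by rw [hz']; group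
      _ = 1 := by rw [h]; group
  have hz'z : z' ≠ z := by
    intro h
    apply hgz
    have h' : g⁻¹ * z * g = z := by rw [← hz']; exact h
    calc s = g * z * g⁻¹ := hs
      _ = g * (g⁻¹ * z * g) * g⁻¹ := by rw [h']
      _ = z := by group
  have hz't'' : z' ≠ t' := by
    intro h
    apply htz
    calc t = g * t' * g⁻¹ := by rw [ht']; group
      _ = g * z' * g⁻¹ := by rw [h]
      _ = z := by rw [hz']; group
  have hz'zt' : z' ≠ z * t' := by
    rw [hz']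
    have h1 : g * t' * g⁻¹ = t := by rw [ht']; group
    have h2 := hnc2 t' g htQg ht'1 ht'z h1 g⁻¹
    rwa [inv_inv] at h2
  obtain ⟨r2, hr2, hr2z⟩ :=
    hE.exists_conj_fix_inv htQg ht't' ht'1 ht'z hz'P hz'1 hz'z hz't'' hz'zt'
  have hr'Q : g * r2 * g⁻¹ ∈ (Q).map (MulAut.conj g).toMonoidHom := conj_mem_map_conj Q g hr2.1
  have hr't : g * r2 * g⁻¹ ∈ Subgroup.centralizer ({t} : Set G) := by
    rw [Subgroup.mem_centralizer_singleton_iff]
    have h1 : r2 * t' = t' * r2 := Subgroup.mem_centralizer_singleton_iff.mp hr2.2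
    calc g * r2 * g⁻¹ * t = g * (r2 * t') * g⁻¹ := by rw [ht']; group
      _ = g * (t' * r2) * g⁻¹ := by rw [h1]
      _ = t * (g * r2 * g⁻¹) := by rw [ht']; group
  have hr'z : (g * r2 * g⁻¹) * z * (g * r2 * g⁻¹)⁻¹ = s * z := by
    calc (g * r2 * g⁻¹) * z * (g * r2 * g⁻¹)⁻¹ = g * (r2 * z' * r2⁻¹) * g⁻¹ := by rw [hz']; group
      _ = g * (z * z') * g⁻¹ := by rw [hr2z]
      _ = s * z := by rw [hs, hz']; group
  have hsz : s * z = z * s := hE.zc s hgQ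
  refine ⟨(g * r2 * g⁻¹)⁻¹ * r, ?_, ?_⟩
  · exact Subgroup.mul_mem _
      (Subgroup.mem_sup_right (Subgroup.inv_mem _ (Subgroup.mem_inf.mpr ⟨hr'Q, hr't⟩)))
      (Subgroup.mem_sup_left hr)
  · calc (g * r2 * g⁻¹)⁻¹ * r * s * ((g * r2 * g⁻¹)⁻¹ * r)⁻¹
        = (g * r2 * g⁻¹)⁻¹ * (r * s * r⁻¹) * (g * r2 * g⁻¹) := by group
      _ = (g * r2 * g⁻¹)⁻¹ * ((g * r2 * g⁻¹) * z * (g * r2 * g⁻¹)⁻¹) * (g * r2 * g⁻¹) := by
          rw [hrs, hr'z, hsz]
      _ = z := by group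

end Cfsg.Agent.Helper90
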