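import Mathlib
import Cfsg.Prelude.Def_MonsterType
import Cfsg.Agent.Helper90.Extra
import Cfsg.Agent.Helper90.Conj
import Cfsg.Agent.Helper90.Basic
import Cfsg.Agent.S5434

set_option autoImplicit false

/-!
The centralizer `C_Q(A)` of a subgroup `A` of odd order acting on a large extraspecial 2-group `Q`:
its centre is the centre of `Q`, it is extraspecial if it has more than two elements, and its
non-central elements `t` are conjugate in it to `z t`.
-/

namespace Cfsg.Agent.Helper90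

open Cfsg

variable {G : Type*} [Group G] [Finite G]

/-- Central elements of `C_Q(A)` are central in `Q`. -/
theorem central_fix {Q : Subgroup G} {z : G} (hQ : Cfsg.IsLargeExtraspecial Q) (hE : ExtraData Q z)
    (A : Subgroup G) (hA : A ≤ Subgroup.normalizer (Q : Set G)) (hAodd : Odd (Nat.card ↥A)) :
    ∀ x ∈ Q ⊓ Subgroup.centralizer (A : Set G),
      (∀ r ∈ Q ⊓ Subgroup.centralizer (A : Set G), r * x = x * r) → x = 1 ∨ x = z := by
  intro x hx hc
  apply hE.cen x hx.1
  by_cases hA1 : A = ⊥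
  · intro q hq
    apply hc q (Subgroup.mem_inf.mpr ⟨hq, ?_⟩)
    rw [hA1, Subgroup.mem_centralizer_iff]
    intro h hh
    have : h = 1 := by simpa using hh
    rw [this]; simp
  · obtain ⟨h1, h2, -, -⟩ := Cfsg.Agent.S5434.result Q hQ A hA hAodd hA1
    have h3 : Q ⊓ Subgroup.centralizer (A : Set G) ≤ Subgroup.centralizer ({x} : Set G) :=
      fun r hr => Subgroup.mem_centralizer_singleton_iff.mpr (hc r hr)
    have h4 : ⁅Q, A⁆ ≤ Subgroup.centralizer ({x} : Set G) :=
      fun y hy => Subgroup.mem_centralizer_singleton_iff.mpr (h2 x hx y hy).symm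
    intro q hq
    have h5 : q ∈ (Q ⊓ Subgroup.centralizer (A : Set G)) ⊔ ⁅Q, A⁆ := by rw [h1]; exact hq
    exact Subgroup.mem_centralizer_singleton_iff.mp ((sup_le h3 h4) h5)

/-- `C_Q(A)` is extraspecial as soon as it has more than two elements. -/
theorem isExtraspecial_fix {Q : Subgroup G} (hQ : Cfsg.IsLargeExtraspecial Q)
    (A : Subgroup G) (hA : A ≤ Subgroup.normalizer (Q : Set G)) (hAodd : Odd (Nat.card ↥A))
    (hcard : 2 < Nat.card ↥(Q ⊓ Subgroup.centralizer (A : Set G))) :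
    Cfsg.IsExtraspecial 2 ↥(Q ⊓ Subgroup.centralizer (A : Set G)) := by
  by_cases hA1 : A = ⊥
  · have h1 : Q ⊓ Subgroup.centralizer (A : Set G) = Q := by
      apply inf_eq_left.mpr
      intro q _
      rw [hA1, Subgroup.mem_centralizer_iff]
      intro h hh
      have : h = 1 := by simpa using hh
      rw [this]; simp
    rw [h1]; exact hQ.1
  · obtain ⟨-, -, -, h | h⟩ := Cfsg.Agent.S5434.result Q hQ A hA hAodd hA1
    · exfalso
      rw [h, card_center_map, hQ.1.2] at hcard
      omega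
    · exact h

/-- Non-central elements `t` of `C_Q(A)` are conjugate in `C_Q(A)` to `z t`. -/
theorem exists_conj_fix {Q : Subgroup G} {z : G} (hQ : Cfsg.IsLargeExtraspecial Q)
    (hE : ExtraData Q z) (A : Subgroup G) (hA : A ≤ Subgroup.normalizer (Q : Set G))
    (hAodd : Odd (Nat.card ↥A)) {t : G} (ht : t ∈ Q ⊓ Subgroup.centralizer (A : Set G))
    (ht1 : t ≠ 1) (htz : t ≠ z) :
    ∃ r ∈ Q ⊓ Subgroup.centralizer (A : Set G), r * t * r⁻¹ = z * t := by
  by_contra hcon
  push Not at hcon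
  have h1 : ∀ r ∈ Q ⊓ Subgroup.centralizer (A : Set G), r * t = t * r := by
    intro r hr
    rcases hE.conj_eq_or ht.1 hr.1 with h | h
    · calc r * t = (r * t * r⁻¹) * r := by group
        _ = t * r := by rw [h]
    · exact absurd h (hcon r hr)
  rcases central_fix hQ hE A hA hAodd t ht h1 with h | h
  exacts [ht1 h, htz h]

omit [Finite G] in
/-- An element of a subgroup of odd order whose `2^k`-th power is trivial is trivial. -/
theorem eq_one_of_odd_of_pow {A : Subgroup G} (hAodd : Odd (Nat.card ↥A)) {a : G} (ha : a ∈ A)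
    (k : ℕ) (h : a ^ 2 ^ k = 1) : a = 1 := by
  have h1 : orderOf a ∣ 2 ^ k := orderOf_dvd_of_pow_eq_one h
  have h2 : orderOf a ∣ Nat.card ↥A := Subgroup.orderOf_dvd_natCard A ha
  have h3 : (2 ^ k).Coprime (Nat.card ↥A) :=
    Nat.Coprime.pow_left k (Nat.coprime_two_left.mpr hAodd)
  exact orderOf_eq_one_iff.mp (Nat.eq_one_of_dvd_coprimes h3 h1 h2)

omit [Finite G] in
/-- If `c r c⁻¹ r⁻¹` lies in a subgroup of odd order and commutes with the `2`-element `r`, then
`c` commutes with `r`. -/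
theorem conj_eq_of_comm_mem_odd {A : Subgroup G} (hAodd : Odd (Nat.card ↥A)) {c r : G} (k : ℕ)
    (hr : r ^ 2 ^ k = 1) (ha : c * r * c⁻¹ * r⁻¹ ∈ A)
    (hcomm : (c * r * c⁻¹ * r⁻¹) * r = r * (c * r * c⁻¹ * r⁻¹)) : c * r * c⁻¹ = r := by
  have h1 : (c * r * c⁻¹ * r⁻¹) ^ 2 ^ k = 1 := by
    have h2 : ((c * r * c⁻¹ * r⁻¹) * r) ^ 2 ^ k = (c * r * c⁻¹ * r⁻¹) ^ 2 ^ k * r ^ 2 ^ k :=
      Commute.mul_pow hcomm _
    have h3 : (c * r * c⁻¹ * r⁻¹) * r = c * r * c⁻¹ := by group
    have h5 : (c * r * c⁻¹) ^ 2 ^ k = 1 := by rw [conj_pow, hr]; group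
    rw [h3, h5, hr, mul_one] at h2
    exact h2.symm
  have h4 := eq_one_of_odd_of_pow hAodd ha k h1
  calc c * r * c⁻¹ = (c * r * c⁻¹ * r⁻¹) * r := by group
    _ = r := by rw [h4, one_mul]

end Cfsg.Agent.Helper90
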