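import Mathlib
import Cfsg.Prelude.Def_MonsterType
import Cfsg.Agent.Helper90.LgOdd
import Cfsg.Agent.Helper53.NormalComplement
import Cfsg.Agent.Lib.Cores

set_option autoImplicit false

/-!
Two steps towards the quotient statement: a group of order `2 · odd` is generated by its odd core
and any involution; and in the large extraspecial setting, a conjugate `g z g⁻¹ ∈ C_Q(A)` of `z` is
conjugate to `z` under `⟨C_Q(A), C_{Q^g}(A)⟩`.
-/

namespace Cfsg.Agent.Helper90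

open Cfsg

variable {G : Type*} [Group G] [Finite G]

/-- If `4 ∤ |X|`, `z ∈ X` is an involution and `O(X) ≤ A`, then `X ≤ A ⟨z⟩`. -/
theorem le_sup_zpowers_of_not_four_dvd (X A : Subgroup G) (z : G) (hz : orderOf z = 2)
    (hzX : z ∈ X) (h4 : ¬ 4 ∣ Nat.card ↥X)
    (hO : (Cfsg.oddCore ↥X).map X.subtype ≤ A) : X ≤ A ⊔ Subgroup.zpowers z := by
  have : Fact (Nat.Prime 2) := ⟨Nat.prime_two⟩
  have h2dvd : 2 ∣ Nat.card ↥X := by rw [← hz]; exact Subgroup.orderOf_dvd_natCard X hzX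
  have hne : Nat.card ↥X ≠ 0 := Nat.card_pos.ne'
  have hfac : (Nat.card ↥X).factorization 2 = 1 := by
    have h1 : 1 ≤ (Nat.card ↥X).factorization 2 :=
      (Nat.Prime.pow_dvd_iff_le_factorization Nat.prime_two hne).mp (by simpa using h2dvd)
    have h2 : ¬ 2 ≤ (Nat.card ↥X).factorization 2 := by
      intro h
      apply h4
      have := (Nat.Prime.pow_dvd_iff_le_factorization Nat.prime_two hne).mpr h
      simpa using this
    omega
  have hSyl : ∀ P : Sylow 2 ↥X, Nat.card ↥(P : Subgroup ↥X) = 2 := by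
    intro P
    rw [P.card_eq_multiplicity, hfac, pow_one]
  obtain ⟨S⟩ : Nonempty (Sylow 2 ↥X) := inferInstance
  have hcyc : IsCyclic ↥(S : Subgroup ↥X) := isCyclic_of_prime_card (hSyl S)
  obtain ⟨P, N, hNn, hNP⟩ := Cfsg.Agent.Helper53.hasNormalPComplement_two_of_isCyclic S hcyc
  have hNidx : N.index = 2 := by rw [hNP.symm.index_eq_card]; exact hSyl P
  have hNcard : Nat.card ↥N = (P : Subgroup ↥X).index := hNP.index_eq_card.symm
  have hNodd : Odd (Nat.card ↥N) := by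
    rw [hNcard]
    have h1 := P.card_coprime_index
    rw [hSyl P] at h1
    exact Nat.Coprime.odd_of_left h1
  have hNA : N.map X.subtype ≤ A :=
    (Subgroup.map_mono (Cfsg.Agent.Lib.le_oddCore hNn hNodd)).trans hO
  have hzN : (⟨z, hzX⟩ : ↥X) ∉ N := by
    intro h
    have h1 : orderOf (⟨z, hzX⟩ : ↥X) ∣ Nat.card ↥N := Subgroup.orderOf_dvd_natCard N h
    rw [Subgroup.orderOf_mk, hz] at h1
    exact (Nat.not_even_iff_odd.mpr hNodd) (even_iff_two_dvd.mpr h1)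
  intro x hx
  by_cases hxN : (⟨x, hx⟩ : ↥X) ∈ N
  · exact Subgroup.mem_sup_left (hNA ⟨_, hxN, rfl⟩)
  · have h1 : (⟨x, hx⟩ : ↥X) * ⟨z, hzX⟩ ∈ N :=
      (Subgroup.mul_mem_iff_of_index_two hNidx).mpr (iff_of_false hxN hzN)
    have h2 : x * z ∈ A := hNA ⟨_, h1, rfl⟩
    have h3 : x = (x * z) * z⁻¹ := by group
    rw [h3]
    exact Subgroup.mul_mem_sup h2 (Subgroup.inv_mem _ (Subgroup.mem_zpowers z))

/-- In the large extraspecial setting, with `A ≤ C(z)` of odd order, a conjugate `g z g⁻¹ ≠ z` of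
`z` lying in `C_Q(A)` (with `z ∈ Q^g`) is conjugate to `z` under `⟨C_Q(A), C_{Q^g}(A)⟩`. -/
theorem exists_conj_to_z {Q : Subgroup G} {z : G} (hQ : Cfsg.IsLargeExtraspecial Q)
    (hE : ExtraData Q z)
    (hCz : Subgroup.centralizer ({z} : Set G) ≤ Subgroup.normalizer (Q : Set G))
    (A : Subgroup G) (hA : A ≤ Subgroup.centralizer ({z} : Set G)) (hAodd : Odd (Nat.card ↥A))
    (g : G) (hgQ : g * z * g⁻¹ ∈ Q ⊓ Subgroup.centralizer (A : Set G)) (hgz : g * z * g⁻¹ ≠ z)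
    (hzg : g⁻¹ * z * g ∈ Q) :
    ∃ x ∈ (Q ⊓ Subgroup.centralizer (A : Set G)) ⊔
        ((Q).map (MulAut.conj g).toMonoidHom ⊓ Subgroup.centralizer (A : Set G)),
      x * (g * z * g⁻¹) * x⁻¹ = z := by
  obtain ⟨s, hs⟩ : ∃ s : G, s = g * z * g⁻¹ := ⟨_, rfl⟩
  obtain ⟨t, ht⟩ : ∃ t : G, t = g⁻¹ * z * g := ⟨_, rfl⟩
  rw [← hs] at hgQ hgz ⊢
  rw [← ht] at hzg
  have hs1 : s ≠ 1 := by
    intro h
    apply hE.z1
    calc z = g⁻¹ * s * g := by rw [hs]; group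
      _ = 1 := by rw [h]; group
  have ht1 : t ≠ 1 := by
    intro h
    apply hE.z1
    calc z = g * t * g⁻¹ := by rw [ht]; group
      _ = 1 := by rw [h]; group
  have htz : t ≠ z := by
    intro h
    apply hgz
    have h' : g⁻¹ * z * g = z := by rw [← ht]; exact h
    calc s = g * z * g⁻¹ := hs
      _ = g * (g⁻¹ * z * g) * g⁻¹ := by rw [h']
      _ = z := by group
  have hAN : A ≤ Subgroup.normalizer (Q : Set G) := hA.trans hCz
  obtain ⟨r, hr, hrs⟩ := exists_conj_fix hQ hE A hAN hAodd hgQ hs1 hgz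
  have hsA : ∀ a ∈ A, a * s = s * a := fun a ha => Subgroup.mem_centralizer_iff.mp hgQ.2 a ha
  have hzA : ∀ a ∈ A, a * z = z * a := fun a ha =>
    Subgroup.mem_centralizer_singleton_iff.mp (hA ha)
  -- the conjugate `B = g⁻¹ A g`
  obtain ⟨B, hB⟩ : ∃ B : Subgroup G, B = A.map (MulAut.conj g⁻¹).toMonoidHom := ⟨_, rfl⟩
  have hBmem : ∀ b ∈ B, ∃ a ∈ A, b = g⁻¹ * a * g := by
    intro b hb
    rw [hB] at hb
    obtain ⟨a, ha, rfl⟩ := hb
    exact ⟨a, ha, by simp [MulAut.conj_apply]⟩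
  have hmemB : ∀ a ∈ A, g⁻¹ * a * g ∈ B := by
    intro a ha
    rw [hB]
    exact ⟨a, ha, by simp [MulAut.conj_apply]⟩
  have hBz : B ≤ Subgroup.centralizer ({z} : Set G) := by
    intro b hb
    obtain ⟨a, ha, rfl⟩ := hBmem b hb
    rw [Subgroup.mem_centralizer_singleton_iff]
    have h1 := hsA a ha
    calc g⁻¹ * a * g * z = g⁻¹ * (a * s) * g := by rw [hs]; group
      _ = g⁻¹ * (s * a) * g := by rw [h1]
      _ = z * (g⁻¹ * a * g) := by rw [hs]; group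
  have hBodd : Odd (Nat.card ↥B) := by
    rw [hB, Subgroup.card_map_of_injective (MulAut.conj g⁻¹).injective]
    exact hAodd
  have htB : t ∈ Q ⊓ Subgroup.centralizer (B : Set G) := by
    refine Subgroup.mem_inf.mpr ⟨hzg, ?_⟩
    rw [Subgroup.mem_centralizer_iff]
    intro b hb
    obtain ⟨a, ha, rfl⟩ := hBmem b hb
    have h1 := hzA a ha
    calc g⁻¹ * a * g * t = g⁻¹ * (a * z) * g := by rw [ht]; group
      _ = g⁻¹ * (z * a) * g := by rw [h1]
      _ = t * (g⁻¹ * a * g) := by rw [ht]; group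
  obtain ⟨r2, hr2, hr2t⟩ := exists_conj_fix hQ hE B (hBz.trans hCz) hBodd htB ht1 htz
  have hr'Q : g * r2 * g⁻¹ ∈ (Q).map (MulAut.conj g).toMonoidHom := conj_mem_map_conj Q g hr2.1
  have hr'A : g * r2 * g⁻¹ ∈ Subgroup.centralizer (A : Set G) := by
    rw [Subgroup.mem_centralizer_iff]
    intro a ha
    have h1 := Subgroup.mem_centralizer_iff.mp hr2.2 _ (hmemB a ha)
    calc a * (g * r2 * g⁻¹) = g * ((g⁻¹ * a * g) * r2) * g⁻¹ := by group
      _ = g * (r2 * (g⁻¹ * a * g)) * g⁻¹ := by rw [h1]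
      _ = g * r2 * g⁻¹ * a := by group
  have hr'z : (g * r2 * g⁻¹) * z * (g * r2 * g⁻¹)⁻¹ = s * z := by
    calc (g * r2 * g⁻¹) * z * (g * r2 * g⁻¹)⁻¹ = g * (r2 * t * r2⁻¹) * g⁻¹ := by rw [ht]; group
      _ = g * (z * t) * g⁻¹ := by rw [hr2t]
      _ = s * z := by rw [hs, ht]; group
  have hsz : s * z = z * s := hE.zc s hgQ.1
  refine ⟨(g * r2 * g⁻¹)⁻¹ * r, ?_, ?_⟩
  · exact Subgroup.mul_mem _ (Subgroup.mem_sup_right (Subgroup.inv_mem _ (Subgroup.mem_inf.mpr ⟨hr'Q, hr'A⟩)))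
      (Subgroup.mem_sup_left hr)
  · calc (g * r2 * g⁻¹)⁻¹ * r * s * ((g * r2 * g⁻¹)⁻¹ * r)⁻¹
        = (g * r2 * g⁻¹)⁻¹ * (r * s * r⁻¹) * (g * r2 * g⁻¹) := by group
      _ = (g * r2 * g⁻¹)⁻¹ * ((g * r2 * g⁻¹) * z * (g * r2 * g⁻¹)⁻¹) * (g * r2 * g⁻¹) := by
          rw [hrs, hr'z, hsz]
      _ = z := by group

end Cfsg.Agent.Helper90
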