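import Mathlib
import Cfsg.Prelude.Def_MonsterType
import Cfsg.Agent.Helper90.Extra
import Cfsg.Agent.Helper90.Conj
import Cfsg.Agent.Helper90.Basic
import Cfsg.Agent.Helper53.Heis
import Cfsg.Agent.S0095
import Cfsg.Agent.S5422

set_option autoImplicit false

/-!
The image of an extraspecial 2-subgroup `R` in a quotient `M ⧸ N` by a normal subgroup of odd
order is again a large extraspecial subgroup, under elementwise hypotheses on `M`.
-/

namespace Cfsg.Agent.Helper90

open Cfsg

/-- Abstract form of the quotient step: `N ⊴ M` of odd order, `R ≤ M` extraspecial with central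
involution `z`, of order at least `32`. If the elements of `M` centralizing `R` modulo `N` lie in
`N ⟨z⟩`, the elements centralizing `z` modulo `N` normalize `R`, and some conjugate of `z` lies in
`R` and differs from `z`, then the image of `R` in `M ⧸ N` is a large extraspecial subgroup. -/
theorem large_map_mk {M : Type*} [Group M] [Finite M] (N : Subgroup M) [N.Normal] (R : Subgroup M)
    (z : M) (hR : Cfsg.IsExtraspecial 2 ↥R) (hE : ExtraData R z) (hNodd : Odd (Nat.card N))
    (hcard : 32 ≤ Nat.card R)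
    (hb : ∀ m : M, (∀ r ∈ R, m * r * m⁻¹ * r⁻¹ ∈ N) → m ∈ N ∨ m * z ∈ N)
    (hc : ∀ m : M, m * z * m⁻¹ * z⁻¹ ∈ N → ∀ r ∈ R, m * r * m⁻¹ ∈ R)
    (x : M) (hx : x * z * x⁻¹ ∈ R) (hxz : x * z * x⁻¹ ≠ z) :
    Cfsg.IsLargeExtraspecial (R.map (QuotientGroup.mk' N)) := by
  classical
  have : Fact (Nat.Prime 2) := ⟨Nat.prime_two⟩
  have h2R : IsPGroup 2 R := hR.1.1
  have hinf : R ⊓ N = ⊥ := inf_eq_bot_of_two_group_of_odd h2R hNodd
  have hker : ∀ m : M, QuotientGroup.mk' N m = 1 ↔ m ∈ N := by
    intro m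
    rw [QuotientGroup.mk'_apply, QuotientGroup.eq_one_iff]
  have hinj : ∀ r ∈ R, ∀ r' ∈ R, QuotientGroup.mk' N r = QuotientGroup.mk' N r' → r = r' := by
    intro r hr r' hr' h
    have h1 : r⁻¹ * r' ∈ N := by
      rw [← hker, map_mul, map_inv, h]; group
    have h2 : r⁻¹ * r' ∈ R ⊓ N := ⟨R.mul_mem (R.inv_mem hr) hr', h1⟩
    rw [hinf, Subgroup.mem_bot] at h2
    exact inv_mul_eq_one.mp h2
  have hbij : Function.Bijective ((QuotientGroup.mk' N).subgroupMap R) := by
    refine ⟨?_, (QuotientGroup.mk' N).subgroupMap_surjective R⟩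
    intro a b hab
    have h1 := congrArg Subtype.val hab
    simp only [MonoidHom.subgroupMap_apply_coe] at h1
    exact Subtype.ext (hinj a a.2 b b.2 h1)
  let e : ↥R ≃* ↥(R.map (QuotientGroup.mk' N)) := MulEquiv.ofBijective _ hbij
  have hRbar : Cfsg.IsExtraspecial 2 ↥(R.map (QuotientGroup.mk' N)) :=
    Cfsg.Agent.Helper53.isExtraspecial_of_mulEquiv e hR
  have hcardbar : Nat.card ↥(R.map (QuotientGroup.mk' N)) = Nat.card ↥R :=
    (Nat.card_congr e.toEquiv).symm
  -- the central involution of the image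
  obtain ⟨zb, hEb⟩ := exists_extraData hRbar
  have hzN : z ∉ N := by
    intro h
    have : z ∈ R ⊓ N := ⟨hE.zQ, h⟩
    rw [hinf, Subgroup.mem_bot] at this
    exact hE.z1 this
  have hzb : QuotientGroup.mk' N z = zb := by
    have h1 : QuotientGroup.mk' N z ∈ R.map (QuotientGroup.mk' N) := ⟨z, hE.zQ, rfl⟩
    have h0 : ∀ q ∈ R.map (QuotientGroup.mk' N),
        q * QuotientGroup.mk' N z = QuotientGroup.mk' N z * q := by
      rintro q ⟨r, hr, rfl⟩
      rw [← map_mul, ← map_mul, hE.zc r hr]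
    rcases hEb.cen _ h1 h0 with h | h
    · exfalso; exact hzN ((hker z).mp h)
    · exact h
  -- (b) the centralizer
  have hL2 : Subgroup.centralizer ((R.map (QuotientGroup.mk' N) : Subgroup (M ⧸ N)) : Set (M ⧸ N)) =
      (Subgroup.center ↥(R.map (QuotientGroup.mk' N))).map (R.map (QuotientGroup.mk' N)).subtype := by
    apply le_antisymm
    · intro mb hmb
      obtain ⟨m, rfl⟩ := QuotientGroup.mk'_surjective N mb
      have h1 : ∀ r ∈ R, m * r * m⁻¹ * r⁻¹ ∈ N := by
        intro r hr
        have h2 := Subgroup.mem_centralizer_iff.mp hmb (QuotientGroup.mk' N r) ⟨r, hr, rfl⟩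
        rw [← hker, map_mul, map_mul, map_mul, map_inv, map_inv, ← h2]; group
      rcases hb m h1 with h | h
      · rw [(hker m).mpr h]; exact Subgroup.one_mem _
      · have h3 : QuotientGroup.mk' N m = zb := by
          have h4 := (hker _).mpr h
          rw [map_mul, hzb] at h4
          have h5 : zb * zb = 1 := hEb.zz
          calc QuotientGroup.mk' N m = (QuotientGroup.mk' N m * zb) * zb := by
                rw [mul_assoc, h5, mul_one]
            _ = zb := by rw [h4, one_mul]
        rw [h3]; exact hEb.zmem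
    · intro w hw
      rw [Subgroup.mem_centralizer_iff]
      intro q hq
      exact ((mem_center_map_iff _ w).mp hw).2 q hq
  -- (c) the normalizer
  have hL3 : Subgroup.centralizer
      (((Subgroup.center ↥(R.map (QuotientGroup.mk' N))).map (R.map (QuotientGroup.mk' N)).subtype :
        Subgroup (M ⧸ N)) : Set (M ⧸ N)) ≤
      Subgroup.normalizer ((R.map (QuotientGroup.mk' N) : Subgroup (M ⧸ N)) : Set (M ⧸ N)) := by
    intro mb hmb
    obtain ⟨m, rfl⟩ := QuotientGroup.mk'_surjective N mb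
    have h1 : m * z * m⁻¹ * z⁻¹ ∈ N := by
      have h2 := Subgroup.mem_centralizer_iff.mp hmb zb hEb.zmem
      rw [← hzb] at h2
      rw [← hker, map_mul, map_mul, map_mul, map_inv, map_inv, ← h2]; group
    apply mem_normalizer_of_conj_mem
    rintro q ⟨r, hr, rfl⟩
    refine ⟨m * r * m⁻¹, hc m h1 r hr, ?_⟩
    rw [map_mul, map_mul, map_inv]
  -- the order
  obtain ⟨n, hn1, hn⟩ := Cfsg.Agent.S0095.result hRbar
  have hn2 : 2 ≤ n := by
    by_contra hlt
    have hn' : n = 1 := by omega
    rw [hn', hcardbar] at hn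
    omega
  -- the conjugating element
  have hxb1 : QuotientGroup.mk' N (x * z * x⁻¹) ∈ R.map (QuotientGroup.mk' N) := ⟨_, hx, rfl⟩
  have hxb2 : QuotientGroup.mk' N (x * z * x⁻¹) ≠ zb := by
    intro h
    rw [← hzb] at h
    exact hxz (hinj _ hx _ hE.zQ h)
  have hxb3 : QuotientGroup.mk' N (x * z * x⁻¹) ≠ 1 := by
    intro h
    have h1 : x * z * x⁻¹ ∈ R ⊓ N := ⟨hx, (hker _).mp h⟩
    rw [hinf, Subgroup.mem_bot] at h1
    apply hE.z1
    calc z = x⁻¹ * (x * z * x⁻¹) * x := by group
      _ = 1 := by rw [h1]; group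
  have hg : QuotientGroup.mk' N x ∉ Subgroup.normalizer
      (((Subgroup.center ↥(R.map (QuotientGroup.mk' N))).map (R.map (QuotientGroup.mk' N)).subtype :
        Subgroup (M ⧸ N)) : Set (M ⧸ N)) := by
    intro h
    have h1 := conj_mem_of_mem_normalizer h hEb.zmem
    rw [← hzb, ← map_inv, ← map_mul, ← map_mul] at h1
    rcases hEb.zall _ h1 with h2 | h2
    · exact hxb3 h2
    · exact hxb2 h2
  have hZg : ((Subgroup.center ↥(R.map (QuotientGroup.mk' N))).map
      (R.map (QuotientGroup.mk' N)).subtype).map (MulAut.conj (QuotientGroup.mk' N x)).toMonoidHom ≤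
      R.map (QuotientGroup.mk' N) := by
    rintro _ ⟨w, hw, rfl⟩
    rcases hEb.zall w hw with rfl | rfl
    · simp
    · have : (MulAut.conj (QuotientGroup.mk' N x)).toMonoidHom (QuotientGroup.mk' N z) =
          QuotientGroup.mk' N (x * z * x⁻¹) := by
        simp [MulAut.conj_apply]
      rw [← hzb, this]; exact hxb1
  exact (Cfsg.Agent.S5422.result _ hRbar hL2 hL3 n hn2 hn _ hg hZg).2.2

end Cfsg.Agent.Helper90
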