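import Mathlib
import Cfsg.Prelude.Def_MonsterType
import Cfsg.Agent.Helper90.LgQuot

set_option autoImplicit false

/-!
Transport of `large_map_mk` to a subgroup `M` of an ambient group `G`: all hypotheses are stated
with elements of `G`.
-/

namespace Cfsg.Agent.Helper90

open Cfsg

/-- `ExtraData` passes to `Q.subgroupOf M` for `Q ≤ M`. -/
theorem ExtraData.subgroupOf {G : Type*} [Group G] {Q : Subgroup G} {z : G} (hE : ExtraData Q z)
    (M : Subgroup G) (hQM : Q ≤ M) : ExtraData (Q.subgroupOf M) ⟨z, hQM hE.zQ⟩ := by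
  have hzQ : (⟨z, hQM hE.zQ⟩ : ↥M) ∈ Q.subgroupOf M := Subgroup.mem_subgroupOf.mpr hE.zQ
  have hzc : ∀ q ∈ Q.subgroupOf M, q * (⟨z, hQM hE.zQ⟩ : ↥M) = ⟨z, hQM hE.zQ⟩ * q := by
    intro q hq
    apply Subtype.ext
    exact hE.zc q (Subgroup.mem_subgroupOf.mp hq)
  have hcen : ∀ x ∈ Q.subgroupOf M, (∀ q ∈ Q.subgroupOf M, q * x = x * q) →
      x = 1 ∨ x = ⟨z, hQM hE.zQ⟩ := by
    intro x hx hc
    have h1 : ∀ q ∈ Q, q * (x : G) = (x : G) * q := by
      intro q hq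
      exact congrArg Subtype.val (hc ⟨q, hQM hq⟩ (Subgroup.mem_subgroupOf.mpr hq))
    rcases hE.cen x (Subgroup.mem_subgroupOf.mp hx) h1 with h | h
    · left; exact Subtype.ext h
    · right; exact Subtype.ext h
  refine ⟨hzQ, ?_, ?_, hzc, ?_, hcen, ?_, ?_⟩
  · intro h
    exact hE.z1 (congrArg Subtype.val h)
  · apply Subtype.ext
    exact hE.zz
  · intro x hx y hy
    rcases hE.comm x (Subgroup.mem_subgroupOf.mp hx) y (Subgroup.mem_subgroupOf.mp hy) with h | h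
    · left; apply Subtype.ext; simpa using h
    · right; apply Subtype.ext; simpa using h
  · exact (mem_center_map_iff _ _).mpr ⟨hzQ, hzc⟩
  · intro w hw
    have h1 := (mem_center_map_iff _ w).mp hw
    exact hcen w h1.1 h1.2

/-- `large_map_mk` for a subgroup `M` of `G` and its normal subgroup `A` of odd order. -/
theorem large_subgroupOf_map_mk {G : Type*} [Group G] [Finite G] (M A R : Subgroup G) (z : G)
    (hAM : A ≤ M) (hRM : R ≤ M) [hn : (A.subgroupOf M).Normal]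
    (hR : Cfsg.IsExtraspecial 2 ↥R) (hE : ExtraData R z) (hAodd : Odd (Nat.card ↥A))
    (hcard : 32 ≤ Nat.card ↥R)
    (hb : ∀ m ∈ M, (∀ r ∈ R, m * r * m⁻¹ * r⁻¹ ∈ A) → m ∈ A ∨ m * z ∈ A)
    (hc : ∀ m ∈ M, m * z * m⁻¹ * z⁻¹ ∈ A → ∀ r ∈ R, m * r * m⁻¹ ∈ R)
    (x : G) (hxM : x ∈ M) (hx : x * z * x⁻¹ ∈ R) (hxz : x * z * x⁻¹ ≠ z) :
    Cfsg.IsLargeExtraspecial ((R.subgroupOf M).map (QuotientGroup.mk' (A.subgroupOf M))) := by
  have hzM : z ∈ M := hRM hE.zQ
  refine large_map_mk (A.subgroupOf M) (R.subgroupOf M) ⟨z, hzM⟩ ?_ (hE.subgroupOf M hRM) ?_ ?_ ?_ ?_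
    ⟨x, hxM⟩ ?_ ?_
  · exact Cfsg.Agent.Helper53.isExtraspecial_of_mulEquiv (Subgroup.subgroupOfEquivOfLe hRM).symm hR
  · rw [Nat.card_congr (Subgroup.subgroupOfEquivOfLe hAM).toEquiv]; exact hAodd
  · rw [Nat.card_congr (Subgroup.subgroupOfEquivOfLe hRM).toEquiv]; exact hcard
  · intro m hm
    have h1 : ∀ r ∈ R, (m : G) * r * (m : G)⁻¹ * r⁻¹ ∈ A := by
      intro r hr
      have h2 := hm ⟨r, hRM hr⟩ (Subgroup.mem_subgroupOf.mpr hr)
      rw [Subgroup.mem_subgroupOf] at h2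
      simpa using h2
    rcases hb m m.2 h1 with h | h
    · left; exact Subgroup.mem_subgroupOf.mpr h
    · right; rw [Subgroup.mem_subgroupOf]; simpa using h
  · intro m hm r hr
    rw [Subgroup.mem_subgroupOf] at hm hr ⊢
    have h1 := hc m m.2 (by simpa using hm) r hr
    simpa using h1
  · rw [Subgroup.mem_subgroupOf]; simpa using hx
  · intro h
    apply hxz
    have h1 := congrArg Subtype.val h
    simpa using h1

end Cfsg.Agent.Helper90
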