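import Mathlib
import Cfsg.Prelude.Def_MonsterType
import Cfsg.Agent.Helper90.Extra
import Cfsg.Agent.Helper90.ExtraCrit
import Cfsg.Agent.Helper90.Conj
import Cfsg.Agent.Helper90.Basic
import Cfsg.Agent.S0095
import Cfsg.Agent.S5422

set_option autoImplicit false

/-!
The image of `P = C_Q(t)` in a quotient `M ⧸ N` with `N = {1, t}` of order two is a large
extraspecial subgroup, under elementwise hypotheses on `M`.
-/

namespace Cfsg.Agent.Helper90

open Cfsg

/-- Abstract form of the quotient step for a normal subgroup `N = {1, t}` of order two: `P ≤ M` is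
a `2`-group of class two with commutators and squares in `{1, z}`, centre `{1, z, t, z t}` and at
least `64` elements. If the elements of `M` centralizing `P` modulo `N` lie in the centre of `P`,
the elements centralizing `z` modulo `N` normalize `P`, and some conjugate of `z` lies in `P` but
not in its centre, then the image of `P` in `M ⧸ N` is a large extraspecial subgroup. -/
theorem large_map_mk_two {M : Type*} [Group M] [Finite M] (N : Subgroup M) [N.Normal]
    (P : Subgroup M) (z t : M) (hN : ∀ n : M, n ∈ N ↔ n = 1 ∨ n = t) (hNcard : Nat.card ↥N = 2)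
    (h2 : IsPGroup 2 P) (hzP : z ∈ P) (hz1 : z ≠ 1) (hzt : z ≠ t)
    (hzc : ∀ p ∈ P, p * z = z * p)
    (hcomm : ∀ x ∈ P, ∀ y ∈ P, x * y * x⁻¹ * y⁻¹ = 1 ∨ x * y * x⁻¹ * y⁻¹ = z)
    (hsq : ∀ x ∈ P, x * x = 1 ∨ x * x = z)
    (hcen : ∀ x ∈ P, (∀ p ∈ P, p * x = x * p) → x = 1 ∨ x = z ∨ x = t ∨ x = z * t)
    (hcard : 64 ≤ Nat.card ↥P)
    (hb : ∀ m : M, (∀ p ∈ P, m * p * m⁻¹ * p⁻¹ ∈ N) → m = 1 ∨ m = z ∨ m = t ∨ m = z * t)
    (hc : ∀ m : M, m * z * m⁻¹ * z⁻¹ ∈ N → ∀ p ∈ P, m * p * m⁻¹ ∈ P)
    (x : M) (hx : x * z * x⁻¹ ∈ P) (hx1 : x * z * x⁻¹ ∉ N) (hxz : x * z * x⁻¹ * z⁻¹ ∉ N) :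
    Cfsg.IsLargeExtraspecial (P.map (QuotientGroup.mk' N)) := by
  classical
  have : Fact (Nat.Prime 2) := ⟨Nat.prime_two⟩
  have hker : ∀ m : M, QuotientGroup.mk' N m = 1 ↔ m ∈ N := by
    intro m
    rw [QuotientGroup.mk'_apply, QuotientGroup.eq_one_iff]
  have htN : t ∈ N := (hN t).mpr (Or.inr rfl)
  have hπt : QuotientGroup.mk' N t = 1 := (hker t).mpr htN
  have hzN : z ∉ N := by
    rw [hN]; push Not; exact ⟨hz1, hzt⟩
  have hπz1 : QuotientGroup.mk' N z ≠ 1 := fun h => hzN ((hker z).mp h)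
  have hlift : ∀ x ∈ P, ∀ y ∈ P, QuotientGroup.mk' N (x * y * x⁻¹ * y⁻¹) = 1 → x * y = y * x := by
    intro x hx y hy h
    have h1 := (hker _).mp h
    rcases hcomm x hx y hy with h2 | h2
    · calc x * y = (x * y * x⁻¹ * y⁻¹) * (y * x) := by group
        _ = y * x := by rw [h2, one_mul]
    · rw [h2] at h1; exact absurd h1 hzN
  -- the conjugate `s` of `z` is not central in `P`
  obtain ⟨s, hs⟩ : ∃ s : M, s = x * z * x⁻¹ := ⟨_, rfl⟩
  rw [← hs] at hx hx1 hxz
  have hsnc : ∃ p ∈ P, p * s ≠ s * p := by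
    by_contra hcon
    push Not at hcon
    rcases hcen s hx hcon with h | h | h | h
    · apply hx1; rw [h]; exact N.one_mem
    · apply hxz; rw [h, mul_inv_cancel]; exact N.one_mem
    · apply hx1; rw [h]; exact htN
    · apply hxz
      have h3 : z * t * z⁻¹ = t := by
        have := hcon z hzP
        rw [h] at this
        calc z * t * z⁻¹ = z⁻¹ * (z * (z * t)) * z⁻¹ := by group
          _ = z⁻¹ * ((z * t) * z) * z⁻¹ := by rw [this]
          _ = t := by group
      rw [h, h3]; exact htN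
  -- the image is extraspecial
  have hPbar : Cfsg.IsExtraspecial 2 ↥(P.map (QuotientGroup.mk' N)) := by
    apply isExtraspecial_of_data (P.map (QuotientGroup.mk' N)) (QuotientGroup.mk' N z)
      ⟨z, hzP, rfl⟩ hπz1 (h2.map _)
    · rintro xb ⟨a, ha, rfl⟩ hxc
      have h1 : ∀ p ∈ P, p * a = a * p := by
        intro p hp
        apply hlift p hp a ha
        have h3 := hxc (QuotientGroup.mk' N p) ⟨p, hp, rfl⟩
        rw [map_mul, map_mul, map_mul, map_inv, map_inv, h3]; group
      rcases hcen a ha h1 with h | h | h | h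
      · left; rw [h, map_one]
      · right; rw [h]
      · left; rw [h, hπt]
      · right; rw [h, map_mul, hπt, mul_one]
    · rintro d ⟨p, hp, rfl⟩
      rw [← map_mul, ← map_mul, hzc p hp]
    · rintro xb ⟨a, ha, rfl⟩ yb ⟨b, hb', rfl⟩
      rcases hcomm a ha b hb' with h | h
      · left; rw [← map_inv, ← map_inv, ← map_mul, ← map_mul, ← map_mul, h, map_one]
      · right; rw [← map_inv, ← map_inv, ← map_mul, ← map_mul, ← map_mul, h]
    · rintro xb ⟨a, ha, rfl⟩
      rcases hsq a ha with h | h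
      · left; rw [← map_mul, h, map_one]
      · right; rw [← map_mul, h]
    · obtain ⟨p, hp, hps⟩ := hsnc
      refine ⟨_, ⟨p, hp, rfl⟩, _, ⟨s, hx, rfl⟩, fun h => hps (hlift p hp s hx ?_)⟩
      rw [map_mul, map_mul, map_mul, map_inv, map_inv, h]; group
  obtain ⟨zb, hEb⟩ := exists_extraData hPbar
  have hzb : QuotientGroup.mk' N z = zb := by
    have h1 : QuotientGroup.mk' N z ∈ P.map (QuotientGroup.mk' N) := ⟨z, hzP, rfl⟩
    have h0 : ∀ q ∈ P.map (QuotientGroup.mk' N),
        q * QuotientGroup.mk' N z = QuotientGroup.mk' N z * q := by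
      rintro q ⟨r, hr, rfl⟩
      rw [← map_mul, ← map_mul, hzc r hr]
    rcases hEb.cen _ h1 h0 with h | h
    · exact absurd h hπz1
    · exact h
  -- (b) the centralizer
  have hL2 : Subgroup.centralizer ((P.map (QuotientGroup.mk' N) : Subgroup (M ⧸ N)) : Set (M ⧸ N)) =
      (Subgroup.center ↥(P.map (QuotientGroup.mk' N))).map (P.map (QuotientGroup.mk' N)).subtype := by
    apply le_antisymm
    · intro mb hmb
      obtain ⟨m, rfl⟩ := QuotientGroup.mk'_surjective N mb
      have h1 : ∀ r ∈ P, m * r * m⁻¹ * r⁻¹ ∈ N := by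
        intro r hr
        have h2 := Subgroup.mem_centralizer_iff.mp hmb (QuotientGroup.mk' N r) ⟨r, hr, rfl⟩
        rw [← hker, map_mul, map_mul, map_mul, map_inv, map_inv, ← h2]; group
      rcases hb m h1 with h | h | h | h
      · rw [h, map_one]; exact Subgroup.one_mem _
      · rw [h, hzb]; exact hEb.zmem
      · rw [h, hπt]; exact Subgroup.one_mem _
      · rw [h, map_mul, hπt, mul_one, hzb]; exact hEb.zmem
    · intro w hw
      rw [Subgroup.mem_centralizer_iff]
      intro q hq
      exact ((mem_center_map_iff _ w).mp hw).2 q hq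
  -- (c) the normalizer
  have hL3 : Subgroup.centralizer
      (((Subgroup.center ↥(P.map (QuotientGroup.mk' N))).map (P.map (QuotientGroup.mk' N)).subtype :
        Subgroup (M ⧸ N)) : Set (M ⧸ N)) ≤
      Subgroup.normalizer ((P.map (QuotientGroup.mk' N) : Subgroup (M ⧸ N)) : Set (M ⧸ N)) := by
    intro mb hmb
    obtain ⟨m, rfl⟩ := QuotientGroup.mk'_surjective N mb
    have h1 : m * z * m⁻¹ * z⁻¹ ∈ N := by
      have h2 := Subgroup.mem_centralizer_iff.mp hmb zb hEb.zmem
      rw [← hzb] at h2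
      rw [← hker, map_mul, map_mul, map_mul, map_inv, map_inv, ← h2]; group
    apply mem_normalizer_of_conj_mem
    rintro q ⟨r, hr, rfl⟩
    refine ⟨m * r * m⁻¹, hc m h1 r hr, ?_⟩
    rw [map_mul, map_mul, map_inv]
  -- the order
  have hcard2 : Nat.card ↥P ≤ Nat.card ↥(P.map (QuotientGroup.mk' N)) * 2 := by
    have hsurj := (QuotientGroup.mk' N).subgroupMap_surjective P
    have h1 := Subgroup.card_eq_card_quotient_mul_card_subgroup
      ((QuotientGroup.mk' N).subgroupMap P).ker
    have h2 : Nat.card (↥P ⧸ ((QuotientGroup.mk' N).subgroupMap P).ker) =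
        Nat.card ↥(P.map (QuotientGroup.mk' N)) :=
      Nat.card_congr (QuotientGroup.quotientKerEquivOfSurjective _ hsurj).toEquiv
    have h3 : Nat.card ↥((QuotientGroup.mk' N).subgroupMap P).ker ≤ Nat.card ↥N := by
      have hmem : ∀ k : ↥((QuotientGroup.mk' N).subgroupMap P).ker, ((k : ↥P) : M) ∈ N := by
        intro k
        have h4 := k.2
        rw [MonoidHom.mem_ker] at h4
        have h5 := congrArg Subtype.val h4
        simp only [MonoidHom.subgroupMap_apply_coe, Subgroup.coe_one] at h5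
        exact (hker _).mp h5
      apply Nat.card_le_card_of_injective
        (fun k : ↥((QuotientGroup.mk' N).subgroupMap P).ker => (⟨((k : ↥P) : M), hmem k⟩ : ↥N))
      intro k k' hkk'
      have h6 := congrArg Subtype.val hkk'
      exact Subtype.ext (Subtype.ext h6)
    rw [h1, h2]
    rw [hNcard] at h3
    exact Nat.mul_le_mul_left _ h3
  obtain ⟨n, hn1, hn⟩ := Cfsg.Agent.S0095.result hPbar
  have hn2 : 2 ≤ n := by
    by_contra hlt
    have hn' : n = 1 := by omega
    rw [hn'] at hn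
    rw [hn] at hcard2
    omega
  -- the conjugating element
  have hxb1 : QuotientGroup.mk' N s ∈ P.map (QuotientGroup.mk' N) := ⟨_, hx, rfl⟩
  have hxb2 : QuotientGroup.mk' N s ≠ zb := by
    intro h
    apply hxz
    rw [← hker, map_mul, map_inv, h, hzb]; group
  have hxb3 : QuotientGroup.mk' N s ≠ 1 := fun h => hx1 ((hker _).mp h)
  have hg : QuotientGroup.mk' N x ∉ Subgroup.normalizer
      (((Subgroup.center ↥(P.map (QuotientGroup.mk' N))).map (P.map (QuotientGroup.mk' N)).subtype :
        Subgroup (M ⧸ N)) : Set (M ⧸ N)) := by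
    intro h
    have h1 := conj_mem_of_mem_normalizer h hEb.zmem
    rw [← hzb, ← map_inv, ← map_mul, ← map_mul, ← hs] at h1
    rcases hEb.zall _ h1 with h2 | h2
    · exact hxb3 h2
    · exact hxb2 h2
  have hZg : ((Subgroup.center ↥(P.map (QuotientGroup.mk' N))).map
      (P.map (QuotientGroup.mk' N)).subtype).map (MulAut.conj (QuotientGroup.mk' N x)).toMonoidHom ≤
      P.map (QuotientGroup.mk' N) := by
    rintro _ ⟨w, hw, rfl⟩
    rcases hEb.zall w hw with rfl | rfl
    · simp
    · have : (MulAut.conj (QuotientGroup.mk' N x)).toMonoidHom (QuotientGroup.mk' N z) =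
          QuotientGroup.mk' N s := by
        rw [hs]; simp [MulAut.conj_apply]
      rw [← hzb, this]; exact hxb1
  exact (Cfsg.Agent.S5422.result _ hPbar hL2 hL3 n hn2 hn _ hg hZg).2.2

end Cfsg.Agent.Helper90
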