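import Mathlib
import Cfsg.Prelude.Def_MonsterType
import Cfsg.Agent.Helper90.LgQuotT
import Cfsg.Agent.Helper90.D8Glue

set_option autoImplicit false

/-!
Transport of `large_map_mk_two` to a subgroup `C` of an ambient group `G` and the subgroup generated
by an involution `t ∈ C`: all hypotheses are stated with elements of `G`.
-/

namespace Cfsg.Agent.Helper90

open Cfsg

/-- `large_map_mk_two` for a subgroup `C` of `G` and its normal subgroup `⟨t⟩` of order two. -/
theorem large_subgroupOf_map_mk_two {G : Type*} [Group G] [Finite G] (C P : Subgroup G) (z t : G)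
    (hPC : P ≤ C) (htC : t ∈ C) [hn : ((Subgroup.zpowers t).subgroupOf C).Normal]
    (ht : orderOf t = 2) (h2 : IsPGroup 2 P) (hzP : z ∈ P) (hz1 : z ≠ 1) (hzt : z ≠ t)
    (hzc : ∀ p ∈ P, p * z = z * p)
    (hcomm : ∀ x ∈ P, ∀ y ∈ P, x * y * x⁻¹ * y⁻¹ = 1 ∨ x * y * x⁻¹ * y⁻¹ = z)
    (hsq : ∀ x ∈ P, x * x = 1 ∨ x * x = z)
    (hcen : ∀ x ∈ P, (∀ p ∈ P, p * x = x * p) → x = 1 ∨ x = z ∨ x = t ∨ x = z * t)
    (hcard : 64 ≤ Nat.card ↥P)
    (hb : ∀ m ∈ C, (∀ p ∈ P, m * p * m⁻¹ * p⁻¹ = 1 ∨ m * p * m⁻¹ * p⁻¹ = t) →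
      m = 1 ∨ m = z ∨ m = t ∨ m = z * t)
    (hc : ∀ m ∈ C, (m * z * m⁻¹ * z⁻¹ = 1 ∨ m * z * m⁻¹ * z⁻¹ = t) → ∀ p ∈ P, m * p * m⁻¹ ∈ P)
    (x : G) (hxC : x ∈ C) (hx : x * z * x⁻¹ ∈ P) (hx1 : x * z * x⁻¹ ≠ 1) (hxt : x * z * x⁻¹ ≠ t)
    (hxz : x * z * x⁻¹ * z⁻¹ ≠ 1) (hxzt : x * z * x⁻¹ * z⁻¹ ≠ t) :
    Cfsg.IsLargeExtraspecial
      ((P.subgroupOf C).map (QuotientGroup.mk' ((Subgroup.zpowers t).subgroupOf C))) := by
  have htt : t * t = 1 := by rw [← pow_two, ← ht, pow_orderOf_eq_one]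
  have hNmem : ∀ n : ↥C, n ∈ (Subgroup.zpowers t).subgroupOf C ↔ n = 1 ∨ n = ⟨t, htC⟩ := by
    intro n
    rw [Subgroup.mem_subgroupOf, mem_zpowers_of_sq_eq_one htt]
    constructor
    · rintro (h | h)
      · left; exact Subtype.ext h
      · right; exact Subtype.ext h
    · rintro (h | h)
      · left; rw [h]; rfl
      · right; rw [h]
  have hNmem' : ∀ n : ↥C, n ∈ (Subgroup.zpowers t).subgroupOf C ↔ (n : G) = 1 ∨ (n : G) = t := by
    intro n
    rw [Subgroup.mem_subgroupOf, mem_zpowers_of_sq_eq_one htt]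
  have hNcard : Nat.card ↥((Subgroup.zpowers t).subgroupOf C) = 2 := by
    rw [Nat.card_congr (Subgroup.subgroupOfEquivOfLe (Subgroup.zpowers_le.mpr htC)).toEquiv,
      Nat.card_zpowers, ht]
  have hzC : z ∈ C := hPC hzP
  refine large_map_mk_two ((Subgroup.zpowers t).subgroupOf C) (P.subgroupOf C) ⟨z, hzC⟩ ⟨t, htC⟩
    hNmem hNcard h2.comap_subtype (Subgroup.mem_subgroupOf.mpr hzP) ?_ ?_ ?_ ?_ ?_ ?_ ?_ ?_ ?_
    ⟨x, hxC⟩ ?_ ?_ ?_
  · intro h; exact hz1 (congrArg Subtype.val h)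
  · intro h; exact hzt (congrArg Subtype.val h)
  · intro p hp
    apply Subtype.ext
    exact hzc p (Subgroup.mem_subgroupOf.mp hp)
  · intro a ha b hb'
    rcases hcomm a (Subgroup.mem_subgroupOf.mp ha) b (Subgroup.mem_subgroupOf.mp hb') with h | h
    · left; apply Subtype.ext; simpa using h
    · right; apply Subtype.ext; simpa using h
  · intro a ha
    rcases hsq a (Subgroup.mem_subgroupOf.mp ha) with h | h
    · left; apply Subtype.ext; simpa using h
    · right; apply Subtype.ext; simpa using h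
  · intro a ha hac
    have h1 : ∀ p ∈ P, p * (a : G) = (a : G) * p := by
      intro p hp
      exact congrArg Subtype.val (hac ⟨p, hPC hp⟩ (Subgroup.mem_subgroupOf.mpr hp))
    rcases hcen a (Subgroup.mem_subgroupOf.mp ha) h1 with h | h | h | h
    · left; exact Subtype.ext h
    · right; left; exact Subtype.ext h
    · right; right; left; exact Subtype.ext h
    · right; right; right; exact Subtype.ext h
  · rw [Nat.card_congr (Subgroup.subgroupOfEquivOfLe hPC).toEquiv]; exact hcard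
  · intro m hm
    have h1 : ∀ p ∈ P, (m : G) * p * (m : G)⁻¹ * p⁻¹ = 1 ∨ (m : G) * p * (m : G)⁻¹ * p⁻¹ = t := by
      intro p hp
      have h2 := (hNmem' _).mp (hm ⟨p, hPC hp⟩ (Subgroup.mem_subgroupOf.mpr hp))
      simpa using h2
    rcases hb m m.2 h1 with h | h | h | h
    · left; exact Subtype.ext h
    · right; left; exact Subtype.ext h
    · right; right; left; exact Subtype.ext h
    · right; right; right; exact Subtype.ext h
  · intro m hm p hp
    have h1 := (hNmem' _).mp hm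
    rw [Subgroup.mem_subgroupOf] at hp ⊢
    have h2 := hc m m.2 (by simpa using h1) p hp
    simpa using h2
  · rw [Subgroup.mem_subgroupOf]; simpa using hx
  · rw [hNmem']
    push Not
    exact ⟨by simpa using hx1, by simpa using hxt⟩
  · rw [hNmem']
    push Not
    exact ⟨by simpa using hxz, by simpa using hxzt⟩

end Cfsg.Agent.Helper90
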