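import Mathlib
import Cfsg.Prelude.Def_Local
import Cfsg.Agent.Helper90.LgSyl

set_option autoImplicit false

/-!
A large extraspecial 2-subgroup `Q` of `G` with `F(G) = 1` and a component `K` with `K^u ≠ K`,
`u ∈ Q`: there are exactly two components.
-/

namespace Cfsg.Agent.Helper90

open Cfsg Cfsg.Agent

variable {G : Type*} [Group G] [Finite G] {Q : Subgroup G} {z : G}

theorem LgData.comm_mem (hD : LgData Q z) {x v : G} (hxz : x * z = z * x) (hv : v ∈ Q) :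
    x⁻¹ * (v * x * v⁻¹) ∈ Q := by
  have hxN : x ∈ Subgroup.normalizer (Q : Set G) := hD.norm x hxz
  have h1 := inv_conj_mem_of_mem_normalizer hxN hv
  have h2 := Q.mul_mem h1 (Q.inv_mem hv)
  have e : x⁻¹ * v * x * v⁻¹ = x⁻¹ * (v * x * v⁻¹) := by group
  rwa [e] at h2

section
variable {K : Subgroup G} {z₁ z₂ : G}

/-- For `u, v ∈ Q` with `K^u ≠ K`: `K^v = K` or `K^{vu} = K`. -/
theorem ZDecomp.dichotomy (hZ : ZDecomp K z z₁ z₂) (hD : LgData Q z)
    (hF : fittingSubgroup G = ⊥) (hK : IsComponent K) {u v : G} (hu : u ∈ Q) (hv : v ∈ Q)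
    (hne : K.map (MulAut.conj u).toMonoidHom ≠ K) :
    K.map (MulAut.conj v).toMonoidHom = K ∨ K.map (MulAut.conj (v * u)).toMonoidHom = K := by
  by_contra hcon
  push Not at hcon
  obtain ⟨hv1, hv2⟩ := hcon
  apply hZ.false_of_small hD hF hK
  intro d hd hdz
  have hKu := isComponent_conj hK u
  have hKv := isComponent_conj hK v
  have hKvu := isComponent_conj hK (v * u)
  have haQ : d⁻¹ * (u * d * u⁻¹) ∈ Q := hD.comm_mem hdz hu
  have hc : (u * d⁻¹ * u⁻¹) * d = d * (u * d⁻¹ * u⁻¹) :=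
    comm_of_ne hKu hK hne (conj_mem_map_conj K u (K.inv_mem hd)) hd
  have hw : (u * d⁻¹ * u⁻¹) * (v * d⁻¹ * v⁻¹) * ((v * u) * d * (v * u)⁻¹) ∈ others K := by
    apply (others K).mul_mem ((others K).mul_mem ?_ ?_) ?_
    · exact le_others hK hKu hne (conj_mem_map_conj K u (K.inv_mem hd))
    · exact le_others hK hKv hv1 (conj_mem_map_conj K v (K.inv_mem hd))
    · exact le_others hK hKvu hv2 (conj_mem_map_conj K (v * u) hd)
  have e : (d⁻¹ * (u * d * u⁻¹))⁻¹ * v * (d⁻¹ * (u * d * u⁻¹))⁻¹⁻¹ * v⁻¹ =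
      d * ((u * d⁻¹ * u⁻¹) * (v * d⁻¹ * v⁻¹) * ((v * u) * d * (v * u)⁻¹)) := by
    calc (d⁻¹ * (u * d * u⁻¹))⁻¹ * v * (d⁻¹ * (u * d * u⁻¹))⁻¹⁻¹ * v⁻¹
        = ((u * d⁻¹ * u⁻¹) * d) * ((v * d⁻¹ * v⁻¹) * ((v * u) * d * (v * u)⁻¹)) := by group
      _ = (d * (u * d⁻¹ * u⁻¹)) * ((v * d⁻¹ * v⁻¹) * ((v * u) * d * (v * u)⁻¹)) := by rw [hc]
      _ = d * ((u * d⁻¹ * u⁻¹) * (v * d⁻¹ * v⁻¹) * ((v * u) * d * (v * u)⁻¹)) := by group
  rcases hD.ed.comm _ (Q.inv_mem haQ) v hv with h | h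
  · left
    rw [e] at h
    have h1 : d * ((u * d⁻¹ * u⁻¹) * (v * d⁻¹ * v⁻¹) * ((v * u) * d * (v * u)⁻¹)) = 1 * 1 := by
      rw [h, one_mul]
    exact (decomp_unique hF hK hd K.one_mem hw (others K).one_mem h1).1
  · right
    rw [e, hZ.hz] at h
    exact (decomp_unique hF hK hd hZ.h1 hw hZ.h2 h).1

theorem ZDecomp.conj_sq (hZ : ZDecomp K z z₁ z₂) (hD : LgData Q z)
    (hF : fittingSubgroup G = ⊥) (hK : IsComponent K) {u : G} (hu : u ∈ Q)
    (hne : K.map (MulAut.conj u).toMonoidHom ≠ K) :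
    K.map (MulAut.conj (u * u)).toMonoidHom = K := by
  rcases hZ.dichotomy hD hF hK hu hu hne with h | h
  · exact absurd h hne
  · exact h

/-- Every component is `K` or `K^u`. -/
theorem ZDecomp.eq_or_eq (hZ : ZDecomp K z z₁ z₂) (hD : LgData Q z)
    (hF : fittingSubgroup G = ⊥) (hK : IsComponent K) {u : G} (hu : u ∈ Q)
    (hne : K.map (MulAut.conj u).toMonoidHom ≠ K) {L : Subgroup G} (hL : IsComponent L) :
    L = K ∨ L = K.map (MulAut.conj u).toMonoidHom := by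
  obtain ⟨w, hw, rfl⟩ := hD.exists_conj_eq hF hK hL
  rcases hZ.dichotomy hD hF hK hu (Q.inv_mem hw) hne with h | h
  · left
    have := congrArg (fun X : Subgroup G => X.map (MulAut.conj w).toMonoidHom) h
    simp only [conj_conj, mul_inv_cancel, conj_one] at this
    exact this.symm
  · right
    have := congrArg (fun X : Subgroup G => X.map (MulAut.conj w).toMonoidHom) h
    simp only [conj_conj, mul_inv_cancel_left] at this
    exact this.symm

theorem ZDecomp.others_eq (hZ : ZDecomp K z z₁ z₂) (hD : LgData Q z)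
    (hF : fittingSubgroup G = ⊥) (hK : IsComponent K) {u : G} (hu : u ∈ Q)
    (hne : K.map (MulAut.conj u).toMonoidHom ≠ K) :
    others K = K.map (MulAut.conj u).toMonoidHom := by
  apply le_antisymm
  · apply sSup_le
    rintro L ⟨hL, hLK⟩
    rcases hZ.eq_or_eq hD hF hK hu hne hL with h | h
    · exact absurd h.le hLK
    · exact h.le
  · exact le_others hK (isComponent_conj hK u) hne

theorem ZDecomp.layer_eq (hZ : ZDecomp K z z₁ z₂) (hD : LgData Q z)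
    (hF : fittingSubgroup G = ⊥) (hK : IsComponent K) {u : G} (hu : u ∈ Q)
    (hne : K.map (MulAut.conj u).toMonoidHom ≠ K) :
    layer G = K ⊔ K.map (MulAut.conj u).toMonoidHom := by
  rw [layer_eq_sup_others hK, hZ.others_eq hD hF hK hu hne]

theorem ZDecomp.inf_eq_bot (hZ : ZDecomp K z z₁ z₂) (hD : LgData Q z)
    (hF : fittingSubgroup G = ⊥) (hK : IsComponent K) {u : G} (hu : u ∈ Q)
    (hne : K.map (MulAut.conj u).toMonoidHom ≠ K) :
    K ⊓ K.map (MulAut.conj u).toMonoidHom = ⊥ := by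
  rw [eq_bot_iff]
  rintro x ⟨hx1, hx2⟩
  rw [Subgroup.mem_bot]
  rw [← hZ.others_eq hD hF hK hu hne] at hx2
  exact inf_others_eq_one hF hK hx1 hx2

/-- `z₂ = u z₁ u⁻¹`. -/
theorem ZDecomp.z₂_eq (hZ : ZDecomp K z z₁ z₂) (hD : LgData Q z)
    (hF : fittingSubgroup G = ⊥) (hK : IsComponent K) {u : G} (hu : u ∈ Q)
    (hne : K.map (MulAut.conj u).toMonoidHom ≠ K) : z₂ = u * z₁ * u⁻¹ := by
  have hoth := hZ.others_eq hD hF hK hu hne
  have h1 : u * z₂ * u⁻¹ ∈ K := by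
    have h2 : z₂ ∈ K.map (MulAut.conj u).toMonoidHom := hoth ▸ hZ.h2
    have h3 := conj_mem_map_conj _ u h2
    rwa [conj_conj, hZ.conj_sq hD hF hK hu hne] at h3
  have h2 : u * z₁ * u⁻¹ ∈ others K := by
    rw [hoth]
    exact conj_mem_map_conj K u hZ.h1
  have hzu : u * z = z * u := hD.ed.zc u hu
  have h3 : z₁ * z₂ = (u * z₂ * u⁻¹) * (u * z₁ * u⁻¹) := by
    calc z₁ * z₂ = (z * u) * u⁻¹ := by rw [← hZ.hz]; group
      _ = (u * z) * u⁻¹ := by rw [hzu]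
      _ = u * (z₁ * z₂) * u⁻¹ := by rw [← hZ.hz]
      _ = u * (z₂ * z₁) * u⁻¹ := by rw [hZ.comm hK]
      _ = (u * z₂ * u⁻¹) * (u * z₁ * u⁻¹) := by group
  exact (decomp_unique hF hK hZ.h1 h1 hZ.h2 h2 h3).2

end

end Cfsg.Agent.Helper90
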