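import Mathlib
import Cfsg.Prelude.Def_Local
import Cfsg.Agent.Helper90.ExtraCrit
import Cfsg.Agent.Helper90.LgTwo2

set_option autoImplicit false

/-!
A large extraspecial 2-subgroup `Q` of `G` with `F(G) = 1` and a component `K` with `K^u ≠ K`,
`u ∈ Q`: the Sylow 2-subgroup of `K` and `Q ≠ O_2(C_G(z))`.
-/

namespace Cfsg.Agent.Helper90

open Cfsg Cfsg.Agent
open scoped commutatorElement

variable {G : Type*} [Group G] [Finite G] {Q : Subgroup G} {z : G}

theorem pow_four_eq {H : Type*} [Group H] (g : H) : g ^ 4 = (g * g) * (g * g) := by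
  rw [pow_succ, pow_succ, pow_succ, pow_one, mul_assoc]

/-- A 2-subgroup of odd index whose squares lie in `{1, z₁}` is a Sylow 2-subgroup with Frattini
subgroup inside `⟨z₁⟩`. -/
theorem exists_sylow_of_sq {K : Subgroup G} (C : Subgroup ↥K) (hp : IsPGroup 2 C)
    (hidx : ¬ 2 ∣ C.index) (z₁ : G)
    (hsq : ∀ y ∈ C, ((y : ↥K) : G) * (y : G) = 1 ∨ ((y : ↥K) : G) * (y : G) = z₁) :
    ∃ R : Sylow 2 ↥K, (R : Subgroup ↥K) = C ∧
      (frattini ↥(R : Subgroup ↥K)).map ((K.subtype).comp (R : Subgroup ↥K).subtype) ≤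
        Subgroup.zpowers z₁ := by
  haveI : Fact (Nat.Prime 2) := ⟨Nat.prime_two⟩
  refine ⟨hp.toSylow hidx, hp.toSylow_coe hidx, ?_⟩
  rw [Subgroup.map_le_iff_le_comap]
  have hpow : ∀ a : ↥((hp.toSylow hidx : Sylow 2 ↥K) : Subgroup ↥K),
      a ^ 2 ∈ (Subgroup.zpowers z₁).comap
        ((K.subtype).comp ((hp.toSylow hidx : Sylow 2 ↥K) : Subgroup ↥K).subtype) := by
    intro a
    rw [Subgroup.mem_comap]
    have ha : (a : ↥K) ∈ C := (IsPGroup.mem_toSylow hp hidx).mp a.2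
    have e : ((K.subtype).comp ((hp.toSylow hidx : Sylow 2 ↥K) : Subgroup ↥K).subtype) (a ^ 2) =
        ((a : ↥K) : G) * ((a : ↥K) : G) := by
      rw [pow_two]; rfl
    rw [e]
    rcases hsq _ ha with h | h
    · rw [h]; exact Subgroup.one_mem _
    · rw [h]; exact Subgroup.mem_zpowers z₁
  apply frattini_le_of_commutator_pow_mem' (p := 2)
  · intro a b
    have e : ⁅a, b⁆ = (a * a) * ((a⁻¹ * b) * (a⁻¹ * b)) * (b⁻¹ * b⁻¹) := by
      rw [commutatorElement_def]; group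
    rw [e]
    have hpow' : ∀ c : ↥((hp.toSylow hidx : Sylow 2 ↥K) : Subgroup ↥K),
        c * c ∈ (Subgroup.zpowers z₁).comap
          ((K.subtype).comp ((hp.toSylow hidx : Sylow 2 ↥K) : Subgroup ↥K).subtype) := by
      intro c
      rw [← pow_two]
      exact hpow c
    exact mul_mem (mul_mem (hpow' _) (hpow' _)) (hpow' _)
  · exact hpow

section
variable {K : Subgroup G} {z₁ z₂ : G}

/-- The Sylow 2-subgroup `C_K(z₁)` of `K`. -/
theorem ZDecomp.exists_sylow (hZ : ZDecomp K z z₁ z₂) (hD : LgData Q z)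
    (hF : fittingSubgroup G = ⊥) (hK : IsComponent K) {u : G} (hu : u ∈ Q)
    (hne : K.map (MulAut.conj u).toMonoidHom ≠ K) :
    ∃ R : Sylow 2 ↥K, (R : Subgroup ↥K) = (Subgroup.centralizer ({z₁} : Set G)).subgroupOf K ∧
      (frattini ↥(R : Subgroup ↥K)).map ((K.subtype).comp (R : Subgroup ↥K).subtype) ≤
        Subgroup.zpowers z₁ := by
  have hsq : ∀ y ∈ (Subgroup.centralizer ({z₁} : Set G)).subgroupOf K,
      ((y : ↥K) : G) * (y : G) = 1 ∨ ((y : ↥K) : G) * (y : G) = z₁ := by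
    intro y hy
    rw [Subgroup.mem_subgroupOf, Subgroup.mem_centralizer_singleton_iff] at hy
    exact hZ.sq_of_comm hD hF hK hu hne y.2 ((hZ.comm_iff hK y.2).mpr hy)
  apply exists_sylow_of_sq _ ?_ (hZ.not_dvd_index hD hK) z₁ hsq
  intro y
  refine ⟨2, ?_⟩
  apply Subtype.ext
  apply Subtype.ext
  have h4 : ((y : ↥K) : G) ^ 2 ^ 2 = (((y : ↥K) : G) * (y : G)) * (((y : ↥K) : G) * (y : G)) :=
    pow_four_eq _
  show ((y : ↥K) : G) ^ 2 ^ 2 = 1
  rw [h4]
  rcases hsq y y.2 with h | h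
  · rw [h, one_mul]
  · rw [h, hZ.z₁_sq hD hF hK]

/-- Elements of `E(G)` centralizing `z` have order dividing `4`. -/
theorem ZDecomp.pow_four (hZ : ZDecomp K z z₁ z₂) (hD : LgData Q z)
    (hF : fittingSubgroup G = ⊥) (hK : IsComponent K) {u : G} (hu : u ∈ Q)
    (hne : K.map (MulAut.conj u).toMonoidHom ≠ K) {e : G} (he : e ∈ layer G)
    (hez : e * z = z * e) : e ^ 4 = 1 := by
  obtain ⟨k, hk, k', hk', rfl⟩ := exists_decomp hK he
  have hoth := hZ.others_eq hD hF hK hu hne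
  have hz₂ := hZ.z₂_eq hD hF hK hu hne
  -- split the conjugation
  have h1 : (k * z₁ * k⁻¹) * (k' * z₂ * k'⁻¹) = z₁ * z₂ := by
    have hc1 : z₁ * k' = k' * z₁ := others_comm hK hZ.h1 hk'
    have hc2 : k⁻¹ * (k' * z₂ * k'⁻¹) = (k' * z₂ * k'⁻¹) * k⁻¹ :=
      others_comm hK (K.inv_mem hk)
        ((others K).mul_mem ((others K).mul_mem hk' hZ.h2) ((others K).inv_mem hk'))
    calc (k * z₁ * k⁻¹) * (k' * z₂ * k'⁻¹) = k * z₁ * (k⁻¹ * (k' * z₂ * k'⁻¹)) := by group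
      _ = k * z₁ * ((k' * z₂ * k'⁻¹) * k⁻¹) := by rw [hc2]
      _ = k * (z₁ * k') * z₂ * k'⁻¹ * k⁻¹ := by group
      _ = k * (k' * z₁) * z₂ * k'⁻¹ * k⁻¹ := by rw [hc1]
      _ = ((k * k') * (z₁ * z₂)) * (k * k')⁻¹ := by group
      _ = ((z₁ * z₂) * (k * k')) * (k * k')⁻¹ := by rw [← hZ.hz, hez]
      _ = z₁ * z₂ := by group
  have h2 := decomp_unique hF hK (K.mul_mem (K.mul_mem hk hZ.h1) (K.inv_mem hk)) hZ.h1
    ((others K).mul_mem ((others K).mul_mem hk' hZ.h2) ((others K).inv_mem hk')) hZ.h2 h1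
  have hkz₁ : k * z₁ = z₁ * k := by
    calc k * z₁ = (k * z₁ * k⁻¹) * k := by group
      _ = z₁ * k := by rw [h2.1]
  have hk'z₂ : k' * z₂ = z₂ * k' := by
    calc k' * z₂ = (k' * z₂ * k'⁻¹) * k' := by group
      _ = z₂ * k' := by rw [h2.2]
  -- `k ^ 4 = 1`
  have hk4 : k ^ 4 = 1 := by
    rw [pow_four_eq]
    rcases hZ.sq_of_comm hD hF hK hu hne hk ((hZ.comm_iff hK hk).mpr hkz₁) with h | h
    · rw [h, one_mul]
    · rw [h, hZ.z₁_sq hD hF hK]
  -- `k' ^ 4 = 1`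
  have hk'4 : k' ^ 4 = 1 := by
    have hk3 : u⁻¹ * k' * u ∈ K := by
      rw [← mem_map_conj_iff, ← hoth]; exact hk'
    have hk3z : (u⁻¹ * k' * u) * z₁ = z₁ * (u⁻¹ * k' * u) := by
      calc (u⁻¹ * k' * u) * z₁ = u⁻¹ * (k' * (u * z₁ * u⁻¹)) * u := by group
        _ = u⁻¹ * (k' * z₂) * u := by rw [← hz₂]
        _ = u⁻¹ * (z₂ * k') * u := by rw [hk'z₂]
        _ = u⁻¹ * ((u * z₁ * u⁻¹) * k') * u := by rw [← hz₂]
        _ = z₁ * (u⁻¹ * k' * u) := by group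
    have h4 : k' = u * (u⁻¹ * k' * u) * u⁻¹ := by group
    rw [h4, conj_pow, pow_four_eq]
    rcases hZ.sq_of_comm hD hF hK hu hne hk3 ((hZ.comm_iff hK hk3).mpr hk3z) with h | h
    · rw [h, one_mul]; group
    · rw [h, hZ.z₁_sq hD hF hK]; group
  have hcomm : Commute k k' := others_comm hK hk hk'
  rw [hcomm.mul_pow, hk4, hk'4, one_mul]

/-- `Q` is not the largest normal 2-subgroup of `C_G(z)`. -/
theorem ZDecomp.ne_pCore (hZ : ZDecomp K z z₁ z₂) (hD : LgData Q z)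
    (hF : fittingSubgroup G = ⊥) (hK : IsComponent K) {u : G} (hu : u ∈ Q)
    (hne : K.map (MulAut.conj u).toMonoidHom ≠ K) :
    Q ≠ (Cfsg.pCore 2 ↥(Subgroup.centralizer ({z} : Set G))).map
      (Subgroup.centralizer ({z} : Set G)).subtype := by
  intro hQO
  apply hZ.false_of_small hD hF hK
  intro d hd hdz
  have hTN : ((layer G).subgroupOf (Subgroup.centralizer ({z} : Set G))).Normal := inferInstance
  have hTp : IsPGroup 2 ↥((layer G).subgroupOf (Subgroup.centralizer ({z} : Set G))) := by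
    intro e
    refine ⟨2, ?_⟩
    apply Subtype.ext
    apply Subtype.ext
    have he : ((e : ↥(Subgroup.centralizer ({z} : Set G))) : G) ∈ layer G := e.2
    have hez := Subgroup.mem_centralizer_singleton_iff.mp (e : ↥(Subgroup.centralizer ({z} : Set G))).2
    exact hZ.pow_four hD hF hK hu hne he hez
  have hle := Lib.le_pCore hTN hTp
  have hdH : d ∈ Subgroup.centralizer ({z} : Set G) :=
    Subgroup.mem_centralizer_singleton_iff.mpr hdz
  have hdQ : d ∈ Q := by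
    rw [hQO]
    refine ⟨⟨d, hdH⟩, hle ?_, rfl⟩
    rw [Subgroup.mem_subgroupOf]
    exact Helper22.IsComponent.le_layer hK hd
  have hk' : u * d * u⁻¹ ∈ others K :=
    le_others hK (isComponent_conj hK u) hne (conj_mem_map_conj K u hd)
  have e : d⁻¹ * u * d⁻¹⁻¹ * u⁻¹ = d⁻¹ * (u * d * u⁻¹) := by group
  rcases hD.ed.comm d⁻¹ (Q.inv_mem hdQ) u hu with h | h
  · left
    rw [e] at h
    have h1 : d⁻¹ * (u * d * u⁻¹) = 1 * 1 := by rw [h, one_mul]
    have h2 := (decomp_unique hF hK (K.inv_mem hd) K.one_mem hk' (others K).one_mem h1).1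
    exact inv_eq_one.mp h2
  · right
    rw [e, hZ.hz] at h
    have h2 := (decomp_unique hF hK (K.inv_mem hd) hZ.h1 hk' hZ.h2 h).1
    calc d = (d⁻¹)⁻¹ := (inv_inv d).symm
      _ = z₁⁻¹ := by rw [h2]
      _ = z₁ := hZ.z₁_inv hD hF hK

end

/-- **The case of a component moved by `Q`.** -/
theorem LgData.case_two (hD : LgData Q z) (hF : fittingSubgroup G = ⊥) {K : Subgroup G}
    (hK : IsComponent K) {u : G} (hu : u ∈ Q) (hne : K.map (MulAut.conj u).toMonoidHom ≠ K) :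
    IsSimpleGroup ↥K ∧ ¬ IsMulCommutative ↥K ∧ K ⊓ K.map (MulAut.conj u).toMonoidHom = ⊥ ∧
      (∀ x ∈ K, ∀ y ∈ K.map (MulAut.conj u).toMonoidHom, x * y = y * x) ∧
      K ⊔ K.map (MulAut.conj u).toMonoidHom = layer G ∧
      ∃ z₁ ∈ K, z = z₁ * (u * z₁ * u⁻¹) ∧
        (∃ R : Sylow 2 ↥K,
          (R : Subgroup ↥K) = (Subgroup.centralizer ({z₁} : Set G)).subgroupOf K ∧
          (frattini ↥(R : Subgroup ↥K)).map ((K.subtype).comp (R : Subgroup ↥K).subtype) ≤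
            Subgroup.zpowers z₁) ∧
        Q ≠ (Cfsg.pCore 2 ↥(Subgroup.centralizer ({z} : Set G))).map
          (Subgroup.centralizer ({z} : Set G)).subtype := by
  obtain ⟨z₁, z₂, hZ⟩ := hD.exists_zDecomp hK
  refine ⟨isSimpleGroup_of_isComponent hF hK, not_comm_of_isComponent hK,
    hZ.inf_eq_bot hD hF hK hu hne, ?_, (hZ.layer_eq hD hF hK hu hne).symm, z₁, hZ.h1, ?_,
    hZ.exists_sylow hD hF hK hu hne, hZ.ne_pCore hD hF hK hu hne⟩
  · intro x hx y hy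
    exact comm_of_ne hK (isComponent_conj hK u) (Ne.symm hne) hx hy
  · rw [← hZ.z₂_eq hD hF hK hu hne]
    exact hZ.hz

end Cfsg.Agent.Helper90
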