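import Cfsg.Agent.Helper26.OctadSplit
import Cfsg.Agent.S0354
import Cfsg.Agent.S0363
import Cfsg.Agent.Helper90.HolRel
import Cfsg.Agent.Helper90.FullCount

set_option autoImplicit false

/-!
The stabilizer of an octad in `M24` is the holomorph of an elementary abelian group of order 16.
-/

namespace Cfsg.Agent.Helper90

open Cfsg Helper26 MulAction
open scoped Pointwise

variable {o : Finset GolayPt}

theorem exists_disjoint_octad (ho : o ∈ octads) : ∃ o' ∈ octads, Disjoint o o' := by
  have hcard : Fintype.card GolayPt = 24 := by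
    simp [GolayPt]
  have h := Cfsg.Agent.S0354.result hcard Cfsg.Agent.S0363.result ho
  have hne : {c : Finset GolayPt | c ∈ octads ∧ Disjoint o c}.Nonempty := by
    apply Set.nonempty_of_ncard_ne_zero
    rw [h]
    norm_num
  obtain ⟨c, hc1, hc2⟩ := hne
  exact ⟨c, hc1, hc2⟩

theorem octK_mul_self (ho : o ∈ octads) {u : Equiv.Perm GolayPt} (hu : u ∈ octK o) : u * u = 1 :=
  (Helper7.octad_fix_card_sq ho).2 u hu

theorem octK_comm (ho : o ∈ octads) {u v : Equiv.Perm GolayPt} (hu : u ∈ octK o) (hv : v ∈ octK o) :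
    u * v = v * u := by
  have h1 := octK_mul_self ho hu
  have h2 := octK_mul_self ho hv
  have h3 := octK_mul_self ho ((octK o).mul_mem hu hv)
  calc u * v = u * (u * v * (u * v)) * v := by rw [h3, mul_one]
    _ = (u * u) * (v * u) * (v * v) := by group
    _ = v * u := by rw [h1, h2, one_mul, mul_one]

theorem octK_conj {g u : Equiv.Perm GolayPt} (hg : g ∈ octS o) (hu : u ∈ octK o) :
    g * u * g⁻¹ ∈ octK o := by
  rw [mem_octK_iff] at hu ⊢
  have hgM : g ∈ M24 := (Subgroup.mem_inf.1 hg).1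
  refine ⟨M24.mul_mem (M24.mul_mem hgM hu.1) (M24.inv_mem hgM), ?_⟩
  intro x hx
  have hginv : g⁻¹ ∈ octS o := (octS o).inv_mem hg
  have h1 : g⁻¹ x ∈ o :=
    (mem_iff_of_smul_eq (mem_stabilizer_iff.1 (Subgroup.mem_inf.1 hginv).2) x).2 hx
  show g (u (g⁻¹ x)) = x
  rw [hu.2 _ h1]
  simp

theorem octS_decomp (ho : o ∈ octads) {p : GolayPt} (hp : p ∉ o) {g : Equiv.Perm GolayPt}
    (hg : g ∈ octS o) : ∃ u ∈ octK o, ∃ m ∈ octA o p, g = u * m := by
  obtain ⟨k, hk, hkp⟩ := octK_trans ho hp (notMem_of_octS hg hp)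
  have hA : k⁻¹ * g ∈ octA o p := by
    refine Subgroup.mem_inf.2 ⟨(octS o).mul_mem ((octS o).inv_mem (octK_le_octS o hk)) hg, ?_⟩
    rw [mem_stabilizer_iff]
    show (k⁻¹ * g) p = p
    rw [Equiv.Perm.mul_apply, ← hkp]
    simp
  exact ⟨k, hk, k⁻¹ * g, hA, by simp⟩

theorem octK_inf_eq_one (ho : o ∈ octads) {p : GolayPt} (hp : p ∉ o) {x : Equiv.Perm GolayPt}
    (hK : x ∈ octK o) (hA : x ∈ octA o p) : x = 1 := by
  have : x ∈ octK o ⊓ octA o p := Subgroup.mem_inf.2 ⟨hK, hA⟩
  rw [octK_inf_octA ho hp, Subgroup.mem_bot] at this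
  exact this

theorem octA_faith (ho : o ∈ octads) {p : GolayPt} (hp : p ∉ o) {m : Equiv.Perm GolayPt}
    (hm : m ∈ octA o p) (hc : ∀ u ∈ octK o, m * u * m⁻¹ = u) : m = 1 := by
  have hmM : m ∈ M24 := (Subgroup.mem_inf.1 (Subgroup.mem_inf.1 hm).1).1
  have hmp : m p = p := mem_stabilizer_iff.1 (Subgroup.mem_inf.1 hm).2
  have hfix : ∀ q, q ∉ o → m q = q := by
    intro q hq
    obtain ⟨k, hk, hkp⟩ := octK_trans ho hp hq
    have h1 : m * k = k * m := by
      have := hc k hk
      calc m * k = (m * k * m⁻¹) * m := by group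
        _ = k * m := by rw [this]
    have h2 : (m * k) p = (k * m) p := by rw [h1]
    rw [Equiv.Perm.mul_apply, Equiv.Perm.mul_apply, hkp, hmp, hkp] at h2
    exact h2
  obtain ⟨o', ho', hdisj⟩ := exists_disjoint_octad ho
  have hmK' : m ∈ octK o' := by
    rw [mem_octK_iff]
    refine ⟨hmM, fun x hx => hfix x ?_⟩
    intro hxo
    exact (Finset.disjoint_left.1 hdisj hxo) hx
  have hcard : (o ∪ o').card < (Finset.univ : Finset GolayPt).card := by
    have h1 : (o ∪ o').card ≤ o.card + o'.card := Finset.card_union_le o o'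
    rw [ho.2, ho'.2] at h1
    have h2 : (Finset.univ : Finset GolayPt).card = 24 := by
      simp [GolayPt]
    omega
  obtain ⟨q, _, hq⟩ := Finset.exists_mem_notMem_of_card_lt_card hcard
  rw [Finset.mem_union, not_or] at hq
  exact octK_free ho' hmK' hq.2 (hfix q hq.1)

theorem octK_fix_iff (ho : o ∈ octads) {t : Equiv.Perm GolayPt} (ht : t ∈ octK o) (ht1 : t ≠ 1)
    (x : GolayPt) : t x = x ↔ x ∈ o := by
  constructor
  · intro hx
    by_contra hxo
    exact ht1 (octK_free ho ht hxo hx)
  · intro hx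
    exact (mem_octK_iff.1 ht).2 x hx

theorem octS_of_commute (ho : o ∈ octads) {t : Equiv.Perm GolayPt} (ht : t ∈ octK o) (ht1 : t ≠ 1)
    {g : Equiv.Perm GolayPt} (hgM : g ∈ M24) (hg : g * t = t * g) : g ∈ octS o := by
  refine Subgroup.mem_inf.2 ⟨hgM, ?_⟩
  rw [mem_stabilizer_iff]
  apply Finset.eq_of_subset_of_card_le
  · intro y hy
    obtain ⟨x, hx, rfl⟩ := Finset.mem_smul_finset.1 hy
    show g x ∈ o
    rw [← octK_fix_iff ho ht ht1]
    have h1 : (t * g) x = (g * t) x := by rw [hg]
    rw [Equiv.Perm.mul_apply, Equiv.Perm.mul_apply, (octK_fix_iff ho ht ht1 x).2 hx] at h1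
    exact h1
  · rw [Finset.card_smul_finset]

theorem card_octK (ho : o ∈ octads) : Nat.card ↥(octK o) = 2 ^ 4 :=
  (Helper7.octad_fix_card_sq ho).1

theorem card_GL_four_two : Nat.card (Matrix.GeneralLinearGroup (Fin 4) (ZMod 2)) = 20160 := by
  rw [Matrix.card_GL_field]
  simp [Fin.prod_univ_succ]

/-- The relative holomorph context in `M24` attached to an octad, a point outside it, and a non-trivial
element of the pointwise stabilizer of the octad. -/
theorem holRel_M24 (ho : o ∈ octads) {p : GolayPt} (hp : p ∉ o) (z : ↥M24)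
    (hzK : (z : Equiv.Perm GolayPt) ∈ octK o) (hz1 : z ≠ 1) :
    HolRel ((octS o).subgroupOf M24) ((octK o).subgroupOf M24) ((octA o p).subgroupOf M24) z where
  UP := by
    intro g hg
    rw [Subgroup.mem_subgroupOf] at hg ⊢
    exact octK_le_octS o hg
  MP := by
    intro g hg
    rw [Subgroup.mem_subgroupOf] at hg ⊢
    exact octA_le_octS o p hg
  Unorm := by
    intro g hg u hu
    rw [Subgroup.mem_subgroupOf] at hg hu ⊢
    have e : ((g * u * g⁻¹ : ↥M24) : Equiv.Perm GolayPt)
        = (g : Equiv.Perm GolayPt) * u * (g : Equiv.Perm GolayPt)⁻¹ := by simp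
    rw [e]
    exact octK_conj hg hu
  Ucomm := by
    intro u hu v hv
    rw [Subgroup.mem_subgroupOf] at hu hv
    apply Subtype.ext
    rw [Subgroup.coe_mul, Subgroup.coe_mul]
    exact octK_comm ho hu hv
  Usq := by
    intro u hu
    rw [Subgroup.mem_subgroupOf] at hu
    apply Subtype.ext
    rw [Subgroup.coe_mul, Subgroup.coe_one]
    exact octK_mul_self ho hu
  inf := by
    intro x hK hA
    rw [Subgroup.mem_subgroupOf] at hK hA
    apply Subtype.ext
    rw [Subgroup.coe_one]
    exact octK_inf_eq_one ho hp hK hA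
  sup := by
    intro g hg
    rw [Subgroup.mem_subgroupOf] at hg
    obtain ⟨u, hu, m, hm, hgum⟩ := octS_decomp ho hp hg
    have huM : u ∈ M24 := (Subgroup.mem_inf.1 hu).1
    have hmM : m ∈ M24 := (Subgroup.mem_inf.1 (Subgroup.mem_inf.1 hm).1).1
    refine ⟨⟨u, huM⟩, ?_, ⟨m, hmM⟩, ?_, ?_⟩
    · rw [Subgroup.mem_subgroupOf]; exact hu
    · rw [Subgroup.mem_subgroupOf]; exact hm
    · apply Subtype.ext
      rw [Subgroup.coe_mul]
      exact hgum
  faith := by
    intro m hm hmu
    rw [Subgroup.mem_subgroupOf] at hm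
    apply Subtype.ext
    rw [Subgroup.coe_one]
    apply octA_faith ho hp hm
    intro u hu
    have huM : u ∈ M24 := (Subgroup.mem_inf.1 hu).1
    have := hmu ⟨u, huM⟩ (by rw [Subgroup.mem_subgroupOf]; exact hu)
    have := congrArg Subtype.val this
    simpa using this
  full := by
    apply full_of_card_le _ _ _ _ _ _ 4
    · rw [← card_octK ho]
      exact Nat.card_congr (Subgroup.subgroupOfEquivOfLe
        (inf_le_left : octK o ≤ M24)).toEquiv
    · rw [card_GL_four_two, ← card_octA ho hp]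
      apply le_of_eq
      exact (Nat.card_congr (Subgroup.subgroupOfEquivOfLe
        (le_trans inf_le_left inf_le_left : octA o p ≤ M24)).toEquiv).symm
    · intro m hm u hu
      rw [Subgroup.mem_subgroupOf] at hm hu ⊢
      have e : ((m * u * m⁻¹ : ↥M24) : Equiv.Perm GolayPt)
          = (m : Equiv.Perm GolayPt) * u * (m : Equiv.Perm GolayPt)⁻¹ := by simp
      rw [e]
      exact octK_conj (octA_le_octS o p hm) hu
    · intro m hm hmu
      rw [Subgroup.mem_subgroupOf] at hm
      apply Subtype.ext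
      rw [Subgroup.coe_one]
      apply octA_faith ho hp hm
      intro u hu
      have huM : u ∈ M24 := (Subgroup.mem_inf.1 hu).1
      have := hmu ⟨u, huM⟩ (by rw [Subgroup.mem_subgroupOf]; exact hu)
      have := congrArg Subtype.val this
      simpa using this
    · intro u hu v hv
      rw [Subgroup.mem_subgroupOf] at hu hv
      apply Subtype.ext
      rw [Subgroup.coe_mul, Subgroup.coe_mul]
      exact octK_comm ho hu hv
    · intro u hu
      rw [Subgroup.mem_subgroupOf] at hu
      apply Subtype.ext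
      rw [Subgroup.coe_mul, Subgroup.coe_one]
      exact octK_mul_self ho hu
  zU := by
    rw [Subgroup.mem_subgroupOf]; exact hzK
  z1 := hz1
  cz := by
    intro t ht ht1 g hg
    rw [Subgroup.mem_subgroupOf] at ht ⊢
    apply octS_of_commute ho ht ?_ g.2
    · have := congrArg Subtype.val hg
      simpa using this
    · intro h1
      apply ht1
      apply Subtype.ext
      rw [Subgroup.coe_one]
      exact h1

end Cfsg.Agent.Helper90
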