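import Mathlib
import Cfsg.Prelude.Def_MonsterType
import Cfsg.Agent.Helper90.MonQuad

set_option autoImplicit false

/-!
In a group of Monster type, `Q` has an elementary abelian subgroup of order `2 ^ 13`.
-/

namespace Cfsg.Agent.Helper90

open Cfsg Cfsg.Agent.Helper92

variable {G : Type*} [Group G] {z : G}
  {Q : Subgroup (Subgroup.centralizer ({z} : Set G))}

theorem exists_elemAb_13 [Finite G] [Q.Normal] (hM : IsOfMonsterType z Q) :
    ∃ E : Subgroup Q, IsElementaryAbelian 2 E ∧ Nat.card E = 2 ^ 13 := by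
  obtain ⟨⟨hz2, hF, hex, hcard, -⟩, e, ψ, hψ⟩ := hM
  obtain ⟨z', hE⟩ := exists_extraData hex
  have hc2 : 2 < Nat.card Q := by rw [hcard]; norm_num
  have hquad := sqvBar_psi hE hc2 hψ
  obtain ⟨hadd, hsurj, hker, hact⟩ := hψ
  -- the additive homomorphism
  let ψa : leechLattice →+ Additive (Q ⧸ Subgroup.center Q) :=
    AddMonoidHom.mk' (fun v => Additive.ofMul (ψ v)) (fun v w => by
      show Additive.ofMul (ψ (v + w)) = Additive.ofMul (ψ v) + Additive.ofMul (ψ w)
      rw [hadd]; rfl)
  have hψa : ∀ v, ψa v = Additive.ofMul (ψ v) := fun v => rfl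
  let L : AddSubgroup leechLattice := latL4.addSubgroupOf leechLattice
  let S : Subgroup (Q ⧸ Subgroup.center Q) := AddSubgroup.toSubgroup' (L.map ψa)
  have hmemS : ∀ x, x ∈ S ↔ ∃ v : leechLattice, (v : ZV) ∈ latL4 ∧ ψ v = x := by
    intro x
    show Additive.ofMul x ∈ L.map ψa ↔ _
    rw [AddSubgroup.mem_map]
    constructor
    · rintro ⟨v, hv, hvx⟩
      exact ⟨v, AddSubgroup.mem_addSubgroupOf.1 hv, Additive.ofMul.injective hvx⟩
    · rintro ⟨v, hv, hvx⟩
      exact ⟨v, AddSubgroup.mem_addSubgroupOf.2 hv, by rw [hψa, hvx]⟩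
  have hkerψ : ψa.ker = (leechLattice.map dbl).addSubgroupOf leechLattice := by
    ext v
    rw [AddMonoidHom.mem_ker, AddSubgroup.mem_addSubgroupOf, mem_map_dbl_iff, hψa]
    have : Additive.ofMul (ψ v) = 0 ↔ ψ v = 1 := Iff.rfl
    rw [this, hker]
    constructor
    · rintro ⟨w, hw⟩
      exact ⟨w, by rw [hw]; rfl⟩
    · rintro ⟨w, hw⟩
      exact ⟨w, Subtype.ext hw⟩
  have hcardS : Nat.card S = 2 ^ 12 := by
    have h1 : Nat.card S = Nat.card (L.map ψa) :=
      Nat.card_congr (Equiv.subtypeEquiv Additive.ofMul (fun x => Iff.rfl))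
    rw [h1, ← AddSubgroup.relIndex_ker, hkerψ, AddSubgroup.relIndex_addSubgroupOf latL4_le]
    exact relIndex_twoL_latL4
  refine ⟨S.comap (QuotientGroup.mk' (Subgroup.center Q)), ?_, ?_⟩
  · -- elementary abelian
    have hsq : ∀ a : Q, a ∈ S.comap (QuotientGroup.mk' (Subgroup.center Q)) → a * a = 1 := by
      intro a ha
      rw [Subgroup.mem_comap, QuotientGroup.mk'_apply, hmemS] at ha
      obtain ⟨v, hv, hva⟩ := ha
      have h1 := hquad v
      rw [sqNorm_div_cast_of_mem_latL4 hv, hva, sqvBar_mk hE] at h1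
      have h2 := sq_eq_one_of_sqv h1
      apply Subtype.ext
      rw [Subgroup.coe_mul, h2]
      rfl
    constructor
    · refine ⟨⟨?_⟩⟩
      rintro ⟨a, ha⟩ ⟨b, hb⟩
      apply Subtype.ext
      show a * b = b * a
      have h1 := hsq a ha
      have h2 := hsq b hb
      have h3 := hsq (a * b) (Subgroup.mul_mem _ ha hb)
      calc a * b = (b * b) * (a * b) * (a * a) := by rw [h1, h2, one_mul, mul_one]
        _ = b * ((b * a) * (b * a)) * a := by group
        _ = b * (b * (a * b * (a * b)) * b⁻¹) * a := by group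
        _ = b * a := by rw [h3]; group
    · intro a ha
      rw [pow_two]
      exact hsq a ha
  · -- the order
    have hidx : (S.comap (QuotientGroup.mk' (Subgroup.center Q))).index = S.index :=
      Subgroup.index_comap_of_surjective _ (QuotientGroup.mk'_surjective _)
    have h1 := Subgroup.card_mul_index S
    have h2 := Subgroup.card_eq_card_quotient_mul_card_subgroup (Subgroup.center Q)
    have h3 := Subgroup.card_mul_index (S.comap (QuotientGroup.mk' (Subgroup.center Q)))
    rw [hex.2, hcard] at h2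
    rw [hcardS] at h1
    rw [hidx, hcard] at h3
    have h4 : Nat.card (Q ⧸ Subgroup.center Q) = 2 ^ 24 := by
      have : (2 : ℕ) ^ (2 * 12 + 1) = 2 ^ 24 * 2 := by norm_num
      rw [this] at h2
      exact (Nat.eq_of_mul_eq_mul_right (by norm_num) h2).symm
    rw [h4] at h1
    have h5 : S.index = 2 ^ 12 := by
      have : (2 : ℕ) ^ 24 = 2 ^ 12 * 2 ^ 12 := by norm_num
      rw [this] at h1
      exact Nat.eq_of_mul_eq_mul_left (by norm_num) h1
    rw [h5] at h3
    have : (2 : ℕ) ^ (2 * 12 + 1) = 2 ^ 13 * 2 ^ 12 := by norm_num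
    rw [this] at h3
    exact Nat.eq_of_mul_eq_mul_right (by norm_num) h3

end Cfsg.Agent.Helper90
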