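import Mathlib
import Cfsg.Agent.Helper99.O9.Defs
import Cfsg.Agent.Helper44.OmegaIndex
import Cfsg.Agent.Helper44.OrthRealizeC
import Cfsg.Agent.Helper44.MinusForm

/-!
# S2517 (helper99's O9 farm), piece (ODD): elements of odd order lie in `Ω`
-/

set_option autoImplicit false
set_option linter.unusedSectionVars false
set_option linter.unusedVariables false

namespace Cfsg.Agent.Helper90.O9

open Matrix QuadraticMap Cfsg.Agent.Helper44 Cfsg.Agent.Helper44.QType Cfsg.Agent.Helper99.O9

universe u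

variable {F : Type u} [Field F] [Fintype F]

/-- (ODD) elements of odd order lie in `Ω`: `O/Ω` is an elementary abelian 2-group -/
theorem inOm_of_odd (hF : Odd (Fintype.card F)) {P : OPair F} (hP : P.ND) (ho : Odd P.ord) : P.InOm := by
  have h2 : (2 : F) ≠ 0 := Cfsg.Agent.Helper44.two_ne_zero_of_odd_card rfl hF
  have hQ : (QuadraticMap.polarBilin P.Q).Nondegenerate :=
    (Cfsg.Agent.Helper44.QType.nondeg_iff P.Q).mpr ((OPair.nd_def P).1 hP)
  obtain ⟨c, hc⟩ := FiniteField.exists_nonsquare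
    (Cfsg.Agent.Helper44.ringChar_ne_two_of_two_ne_zero h2)
  rw [OPair.inOm_def, ← ker_omegaChar P.Q h2 hQ hc, MonoidHom.mem_ker]
  have hg : P.g ^ P.ord = 1 := by
    rw [OPair.ord_def]
    exact pow_orderOf_eq_one _
  have h1 : (omegaChar P.Q c P.g) ^ P.ord = 1 := by rw [← map_pow, hg, map_one]
  have h3 : ∀ x : ℤˣ × ℤˣ, x ^ 2 = 1 := by
    intro x
    apply Prod.ext
    · exact Int.units_sq _
    · exact Int.units_sq _
  obtain ⟨j, hj⟩ := ho
  rw [hj, pow_succ, pow_mul, h3, one_pow, one_mul] at h1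
  exact h1

end Cfsg.Agent.Helper90.O9
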