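import Mathlib
import Cfsg.Agent.Helper99.O9.Defs

/-!
# S2517 (helper99's O9 farm), piece (SUMO): the order of a block diagonal isometry
-/

set_option autoImplicit false
set_option linter.unusedSectionVars false
set_option linter.unusedVariables false

namespace Cfsg.Agent.Helper90.O9

open Matrix QuadraticMap Cfsg.Agent.Helper44 Cfsg.Agent.Helper44.QType Cfsg.Agent.Helper99.O9

universe u

variable {F : Type u} [Field F] [Fintype F]

/-- the block diagonal embedding is injective -/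
theorem SUMO_blockDiagIso_injective {ι₁ ι₂ : Type} [Fintype ι₁] [DecidableEq ι₁] [Fintype ι₂]
    [DecidableEq ι₂] (Q₁ : (ι₁ → F) → F) (Q₂ : (ι₂ → F) → F) :
    Function.Injective (blockDiagIso Q₁ Q₂) := by
  intro p q h
  have h1 : (((blockDiagIso Q₁ Q₂ p : ↥(Cfsg.isometryGroup F (orthSum Q₁ Q₂))) : GL (ι₁ ⊕ ι₂) F) :
      Matrix (ι₁ ⊕ ι₂) (ι₁ ⊕ ι₂) F) =
      (((blockDiagIso Q₁ Q₂ q : ↥(Cfsg.isometryGroup F (orthSum Q₁ Q₂))) : GL (ι₁ ⊕ ι₂) F) :
      Matrix (ι₁ ⊕ ι₂) (ι₁ ⊕ ι₂) F) := by rw [h]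
  rw [blockDiagIso_coe, blockDiagIso_coe, Matrix.fromBlocks_inj] at h1
  obtain ⟨e1, -, -, e2⟩ := h1
  apply Prod.ext
  · exact Subtype.ext (Units.ext e1)
  · exact Subtype.ext (Units.ext e2)

/-- (SUMO) the order of a block diagonal matrix -/
theorem sum_ord (P₁ P₂ : OPair F) : (P₁.sum P₂).ord = Nat.lcm P₁.ord P₂.ord := by
  have key : orderOf (blockDiagIso ⇑P₁.Q ⇑P₂.Q (P₁.g, P₂.g)) =
      Nat.lcm (orderOf P₁.g) (orderOf P₂.g) := by
    rw [orderOf_injective (blockDiagIso ⇑P₁.Q ⇑P₂.Q) (SUMO_blockDiagIso_injective _ _)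
      (P₁.g, P₂.g)]
    exact Prod.orderOf (P₁.g, P₂.g)
  exact key

end Cfsg.Agent.Helper90.O9
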