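import Mathlib
import Cfsg.Agent.Helper5.GrpIndex
import Cfsg.Agent.S0824

/-!
# The orthogonal group of minus type in dimension 4 over the field with two elements

`O₄⁻(2) ≅ S₅` (S0824), so its commutator subgroup `Ω₄⁻(2) ≅ A₅` has order 60, index 2 and is
simple.  (The m = 1 analogue of `Cfsg.Agent.Helper26.OmegaM6`, section Six.)
-/

set_option autoImplicit false

namespace Cfsg.Agent.Helper90.OmegaM4

open Matrix Cfsg Cfsg.Agent.Helper5

/-- the index type of the four coordinates -/
abbrev I4 : Type := (Fin 1 ⊕ Fin 1) ⊕ Fin 2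

/-- the isometry group -/
abbrev O4 : Subgroup (GL I4 (ZMod 2)) :=
  Cfsg.isometryGroup (ZMod 2) (Cfsg.quadFormMinus 1 (ZMod 2) 1 1)

/-- its commutator subgroup -/
abbrev Om4 : Subgroup ↥O4 := Cfsg.Omega (ZMod 2) (Cfsg.quadFormMinus 1 (ZMod 2) 1 1)

/-- `O₄⁻(2) ≅ S₅` -/
noncomputable def equivPerm : ↥O4 ≃* Equiv.Perm (Fin 5) :=
  Classical.choice (Cfsg.Agent.S0824.result (F := ZMod 2) (ZMod.card 2))

theorem card_O4 : Nat.card ↥O4 = 120 := by
  rw [Nat.card_congr equivPerm.toEquiv, Nat.card_eq_fintype_card, Fintype.card_perm,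
    Fintype.card_fin]
  rfl

instance finite_O4 : Finite ↥O4 := Nat.finite_of_card_ne_zero (by rw [card_O4]; norm_num)

theorem map_Om4 : Om4.map equivPerm.toMonoidHom = alternatingGroup (Fin 5) := by
  have h5 : 5 ≤ Nat.card (Fin 5) := by simp
  rw [← alternatingGroup.commutator_perm_eq h5]
  show (commutator ↥O4).map equivPerm.toMonoidHom = _
  rw [commutator_def, Subgroup.map_commutator, ← MonoidHom.range_eq_map,
    MonoidHom.range_eq_top.mpr equivPerm.surjective, commutator_def]

/-- `Ω₄⁻(2) ≅ A₅` -/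
noncomputable def equivAlt : ↥Om4 ≃* ↥(alternatingGroup (Fin 5)) :=
  (equivPerm.subgroupMap Om4).trans (MulEquiv.subgroupCongr map_Om4)

theorem card_alt5 : Nat.card ↥(alternatingGroup (Fin 5)) = 60 := by
  have h := two_mul_card_alternatingGroup (α := Fin 5)
  rw [Fintype.card_perm, Fintype.card_fin] at h
  rw [Nat.card_eq_fintype_card]
  have : (5 : ℕ).factorial = 120 := rfl
  omega

theorem card_Om4 : Nat.card ↥Om4 = 60 := by
  rw [Nat.card_congr equivAlt.toEquiv, card_alt5]

instance simple_Om4 : IsSimpleGroup ↥Om4 := by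
  have : IsSimpleGroup ↥(alternatingGroup (Fin 5)) := alternatingGroup.isSimpleGroup (by simp)
  exact equivAlt.isSimpleGroup

theorem not_isPGroup_Om4 : ¬ IsPGroup 2 ↥Om4 := by
  intro hp
  obtain ⟨k, hk⟩ := hp.exists_card_eq
  rw [card_Om4] at hk
  have h3 : (3 : ℕ) ∣ 2 ^ k := by rw [← hk]; norm_num
  have := Nat.Prime.dvd_of_dvd_pow Nat.prime_three h3
  omega

/-- a subgroup of the isometry group of the order of the commutator subgroup is that subgroup -/
theorem eq_Om4_of_card (H : Subgroup ↥O4) (hH : Nat.card ↥H = 60) : H = Om4 := by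
  have hidx : H.index = 2 := by
    have h := Subgroup.card_mul_index H
    rw [hH, card_O4] at h
    omega
  have hle : Om4 ≤ H := commutator_le_of_index_two H hidx
  exact (Subgroup.eq_of_le_of_card_ge hle (by rw [hH, card_Om4])).symm

end Cfsg.Agent.Helper90.OmegaM4
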