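import Mathlib
import Cfsg.Prelude.Def_MonsterType
import Cfsg.Agent.Helper90.PairCtx2
import Cfsg.Agent.Helper90.PermHom

set_option autoImplicit false

/-!
`R` is normal in `X = ⟨Q, Qg⟩`; the braid relation.
-/

namespace Cfsg.Agent.Helper90

open Cfsg

/-- membership in the centralizer of the four-group `V = {1, z, b, z b}`. -/
theorem mem_centralizer_four {G : Type*} [Group G] {z b : G} {V : Subgroup G}
    (hV : ∀ x : G, x ∈ V ↔ x = 1 ∨ x = z ∨ x = b ∨ x = z * b) (c : G) :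
    c ∈ Subgroup.centralizer (V : Set G) ↔ c * z = z * c ∧ c * b = b * c := by
  have hzV : z ∈ V := (hV z).mpr (Or.inr (Or.inl rfl))
  have hbV : b ∈ V := (hV b).mpr (Or.inr (Or.inr (Or.inl rfl)))
  rw [Subgroup.mem_centralizer_iff]
  constructor
  · intro h
    exact ⟨(h z hzV).symm, (h b hbV).symm⟩
  · rintro ⟨h1, h2⟩ x hx
    rcases (hV x).mp hx with hx1 | hx1 | hx1 | hx1
    · rw [hx1]; simp
    · rw [hx1]; exact h1.symm
    · rw [hx1]; exact h2.symm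
    · rw [hx1]
      calc z * b * c = z * (b * c) := by group
        _ = z * (c * b) := by rw [h2]
        _ = (z * c) * b := by group
        _ = (c * z) * b := by rw [h1]
        _ = c * (z * b) := by group

/-- conjugation by an element whose inverse stabilizes `V` preserves `C(V)`. -/
theorem conj_mem_centralizer {G : Type*} [Group G] {V : Subgroup G} {x c : G}
    (hx : ∀ v ∈ V, x⁻¹ * v * x ∈ V) (hc : c ∈ Subgroup.centralizer (V : Set G)) :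
    x * c * x⁻¹ ∈ Subgroup.centralizer (V : Set G) := by
  rw [Subgroup.mem_centralizer_iff] at hc ⊢
  intro v hv
  have h1 := hc (x⁻¹ * v * x) (hx v hv)
  calc v * (x * c * x⁻¹) = x * ((x⁻¹ * v * x) * c) * x⁻¹ := by group
    _ = x * (c * (x⁻¹ * v * x)) * x⁻¹ := by rw [h1]
    _ = x * c * x⁻¹ * v := by group

namespace PairCtx

variable {G : Type*} [Group G] {Q Qg : Subgroup G} {z b : G}

theorem X_inv_conj_V (h : PairCtx Q Qg z b) {V : Subgroup G}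
    (hV : ∀ x : G, x ∈ V ↔ x = 1 ∨ x = z ∨ x = b ∨ x = z * b) {x : G} (hx : x ∈ Q ⊔ Qg) :
    ∀ v ∈ V, x⁻¹ * v * x ∈ V := by
  intro v hv
  have := (h.X_conj_V_and_comm hV (Subgroup.inv_mem _ hx)).1 v hv
  simpa using this

theorem R_le_CV (h : PairCtx Q Qg z b) {V : Subgroup G}
    (hV : ∀ x : G, x ∈ V ↔ x = 1 ∨ x = z ∨ x = b ∨ x = z * b) :
    (Qg ⊓ Subgroup.centralizer ({z} : Set G)) ⊔ (Q ⊓ Subgroup.centralizer ({b} : Set G)) ≤
      Subgroup.centralizer (V : Set G) := by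
  intro r hr
  rw [Subgroup.mem_centralizer_iff]
  intro v hv
  exact (h.R_centralizes_V hV hr hv).symm

theorem mem_P_of_mem_CV {V : Subgroup G}
    (hV : ∀ x : G, x ∈ V ↔ x = 1 ∨ x = z ∨ x = b ∨ x = z * b) {q : G} (hq : q ∈ Q)
    (hc : q ∈ Subgroup.centralizer (V : Set G)) : q ∈ Q ⊓ Subgroup.centralizer ({b} : Set G) :=
  (mem_P_iff q).mpr ⟨hq, ((mem_centralizer_four hV q).mp hc).2⟩

theorem mem_P'_of_mem_CV {V : Subgroup G}
    (hV : ∀ x : G, x ∈ V ↔ x = 1 ∨ x = z ∨ x = b ∨ x = z * b) {q : G} (hq : q ∈ Qg)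
    (hc : q ∈ Subgroup.centralizer (V : Set G)) : q ∈ Qg ⊓ Subgroup.centralizer ({z} : Set G) :=
  (mem_P_iff q).mpr ⟨hq, ((mem_centralizer_four hV q).mp hc).1⟩

/-- `Q` normalizes `R`. -/
theorem Q_conj_R (h : PairCtx Q Qg z b) {V : Subgroup G}
    (hV : ∀ x : G, x ∈ V ↔ x = 1 ∨ x = z ∨ x = b ∨ x = z * b) {q r : G} (hq : q ∈ Q)
    (hr : r ∈ (Qg ⊓ Subgroup.centralizer ({z} : Set G)) ⊔
      (Q ⊓ Subgroup.centralizer ({b} : Set G))) :
    q * r * q⁻¹ ∈ (Qg ⊓ Subgroup.centralizer ({z} : Set G)) ⊔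
      (Q ⊓ Subgroup.centralizer ({b} : Set G)) := by
  have hqX : q ∈ Q ⊔ Qg := Subgroup.mem_sup_left hq
  have hstab := h.X_inv_conj_V hV hqX
  refine sup_induction' (p := fun r => q * r * q⁻¹ ∈
    (Qg ⊓ Subgroup.centralizer ({z} : Set G)) ⊔ (Q ⊓ Subgroup.centralizer ({b} : Set G)))
    ?_ ?_ ?_ ?_ ?_ hr
  · intro a ha
    have haR : a ∈ (Qg ⊓ Subgroup.centralizer ({z} : Set G)) ⊔
      (Q ⊓ Subgroup.centralizer ({b} : Set G)) := Subgroup.mem_sup_left ha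
    have haCV := h.R_le_CV hV haR
    obtain ⟨_, haz⟩ := (mem_P_iff a).mp ha
    have h1 : a * q⁻¹ * a⁻¹ ∈ Q := conj_mem_of_mem_normalizer (h.normQ a haz) (Q.inv_mem hq)
    have h2 : q * a * q⁻¹ * a⁻¹ ∈ Q := by
      have := Q.mul_mem hq h1
      have e : q * (a * q⁻¹ * a⁻¹) = q * a * q⁻¹ * a⁻¹ := by group
      rwa [e] at this
    have h3 : q * a * q⁻¹ * a⁻¹ ∈ Subgroup.centralizer (V : Set G) :=
      Subgroup.mul_mem _ (conj_mem_centralizer hstab haCV) (Subgroup.inv_mem _ haCV)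
    have h4 := mem_P_of_mem_CV hV h2 h3
    have e : q * a * q⁻¹ = (q * a * q⁻¹ * a⁻¹) * a := by group
    rw [e]
    exact Subgroup.mul_mem _ (Subgroup.mem_sup_right h4) haR
  · intro p hp
    have hpR : p ∈ (Qg ⊓ Subgroup.centralizer ({z} : Set G)) ⊔
      (Q ⊓ Subgroup.centralizer ({b} : Set G)) := Subgroup.mem_sup_right hp
    have h2 : q * p * q⁻¹ ∈ Q := Q.mul_mem (Q.mul_mem hq hp.1) (Q.inv_mem hq)
    have h3 := conj_mem_centralizer hstab (h.R_le_CV hV hpR)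
    exact Subgroup.mem_sup_right (mem_P_of_mem_CV hV h2 h3)
  · simp
  · intro r r' _ _ ih ih'
    have e : q * (r * r') * q⁻¹ = (q * r * q⁻¹) * (q * r' * q⁻¹) := by group
    rw [e]; exact Subgroup.mul_mem _ ih ih'
  · intro r _ ih
    have e : q * r⁻¹ * q⁻¹ = (q * r * q⁻¹)⁻¹ := by group
    rw [e]; exact Subgroup.inv_mem _ ih

/-- `X` normalizes `R`. -/
theorem X_conj_R (h : PairCtx Q Qg z b) {V : Subgroup G}
    (hV : ∀ x : G, x ∈ V ↔ x = 1 ∨ x = z ∨ x = b ∨ x = z * b) {x : G} (hx : x ∈ Q ⊔ Qg) :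
    ∀ r ∈ (Qg ⊓ Subgroup.centralizer ({z} : Set G)) ⊔ (Q ⊓ Subgroup.centralizer ({b} : Set G)),
      x * r * x⁻¹ ∈ (Qg ⊓ Subgroup.centralizer ({z} : Set G)) ⊔
        (Q ⊓ Subgroup.centralizer ({b} : Set G)) ∧
      x⁻¹ * r * x ∈ (Qg ⊓ Subgroup.centralizer ({z} : Set G)) ⊔
        (Q ⊓ Subgroup.centralizer ({b} : Set G)) := by
  have hV' := h.hV_symm hV
  refine sup_induction' (p := fun x => ∀ r ∈ (Qg ⊓ Subgroup.centralizer ({z} : Set G)) ⊔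
      (Q ⊓ Subgroup.centralizer ({b} : Set G)),
      x * r * x⁻¹ ∈ (Qg ⊓ Subgroup.centralizer ({z} : Set G)) ⊔
        (Q ⊓ Subgroup.centralizer ({b} : Set G)) ∧
      x⁻¹ * r * x ∈ (Qg ⊓ Subgroup.centralizer ({z} : Set G)) ⊔
        (Q ⊓ Subgroup.centralizer ({b} : Set G))) ?_ ?_ ?_ ?_ ?_ hx
  · intro q hq r hr
    refine ⟨h.Q_conj_R hV hq hr, ?_⟩
    have := h.Q_conj_R hV (Q.inv_mem hq) hr
    simpa using this
  · intro q hq r hr
    rw [sup_comm] at hr ⊢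
    refine ⟨h.symm.Q_conj_R hV' hq hr, ?_⟩
    have := h.symm.Q_conj_R hV' (Qg.inv_mem hq) hr
    simpa using this
  · intro r hr
    simpa using hr
  · intro x x' _ _ ih ih' r hr
    refine ⟨?_, ?_⟩
    · have e : x * x' * r * (x * x')⁻¹ = x * (x' * r * x'⁻¹) * x⁻¹ := by group
      rw [e]
      exact (ih _ (ih' r hr).1).1
    · have e : (x * x')⁻¹ * r * (x * x') = x'⁻¹ * (x⁻¹ * r * x) * x' := by group
      rw [e]
      exact (ih' _ (ih r hr).2).2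
  · intro x _ ih r hr
    refine ⟨?_, ?_⟩
    · have := (ih r hr).2
      simpa using this
    · have := (ih r hr).1
      simpa using this

/-- the braid relation: `y u⁻¹ y u y⁻¹ u⁻¹ ∈ P'`. -/
theorem braid_mem (h : PairCtx Q Qg z b)
    (hQQg : ∀ t : G, t * z * t⁻¹ = b → ∀ q ∈ Q, t * q * t⁻¹ ∈ Qg)
    {y u : G} (hyQ : y ∈ Q) (hyb : y * b * y⁻¹ = z * b) (huQg : u ∈ Qg)
    (huz : u * z * u⁻¹ = b * z) :
    y * u⁻¹ * y * u * y⁻¹ * u⁻¹ ∈ Qg ⊓ Subgroup.centralizer ({z} : Set G) := by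
  have hzb : z * b = b * z := h.zb_comm
  have hzz : z * z = 1 := h.hEz.zz
  have hbb : b * b = 1 := h.hEb.zz
  -- basic actions
  have y_z : y * z * y⁻¹ = z := by rw [h.hEz.zc y hyQ]; group
  have yi_z : y⁻¹ * z * y = z := by
    calc y⁻¹ * z * y = y⁻¹ * (z * y) := by group
      _ = y⁻¹ * (y * z) := by rw [h.hEz.zc y hyQ]
      _ = z := by group
  have yi_b : y⁻¹ * b * y = z * b := h.hEz.inv_conj hyQ hyb
  have u_b : u * b * u⁻¹ = b := by rw [h.hEb.zc u huQg]; group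
  have ui_b : u⁻¹ * b * u = b := by
    calc u⁻¹ * b * u = u⁻¹ * (b * u) := by group
      _ = u⁻¹ * (u * b) := by rw [h.hEb.zc u huQg]
      _ = b := by group
  have ui_z : u⁻¹ * z * u = b * z := h.hEb.inv_conj huQg huz
  have zbz : z * b * z = b := by
    calc z * b * z = b * (z * z) := by rw [hzb]; group
      _ = b := by rw [hzz, mul_one]
  -- the element `t = u y u⁻¹`
  have t_z : (u * y * u⁻¹) * z * (u * y * u⁻¹)⁻¹ = b := by
    calc (u * y * u⁻¹) * z * (u * y * u⁻¹)⁻¹ = u * (y * (u⁻¹ * z * u) * y⁻¹) * u⁻¹ := by group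
      _ = u * (y * (b * z) * y⁻¹) * u⁻¹ := by rw [ui_z]
      _ = u * ((y * b * y⁻¹) * (y * z * y⁻¹)) * u⁻¹ := by group
      _ = u * (z * b * z) * u⁻¹ := by rw [hyb, y_z]
      _ = b := by rw [zbz, u_b]
  have ti_z : (u * y * u⁻¹)⁻¹ * z * (u * y * u⁻¹) = b := by
    calc (u * y * u⁻¹)⁻¹ * z * (u * y * u⁻¹) = u * (y⁻¹ * (u⁻¹ * z * u) * y) * u⁻¹ := by group
      _ = u * (y⁻¹ * (b * z) * y) * u⁻¹ := by rw [ui_z]
      _ = u * ((y⁻¹ * b * y) * (y⁻¹ * z * y)) * u⁻¹ := by group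
      _ = u * (z * b * z) * u⁻¹ := by rw [yi_b, yi_z]
      _ = b := by rw [zbz, u_b]
  have t_b : (u * y * u⁻¹) * b * (u * y * u⁻¹)⁻¹ = z := by
    calc (u * y * u⁻¹) * b * (u * y * u⁻¹)⁻¹ = u * (y * (u⁻¹ * b * u) * y⁻¹) * u⁻¹ := by group
      _ = u * (z * b) * u⁻¹ := by rw [ui_b, hyb]
      _ = (u * z * u⁻¹) * (u * b * u⁻¹) := by group
      _ = b * z * b := by rw [huz, u_b]
      _ = z := by rw [← hzb, mul_assoc, hbb, mul_one]
  have haQg : (u * y * u⁻¹) * y * (u * y * u⁻¹)⁻¹ ∈ Qg := hQQg _ t_z y hyQ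
  have ha_z : ((u * y * u⁻¹) * y * (u * y * u⁻¹)⁻¹) * z * ((u * y * u⁻¹) * y * (u * y * u⁻¹)⁻¹)⁻¹
      = b * z := by
    calc ((u * y * u⁻¹) * y * (u * y * u⁻¹)⁻¹) * z * ((u * y * u⁻¹) * y * (u * y * u⁻¹)⁻¹)⁻¹
        = (u * y * u⁻¹) * (y * ((u * y * u⁻¹)⁻¹ * z * (u * y * u⁻¹)) * y⁻¹) * (u * y * u⁻¹)⁻¹ := by
          group
      _ = (u * y * u⁻¹) * (z * b) * (u * y * u⁻¹)⁻¹ := by rw [ti_z, hyb]
      _ = ((u * y * u⁻¹) * z * (u * y * u⁻¹)⁻¹) * ((u * y * u⁻¹) * b * (u * y * u⁻¹)⁻¹) := by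
          group
      _ = b * z := by rw [t_z, t_b]
  rcases h.hEb.coset_cases h.hzQg huQg huz haQg with h1 | h1
  · exfalso
    apply h.hEb.z1
    have h2 : b * z = z := by
      rw [← ha_z]
      calc ((u * y * u⁻¹) * y * (u * y * u⁻¹)⁻¹) * z * ((u * y * u⁻¹) * y * (u * y * u⁻¹)⁻¹)⁻¹
          = (((u * y * u⁻¹) * y * (u * y * u⁻¹)⁻¹) * z) *
            ((u * y * u⁻¹) * y * (u * y * u⁻¹)⁻¹)⁻¹ := by group
        _ = (z * ((u * y * u⁻¹) * y * (u * y * u⁻¹)⁻¹)) *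
            ((u * y * u⁻¹) * y * (u * y * u⁻¹)⁻¹)⁻¹ := by rw [h1]
        _ = z := by group
    calc b = (b * z) * z⁻¹ := by group
      _ = 1 := by rw [h2]; group
  · have e : u⁻¹ * ((u * y * u⁻¹) * y * (u * y * u⁻¹)⁻¹) = y * u⁻¹ * y * u * y⁻¹ * u⁻¹ := by group
    rw [e] at h1
    refine (mem_P_iff _).mpr ⟨?_, h1⟩
    rw [← e]
    exact Qg.mul_mem (Qg.inv_mem huQg) haQg

end PairCtx

end Cfsg.Agent.Helper90
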