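import Mathlib
import Cfsg.Prelude.Def_MonsterType
import Cfsg.Agent.Helper90.PairCtx3
import Cfsg.Agent.Helper90.CosetEnum
import Cfsg.Agent.Helper90.Basic

set_option autoImplicit false

/-!
`X = ⟨Q, Qg⟩` induces `S₃` on the four-group `V`, with kernel `R`.
-/

namespace Cfsg.Agent.Helper90

open Cfsg

/-- the `p`-core is normal -/
theorem pCore_normal (p : ℕ) (G : Type*) [Group G] : (Cfsg.pCore p G).Normal := by
  have hc : (Cfsg.pCore p G).Characteristic := by
    rw [Subgroup.characteristic_iff_map_le]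
    intro φ
    unfold Cfsg.pCore
    rw [Subgroup.map_le_iff_le_comap]
    refine sSup_le fun N hN => ?_
    rw [← Subgroup.map_le_iff_le_comap]
    refine le_sSup ⟨?_, ?_⟩
    · exact Subgroup.Normal.map hN.1 φ.toMonoidHom φ.surjective
    · exact hN.2.map φ.toMonoidHom
  exact Subgroup.normal_of_characteristic _

/-- case principle on `Fin 3` with numerals -/
theorem fin_three_cases (P : Fin 3 → Prop) (h0 : P 0) (h1 : P 1) (h2 : P 2) : ∀ i, P i := by
  intro i
  fin_cases i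
  · exact h0
  · exact h1
  · exact h2

namespace PairCtx

variable {G : Type*} [Group G] {Q Qg : Subgroup G} {z b : G}

/-- the three involutions of `V` are distinct -/
theorem distinct (h : PairCtx Q Qg z b) :
    z ≠ 1 ∧ b ≠ 1 ∧ z * b ≠ 1 ∧ z ≠ b ∧ z ≠ z * b ∧ b ≠ z * b := by
  have hz1 : z ≠ 1 := h.hEz.z1
  have hb1 : b ≠ 1 := h.hEb.z1
  have hbz : b ≠ z := h.hbz
  refine ⟨hz1, hb1, ?_, hbz.symm, ?_, ?_⟩
  · intro hh
    apply hbz
    calc b = z⁻¹ * (z * b) := by group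
      _ = z⁻¹ := by rw [hh, mul_one]
      _ = z := h.hEz.z_inv
  · intro hh
    apply hb1
    calc b = z⁻¹ * (z * b) := by group
      _ = 1 := by rw [← hh]; group
  · intro hh
    apply hz1
    calc z = (z * b) * b⁻¹ := by group
      _ = 1 := by rw [← hh]; group

/-- `R = C_X(V)`. -/
theorem R_eq_inf_centralizer (h : PairCtx Q Qg z b)
    (hQQg : ∀ t : G, t * z * t⁻¹ = b → ∀ q ∈ Q, t * q * t⁻¹ ∈ Qg)
    {V : Subgroup G} (hV : ∀ x : G, x ∈ V ↔ x = 1 ∨ x = z ∨ x = b ∨ x = z * b) :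
    (Qg ⊓ Subgroup.centralizer ({z} : Set G)) ⊔ (Q ⊓ Subgroup.centralizer ({b} : Set G)) =
      (Q ⊔ Qg) ⊓ Subgroup.centralizer (V : Set G) := by
  obtain ⟨hz1, hb1, hzb1, hzb, hzzb, hbzb⟩ := h.distinct
  have hzbc : z * b = b * z := h.zb_comm
  have hzz : z * z = 1 := h.hEz.zz
  have hbb : b * b = 1 := h.hEb.zz
  have hzV : z ∈ V := (hV z).mpr (Or.inr (Or.inl rfl))
  have hbV : b ∈ V := (hV b).mpr (Or.inr (Or.inr (Or.inl rfl)))
  have hRX : (Qg ⊓ Subgroup.centralizer ({z} : Set G)) ⊔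
      (Q ⊓ Subgroup.centralizer ({b} : Set G)) ≤ Q ⊔ Qg :=
    sup_le (inf_le_left.trans le_sup_right) (inf_le_left.trans le_sup_left)
  apply le_antisymm (le_inf hRX (h.R_le_CV hV))
  rintro x ⟨hxX, hxC⟩
  obtain ⟨y, hyQ, hyb⟩ := h.hEz.exists_conj h.hbQ h.b_not_center
  obtain ⟨u, huQg, huz⟩ := h.hEb.exists_conj h.hzQg h.symm.b_not_center
  have hzR : z ∈ (Qg ⊓ Subgroup.centralizer ({z} : Set G)) ⊔
      (Q ⊓ Subgroup.centralizer ({b} : Set G)) := h.V_le_R hV hzV
  have hbR : b ∈ (Qg ⊓ Subgroup.centralizer ({z} : Set G)) ⊔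
      (Q ⊓ Subgroup.centralizer ({b} : Set G)) := h.V_le_R hV hbV
  obtain ⟨w, hw, hwx⟩ := coset_enum_six
    (R := (Qg ⊓ Subgroup.centralizer ({z} : Set G)) ⊔ (Q ⊓ Subgroup.centralizer ({b} : Set G)))
    (fun k hk r hr => (h.X_conj_R hV hk r hr).1) hyQ huQg
    (fun q hq => by
      rcases h.hEz.coset_cases h.hbQ hyQ hyb hq with h1 | h1
      · exact Or.inl (Subgroup.mem_sup_right ((mem_P_iff q).mpr ⟨hq, h1⟩))
      · exact Or.inr (Subgroup.mem_sup_right
          ((mem_P_iff _).mpr ⟨Q.mul_mem (Q.inv_mem hyQ) hq, h1⟩)))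
    (fun q hq => by
      rcases h.hEb.coset_cases h.hzQg huQg huz hq with h1 | h1
      · exact Or.inl (Subgroup.mem_sup_left ((mem_P_iff q).mpr ⟨hq, h1⟩))
      · exact Or.inr (Subgroup.mem_sup_left
          ((mem_P_iff _).mpr ⟨Qg.mul_mem (Qg.inv_mem huQg) hq, h1⟩)))
    (by
      rcases h.sqQ y hyQ with h1 | h1 <;> rw [h1]
      · exact Subgroup.one_mem _
      · exact hzR)
    (by
      rcases h.sqQg u huQg with h1 | h1 <;> rw [h1]
      · exact Subgroup.one_mem _
      · exact hbR)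
    (Subgroup.mem_sup_left (h.braid_mem hQQg hyQ hyb huQg huz)) hxX
  -- `w` centralizes `V`
  have hwC : w ∈ Subgroup.centralizer (V : Set G) := by
    have h1 := Subgroup.mul_mem _ hxC (Subgroup.inv_mem _ (h.R_le_CV hV hwx))
    have e : x * (w⁻¹ * x)⁻¹ = w := by group
    rwa [e] at h1
  obtain ⟨hwz, hwb⟩ := (mem_centralizer_four hV w).mp hwC
  have hwz' : w * z * w⁻¹ = z := by rw [hwz]; group
  have hwb' : w * b * w⁻¹ = b := by rw [hwb]; group
  have y_z : y * z * y⁻¹ = z := by rw [h.hEz.zc y hyQ]; group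
  have u_b : u * b * u⁻¹ = b := by rw [h.hEb.zc u huQg]; group
  have zbz : z * b * z = b := by
    calc z * b * z = b * (z * z) := by rw [hzbc]; group
      _ = b := by rw [hzz, mul_one]
  have bzb : b * z * b = z := by
    calc b * z * b = z * (b * b) := by rw [← hzbc]; group
      _ = z := by rw [hbb, mul_one]
  rcases hw with rfl | rfl | rfl | rfl | rfl | rfl
  · simpa using hwx
  · exfalso
    rw [hyb] at hwb'
    exact hbzb hwb'.symm
  · exfalso
    rw [huz, ← hzbc] at hwz'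
    exact hzzb hwz'.symm
  · exfalso
    have : y * u * z * (y * u)⁻¹ = b := by
      calc y * u * z * (y * u)⁻¹ = y * (u * z * u⁻¹) * y⁻¹ := by group
        _ = y * (b * z) * y⁻¹ := by rw [huz]
        _ = (y * b * y⁻¹) * (y * z * y⁻¹) := by group
        _ = b := by rw [hyb, y_z, zbz]
    rw [this] at hwz'
    exact hzb hwz'.symm
  · exfalso
    have : u * y * b * (u * y)⁻¹ = z := by
      calc u * y * b * (u * y)⁻¹ = u * (y * b * y⁻¹) * u⁻¹ := by group
        _ = u * (z * b) * u⁻¹ := by rw [hyb]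
        _ = (u * z * u⁻¹) * (u * b * u⁻¹) := by group
        _ = z := by rw [huz, u_b, bzb]
    rw [this] at hwb'
    exact hzb hwb'
  · exfalso
    have : y * u * y * z * (y * u * y)⁻¹ = b := by
      calc y * u * y * z * (y * u * y)⁻¹ = y * (u * (y * z * y⁻¹) * u⁻¹) * y⁻¹ := by group
        _ = y * (b * z) * y⁻¹ := by rw [y_z, huz]
        _ = (y * b * y⁻¹) * (y * z * y⁻¹) := by group
        _ = b := by rw [hyb, y_z, zbz]
    rw [this] at hwz'
    exact hzb hwz'.symm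

end PairCtx

end Cfsg.Agent.Helper90
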