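import Mathlib
import Cfsg.Prelude.Def_MonsterType
import Cfsg.Agent.Helper90.PairCtx4

set_option autoImplicit false

/-!
The main structure theorem for `X = ⟨Q, Qg⟩` and `N(V)`.
-/

namespace Cfsg.Agent.Helper90

open Cfsg

namespace PairCtx

variable {G : Type*} [Group G] {Q Qg : Subgroup G} {z b : G}

theorem sym3_main [Finite G] (h : PairCtx Q Qg z b)
    (hQQg : ∀ t : G, t * z * t⁻¹ = b → ∀ q ∈ Q, t * q * t⁻¹ ∈ Qg)
    (h2Q : IsPGroup 2 Q) (h2Qg : IsPGroup 2 Qg)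
    {V X R : Subgroup G} (hV : ∀ x : G, x ∈ V ↔ x = 1 ∨ x = z ∨ x = b ∨ x = z * b)
    (hX : X = Q ⊔ Qg)
    (hR : R = (Qg ⊓ Subgroup.centralizer ({z} : Set G)) ⊔
      (Q ⊓ Subgroup.centralizer ({b} : Set G))) :
    R = X ⊓ Subgroup.centralizer (V : Set G) ∧ R = (Cfsg.pCore 2 ↥X).map X.subtype ∧
    (∃ h : (R.subgroupOf X).Normal, Nonempty (↥X ⧸ R.subgroupOf X ≃* Equiv.Perm (Fin 3))) ∧
    Subgroup.normalizer (V : Set G) =
      X ⊔ (Subgroup.centralizer ({z} : Set G) ⊓ Subgroup.centralizer (V : Set G)) ∧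
    (∀ y ∈ Subgroup.normalizer (V : Set G), ∀ x ∈ X, y * x * y⁻¹ ∈ X) ∧
    R ≤ Subgroup.centralizer ({z} : Set G) ⊓ Subgroup.centralizer (V : Set G) ∧
    (∀ x ∈ X, ∀ c ∈ Subgroup.centralizer ({z} : Set G) ⊓ Subgroup.centralizer (V : Set G),
      x * c * x⁻¹ * c⁻¹ ∈ R) ∧
    X ⊓ (Subgroup.centralizer ({z} : Set G) ⊓ Subgroup.centralizer (V : Set G)) = R := by
  classical
  obtain ⟨hz1, hb1, hzb1, hzb, hzzb, hbzb⟩ := h.distinct
  have hzbc : z * b = b * z := h.zb_comm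
  have hzz : z * z = 1 := h.hEz.zz
  have hbb : b * b = 1 := h.hEb.zz
  have hzV : z ∈ V := (hV z).mpr (Or.inr (Or.inl rfl))
  have hbV : b ∈ V := (hV b).mpr (Or.inr (Or.inr (Or.inl rfl)))
  have hzbV : z * b ∈ V := V.mul_mem hzV hbV
  have hpart1 : R = X ⊓ Subgroup.centralizer (V : Set G) := by
    rw [hX, hR]; exact h.R_eq_inf_centralizer hQQg hV
  have hRX : R ≤ X := by rw [hpart1]; exact inf_le_left
  have hRCV : R ≤ Subgroup.centralizer (V : Set G) := by rw [hpart1]; exact inf_le_right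
  have hCVz : Subgroup.centralizer (V : Set G) ≤ Subgroup.centralizer ({z} : Set G) :=
    Subgroup.centralizer_le (Set.singleton_subset_iff.mpr hzV)
  have hXN : X ≤ Subgroup.normalizer (V : Set G) := by
    intro x hx
    rw [hX] at hx
    exact mem_normalizer_of_conj_mem V x (fun v hv => (h.X_conj_V_and_comm hV hx).1 v hv)
  have hXinv : ∀ x ∈ X, ∀ v ∈ V, x⁻¹ * v * x ∈ V := by
    intro x hx
    rw [hX] at hx
    exact h.X_inv_conj_V hV hx
  obtain ⟨y, hyQ, hyb⟩ := h.hEz.exists_conj h.hbQ h.b_not_center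
  obtain ⟨u, huQg, huz⟩ := h.hEb.exists_conj h.hzQg h.symm.b_not_center
  have hyX : y ∈ X := by rw [hX]; exact Subgroup.mem_sup_left hyQ
  have huX : u ∈ X := by rw [hX]; exact Subgroup.mem_sup_right huQg
  have y_z : y * z * y⁻¹ = z := by rw [h.hEz.zc y hyQ]; group
  have u_b : u * b * u⁻¹ = b := by rw [h.hEb.zc u huQg]; group
  have zbz : z * b * z = b := by
    calc z * b * z = b * (z * z) := by rw [hzbc]; group
      _ = b := by rw [hzz, mul_one]
  have bzb : b * z * b = z := by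
    calc b * z * b = z * (b * b) := by rw [← hzbc]; group
      _ = z := by rw [hbb, mul_one]
  have y_zb : y * (z * b) * y⁻¹ = b := by
    calc y * (z * b) * y⁻¹ = (y * z * y⁻¹) * (y * b * y⁻¹) := by group
      _ = z * (z * b) := by rw [y_z, hyb]
      _ = b := by rw [← mul_assoc, hzz, one_mul]
  have u_zb : u * (z * b) * u⁻¹ = z := by
    calc u * (z * b) * u⁻¹ = (u * z * u⁻¹) * (u * b * u⁻¹) := by group
      _ = b * z * b := by rw [huz, u_b]
      _ = z := bzb
  -- the permutation representation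
  obtain ⟨f, hf0, hf1, hf2⟩ : ∃ f : Fin 3 → G, f 0 = z ∧ f 1 = b ∧ f 2 = z * b :=
    ⟨![z, b, z * b], rfl, rfl, rfl⟩
  have hfinj : Function.Injective f := by
    intro i j
    revert j
    revert i
    refine fin_three_cases _ ?_ ?_ ?_ <;> refine fin_three_cases _ ?_ ?_ ?_ <;> intro hij
    · rfl
    · rw [hf0, hf1] at hij; exact absurd hij hzb
    · rw [hf0, hf2] at hij; exact absurd hij hzzb
    · rw [hf0, hf1] at hij; exact absurd hij.symm hzb
    · rfl
    · rw [hf1, hf2] at hij; exact absurd hij hbzb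
    · rw [hf0, hf2] at hij; exact absurd hij.symm hzzb
    · rw [hf1, hf2] at hij; exact absurd hij.symm hbzb
    · rfl
  have hfV : ∀ i, f i ∈ V ∧ f i ≠ 1 := by
    refine fin_three_cases _ ?_ ?_ ?_
    · rw [hf0]; exact ⟨hzV, hz1⟩
    · rw [hf1]; exact ⟨hbV, hb1⟩
    · rw [hf2]; exact ⟨hzbV, hzb1⟩
  have hVf : ∀ v ∈ V, v ≠ 1 → ∃ j, v = f j := by
    intro v hv hv1
    rcases (hV v).mp hv with h1 | h1 | h1 | h1
    · exact absurd h1 hv1
    · exact ⟨0, by rw [hf0]; exact h1⟩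
    · exact ⟨1, by rw [hf1]; exact h1⟩
    · exact ⟨2, by rw [hf2]; exact h1⟩
  obtain ⟨φ, hφ⟩ := exists_permHom_of_conj (Subgroup.normalizer (V : Set G)) f hfinj (by
    intro n hn i
    apply hVf _ (conj_mem_of_mem_normalizer hn (hfV i).1)
    intro h1
    apply (hfV i).2
    calc f i = n⁻¹ * (n * f i * n⁻¹) * n := by group
      _ = 1 := by rw [h1]; group)
  have hker : ∀ n : ↥(Subgroup.normalizer (V : Set G)),
      φ n = 1 ↔ (n : G) ∈ Subgroup.centralizer (V : Set G) := by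
    intro n
    rw [mem_centralizer_four hV]
    constructor
    · intro h1
      have e0 := hφ n 0
      have e1 := hφ n 1
      rw [h1, Equiv.Perm.one_apply, hf0] at e0
      rw [h1, Equiv.Perm.one_apply, hf1] at e1
      constructor
      · calc (n : G) * z = ((n : G) * z * (n : G)⁻¹) * n := by group
          _ = z * n := by rw [← e0]
      · calc (n : G) * b = ((n : G) * b * (n : G)⁻¹) * n := by group
          _ = b * n := by rw [← e1]
    · rintro ⟨h1, h2⟩
      have h1' : (n : G) * z * (n : G)⁻¹ = z := by rw [h1]; group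
      have h2' : (n : G) * b * (n : G)⁻¹ = b := by rw [h2]; group
      apply Equiv.ext
      refine fin_three_cases _ ?_ ?_ ?_
      · apply hfinj; rw [hφ, Equiv.Perm.one_apply, hf0, h1']
      · apply hfinj; rw [hφ, Equiv.Perm.one_apply, hf1, h2']
      · apply hfinj
        rw [hφ, Equiv.Perm.one_apply, hf2]
        calc (n : G) * (z * b) * (n : G)⁻¹
            = ((n : G) * z * (n : G)⁻¹) * ((n : G) * b * (n : G)⁻¹) := by group
          _ = z * b := by rw [h1', h2']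
  have hyN : y ∈ Subgroup.normalizer (V : Set G) := hXN hyX
  have huN : u ∈ Subgroup.normalizer (V : Set G) := hXN huX
  have s120 : Equiv.swap (1 : Fin 3) 2 0 = 0 := by decide
  have s121 : Equiv.swap (1 : Fin 3) 2 1 = 2 := by decide
  have s122 : Equiv.swap (1 : Fin 3) 2 2 = 1 := by decide
  have s020 : Equiv.swap (0 : Fin 3) 2 0 = 2 := by decide
  have s021 : Equiv.swap (0 : Fin 3) 2 1 = 1 := by decide
  have s022 : Equiv.swap (0 : Fin 3) 2 2 = 0 := by decide
  have hφy : φ ⟨y, hyN⟩ = Equiv.swap 1 2 := by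
    apply Equiv.ext
    refine fin_three_cases _ ?_ ?_ ?_
    · apply hfinj; rw [hφ, s120, hf0]; exact y_z
    · apply hfinj; rw [hφ, s121, hf1, hf2]; exact hyb
    · apply hfinj; rw [hφ, s122, hf2, hf1]; exact y_zb
  have hφu : φ ⟨u, huN⟩ = Equiv.swap 0 2 := by
    apply Equiv.ext
    refine fin_three_cases _ ?_ ?_ ?_
    · apply hfinj; rw [hφ, s020, hf0, hf2, hzbc]; exact huz
    · apply hfinj; rw [hφ, s021, hf1]; exact u_b
    · apply hfinj; rw [hφ, s022, hf2, hf0]; exact u_zb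
  have hsurjX : ∀ σ : Equiv.Perm (Fin 3), ∃ x, ∃ _ : x ∈ X,
      ∃ hx : x ∈ Subgroup.normalizer (V : Set G), φ ⟨x, hx⟩ = σ := by
    intro σ
    rcases perm_fin_three_enum σ with rfl | rfl | rfl | rfl | rfl | rfl
    · exact ⟨1, X.one_mem, Subgroup.one_mem _, map_one φ⟩
    · exact ⟨y, hyX, hyN, hφy⟩
    · exact ⟨u, huX, huN, hφu⟩
    · refine ⟨y * u, X.mul_mem hyX huX, Subgroup.mul_mem _ hyN huN, ?_⟩
      rw [← hφy, ← hφu, ← map_mul]; rfl
    · refine ⟨u * y, X.mul_mem huX hyX, Subgroup.mul_mem _ huN hyN, ?_⟩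
      rw [← hφy, ← hφu, ← map_mul]; rfl
    · refine ⟨y * u * y, X.mul_mem (X.mul_mem hyX huX) hyX,
        Subgroup.mul_mem _ (Subgroup.mul_mem _ hyN huN) hyN, ?_⟩
      rw [← hφy, ← hφu, ← map_mul, ← map_mul]; rfl
  -- part 4
  have hpart4 : Subgroup.normalizer (V : Set G) =
      X ⊔ (Subgroup.centralizer ({z} : Set G) ⊓ Subgroup.centralizer (V : Set G)) := by
    apply le_antisymm
    · intro n hn
      obtain ⟨x, hxX, hxN, hφx⟩ := hsurjX (φ ⟨n, hn⟩)
      have h1 : φ (⟨x, hxN⟩⁻¹ * ⟨n, hn⟩) = 1 := by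
        rw [map_mul, map_inv, hφx, inv_mul_cancel]
      rw [hker] at h1
      have h2 : x⁻¹ * n ∈ Subgroup.centralizer (V : Set G) := h1
      have e : n = x * (x⁻¹ * n) := by group
      rw [e]
      exact Subgroup.mul_mem_sup hxX ⟨hCVz h2, h2⟩
    · exact sup_le hXN (inf_le_right.trans (Subgroup.centralizer_le_normalizer _))
  -- `C(V)` normalizes `X`
  have hCX : ∀ c ∈ Subgroup.centralizer (V : Set G), ∀ x ∈ X, c * x * c⁻¹ ∈ X := by
    intro c hc x hx
    obtain ⟨hcz, hcb⟩ := (mem_centralizer_four hV c).mp hc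
    rw [hX] at hx ⊢
    refine sup_induction' (p := fun x => c * x * c⁻¹ ∈ Q ⊔ Qg) ?_ ?_ ?_ ?_ ?_ hx
    · intro q hq
      exact Subgroup.mem_sup_left (conj_mem_of_mem_normalizer (h.normQ c hcz) hq)
    · intro q hq
      exact Subgroup.mem_sup_right (conj_mem_of_mem_normalizer (h.normQg c hcb) hq)
    · simp
    · intro r r' _ _ ih ih'
      have e : c * (r * r') * c⁻¹ = (c * r * c⁻¹) * (c * r' * c⁻¹) := by group
      rw [e]; exact Subgroup.mul_mem _ ih ih'
    · intro r _ ih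
      have e : c * r⁻¹ * c⁻¹ = (c * r * c⁻¹)⁻¹ := by group
      rw [e]; exact Subgroup.inv_mem _ ih
  have hpart5 : ∀ n ∈ Subgroup.normalizer (V : Set G), ∀ x ∈ X, n * x * n⁻¹ ∈ X := by
    intro n hn x hx
    have hle : X ⊔ (Subgroup.centralizer ({z} : Set G) ⊓ Subgroup.centralizer (V : Set G)) ≤
        Subgroup.normalizer (X : Set G) := by
      apply sup_le Subgroup.le_normalizer
      intro c hc
      exact mem_normalizer_of_conj_mem X c (hCX c hc.2)
    rw [hpart4] at hn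
    exact conj_mem_of_mem_normalizer (hle hn) hx
  have hpart7 : ∀ x ∈ X, ∀ c ∈ Subgroup.centralizer ({z} : Set G) ⊓
      Subgroup.centralizer (V : Set G), x * c * x⁻¹ * c⁻¹ ∈ R := by
    intro x hx c hc
    rw [hpart1]
    refine ⟨?_, ?_⟩
    · have h1 := hCX c hc.2 x⁻¹ (X.inv_mem hx)
      have e : x * c * x⁻¹ * c⁻¹ = x * (c * x⁻¹ * c⁻¹) := by group
      rw [e]; exact X.mul_mem hx h1
    · exact Subgroup.mul_mem _ (conj_mem_centralizer (hXinv x hx) hc.2)
        (Subgroup.inv_mem _ hc.2)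
  have hpart8 : X ⊓ (Subgroup.centralizer ({z} : Set G) ⊓ Subgroup.centralizer (V : Set G))
      = R := by
    rw [hpart1]
    ext k
    simp only [Subgroup.mem_inf]
    constructor
    · rintro ⟨h1, _, h3⟩; exact ⟨h1, h3⟩
    · rintro ⟨h1, h3⟩; exact ⟨h1, hCVz h3, h3⟩
  -- the homomorphism on `X`
  obtain ⟨φX, hφX⟩ : ∃ φX : ↥X →* Equiv.Perm (Fin 3),
      ∀ x : ↥X, φX x = φ ⟨(x : G), hXN x.2⟩ :=
    ⟨φ.comp (Subgroup.inclusion hXN), fun x => rfl⟩
  have hsurj : Function.Surjective φX := by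
    intro σ
    obtain ⟨x, hxX, hxN, hφx⟩ := hsurjX σ
    exact ⟨⟨x, hxX⟩, by rw [hφX]; exact hφx⟩
  have hkerX : φX.ker = R.subgroupOf X := by
    ext x
    rw [MonoidHom.mem_ker, Subgroup.mem_subgroupOf, hφX, hker, hpart1]
    exact ⟨fun h1 => ⟨x.2, h1⟩, fun h1 => h1.2⟩
  have hRn : (R.subgroupOf X).Normal := hkerX ▸ MonoidHom.normal_ker φX
  have hpart3 : ∃ h : (R.subgroupOf X).Normal,
      Nonempty (↥X ⧸ R.subgroupOf X ≃* Equiv.Perm (Fin 3)) := by
    rw [← hkerX]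
    exact ⟨MonoidHom.normal_ker φX, ⟨QuotientGroup.quotientKerEquivOfSurjective φX hsurj⟩⟩
  have hpart2 : R = (Cfsg.pCore 2 ↥X).map X.subtype := by
    have hR2 : IsPGroup 2 R := by
      rw [hR]
      exact IsPGroup.to_sup_of_normal_right' (h2Qg.to_le inf_le_left) (h2Q.to_le inf_le_left)
        h.P'_le_normalizer_P
    have h1 : R.subgroupOf X ≤ Cfsg.pCore 2 ↥X := le_sSup ⟨hRn, hR2.comap_subtype⟩
    have h2 : Cfsg.pCore 2 ↥X ≤ R.subgroupOf X := by
      have hbot := perm_fin_three_normal_two_group ((Cfsg.pCore 2 ↥X).map φX)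
        ((pCore_normal 2 ↥X).map φX hsurj) ((pCore_isPGroup 2 ↥X).map φX)
      rw [← hkerX]
      exact (Subgroup.map_eq_bot_iff _).mp hbot
    rw [le_antisymm h2 h1, Subgroup.map_subgroupOf_eq_of_le hRX]
  exact ⟨hpart1, hpart2, hpart3, hpart4, hpart5, le_inf (hRCV.trans hCVz) hRCV, hpart7, hpart8⟩

end PairCtx

end Cfsg.Agent.Helper90
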