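import Cfsg.Agent.Helper90.PsuM_EWApi
import Cfsg.Agent.Helper96.StLift.Basic

/-!
helper90 for helper43 (S2089 block I-even, farm #14748): piece (EW1) `Qsub_le_comm_Tij` of
`tools/helper43_psum/EvSkelB.lean.txt`.
-/

set_option autoImplicit false

namespace Cfsg.Agent.Helper90.PsuM

open Matrix
open scoped commutatorElement
open Cfsg.Agent.Helper96.StLift
open Cfsg.Agent.Helper43.PsuM.Ev

universe u

variable {K : Type u} [Field K] [Fintype K] {q : ℕ} {σ : K →+* K} {m : ℕ}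

/-- (EW1) the torus part `Tij σ i j` has no fixed points on any root group of `Qsub`. -/
theorem Qsub_le_comm_Tij (hK : Fintype.card K = q ^ 2) (hσq : ∀ x, σ x = x ^ q) (hm : 2 ≤ m)
    (hq : 3 ≤ q) (h23 : ¬ (m = 2 ∧ q = 3)) (h33 : ¬ (m = 3 ∧ q = 3)) (i j : Fin m) (hij : i ≠ j) :
    Qsub m σ ≤ ⁅Qsub m σ, Tij σ i j⁆ :=
  EW1_core (EW_api (EW_field hK hσq hq).1) hK hσq hm hq h23 h33 i j hij

end Cfsg.Agent.Helper90.PsuM
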