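import Cfsg.Agent.Helper90.PsuM_EWCore
import Cfsg.Agent.Helper55.PsuM_AROOTa
import Cfsg.Agent.Helper41.PsuM_AROOTb
import Cfsg.Agent.Helper33.PsuM_AT
import Cfsg.Agent.Helper66.PsuM_EXL

/-!
helper90 for helper43 (S2089 block I-even, farm #14748): the API facts used by (EW1), (EW2), from the
landed pieces of farm #14693.
-/

set_option autoImplicit false

namespace Cfsg.Agent.Helper90.PsuM

open Matrix
open scoped commutatorElement
open Cfsg.Agent.Helper43.PsuM.Ev

universe u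

variable {K : Type u} [Field K] {σ : K →+* K} {m : ℕ}

theorem EW_api (hσ : ∀ x, σ (σ x) = x) : EW_Api m σ where
  cl := Cfsg.Agent.Helper55.PsuM.Qsub_le_closure hσ
  zQ := fun a c _ => Cfsg.Agent.Helper66.PsuM.EXL_qE_mem_Qsub _
  cQ := fun a b _ t => Cfsg.Agent.Helper66.PsuM.EXL_qE_mem_Qsub _
  tij := fun d hd hdet i j hij => Cfsg.Agent.Helper33.PsuM.tE_mem_Tij hσ d hd hdet i j hij
  conjz := fun d hd hdet a c hc => Cfsg.Agent.Helper41.PsuM.tE_conj_zE hσ d hd hdet a hc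
  conjc := fun d hd hdet a b hab t => Cfsg.Agent.Helper41.PsuM.tE_conj_cE hσ d hd hdet hab t
  zadd := fun a c c' hc hc' => Cfsg.Agent.Helper55.PsuM.zE_add a hc hc'
  cadd := fun a b hab t t' => Cfsg.Agent.Helper55.PsuM.cE_add hσ hab t t'

end Cfsg.Agent.Helper90.PsuM
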