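import Cfsg.Agent.Helper43.PsuM.EvDefs

/-!
helper90 for helper43 (S2089 block I-even, farm #14748): core of the pieces (EW1), (EW2) of
`tools/helper43_psum/EvSkelB.lean.txt`: root groups of `Qsub` are commutators with suitable torus
elements.  The facts about the model that are needed are collected in the structure `EW_Api`.
-/

set_option autoImplicit false

namespace Cfsg.Agent.Helper90.PsuM

open Matrix
open scoped commutatorElement
open Cfsg.Agent.Helper43.PsuM.Ev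

universe u

variable {K : Type u} [Field K] {σ : K →+* K} {m : ℕ}

/-- the facts about the model `SUe m σ` used below -/
structure EW_Api (m : ℕ) (σ : K →+* K) : Prop where
  cl : Qsub m σ ≤ Subgroup.closure ({g | ∃ i : Fin m, ∃ c : K, σ c + c = 0 ∧ g = zE σ i c} ∪
      {g | ∃ i j : Fin m, i ≠ j ∧ ∃ t : K, g = cE σ i j t})
  zQ : ∀ (a : Fin m) (c : K), σ c + c = 0 → zE σ a c ∈ Qsub m σ
  cQ : ∀ (a b : Fin m), a ≠ b → ∀ t : K, cE σ a b t ∈ Qsub m σ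
  tij : ∀ (d : Fin m → K), (∀ l, d l ≠ 0) → σ (∏ l, d l) = ∏ l, d l → ∀ i j : Fin m, d i = d j →
    tE σ d ∈ Tij σ i j
  conjz : ∀ (d : Fin m → K), (∀ l, d l ≠ 0) → σ (∏ l, d l) = ∏ l, d l → ∀ (a : Fin m) (c : K),
    σ c + c = 0 → tE σ d * zE σ a c * (tE σ d)⁻¹ = zE σ a (d a * σ (d a) * c)
  conjc : ∀ (d : Fin m → K), (∀ l, d l ≠ 0) → σ (∏ l, d l) = ∏ l, d l → ∀ (a b : Fin m), a ≠ b →
    ∀ t : K, tE σ d * cE σ a b t * (tE σ d)⁻¹ = cE σ a b (d a * σ (d b) * t)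
  zadd : ∀ (a : Fin m) (c c' : K), σ c + c = 0 → σ c' + c' = 0 →
    zE σ a (c + c') = zE σ a c * zE σ a c'
  cadd : ∀ (a b : Fin m), a ≠ b → ∀ t t' : K, cE σ a b (t + t') = cE σ a b t * cE σ a b t'

/-- a one-parameter group on which `h` acts with weight `w ≠ 1` lies in the commutator -/
theorem EW_gen {G : Type*} [Group G] (X T : Subgroup G) (h : G) (hT : h ∈ T) (P : K → Prop)
    (f : K → G) (hP0 : P 0) (hPneg : ∀ c, P c → P (-c))
    (hf : ∀ c c', P c → P c' → f (c + c') = f c * f c') (hX : ∀ c, P c → f c ∈ X) (w : K)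
    (hw : w ≠ 1) (hPw : ∀ c, P c → P (w * c)) (hPu : ∀ c, P c → P ((1 - w)⁻¹ * c))
    (hconj : ∀ c, P c → h * f c * h⁻¹ = f (w * c)) : ∀ c', P c' → f c' ∈ ⁅X, T⁆ := by
  have h0 : f 0 = 1 := by
    have := hf 0 0 hP0 hP0
    rw [add_zero] at this
    exact mul_eq_left.mp this.symm
  have hneg : ∀ c, P c → f (-c) = (f c)⁻¹ := by
    intro c hc
    have := hf c (-c) hc (hPneg c hc)
    rw [add_neg_cancel, h0] at this
    exact eq_inv_of_mul_eq_one_right this.symm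
  intro c' hc'
  have h1w : (1 - w) ≠ 0 := sub_ne_zero.mpr (Ne.symm hw)
  have hPc : P ((1 - w)⁻¹ * c') := hPu c' hc'
  have hmem : ⁅f ((1 - w)⁻¹ * c'), h⁆ ∈ ⁅X, T⁆ :=
    Subgroup.commutator_mem_commutator (hX _ hPc) hT
  have e : ⁅f ((1 - w)⁻¹ * c'), h⁆ = f c' := by
    rw [commutatorElement_def]
    have e1 : f ((1 - w)⁻¹ * c') * h * (f ((1 - w)⁻¹ * c'))⁻¹ * h⁻¹ =
        f ((1 - w)⁻¹ * c') * (h * f ((1 - w)⁻¹ * c') * h⁻¹)⁻¹ := by group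
    rw [e1, hconj _ hPc, ← hneg _ (hPw _ hPc), ← hf _ _ hPc (hPneg _ (hPw _ hPc))]
    congr 1
    field_simp
    ring
  rw [← e]
  exact hmem

/-- long root groups -/
theorem EW_long (api : EW_Api m σ) (hσ : ∀ x, σ (σ x) = x) (X T : Subgroup (SUe m σ)) (a : Fin m)
    (hX : ∀ c, σ c + c = 0 → zE σ a c ∈ X)
    (d : Fin m → K) (hd : ∀ l, d l ≠ 0) (hdet : σ (∏ l, d l) = ∏ l, d l) (hT : tE σ d ∈ T)
    (hw : d a * σ (d a) ≠ 1) : ∀ c', σ c' + c' = 0 → zE σ a c' ∈ ⁅X, T⁆ := by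
  have hwσ : σ (d a * σ (d a)) = d a * σ (d a) := by rw [map_mul, hσ, mul_comm]
  refine EW_gen X T (tE σ d) hT (fun c => σ c + c = 0) (fun c => zE σ a c) ?_ ?_ ?_ hX
    (d a * σ (d a)) hw ?_ ?_ ?_
  · show σ 0 + 0 = 0
    rw [map_zero, add_zero]
  · intro c hc
    show σ (-c) + -c = 0
    rw [map_neg, ← neg_add, hc, neg_zero]
  · intro c c' hc hc'
    exact api.zadd a c c' hc hc'
  · intro c hc
    show σ (d a * σ (d a) * c) + d a * σ (d a) * c = 0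
    rw [map_mul, hwσ, ← mul_add, hc, mul_zero]
  · intro c hc
    show σ ((1 - d a * σ (d a))⁻¹ * c) + (1 - d a * σ (d a))⁻¹ * c = 0
    rw [map_mul, map_inv₀, map_sub, map_one, hwσ, ← mul_add, hc, mul_zero]
  · intro c hc
    exact api.conjz d hd hdet a c hc

/-- short root groups -/
theorem EW_short (api : EW_Api m σ) (X T : Subgroup (SUe m σ)) (a b : Fin m) (hab : a ≠ b)
    (hX : ∀ t, cE σ a b t ∈ X)
    (d : Fin m → K) (hd : ∀ l, d l ≠ 0) (hdet : σ (∏ l, d l) = ∏ l, d l) (hT : tE σ d ∈ T)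
    (hw : d a * σ (d b) ≠ 1) : ∀ t', cE σ a b t' ∈ ⁅X, T⁆ := by
  intro t'
  exact EW_gen X T (tE σ d) hT (fun _ => True) (fun t => cE σ a b t) trivial (fun _ _ => trivial)
    (fun t t' _ _ => api.cadd a b hab t t') (fun t _ => hX t) (d a * σ (d b)) hw
    (fun _ _ => trivial) (fun _ _ => trivial) (fun t _ => api.conjc d hd hdet a b hab t) t' trivial

/-- field facts: `σ` is an involution, and there is `g` with `N g ≠ 1` (and `(N g)² ≠ 1` if `q ≥ 4`) -/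
theorem EW_field [Fintype K] {q : ℕ} (hK : Fintype.card K = q ^ 2) (hσq : ∀ x, σ x = x ^ q)
    (hq : 3 ≤ q) :
    (∀ x, σ (σ x) = x) ∧ ∃ g : K, g ≠ 0 ∧ g * σ g ≠ 1 ∧
      (4 ≤ q → (g * σ g) * (g * σ g) ≠ 1) := by
  classical
  have hσ : ∀ x, σ (σ x) = x := by
    intro x
    rw [hσq, hσq, ← pow_mul, ← sq, ← hK, FiniteField.pow_card]
  refine ⟨hσ, ?_⟩
  obtain ⟨g, hg⟩ := IsCyclic.exists_generator (α := Kˣ)
  have hord : orderOf g = q ^ 2 - 1 := by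
    rw [orderOf_eq_card_of_forall_mem_zpowers hg, Nat.card_eq_fintype_card, Fintype.card_units, hK]
  have hq2 : 3 * q ≤ q ^ 2 := by nlinarith
  refine ⟨(g : K), g.ne_zero, ?_, ?_⟩
  · rw [hσq, ← pow_succ']
    intro h1
    have h2 : g ^ (q + 1) = 1 := Units.ext (by rw [Units.val_pow_eq_pow_val]; exact h1)
    have hd := orderOf_dvd_of_pow_eq_one h2
    rw [hord] at hd
    have h3 := Nat.le_of_dvd (by omega) hd
    omega
  · intro h4 h1
    rw [hσq, ← pow_succ', ← pow_add] at h1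
    have h2 : g ^ (q + 1 + (q + 1)) = 1 := Units.ext (by rw [Units.val_pow_eq_pow_val]; exact h1)
    have hd := orderOf_dvd_of_pow_eq_one h2
    rw [hord] at hd
    have h3 := Nat.le_of_dvd (by omega) hd
    have hq3 : 4 * q ≤ q ^ 2 := by nlinarith
    omega

/-! ### torus data -/

theorem EW_ms_ne_zero (a : Fin m) {x : K} (hx : x ≠ 0) (l : Fin m) :
    (Pi.mulSingle a x : Fin m → K) l ≠ 0 := by
  rw [Pi.mulSingle_apply]
  split_ifs
  · exact hx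
  · exact one_ne_zero

/-- `d i = d j = e` with `N e ≠ 1` -/
theorem EW_data_pair {q : ℕ} (hσ : ∀ x, σ (σ x) = x) {i j : Fin m} (hij : i ≠ j) {g : K}
    (hg0 : g ≠ 0) (hg1 : g * σ g ≠ 1) (hg2 : 4 ≤ q → (g * σ g) * (g * σ g) ≠ 1)
    (h3 : 4 ≤ q ∨ ∃ l₀ : Fin m, l₀ ≠ i ∧ l₀ ≠ j) :
    ∃ d : Fin m → K, (∀ l, d l ≠ 0) ∧ σ (∏ l, d l) = ∏ l, d l ∧ d i = d j ∧
      d i * σ (d i) ≠ 1 := by
  have hσg : σ g ≠ 0 := fun h => hg0 (by rw [← hσ g, h, map_zero])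
  have hs0 : g * σ g ≠ 0 := mul_ne_zero hg0 hσg
  have hsσ : σ (g * σ g) = g * σ g := by rw [map_mul, hσ, mul_comm]
  rcases h3 with h4 | ⟨l₀, hl₀i, hl₀j⟩
  · refine ⟨Pi.mulSingle i (g * σ g) * Pi.mulSingle j (g * σ g), ?_, ?_, ?_, ?_⟩
    · intro l
      rw [Pi.mul_apply]
      exact mul_ne_zero (EW_ms_ne_zero i hs0 l) (EW_ms_ne_zero j hs0 l)
    · simp only [Pi.mul_apply]
      rw [Finset.prod_mul_distrib, Fintype.prod_pi_mulSingle', Fintype.prod_pi_mulSingle', map_mul,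
        hsσ]
    · rw [Pi.mul_apply, Pi.mul_apply, Pi.mulSingle_eq_same, Pi.mulSingle_eq_same,
        Pi.mulSingle_eq_of_ne hij, Pi.mulSingle_eq_of_ne hij.symm, mul_one, one_mul]
    · rw [Pi.mul_apply, Pi.mulSingle_eq_same, Pi.mulSingle_eq_of_ne hij, mul_one, hsσ]
      exact hg2 h4
  · have hgi : g⁻¹ * g⁻¹ ≠ 0 := mul_ne_zero (inv_ne_zero hg0) (inv_ne_zero hg0)
    refine ⟨Pi.mulSingle i g * Pi.mulSingle j g * Pi.mulSingle l₀ (g⁻¹ * g⁻¹), ?_, ?_, ?_, ?_⟩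
    · intro l
      rw [Pi.mul_apply, Pi.mul_apply]
      exact mul_ne_zero (mul_ne_zero (EW_ms_ne_zero i hg0 l) (EW_ms_ne_zero j hg0 l))
        (EW_ms_ne_zero l₀ hgi l)
    · simp only [Pi.mul_apply]
      rw [Finset.prod_mul_distrib, Finset.prod_mul_distrib, Fintype.prod_pi_mulSingle',
        Fintype.prod_pi_mulSingle', Fintype.prod_pi_mulSingle']
      have e : g * g * (g⁻¹ * g⁻¹) = 1 := by field_simp
      rw [e, map_one]
    · rw [Pi.mul_apply, Pi.mul_apply, Pi.mul_apply, Pi.mul_apply, Pi.mulSingle_eq_same,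
        Pi.mulSingle_eq_same, Pi.mulSingle_eq_of_ne hij, Pi.mulSingle_eq_of_ne hij.symm,
        Pi.mulSingle_eq_of_ne hl₀i.symm, Pi.mulSingle_eq_of_ne hl₀j.symm, mul_one, one_mul]
    · rw [Pi.mul_apply, Pi.mul_apply, Pi.mulSingle_eq_same, Pi.mulSingle_eq_of_ne hij,
        Pi.mulSingle_eq_of_ne hl₀i.symm, mul_one, mul_one]
      exact hg1

/-- `d i = d j = 1`, `d a = e` with `N e ≠ 1` -/
theorem EW_data_outer {q : ℕ} (hσ : ∀ x, σ (σ x) = x) {i j a : Fin m} (hai : a ≠ i) (haj : a ≠ j)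
    {g : K} (hg0 : g ≠ 0) (hg1 : g * σ g ≠ 1) (hg2 : 4 ≤ q → (g * σ g) * (g * σ g) ≠ 1)
    (h4 : 4 ≤ q ∨ ∃ l₀ : Fin m, l₀ ≠ i ∧ l₀ ≠ j ∧ l₀ ≠ a) :
    ∃ d : Fin m → K, (∀ l, d l ≠ 0) ∧ σ (∏ l, d l) = ∏ l, d l ∧ d i = d j ∧
      d a * σ (d a) ≠ 1 := by
  have hσg : σ g ≠ 0 := fun h => hg0 (by rw [← hσ g, h, map_zero])
  have hs0 : g * σ g ≠ 0 := mul_ne_zero hg0 hσg
  have hsσ : σ (g * σ g) = g * σ g := by rw [map_mul, hσ, mul_comm]
  rcases h4 with h4 | ⟨l₀, hl₀i, hl₀j, hl₀a⟩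
  · refine ⟨Pi.mulSingle a (g * σ g), ?_, ?_, ?_, ?_⟩
    · exact EW_ms_ne_zero a hs0
    · rw [Fintype.prod_pi_mulSingle', hsσ]
    · rw [Pi.mulSingle_eq_of_ne hai.symm, Pi.mulSingle_eq_of_ne haj.symm]
    · rw [Pi.mulSingle_eq_same, hsσ]
      exact hg2 h4
  · refine ⟨Pi.mulSingle a g * Pi.mulSingle l₀ g⁻¹, ?_, ?_, ?_, ?_⟩
    · intro l
      rw [Pi.mul_apply]
      exact mul_ne_zero (EW_ms_ne_zero a hg0 l) (EW_ms_ne_zero l₀ (inv_ne_zero hg0) l)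
    · simp only [Pi.mul_apply]
      rw [Finset.prod_mul_distrib, Fintype.prod_pi_mulSingle', Fintype.prod_pi_mulSingle',
        mul_inv_cancel₀ hg0, map_one]
    · rw [Pi.mul_apply, Pi.mul_apply, Pi.mulSingle_eq_of_ne hai.symm,
        Pi.mulSingle_eq_of_ne haj.symm, Pi.mulSingle_eq_of_ne hl₀i.symm,
        Pi.mulSingle_eq_of_ne hl₀j.symm]
    · rw [Pi.mul_apply, Pi.mulSingle_eq_same, Pi.mulSingle_eq_of_ne hl₀a.symm, mul_one]
      exact hg1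

/-- `d b = s` with `σ s = s ≠ 1`, all other entries `1` -/
theorem EW_data_single (hσ : ∀ x, σ (σ x) = x) (b : Fin m) {g : K} (hg0 : g ≠ 0)
    (hg1 : g * σ g ≠ 1) :
    ∃ (d : Fin m → K) (s : K), (∀ l, d l ≠ 0) ∧ σ (∏ l, d l) = ∏ l, d l ∧ σ s = s ∧ s ≠ 1 ∧
      d b = s ∧ ∀ l, l ≠ b → d l = 1 := by
  have hσg : σ g ≠ 0 := fun h => hg0 (by rw [← hσ g, h, map_zero])
  have hs0 : g * σ g ≠ 0 := mul_ne_zero hg0 hσg
  have hsσ : σ (g * σ g) = g * σ g := by rw [map_mul, hσ, mul_comm]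
  refine ⟨Pi.mulSingle b (g * σ g), g * σ g, EW_ms_ne_zero b hs0, ?_, hsσ, hg1, ?_, ?_⟩
  · rw [Fintype.prod_pi_mulSingle', hsσ]
  · rw [Pi.mulSingle_eq_same]
  · intro l hl
    rw [Pi.mulSingle_eq_of_ne hl]

/-- `d a = g` with `N g ≠ 1`, `d l₀ = g⁻¹` -/
theorem EW_data_two (hσ : ∀ x, σ (σ x) = x) {a l₀ : Fin m} (hal : l₀ ≠ a) {g : K} (hg0 : g ≠ 0)
    (hg1 : g * σ g ≠ 1) :
    ∃ d : Fin m → K, (∀ l, d l ≠ 0) ∧ σ (∏ l, d l) = ∏ l, d l ∧ d a * σ (d a) ≠ 1 := by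
  refine ⟨Pi.mulSingle a g * Pi.mulSingle l₀ g⁻¹, ?_, ?_, ?_⟩
  · intro l
    rw [Pi.mul_apply]
    exact mul_ne_zero (EW_ms_ne_zero a hg0 l) (EW_ms_ne_zero l₀ (inv_ne_zero hg0) l)
  · simp only [Pi.mul_apply]
    rw [Finset.prod_mul_distrib, Fintype.prod_pi_mulSingle', Fintype.prod_pi_mulSingle',
      mul_inv_cancel₀ hg0, map_one]
  · rw [Pi.mul_apply, Pi.mulSingle_eq_same, Pi.mulSingle_eq_of_ne hal.symm, mul_one]
    exact hg1

/-! ### root elements in the commutator -/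

/-- short root elements -/
theorem EW_short_mem {q : ℕ} (api : EW_Api m σ) (hσ : ∀ x, σ (σ x) = x) {i j : Fin m} (hij : i ≠ j)
    {g : K} (hg0 : g ≠ 0) (hg1 : g * σ g ≠ 1) (hg2 : 4 ≤ q → (g * σ g) * (g * σ g) ≠ 1)
    (h3 : 4 ≤ q ∨ ∃ l₀ : Fin m, l₀ ≠ i ∧ l₀ ≠ j) (a b : Fin m) (hab : a ≠ b) (t : K) :
    cE σ a b t ∈ ⁅Qsub m σ, Tij σ i j⁆ := by
  by_cases hb : b = i ∨ b = j
  · by_cases ha : a = i ∨ a = j
    · obtain ⟨d, hd, hdet, hdij, hw⟩ := EW_data_pair hσ hij hg0 hg1 hg2 h3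
      have hda : d a = d i := by
        rcases ha with rfl | rfl
        · rfl
        · exact hdij.symm
      have hdb : d b = d i := by
        rcases hb with rfl | rfl
        · rfl
        · exact hdij.symm
      have hw' : d a * σ (d b) ≠ 1 := by rw [hda, hdb]; exact hw
      exact EW_short api _ _ a b hab (api.cQ a b hab) d hd hdet (api.tij d hd hdet i j hdij) hw' t
    · push Not at ha
      obtain ⟨d, s, hd, hdet, hsσ, hs1, hda, hdl⟩ := EW_data_single hσ a hg0 hg1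
      have hdij : d i = d j := by rw [hdl i ha.1.symm, hdl j ha.2.symm]
      have hw' : d a * σ (d b) ≠ 1 := by
        rw [hda, hdl b hab.symm, map_one, mul_one]
        exact hs1
      exact EW_short api _ _ a b hab (api.cQ a b hab) d hd hdet (api.tij d hd hdet i j hdij) hw' t
  · push Not at hb
    obtain ⟨d, s, hd, hdet, hsσ, hs1, hdb, hdl⟩ := EW_data_single hσ b hg0 hg1
    have hdij : d i = d j := by rw [hdl i hb.1.symm, hdl j hb.2.symm]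
    have hw' : d a * σ (d b) ≠ 1 := by
      rw [hdb, hdl a hab, hsσ, one_mul]
      exact hs1
    exact EW_short api _ _ a b hab (api.cQ a b hab) d hd hdet (api.tij d hd hdet i j hdij) hw' t

/-- long root elements at `i` or `j` -/
theorem EW_long_mem_pair {q : ℕ} (api : EW_Api m σ) (hσ : ∀ x, σ (σ x) = x) {i j : Fin m}
    (hij : i ≠ j) {g : K} (hg0 : g ≠ 0) (hg1 : g * σ g ≠ 1)
    (hg2 : 4 ≤ q → (g * σ g) * (g * σ g) ≠ 1)
    (h3 : 4 ≤ q ∨ ∃ l₀ : Fin m, l₀ ≠ i ∧ l₀ ≠ j) (a : Fin m) (ha : a = i ∨ a = j) (c : K)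
    (hc : σ c + c = 0) : zE σ a c ∈ ⁅Qsub m σ, Tij σ i j⁆ := by
  obtain ⟨d, hd, hdet, hdij, hw⟩ := EW_data_pair hσ hij hg0 hg1 hg2 h3
  have hda : d a = d i := by
    rcases ha with rfl | rfl
    · rfl
    · exact hdij.symm
  have hw' : d a * σ (d a) ≠ 1 := by rw [hda]; exact hw
  exact EW_long api hσ _ _ a (api.zQ a) d hd hdet (api.tij d hd hdet i j hdij) hw' c hc

/-- (EW1), from the API -/
theorem EW1_core [Fintype K] {q : ℕ} (api : EW_Api m σ) (hK : Fintype.card K = q ^ 2)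
    (hσq : ∀ x, σ x = x ^ q) (hm : 2 ≤ m) (hq : 3 ≤ q) (h23 : ¬ (m = 2 ∧ q = 3))
    (h33 : ¬ (m = 3 ∧ q = 3)) (i j : Fin m) (hij : i ≠ j) :
    Qsub m σ ≤ ⁅Qsub m σ, Tij σ i j⁆ := by
  classical
  obtain ⟨hσ, g, hg0, hg1, hg2⟩ := EW_field hK hσq hq
  have hfourth : ∀ a : Fin m, 4 ≤ q ∨ ∃ l₀ : Fin m, l₀ ≠ i ∧ l₀ ≠ j ∧ l₀ ≠ a := by
    intro a
    by_cases h4 : 4 ≤ q
    · exact Or.inl h4
    · right
      have hq3 : q = 3 := by omega
      have hm4 : 4 ≤ m := by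
        rcases Nat.lt_or_ge m 4 with h | h
        · exfalso
          interval_cases m
          · exact h23 ⟨rfl, hq3⟩
          · exact h33 ⟨rfl, hq3⟩
        · exact h
      have hcard : ({i, j, a} : Finset (Fin m)).card < (Finset.univ : Finset (Fin m)).card := by
        rw [Finset.card_univ, Fintype.card_fin]
        exact lt_of_le_of_lt Finset.card_le_three hm4
      obtain ⟨e, -, he⟩ := Finset.exists_mem_notMem_of_card_lt_card hcard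
      simp only [Finset.mem_insert, Finset.mem_singleton, not_or] at he
      exact ⟨e, he.1, he.2.1, he.2.2⟩
  have hthird : 4 ≤ q ∨ ∃ l₀ : Fin m, l₀ ≠ i ∧ l₀ ≠ j := by
    rcases hfourth i with h | ⟨l₀, h1, h2, -⟩
    · exact Or.inl h
    · exact Or.inr ⟨l₀, h1, h2⟩
  refine api.cl.trans ((Subgroup.closure_le _).mpr ?_)
  rintro g' (⟨a, c, hc, rfl⟩ | ⟨a, b, hab, t, rfl⟩)
  · by_cases ha : a = i ∨ a = j
    · exact EW_long_mem_pair api hσ hij hg0 hg1 hg2 hthird a ha c hc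
    · push Not at ha
      obtain ⟨d, hd, hdet, hdij, hw⟩ := EW_data_outer hσ ha.1 ha.2 hg0 hg1 hg2 (hfourth a)
      exact EW_long api hσ _ _ a (api.zQ a) d hd hdet (api.tij d hd hdet i j hdij) hw c hc
  · exact EW_short_mem api hσ hij hg0 hg1 hg2 hthird a b hab t

theorem EW_fin3 (i j c a : Fin 3) (hij : i ≠ j) (hci : c ≠ i) (hcj : c ≠ j) (hai : a ≠ i)
    (haj : a ≠ j) : a = c := by
  revert i j c a
  decide

theorem EW_zE_mem_Xl (a : Fin m) (y : K) (hy : σ y + y = 0) : zE σ a y ∈ Xl σ a := by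
  unfold Xl
  exact Subgroup.subset_closure ⟨y, hy, rfl⟩

/-- (EW2), from the API -/
theorem EW2_core [Fintype K] {q : ℕ} (api : EW_Api m σ) (hK : Fintype.card K = q ^ 2)
    (hσq : ∀ x, σ x = x ^ q) (hm : m = 3) (hq : q = 3) (i j c : Fin m) (hij : i ≠ j)
    (hci : c ≠ i) (hcj : c ≠ j) :
    Qsub m σ ≤ ⁅Qsub m σ, Tij σ i j⁆ ⊔ ⁅Xl σ c, Tsub m σ⁆ := by
  classical
  obtain ⟨hσ, g, hg0, hg1, hg2⟩ := EW_field hK hσq (by omega : 3 ≤ q)
  have hthird : 4 ≤ q ∨ ∃ l₀ : Fin m, l₀ ≠ i ∧ l₀ ≠ j := Or.inr ⟨c, hci, hcj⟩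
  refine api.cl.trans ((Subgroup.closure_le _).mpr ?_)
  rintro g' (⟨a, x, hx, rfl⟩ | ⟨a, b, hab, t, rfl⟩)
  · by_cases ha : a = i ∨ a = j
    · exact (le_sup_left : ⁅Qsub m σ, Tij σ i j⁆ ≤ _)
        (EW_long_mem_pair api hσ hij hg0 hg1 hg2 hthird a ha x hx)
    · push Not at ha
      have hac : a = c := by
        subst hm
        exact EW_fin3 i j c a hij hci hcj ha.1 ha.2
      subst hac
      obtain ⟨d, hd, hdet, hw⟩ := EW_data_two hσ hci.symm hg0 hg1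
      have hT : tE σ d ∈ Tsub m σ := (Subgroup.mem_inf.mp (api.tij d hd hdet j j rfl)).1
      exact (le_sup_right : ⁅Xl σ a, Tsub m σ⁆ ≤ _)
        (EW_long api hσ _ _ a (EW_zE_mem_Xl a) d hd hdet hT hw x hx)
  · exact (le_sup_left : ⁅Qsub m σ, Tij σ i j⁆ ≤ _)
      (EW_short_mem api hσ hij hg0 hg1 hg2 hthird a b hab t)

end Cfsg.Agent.Helper90.PsuM
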