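import Mathlib
import Cfsg.Agent.Helper90.HolRel
import Cfsg.Agent.Helper90.ElemGL

set_option autoImplicit false

/-!
The stabilizer of a point in `SL_{m+1}(2)` is the holomorph of an elementary abelian group of order `2 ^ m`.
-/

namespace Cfsg.Agent.Helper90

open Matrix

/-- The block matrix with first row `(1, ρ)` and the other rows `(0, A i)`. -/
def pm {m : ℕ} (ρ : Fin m → ZMod 2) (A : Matrix (Fin m) (Fin m) (ZMod 2)) :
    Matrix (Fin (m + 1)) (Fin (m + 1)) (ZMod 2) :=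
  Matrix.of (Fin.cases (Fin.cases 1 ρ) (fun i => Fin.cases 0 (A i)))

section pm

variable {m : ℕ}

@[simp] theorem pm_zero_zero (ρ : Fin m → ZMod 2) (A : Matrix (Fin m) (Fin m) (ZMod 2)) :
    pm ρ A 0 0 = 1 := rfl

@[simp] theorem pm_zero_succ (ρ : Fin m → ZMod 2) (A : Matrix (Fin m) (Fin m) (ZMod 2)) (j : Fin m) :
    pm ρ A 0 j.succ = ρ j := by
  simp [pm]

@[simp] theorem pm_succ_zero (ρ : Fin m → ZMod 2) (A : Matrix (Fin m) (Fin m) (ZMod 2)) (i : Fin m) :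
    pm ρ A i.succ 0 = 0 := by
  simp [pm]

@[simp] theorem pm_succ_succ (ρ : Fin m → ZMod 2) (A : Matrix (Fin m) (Fin m) (ZMod 2)) (i j : Fin m) :
    pm ρ A i.succ j.succ = A i j := by
  simp [pm]

theorem pm_mul (ρ σ : Fin m → ZMod 2) (A B : Matrix (Fin m) (Fin m) (ZMod 2)) :
    pm ρ A * pm σ B = pm (σ + ρ ᵥ* B) (A * B) := by
  ext i j
  rw [Matrix.mul_apply, Fin.sum_univ_succ]
  refine Fin.cases ?_ (fun i' => ?_) i <;> refine Fin.cases ?_ (fun j' => ?_) j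
  · simp
  · simp [Matrix.vecMul, dotProduct]
  · simp
  · simp [Matrix.mul_apply]

theorem pm_one : pm (0 : Fin m → ZMod 2) 1 = 1 := by
  ext i j
  refine Fin.cases ?_ (fun i' => ?_) i <;> refine Fin.cases ?_ (fun j' => ?_) j
  · simp
  · simp [Matrix.one_apply, Fin.succ_ne_zero, (Fin.succ_ne_zero _).symm]
  · simp [Matrix.one_apply, Fin.succ_ne_zero]
  · simp [Matrix.one_apply]

theorem pm_inj {ρ σ : Fin m → ZMod 2} {A B : Matrix (Fin m) (Fin m) (ZMod 2)}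
    (h : pm ρ A = pm σ B) : ρ = σ ∧ A = B := by
  constructor
  · funext j
    have := congrFun (congrFun h 0) j.succ
    simpa using this
  · ext i j
    have := congrFun (congrFun h i.succ) j.succ
    simpa using this

theorem add_self_fun (ρ : Fin m → ZMod 2) : ρ + ρ = 0 := by
  funext i
  exact CharTwo.add_self_eq_zero (ρ i)

theorem pm_unip_mul (ρ σ : Fin m → ZMod 2) : pm ρ 1 * pm σ 1 = pm (σ + ρ) 1 := by
  rw [pm_mul, Matrix.vecMul_one, mul_one]

theorem pm_unip_sq (ρ : Fin m → ZMod 2) : pm ρ 1 * pm ρ 1 = 1 := by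
  rw [pm_unip_mul, add_self_fun, pm_one]

theorem pm_levi_mul (A B : Matrix (Fin m) (Fin m) (ZMod 2)) : pm 0 A * pm 0 B = pm 0 (A * B) := by
  rw [pm_mul, Matrix.zero_vecMul, add_zero]

/-- Over `ZMod 2`, a matrix with a right inverse has determinant one. -/
theorem det_eq_one_of_mul_eq_one {k : Type*} [Fintype k] [DecidableEq k]
    {X Y : Matrix k k (ZMod 2)} (h : X * Y = 1) : X.det = 1 := by
  have h1 : X.det * Y.det = 1 := by rw [← Matrix.det_mul, h, Matrix.det_one]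
  have h2 : ∀ a b : ZMod 2, a * b = 1 → a = 1 := by decide
  exact h2 _ _ h1

/-- Action on vectors of a unipotent block matrix. -/
theorem pm_unip_mulVec (ρ : Fin m → ZMod 2) (w : Fin (m + 1) → ZMod 2) :
    pm ρ 1 *ᵥ w = w + (ρ ⬝ᵥ (fun j => w j.succ)) • (Pi.single 0 1 : Fin (m + 1) → ZMod 2) := by
  funext i
  refine Fin.cases ?_ (fun i' => ?_) i
  · simp [Matrix.mulVec, dotProduct, Fin.sum_univ_succ]
  · simp [Matrix.mulVec, dotProduct, Fin.sum_univ_succ, Matrix.one_apply, Fin.succ_ne_zero]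

theorem pm_mulVec_single (ρ : Fin m → ZMod 2) (A : Matrix (Fin m) (Fin m) (ZMod 2)) :
    pm ρ A *ᵥ (Pi.single 0 1) = Pi.single 0 1 := by
  rw [Matrix.mulVec_single_one]
  funext i
  refine Fin.cases ?_ (fun i' => ?_) i
  · simp
  · simp [Fin.succ_ne_zero]

theorem exists_pm_of_mulVec (X : Matrix (Fin (m + 1)) (Fin (m + 1)) (ZMod 2))
    (h : X *ᵥ (Pi.single 0 1) = Pi.single 0 1) : ∃ ρ A, X = pm ρ A := by
  rw [Matrix.mulVec_single_one] at h
  refine ⟨fun j => X 0 j.succ, X.submatrix Fin.succ Fin.succ, ?_⟩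
  ext i j
  refine Fin.cases ?_ (fun i' => ?_) i <;> refine Fin.cases ?_ (fun j' => ?_) j
  · have := congrFun h 0
    simpa using this
  · simp
  · have := congrFun h i'.succ
    simpa [Fin.succ_ne_zero] using this
  · simp

end pm

section SL

/-- `SL_{m+1}(2)`. -/
abbrev SLz (m : ℕ) := Matrix.SpecialLinearGroup (Fin (m + 1)) (ZMod 2)

variable {m : ℕ}

/-- The unipotent element with first row `(1, ρ)`. -/
def uel (ρ : Fin m → ZMod 2) : SLz m := ⟨pm ρ 1, det_eq_one_of_mul_eq_one (pm_unip_sq ρ)⟩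

theorem coe_uel (ρ : Fin m → ZMod 2) :
    ((uel ρ : SLz m) : Matrix (Fin (m + 1)) (Fin (m + 1)) (ZMod 2)) = pm ρ 1 := rfl

theorem uel_sq (ρ : Fin m → ZMod 2) : uel ρ * uel ρ = 1 := by
  apply Subtype.ext
  rw [Matrix.SpecialLinearGroup.coe_mul, coe_uel, pm_unip_sq, Matrix.SpecialLinearGroup.coe_one]

/-- The stabilizer of the first basis vector. -/
def Pst (m : ℕ) : Subgroup (SLz m) where
  carrier := {g | (g : Matrix (Fin (m + 1)) (Fin (m + 1)) (ZMod 2)) *ᵥ (Pi.single 0 1)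
    = Pi.single 0 1}
  one_mem' := by
    show ((1 : SLz m) : Matrix (Fin (m + 1)) (Fin (m + 1)) (ZMod 2)) *ᵥ (Pi.single 0 1)
      = Pi.single 0 1
    rw [Matrix.SpecialLinearGroup.coe_one, Matrix.one_mulVec]
  mul_mem' := by
    intro a b ha hb
    show ((a * b : SLz m) : Matrix (Fin (m + 1)) (Fin (m + 1)) (ZMod 2)) *ᵥ (Pi.single 0 1)
      = Pi.single 0 1
    have ha' : (a : Matrix (Fin (m + 1)) (Fin (m + 1)) (ZMod 2)) *ᵥ (Pi.single 0 1)
      = Pi.single 0 1 := ha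
    have hb' : (b : Matrix (Fin (m + 1)) (Fin (m + 1)) (ZMod 2)) *ᵥ (Pi.single 0 1)
      = Pi.single 0 1 := hb
    rw [Matrix.SpecialLinearGroup.coe_mul, ← Matrix.mulVec_mulVec, hb', ha']
  inv_mem' := by
    intro a ha
    show ((a⁻¹ : SLz m) : Matrix (Fin (m + 1)) (Fin (m + 1)) (ZMod 2)) *ᵥ (Pi.single 0 1)
      = Pi.single 0 1
    have ha : (a : Matrix (Fin (m + 1)) (Fin (m + 1)) (ZMod 2)) *ᵥ (Pi.single 0 1)
      = Pi.single 0 1 := ha
    have h1 : ((a⁻¹ : SLz m) : Matrix (Fin (m + 1)) (Fin (m + 1)) (ZMod 2)) *ᵥ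
        ((a : Matrix (Fin (m + 1)) (Fin (m + 1)) (ZMod 2)) *ᵥ (Pi.single 0 1)) = Pi.single 0 1 := by
      rw [Matrix.mulVec_mulVec, ← Matrix.SpecialLinearGroup.coe_mul, inv_mul_cancel,
        Matrix.SpecialLinearGroup.coe_one, Matrix.one_mulVec]
    rwa [ha] at h1

theorem mem_Pst (g : SLz m) : g ∈ Pst m ↔
    (g : Matrix (Fin (m + 1)) (Fin (m + 1)) (ZMod 2)) *ᵥ (Pi.single 0 1) = Pi.single 0 1 := Iff.rfl

theorem mem_Pst_iff (g : SLz m) : g ∈ Pst m ↔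
    ∃ ρ A, (g : Matrix (Fin (m + 1)) (Fin (m + 1)) (ZMod 2)) = pm ρ A := by
  rw [mem_Pst]
  constructor
  · intro h
    exact exists_pm_of_mulVec _ h
  · rintro ⟨ρ, A, h⟩
    rw [h, pm_mulVec_single]

/-- The unipotent radical. -/
def Usub (m : ℕ) : Subgroup (SLz m) where
  carrier := {g | ∃ ρ, (g : Matrix (Fin (m + 1)) (Fin (m + 1)) (ZMod 2)) = pm ρ 1}
  one_mem' := ⟨0, by rw [Matrix.SpecialLinearGroup.coe_one, pm_one]⟩
  mul_mem' := by
    rintro a b ⟨ρ, ha⟩ ⟨σ, hb⟩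
    exact ⟨σ + ρ, by rw [Matrix.SpecialLinearGroup.coe_mul, ha, hb, pm_unip_mul]⟩
  inv_mem' := by
    rintro a ⟨ρ, ha⟩
    have h1 : a⁻¹ = a := by
      apply inv_eq_of_mul_eq_one_left
      apply Subtype.ext
      rw [Matrix.SpecialLinearGroup.coe_mul, ha, pm_unip_sq, Matrix.SpecialLinearGroup.coe_one]
    rw [h1]
    exact ⟨ρ, ha⟩

theorem mem_Usub (g : SLz m) : g ∈ Usub m ↔
    ∃ ρ, (g : Matrix (Fin (m + 1)) (Fin (m + 1)) (ZMod 2)) = pm ρ 1 := Iff.rfl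

theorem uel_mem (ρ : Fin m → ZMod 2) : uel ρ ∈ Usub m := ⟨ρ, rfl⟩

theorem Usub_le_Pst : Usub m ≤ Pst m := by
  rintro g ⟨ρ, hg⟩
  exact (mem_Pst_iff g).mpr ⟨ρ, 1, hg⟩

/-- The Levi complement. -/
def Msub (m : ℕ) : Subgroup (SLz m) where
  carrier := {g | ∃ A, (g : Matrix (Fin (m + 1)) (Fin (m + 1)) (ZMod 2)) = pm 0 A}
  one_mem' := ⟨1, by rw [Matrix.SpecialLinearGroup.coe_one, pm_one]⟩
  mul_mem' := by
    rintro a b ⟨A, ha⟩ ⟨B, hb⟩
    exact ⟨A * B, by rw [Matrix.SpecialLinearGroup.coe_mul, ha, hb, pm_levi_mul]⟩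
  inv_mem' := by
    rintro a ⟨A, ha⟩
    have haP : a ∈ Pst m := (mem_Pst_iff a).mpr ⟨0, A, ha⟩
    obtain ⟨ρ', A', ha'⟩ := (mem_Pst_iff a⁻¹).mp ((Pst m).inv_mem haP)
    have h1 : pm 0 A * pm ρ' A' = 1 := by
      rw [← ha, ← ha', ← Matrix.SpecialLinearGroup.coe_mul, mul_inv_cancel,
        Matrix.SpecialLinearGroup.coe_one]
    rw [pm_mul, Matrix.zero_vecMul, add_zero, ← pm_one] at h1
    obtain ⟨h2, _⟩ := pm_inj h1
    exact ⟨A', by rw [ha', h2]⟩

theorem mem_Msub (g : SLz m) : g ∈ Msub m ↔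
    ∃ A, (g : Matrix (Fin (m + 1)) (Fin (m + 1)) (ZMod 2)) = pm 0 A := Iff.rfl

theorem Msub_le_Pst : Msub m ≤ Pst m := by
  rintro g ⟨A, hg⟩
  exact (mem_Pst_iff g).mpr ⟨0, A, hg⟩

theorem Usub_conj {g u : SLz m} (hg : g ∈ Pst m) (hu : u ∈ Usub m) : g * u * g⁻¹ ∈ Usub m := by
  obtain ⟨ρ, A, hg1⟩ := (mem_Pst_iff g).mp hg
  obtain ⟨ρ', A', hg2⟩ := (mem_Pst_iff g⁻¹).mp ((Pst m).inv_mem hg)
  obtain ⟨σ, hu1⟩ := hu
  have h1 : pm ρ A * pm ρ' A' = 1 := by
    rw [← hg1, ← hg2, ← Matrix.SpecialLinearGroup.coe_mul, mul_inv_cancel,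
      Matrix.SpecialLinearGroup.coe_one]
  rw [pm_mul, ← pm_one] at h1
  obtain ⟨_, h2⟩ := pm_inj h1
  refine ⟨ρ' + (σ + ρ ᵥ* 1) ᵥ* A', ?_⟩
  rw [Matrix.SpecialLinearGroup.coe_mul, Matrix.SpecialLinearGroup.coe_mul, hg1, hg2, hu1,
    pm_mul, pm_mul, mul_one, h2]

theorem Usub_comm {u v : SLz m} (hu : u ∈ Usub m) (hv : v ∈ Usub m) : u * v = v * u := by
  obtain ⟨ρ, hu1⟩ := hu
  obtain ⟨σ, hv1⟩ := hv
  apply Subtype.ext
  rw [Matrix.SpecialLinearGroup.coe_mul, Matrix.SpecialLinearGroup.coe_mul, hu1, hv1,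
    pm_unip_mul, pm_unip_mul, add_comm σ ρ]

theorem Usub_sq {u : SLz m} (hu : u ∈ Usub m) : u * u = 1 := by
  obtain ⟨ρ, hu1⟩ := hu
  apply Subtype.ext
  rw [Matrix.SpecialLinearGroup.coe_mul, hu1, pm_unip_sq, Matrix.SpecialLinearGroup.coe_one]

theorem UM_inf {x : SLz m} (hU : x ∈ Usub m) (hM : x ∈ Msub m) : x = 1 := by
  obtain ⟨ρ, h1⟩ := hU
  obtain ⟨A, h2⟩ := hM
  rw [h1] at h2
  obtain ⟨h3, _⟩ := pm_inj h2
  apply Subtype.ext
  rw [h1, h3, pm_one, Matrix.SpecialLinearGroup.coe_one]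

theorem P_sup {g : SLz m} (hg : g ∈ Pst m) : ∃ u ∈ Usub m, ∃ mm ∈ Msub m, g = u * mm := by
  obtain ⟨ρ, A, hg1⟩ := (mem_Pst_iff g).mp hg
  have hmm : g * uel ρ ∈ Msub m := by
    refine ⟨A, ?_⟩
    rw [Matrix.SpecialLinearGroup.coe_mul, hg1, coe_uel, pm_mul, Matrix.vecMul_one, mul_one,
      add_self_fun]
  refine ⟨(g * uel ρ) * uel ρ * (g * uel ρ)⁻¹, Usub_conj (Msub_le_Pst hmm) (uel_mem ρ),
    g * uel ρ, hmm, ?_⟩
  have e : (g * uel ρ) * uel ρ * (g * uel ρ)⁻¹ * (g * uel ρ) = g * (uel ρ * uel ρ) := by group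
  rw [e, uel_sq, mul_one]

theorem M_faith {mm : SLz m} (hmm : mm ∈ Msub m) (h : ∀ u ∈ Usub m, mm * u * mm⁻¹ = u) :
    mm = 1 := by
  obtain ⟨A, hA⟩ := hmm
  have key : ∀ σ : Fin m → ZMod 2, σ ᵥ* A = σ := by
    intro σ
    have h1 : mm * uel σ = uel σ * mm := by
      have h2 := h (uel σ) (uel_mem σ)
      calc mm * uel σ = (mm * uel σ * mm⁻¹) * mm := by group
        _ = uel σ * mm := by rw [h2]
    have h3 := congrArg (fun x : SLz m => (x : Matrix (Fin (m + 1)) (Fin (m + 1)) (ZMod 2))) h1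
    simp only [Matrix.SpecialLinearGroup.coe_mul, coe_uel, hA] at h3
    rw [pm_mul, pm_mul] at h3
    obtain ⟨h4, _⟩ := pm_inj h3
    simpa using h4.symm
  have hA1 : A = 1 := by
    ext i j
    have := congrFun (key (Pi.single i 1)) j
    rw [Matrix.single_one_vecMul] at this
    rw [Matrix.one_apply]
    simpa [Pi.single_apply, eq_comm] using this
  apply Subtype.ext
  rw [hA, hA1, pm_one, Matrix.SpecialLinearGroup.coe_one]

theorem P_cz {t : SLz m} (ht : t ∈ Usub m) (ht1 : t ≠ 1) {g : SLz m} (hg : g * t = t * g) :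
    g ∈ Pst m := by
  obtain ⟨ρ, hρ⟩ := ht
  have hρ0 : ρ ≠ 0 := by
    intro h0
    apply ht1
    apply Subtype.ext
    rw [hρ, h0, pm_one, Matrix.SpecialLinearGroup.coe_one]
  obtain ⟨j, hj⟩ := Function.ne_iff.mp hρ0
  have hj1 : ρ j = 1 := by
    have h2 : ∀ a : ZMod 2, a ≠ 0 → a = 1 := by decide
    exact h2 _ hj
  have hcomm : (g : Matrix (Fin (m + 1)) (Fin (m + 1)) (ZMod 2)) * pm ρ 1
      = pm ρ 1 * (g : Matrix (Fin (m + 1)) (Fin (m + 1)) (ZMod 2)) := by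
    rw [← hρ, ← Matrix.SpecialLinearGroup.coe_mul, ← Matrix.SpecialLinearGroup.coe_mul, hg]
  have h1 : (g : Matrix (Fin (m + 1)) (Fin (m + 1)) (ZMod 2)) *ᵥ (pm ρ 1 *ᵥ (Pi.single j.succ 1))
      = pm ρ 1 *ᵥ ((g : Matrix (Fin (m + 1)) (Fin (m + 1)) (ZMod 2)) *ᵥ (Pi.single j.succ 1)) := by
    rw [Matrix.mulVec_mulVec, Matrix.mulVec_mulVec, hcomm]
  rw [pm_unip_mulVec, pm_unip_mulVec, Matrix.mulVec_add, Matrix.mulVec_smul] at h1
  have hc : (ρ ⬝ᵥ fun j' => (Pi.single j.succ 1 : Fin (m + 1) → ZMod 2) j'.succ) = 1 := by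
    simp [dotProduct, Pi.single_apply, hj1]
  rw [hc, one_smul] at h1
  have h2 := add_left_cancel h1
  rw [mem_Pst, h2]
  have h3 : ∀ a : ZMod 2, a = 0 ∨ a = 1 := by decide
  rcases h3 (ρ ⬝ᵥ fun j' => ((g : Matrix (Fin (m + 1)) (Fin (m + 1)) (ZMod 2)) *ᵥ
    (Pi.single j.succ 1)) j'.succ) with h0 | h0
  · exfalso
    rw [h0, zero_smul] at h2
    have h4 : ((g⁻¹ : SLz m) : Matrix (Fin (m + 1)) (Fin (m + 1)) (ZMod 2)) *ᵥ
        ((g : Matrix (Fin (m + 1)) (Fin (m + 1)) (ZMod 2)) *ᵥ (Pi.single 0 1))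
        = Pi.single 0 1 := by
      rw [Matrix.mulVec_mulVec, ← Matrix.SpecialLinearGroup.coe_mul, inv_mul_cancel,
        Matrix.SpecialLinearGroup.coe_one, Matrix.one_mulVec]
    rw [h2, Matrix.mulVec_zero] at h4
    have h5 := congrFun h4 0
    simp at h5
  · rw [h0, one_smul]

end SL

section Full

variable {m : ℕ}

theorem card_Usub : Nat.card ↥(Usub m) = 2 ^ m := by
  have hbij : Function.Bijective
      (fun ρ : Fin m → ZMod 2 => (⟨uel ρ, uel_mem ρ⟩ : ↥(Usub m))) := by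
    constructor
    · intro ρ σ h
      have h1 : (uel ρ : SLz m) = uel σ := congrArg Subtype.val h
      have h2 := congrArg (fun x : SLz m => (x : Matrix (Fin (m + 1)) (Fin (m + 1)) (ZMod 2))) h1
      exact (pm_inj h2).1
    · rintro ⟨g, ρ, hg⟩
      exact ⟨ρ, Subtype.ext (Subtype.ext hg.symm)⟩
  rw [← Nat.card_congr (Equiv.ofBijective _ hbij), Nat.card_fun]
  simp

/-- The embedding of `GL_m(2)` into the Levi complement. -/
def glToM (A : Matrix.GeneralLinearGroup (Fin m) (ZMod 2)) : ↥(Msub m) :=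
  ⟨⟨pm 0 (A : Matrix (Fin m) (Fin m) (ZMod 2)), det_eq_one_of_mul_eq_one
    (show pm 0 (A : Matrix (Fin m) (Fin m) (ZMod 2)) * pm 0 ((A⁻¹ : Matrix.GeneralLinearGroup (Fin m) (ZMod 2)) : Matrix (Fin m) (Fin m) (ZMod 2)) = 1 by
      rw [pm_levi_mul, Units.mul_inv, pm_one])⟩, ⟨(A : Matrix (Fin m) (Fin m) (ZMod 2)), rfl⟩⟩

theorem glToM_injective : Function.Injective (glToM (m := m)) := by
  intro A B h
  have h1 : ((glToM A : ↥(Msub m)) : SLz m) = glToM B := congrArg Subtype.val h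
  have h2 := congrArg (fun x : SLz m => (x : Matrix (Fin (m + 1)) (Fin (m + 1)) (ZMod 2))) h1
  have h3 : pm 0 (A : Matrix (Fin m) (Fin m) (ZMod 2)) = pm 0 (B : Matrix (Fin m) (Fin m) (ZMod 2)) := h2
  exact Units.ext (pm_inj h3).2

/-- Conjugation by an element of the Levi complement, as an automorphism of the unipotent radical. -/
def conjMU (mm : ↥(Msub m)) : ↥(Usub m) ≃* ↥(Usub m) where
  toFun u := ⟨(mm : SLz m) * u * (mm : SLz m)⁻¹, Usub_conj (Msub_le_Pst mm.2) u.2⟩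
  invFun u := ⟨(mm : SLz m)⁻¹ * u * (mm : SLz m), by
    have := Usub_conj ((Pst m).inv_mem (Msub_le_Pst mm.2)) u.2
    rwa [inv_inv] at this⟩
  left_inv u := by
    apply Subtype.ext
    show (mm : SLz m)⁻¹ * ((mm : SLz m) * u * (mm : SLz m)⁻¹) * (mm : SLz m) = u
    group
  right_inv u := by
    apply Subtype.ext
    show (mm : SLz m) * ((mm : SLz m)⁻¹ * u * (mm : SLz m)) * (mm : SLz m)⁻¹ = u
    group
  map_mul' u v := by
    apply Subtype.ext
    show (mm : SLz m) * ((u : SLz m) * (v : SLz m)) * (mm : SLz m)⁻¹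
      = ((mm : SLz m) * u * (mm : SLz m)⁻¹) * ((mm : SLz m) * v * (mm : SLz m)⁻¹)
    group

theorem conjMU_apply (mm : ↥(Msub m)) (u : ↥(Usub m)) :
    ((conjMU mm u : ↥(Usub m)) : SLz m) = (mm : SLz m) * u * (mm : SLz m)⁻¹ := rfl

theorem conjMU_injective : Function.Injective (conjMU (m := m)) := by
  intro a b hab
  have h1 : ∀ u ∈ Usub m, ((b : SLz m)⁻¹ * a) * u * ((b : SLz m)⁻¹ * a)⁻¹ = u := by
    intro u hu
    have h2 := congrArg (fun φ : ↥(Usub m) ≃* ↥(Usub m) => ((φ ⟨u, hu⟩ : ↥(Usub m)) : SLz m)) hab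
    simp only [conjMU_apply] at h2
    calc ((b : SLz m)⁻¹ * a) * u * ((b : SLz m)⁻¹ * a)⁻¹
        = (b : SLz m)⁻¹ * ((a : SLz m) * u * (a : SLz m)⁻¹) * b := by group
      _ = (b : SLz m)⁻¹ * ((b : SLz m) * u * (b : SLz m)⁻¹) * b := by rw [h2]
      _ = u := by group
  have h3 := M_faith ((Msub m).mul_mem ((Msub m).inv_mem b.2) a.2) h1
  apply Subtype.ext
  calc (a : SLz m) = (b : SLz m) * ((b : SLz m)⁻¹ * a) := by group
    _ = b := by rw [h3, mul_one]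

theorem M_full (φ : ↥(Usub m) ≃* ↥(Usub m)) :
    ∃ mm ∈ Msub m, ∀ u : ↥(Usub m), ((φ u : ↥(Usub m)) : SLz m) = mm * u * mm⁻¹ := by
  have hcomm : ∀ a b : ↥(Usub m), a * b = b * a := fun a b => Subtype.ext (Usub_comm a.2 b.2)
  have hsq : ∀ a : ↥(Usub m), a * a = 1 := fun a => Subtype.ext (Usub_sq a.2)
  obtain ⟨e⟩ := mulAut_equiv_GL_two hcomm hsq m card_Usub
  have hcard : Nat.card (↥(Usub m) ≃* ↥(Usub m)) ≤ Nat.card ↥(Msub m) := by
    have h1 : Nat.card (↥(Usub m) ≃* ↥(Usub m))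
        = Nat.card (Matrix.GeneralLinearGroup (Fin m) (ZMod 2)) := Nat.card_congr e.toEquiv
    rw [h1]
    exact Nat.card_le_card_of_injective _ glToM_injective
  haveI : Finite (↥(Usub m) ≃* ↥(Usub m)) := Finite.of_injective _ e.injective
  have hbij := Function.Injective.bijective_of_nat_card_le (conjMU_injective (m := m)) hcard
  obtain ⟨mm, hmm⟩ := hbij.2 φ
  refine ⟨mm, mm.2, fun u => ?_⟩
  rw [← hmm]
  rfl

end Full

section Assemble

theorem transvection_eq_pm (n : ℕ) :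
    Matrix.transvection (0 : Fin (n + 1 + 1)) 1 (1 : ZMod 2)
      = pm (Pi.single (0 : Fin (n + 1)) 1) 1 := by
  ext i j
  refine Fin.cases ?_ (fun i' => ?_) i <;> refine Fin.cases ?_ (fun j' => ?_) j
  · simp [Matrix.transvection, Matrix.single]
  · rw [pm_zero_succ]
    have h1 : (1 : Fin (n + 1 + 1)) = Fin.succ (0 : Fin (n + 1)) := Fin.succ_zero_eq_one.symm
    by_cases hj : j' = 0
    · subst hj
      simp [Matrix.transvection, Matrix.single]
    · have hne : ¬ (1 : Fin (n + 1 + 1)) = j'.succ := by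
        rw [h1]
        intro h
        exact hj (Fin.succ_injective _ h).symm
      simp [Matrix.transvection, Matrix.single, (Fin.succ_ne_zero _).symm, hj, hne]
  · simp [Matrix.transvection, Matrix.single, Matrix.one_apply, Fin.succ_ne_zero]
  · simp [Matrix.transvection, Matrix.single, Matrix.one_apply, (Fin.succ_ne_zero _).symm]

/-- The point stabilizer in `SL_{n+2}(2)` is a relative holomorph context for a transvection. -/
theorem holRel_SL (n : ℕ) (z : SLz (n + 1))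
    (hz : (z : Matrix (Fin (n + 1 + 1)) (Fin (n + 1 + 1)) (ZMod 2)) = Matrix.transvection 0 1 1) :
    HolRel (Pst (n + 1)) (Usub (n + 1)) (Msub (n + 1)) z where
  UP := Usub_le_Pst
  MP := Msub_le_Pst
  Unorm := fun g hg u hu => Usub_conj hg hu
  Ucomm := fun u hu v hv => Usub_comm hu hv
  Usq := fun u hu => Usub_sq hu
  inf := fun x hU hM => UM_inf hU hM
  sup := fun g hg => P_sup hg
  faith := fun mm hmm h => M_faith hmm h
  full := M_full
  zU := ⟨Pi.single 0 1, by rw [hz, transvection_eq_pm]⟩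
  z1 := by
    intro h1
    have h2 : (z : Matrix (Fin (n + 1 + 1)) (Fin (n + 1 + 1)) (ZMod 2)) = 1 := by
      rw [h1, Matrix.SpecialLinearGroup.coe_one]
    rw [hz, transvection_eq_pm] at h2
    have h2' : pm (Pi.single (0 : Fin (n + 1)) 1) 1 = pm 0 1 := h2.trans pm_one.symm
    have h3 := congrFun (pm_inj h2').1 0
    simp at h3
  cz := fun t ht ht1 g hg => P_cz ht ht1 hg

end Assemble

/-- Over the field with two elements the general and special linear groups coincide. -/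
theorem gl_equiv_sl_two (n : ℕ) :
    Nonempty (Matrix.GeneralLinearGroup (Fin n) (ZMod 2) ≃* Matrix.SpecialLinearGroup (Fin n) (ZMod 2)) := by
  have hinj := Matrix.SpecialLinearGroup.toGL_injective (n := Fin n) (R := ZMod 2)
  have hsurj : Function.Surjective (Matrix.SpecialLinearGroup.toGL (n := Fin n) (R := ZMod 2)) := by
    intro A
    have hdet : (A : Matrix (Fin n) (Fin n) (ZMod 2)).det = 1 :=
      det_eq_one_of_mul_eq_one (Y := ((A⁻¹ : Matrix.GeneralLinearGroup (Fin n) (ZMod 2)) :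
        Matrix (Fin n) (Fin n) (ZMod 2))) (Units.mul_inv A)
    refine ⟨⟨(A : Matrix (Fin n) (Fin n) (ZMod 2)), hdet⟩, ?_⟩
    apply Units.ext
    rfl
  exact ⟨(MulEquiv.ofBijective _ ⟨hinj, hsurj⟩).symm⟩

end Cfsg.Agent.Helper90
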