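import Mathlib
import Cfsg.Agent.Helper90.HolIso
import Cfsg.Agent.Helper90.ElemGL
import Cfsg.Agent.Helper90.SLPoint
import Cfsg.Agent.Helper90.Conj

set_option autoImplicit false

/-!
Self-normalizing Sylow 2-subgroups, propagated up a tower of holomorphs of elementary abelian 2-groups.
-/

namespace Cfsg.Agent.Helper90

open scoped Pointwise

/-- Every Sylow 2-subgroup is self-normalizing. -/
def SelfNormSyl (G : Type*) [Group G] : Prop :=
  ∀ S : Sylow 2 G, Subgroup.normalizer ((S : Subgroup G) : Set G) = (S : Subgroup G)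

theorem SelfNormSyl.of_equiv {G H : Type*} [Group G] [Group H] (e : G ≃* H) (h : SelfNormSyl G) :
    SelfNormSyl H := by
  intro S
  apply le_antisymm _ Subgroup.le_normalizer
  intro x hx
  have hr : (S : Subgroup H) ≤ e.toMonoidHom.range := by
    rw [MonoidHom.range_eq_top.2 e.surjective]
    exact le_top
  have hS' : ((S.comapOfInjective e.toMonoidHom e.injective hr : Sylow 2 G) : Subgroup G)
      = (S : Subgroup H).comap e.toMonoidHom := Sylow.coe_comapOfInjective S _ _ _
  have h1 : e.symm x ∈ Subgroup.normalizer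
      (((S.comapOfInjective e.toMonoidHom e.injective hr : Sylow 2 G) : Subgroup G) : Set G) := by
    rw [Subgroup.mem_normalizer_iff]
    intro y
    rw [hS', Subgroup.mem_comap, Subgroup.mem_comap]
    have := Subgroup.mem_normalizer_iff.mp hx (e y)
    simpa using this
  rw [h, hS', Subgroup.mem_comap] at h1
  simpa using h1

theorem selfNormSyl_of_subsingleton (G : Type*) [Group G] [Subsingleton G] : SelfNormSyl G := by
  intro S
  ext x
  rw [Subsingleton.elim x 1]
  exact ⟨fun _ => Subgroup.one_mem _, fun _ => Subgroup.one_mem _⟩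

/-- If one Sylow 2-subgroup is self-normalizing, all are. -/
theorem selfNormSyl_of_one {G : Type*} [Group G] [Finite G] (S0 : Sylow 2 G)
    (h0 : Subgroup.normalizer ((S0 : Subgroup G) : Set G) = (S0 : Subgroup G)) : SelfNormSyl G := by
  haveI : Fact (Nat.Prime 2) := ⟨Nat.prime_two⟩
  intro S
  obtain ⟨g, rfl⟩ := MulAction.exists_smul_eq G S0 S
  apply le_antisymm _ Subgroup.le_normalizer
  intro x hx
  have hx' : x • (g • S0) = g • S0 := Sylow.smul_eq_iff_mem_normalizer.mpr hx
  have h1 : (g⁻¹ * x * g) • S0 = S0 := by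
    rw [mul_smul, mul_smul, hx', inv_smul_smul]
  have h2 := Sylow.smul_eq_iff_mem_normalizer.mp h1
  have h3 : g⁻¹ * x * g ∈ (S0 : Subgroup G) := by
    rw [← h0]
    exact h2
  rw [Sylow.coe_subgroup_smul, Subgroup.mem_pointwise_smul_iff_inv_smul_mem]
  have e : (MulAut.conj g)⁻¹ • x = g⁻¹ * x * g := by
    simp [MulAut.smul_def, MulAut.conj_inv_apply]
  rw [e]
  exact h3

/-- A 2-subgroup containing its normalizer is a maximal 2-subgroup. -/
theorem eq_of_normalizer_le {G : Type*} [Group G] [Finite G] {S : Subgroup G}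
    (hN : Subgroup.normalizer (S : Set G) ≤ S) {R : Subgroup G} (hR : IsPGroup 2 ↥R) (hSR : S ≤ R) :
    R = S := by
  haveI : Fact (Nat.Prime 2) := ⟨Nat.prime_two⟩
  by_contra hne
  haveI : Group.IsNilpotent ↥R := hR.isNilpotent
  have hlt : S.subgroupOf R < ⊤ := by
    rw [lt_top_iff_ne_top]
    intro htop
    apply hne
    apply le_antisymm _ hSR
    intro r hr
    have : (⟨r, hr⟩ : ↥R) ∈ S.subgroupOf R := by rw [htop]; exact Subgroup.mem_top _
    rwa [Subgroup.mem_subgroupOf] at this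
  have hnc := Group.normalizerCondition_of_isNilpotent (G := ↥R) (S.subgroupOf R) hlt
  obtain ⟨x, hxN, hxS⟩ := SetLike.exists_of_lt hnc
  apply hxS
  rw [Subgroup.mem_subgroupOf]
  apply hN
  apply mem_normalizer_of_conj_mem
  intro s hs
  have hsR : s ∈ R := hSR hs
  have h1 : x * ⟨s, hsR⟩ * x⁻¹ ∈ S.subgroupOf R := by
    apply conj_mem_of_mem_normalizer hxN
    rw [Subgroup.mem_subgroupOf]
    exact hs
  rw [Subgroup.mem_subgroupOf] at h1
  simpa using h1

namespace HolRel

variable {G : Type*} [Group G] {P U M : Subgroup G} {z : G}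

theorem isPGroup_U (h : HolRel P U M z) : IsPGroup 2 ↥U := by
  intro u
  refine ⟨1, ?_⟩
  apply Subtype.ext
  rw [pow_one, pow_two, Subgroup.coe_mul, Subgroup.coe_one]
  exact h.Usq u u.2

/-- The core step: a maximal 2-subgroup of `P` contains its normalizer in `G`, provided the Sylow 2-subgroups of
`M` are self-normalizing. -/
theorem normalizer_le_of_max [Finite G] (h : HolRel P U M z) (hM : SelfNormSyl ↥M) (S : Subgroup G)
    (hS2 : IsPGroup 2 ↥S) (hSP : S ≤ P)
    (hmax : ∀ R : Subgroup G, IsPGroup 2 ↥R → R ≤ P → S ≤ R → R = S) :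
    Subgroup.normalizer (S : Set G) ≤ S := by
  classical
  haveI : Fact (Nat.Prime 2) := ⟨Nat.prime_two⟩
  have hc := h.toCtx
  have hU2 := h.isPGroup_U
  -- `P` normalizes `U`
  have hPN : P ≤ Subgroup.normalizer (U : Set G) := by
    intro g hg
    apply mem_normalizer_of_conj_mem
    intro u hu
    exact h.Unorm g hg u hu
  -- `U ≤ S`
  have hUS : U ≤ S := by
    have h1 : IsPGroup 2 ↥(S ⊔ U) := IsPGroup.to_sup_of_normal_right' hS2 hU2 (le_trans hSP hPN)
    have h2 : S ⊔ U = S := hmax (S ⊔ U) h1 (sup_le hSP h.UP) le_sup_left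
    rw [← h2]
    exact le_sup_right
  -- central elements of `S` lie in `U`
  have hcentU : ∀ x ∈ S, (∀ s ∈ S, s * x = x * s) → x ∈ U := by
    intro x hx hxc
    have hxP : x ∈ P := hSP hx
    have : (⟨x, hxP⟩ : ↥P) ∈ U.subgroupOf P := by
      apply hc.cent_U
      intro u hu
      rw [Subgroup.mem_subgroupOf] at hu
      apply Subtype.ext
      rw [Subgroup.coe_mul, Subgroup.coe_mul]
      exact (hxc u (hUS hu)).symm
    rwa [Subgroup.mem_subgroupOf] at this
  -- a non-trivial central element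
  haveI : Nontrivial ↥S := ⟨⟨⟨z, hUS h.zU⟩, 1, fun hc' => h.z1 (congrArg Subtype.val hc')⟩⟩
  haveI : Nontrivial ↥(Subgroup.center ↥S) := hS2.center_nontrivial
  obtain ⟨t', ht'⟩ := exists_ne (1 : ↥(Subgroup.center ↥S))
  have htS : ((t' : ↥S) : G) ∈ S := (t' : ↥S).2
  have ht1 : ((t' : ↥S) : G) ≠ 1 := by
    intro hc'
    apply ht'
    apply Subtype.ext
    apply Subtype.ext
    exact hc'
  have htc : ∀ s ∈ S, s * ((t' : ↥S) : G) = ((t' : ↥S) : G) * s := by
    intro s hs
    have := Subgroup.mem_center_iff.mp t'.2 ⟨s, hs⟩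
    exact congrArg Subtype.val this
  have htU : ((t' : ↥S) : G) ∈ U := hcentU _ htS htc
  -- the normalizer lies in `P`
  have hNP : ∀ g ∈ Subgroup.normalizer (S : Set G), g ∈ P := by
    intro g hg
    have hginv : g⁻¹ ∈ Subgroup.normalizer (S : Set G) := Subgroup.inv_mem _ hg
    have h1S : g * ((t' : ↥S) : G) * g⁻¹ ∈ S := conj_mem_of_mem_normalizer hg htS
    have h1c : ∀ s ∈ S, s * (g * ((t' : ↥S) : G) * g⁻¹) = (g * ((t' : ↥S) : G) * g⁻¹) * s := by
      intro s hs
      have hs' : g⁻¹ * s * g ∈ S := by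
        have := conj_mem_of_mem_normalizer hginv hs
        rwa [inv_inv] at this
      have := htc _ hs'
      calc s * (g * ((t' : ↥S) : G) * g⁻¹)
          = g * ((g⁻¹ * s * g) * ((t' : ↥S) : G)) * g⁻¹ := by group
        _ = g * (((t' : ↥S) : G) * (g⁻¹ * s * g)) * g⁻¹ := by rw [this]
        _ = (g * ((t' : ↥S) : G) * g⁻¹) * s := by group
    have h1U : g * ((t' : ↥S) : G) * g⁻¹ ∈ U := hcentU _ h1S h1c
    have h11 : g * ((t' : ↥S) : G) * g⁻¹ ≠ 1 := by
      intro hc'
      apply ht1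
      calc ((t' : ↥S) : G) = g⁻¹ * (g * ((t' : ↥S) : G) * g⁻¹) * g := by group
        _ = 1 := by rw [hc']; group
    have haU : (⟨g * ((t' : ↥S) : G) * g⁻¹, h.UP h1U⟩ : ↥P) ∈ U.subgroupOf P := by
      rw [Subgroup.mem_subgroupOf]; exact h1U
    have hbU : (⟨((t' : ↥S) : G), h.UP htU⟩ : ↥P) ∈ U.subgroupOf P := by
      rw [Subgroup.mem_subgroupOf]; exact htU
    have ha1 : (⟨g * ((t' : ↥S) : G) * g⁻¹, h.UP h1U⟩ : ↥P) ≠ 1 := fun hc' =>
      h11 (congrArg Subtype.val hc')
    have hb1 : (⟨((t' : ↥S) : G), h.UP htU⟩ : ↥P) ≠ 1 := fun hc' => ht1 (congrArg Subtype.val hc')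
    obtain ⟨m, _, hm⟩ := hc.exists_conj_eq haU hbU ha1 hb1
    have hm' : (m : G) * (g * ((t' : ↥S) : G) * g⁻¹) * (m : G)⁻¹ = ((t' : ↥S) : G) := by
      have := congrArg Subtype.val hm
      simpa using this
    have hcomm : ((m : G) * g) * ((t' : ↥S) : G) = ((t' : ↥S) : G) * ((m : G) * g) := by
      calc ((m : G) * g) * ((t' : ↥S) : G)
          = ((m : G) * (g * ((t' : ↥S) : G) * g⁻¹) * (m : G)⁻¹) * ((m : G) * g) := by group
        _ = ((t' : ↥S) : G) * ((m : G) * g) := by rw [hm']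
    have hmgP : (m : G) * g ∈ P := h.cz _ htU ht1 _ hcomm
    have : g = (m : G)⁻¹ * ((m : G) * g) := by group
    rw [this]
    exact P.mul_mem (P.inv_mem m.2) hmgP
  -- the Sylow 2-subgroup `S ∩ M` of `M`
  have hMN : M ≤ Subgroup.normalizer (U : Set G) := le_trans h.MP hPN
  let T : Sylow 2 ↥M :=
    { toSubgroup := S.subgroupOf M
      isPGroup' := hS2.comap_subtype
      is_maximal' := by
        intro Q hQ hTQ
        have hR2 : IsPGroup 2 ↥(Q.map M.subtype) := hQ.map M.subtype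
        have hRM : Q.map M.subtype ≤ M := by
          rintro _ ⟨q, _, rfl⟩
          exact q.2
        have hW2 : IsPGroup 2 ↥(Q.map M.subtype ⊔ U) :=
          IsPGroup.to_sup_of_normal_right' hR2 hU2 (le_trans hRM hMN)
        have hWP : Q.map M.subtype ⊔ U ≤ P := sup_le (le_trans hRM h.MP) h.UP
        have hSW : S ≤ Q.map M.subtype ⊔ U := by
          intro s hs
          obtain ⟨u, hu, m, hm, hsum⟩ := h.sup s (hSP hs)
          have hmS : m ∈ S := by
            have : m = u⁻¹ * s := by rw [hsum]; group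
            rw [this]
            exact S.mul_mem (S.inv_mem (hUS hu)) hs
          have hmQ : (⟨m, hm⟩ : ↥M) ∈ Q := hTQ (by rw [Subgroup.mem_subgroupOf]; exact hmS)
          rw [hsum]
          exact Subgroup.mul_mem _ (Subgroup.mem_sup_right hu)
            (Subgroup.mem_sup_left ⟨⟨m, hm⟩, hmQ, rfl⟩)
        have hWS : Q.map M.subtype ⊔ U = S := hmax _ hW2 hWP hSW
        apply le_antisymm _ hTQ
        intro q hq
        rw [Subgroup.mem_subgroupOf, ← hWS]
        exact Subgroup.mem_sup_left ⟨q, hq, rfl⟩ }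
  have hT : ((T : Sylow 2 ↥M) : Subgroup ↥M) = S.subgroupOf M := rfl
  have hTN := hM T
  intro g hg
  have hgP := hNP g hg
  obtain ⟨u, hu, m, hm, hgum⟩ := h.sup g hgP
  have hmN : m ∈ Subgroup.normalizer (S : Set G) := by
    have : m = u⁻¹ * g := by rw [hgum]; group
    rw [this]
    exact Subgroup.mul_mem _ (Subgroup.inv_mem _ (Subgroup.le_normalizer (hUS hu))) hg
  have hmT : (⟨m, hm⟩ : ↥M) ∈ Subgroup.normalizer (((T : Sylow 2 ↥M) : Subgroup ↥M) : Set ↥M) := by
    apply mem_normalizer_of_conj_mem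
    intro x hx
    rw [hT, Subgroup.mem_subgroupOf] at hx ⊢
    have := conj_mem_of_mem_normalizer hmN hx
    simpa using this
  rw [hTN, hT, Subgroup.mem_subgroupOf] at hmT
  rw [hgum]
  exact S.mul_mem (hUS hu) hmT

/-- Self-normalizing Sylow 2-subgroups pass from `M` to `G`. -/
theorem selfNormSyl [Finite G] (h : HolRel P U M z) (hM : SelfNormSyl ↥M) : SelfNormSyl G := by
  classical
  haveI : Fact (Nat.Prime 2) := ⟨Nat.prime_two⟩
  obtain ⟨SP⟩ : Nonempty (Sylow 2 ↥P) := inferInstance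
  have hS2 : IsPGroup 2 ↥((SP : Subgroup ↥P).map P.subtype) := SP.isPGroup'.map P.subtype
  have hSP : (SP : Subgroup ↥P).map P.subtype ≤ P := by
    rintro _ ⟨x, _, rfl⟩
    exact x.2
  have hmax : ∀ R : Subgroup G, IsPGroup 2 ↥R → R ≤ P → (SP : Subgroup ↥P).map P.subtype ≤ R →
      R = (SP : Subgroup ↥P).map P.subtype := by
    intro R hR hRP hSR
    have h1 : IsPGroup 2 ↥(R.subgroupOf P) := hR.comap_subtype
    have h2 : (SP : Subgroup ↥P) ≤ R.subgroupOf P := by
      intro x hx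
      rw [Subgroup.mem_subgroupOf]
      exact hSR ⟨x, hx, rfl⟩
    have h3 : R.subgroupOf P = (SP : Subgroup ↥P) := SP.is_maximal' h1 h2
    rw [← h3, Subgroup.map_subgroupOf_eq_of_le hRP]
  have hN := h.normalizer_le_of_max hM _ hS2 hSP hmax
  let S0 : Sylow 2 G :=
    { toSubgroup := (SP : Subgroup ↥P).map P.subtype
      isPGroup' := hS2
      is_maximal' := fun {Q} hQ hSQ => eq_of_normalizer_le hN hQ hSQ }
  exact selfNormSyl_of_one S0 (le_antisymm hN Subgroup.le_normalizer)

/-- `M` is the special linear group. -/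
theorem nonempty_M_equiv_SL [Finite G] (h : HolRel P U M z) (n : ℕ) (hU : Nat.card ↥U = 2 ^ n) :
    Nonempty (↥M ≃* Matrix.SpecialLinearGroup (Fin n) (ZMod 2)) := by
  have hc := h.toCtx
  have hcomm : ∀ a b : ↥(U.subgroupOf P), a * b = b * a :=
    fun a b => Subtype.ext (hc.Ucomm a a.2 b b.2)
  have hsq : ∀ a : ↥(U.subgroupOf P), a * a = 1 := fun a => Subtype.ext (hc.Usq a a.2)
  have hcard : Nat.card ↥(U.subgroupOf P) = 2 ^ n := by
    rw [← hU]
    exact Nat.card_congr (Subgroup.subgroupOfEquivOfLe h.UP).toEquiv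
  obtain ⟨e3⟩ := mulAut_equiv_GL_two hcomm hsq n hcard
  obtain ⟨e4⟩ := gl_equiv_sl_two n
  exact ⟨(Subgroup.subgroupOfEquivOfLe h.MP).symm.trans (hc.actEquiv.trans (e3.trans e4))⟩

end HolRel

/-- Sylow 2-subgroups of `SL_{m+1}(2)` are self-normalizing. -/
theorem selfNormSyl_SLz : ∀ m : ℕ, SelfNormSyl (SLz m)
  | 0 => by
    haveI : Subsingleton (Fin (0 + 1)) := inferInstanceAs (Subsingleton (Fin 1))
    haveI : Subsingleton (SLz 0) := Matrix.SpecialLinearGroup.subsingleton_of_subsingleton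
    exact selfNormSyl_of_subsingleton _
  | n + 1 => by
    have hz : ((uel (Pi.single 0 1) : SLz (n + 1)) : Matrix (Fin (n + 1 + 1)) (Fin (n + 1 + 1)) (ZMod 2))
        = Matrix.transvection 0 1 1 := by
      rw [coe_uel, transvection_eq_pm]
    have hrel := holRel_SL n _ hz
    obtain ⟨e⟩ := hrel.nonempty_M_equiv_SL (n + 1) card_Usub
    exact hrel.selfNormSyl ((selfNormSyl_SLz n).of_equiv e.symm)

end Cfsg.Agent.Helper90
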