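import Mathlib
import Cfsg.Agent.Helper90.Conj

set_option autoImplicit false

/-!
A transfer argument by the sign of the permutation action on the cosets of a subgroup `K` of index
two in a subgroup `H` of odd index: if the involution `u ∈ H ∖ K` is killed by every homomorphism
`G → ℤˣ`, and the `2`-group `X ≤ H` centralizes `u` and contains it, then some coset `g H ≠ H` is
fixed by `X` and satisfies `g⁻¹ u g ∉ K`.
-/

namespace Cfsg.Agent.Helper90

theorem exists_conj_fixed {G : Type*} [Group G] [Finite G] (H K : Subgroup G) (hKH : K ≤ H)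
    (hKi : K.relIndex H = 2) (hodd : Odd H.index)
    (u : G) (huu : u * u = 1) (huK : u ∉ K)
    (htriv : ∀ φ : G →* ℤˣ, φ u = 1)
    (X : Subgroup G) (hX2 : IsPGroup 2 X) (hXH : X ≤ H) (hXu : ∀ x ∈ X, x * u = u * x) :
    ∃ g : G, g ∉ H ∧ g⁻¹ * u * g ∉ K ∧ ∀ x ∈ X, g⁻¹ * x * g ∈ H := by
  classical
  have : Fact (Nat.Prime 2) := ⟨Nat.prime_two⟩
  have : Fintype (G ⧸ K) := Fintype.ofFinite _
  have huinv : u⁻¹ = u := inv_eq_of_mul_eq_one_left huu
  -- `K` is normal in `H`
  have hKn : (K.subgroupOf H).Normal := Subgroup.normal_of_index_eq_two hKi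
  have hKconj : ∀ p ∈ H, ∀ m ∈ K, p * m * p⁻¹ ∈ K := by
    intro p hp m hm
    have := hKn.conj_mem ⟨m, hKH hm⟩ (Subgroup.mem_subgroupOf.mpr hm) ⟨p, hp⟩
    rw [Subgroup.mem_subgroupOf] at this
    simpa using this
  -- the predicate on `G ⧸ H`
  obtain ⟨FM, hFM⟩ : ∃ FM : G ⧸ H → Prop,
      ∀ b, FM b ↔ ∃ g : G, (g : G ⧸ H) = b ∧ g⁻¹ * u * g ∈ K := ⟨_, fun b => Iff.rfl⟩
  have K1 : ∀ g : G, FM (g : G ⧸ H) ↔ g⁻¹ * u * g ∈ K := by
    intro g
    rw [hFM]
    constructor
    · rintro ⟨g', hg', hm⟩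
      rw [QuotientGroup.eq] at hg'
      have h1 := hKconj _ (Subgroup.inv_mem _ hg') _ hm
      have e : (g'⁻¹ * g)⁻¹ * (g'⁻¹ * u * g') * (g'⁻¹ * g)⁻¹⁻¹ = g⁻¹ * u * g := by group
      rwa [e] at h1
    · intro hm
      exact ⟨g, rfl, hm⟩
  -- fixed points of `u` on `G ⧸ K`
  have K2 : ∀ a : G ⧸ K, (MulAction.toPermHom G (G ⧸ K) u) a = a ↔
      FM (Subgroup.quotientEquivProdOfLE hKH a).1 := by
    intro a
    induction a using QuotientGroup.induction_on with
    | H g =>
      have h1 : (Subgroup.quotientEquivProdOfLE hKH (g : G ⧸ K)).1 = (g : G ⧸ H) := rfl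
      rw [h1, K1]
      have h2 : (MulAction.toPermHom G (G ⧸ K) u) (g : G ⧸ K) = ((u * g : G) : G ⧸ K) := rfl
      rw [h2, QuotientGroup.eq]
      have e : (u * g)⁻¹ * g = g⁻¹ * u⁻¹ * g := by group
      rw [e, huinv]
  have hcardfix : Nat.card ↥(Function.fixedPoints (MulAction.toPermHom G (G ⧸ K) u)) =
      Nat.card {b // FM b} * 2 := by
    have e1 : ↥(Function.fixedPoints (MulAction.toPermHom G (G ⧸ K) u)) ≃
        {y : (G ⧸ H) × (↥H ⧸ K.subgroupOf H) // FM y.1} :=
      Equiv.subtypeEquiv (Subgroup.quotientEquivProdOfLE hKH) (fun a => K2 a)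
    have e2 : {y : (G ⧸ H) × (↥H ⧸ K.subgroupOf H) // FM y.1} ≃
        {b // FM b} × (↥H ⧸ K.subgroupOf H) :=
      Equiv.prodSubtypeFstEquivSubtypeProd
    rw [Nat.card_congr (e1.trans e2), Nat.card_prod]
    congr 1
  -- the sign is trivial
  have hσ2 : (MulAction.toPermHom G (G ⧸ K) u) ^ 2 = 1 := by
    rw [← map_pow, pow_two, huu, map_one]
  have hcard : Fintype.card (G ⧸ K) = 2 * H.index := by
    rw [← Nat.card_eq_fintype_card, ← Subgroup.index_eq_card, ← Subgroup.relIndex_mul_index hKH, hKi]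
  have hsign : Equiv.Perm.sign (MulAction.toPermHom G (G ⧸ K) u) = 1 :=
    htriv (Equiv.Perm.sign.comp (MulAction.toPermHom G (G ⧸ K)))
  rw [Equiv.Perm.sign_of_pow_two_eq_one hσ2, ← Nat.card_eq_fintype_card
    (α := ↥(Function.fixedPoints (MulAction.toPermHom G (G ⧸ K) u))), hcardfix, hcard] at hsign
  have hle : Nat.card {b // FM b} ≤ H.index := by
    rw [Subgroup.index_eq_card]
    exact Nat.card_le_card_of_injective Subtype.val Subtype.val_injective
  have hSodd : Odd (Nat.card {b // FM b}) := by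
    obtain ⟨k, hk⟩ := hodd
    rw [hk] at hsign hle
    by_contra hne
    rw [Nat.not_odd_iff_even] at hne
    obtain ⟨j, hj⟩ := hne
    rw [hj] at hsign hle
    have e : (2 * (2 * k + 1) - (j + j) * 2) / 2 = 2 * (k - j) + 1 := by omega
    rw [e, pow_succ, pow_mul] at hsign
    simp at hsign
  -- the complement
  have hcompl : Even (Nat.card {b // ¬ FM b}) := by
    have h1 : Nat.card {b // FM b} + Nat.card {b // ¬ FM b} = H.index := by
      rw [Subgroup.index_eq_card]
      have : Fintype (G ⧸ H) := Fintype.ofFinite _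
      simp only [Nat.card_eq_fintype_card]
      rw [Fintype.card_subtype_compl]
      have := Fintype.card_subtype_le FM
      omega
    obtain ⟨k, hk⟩ := hodd
    obtain ⟨j, hj⟩ := hSodd
    exact ⟨k - j, by omega⟩
  -- the action of `X` on the complement
  let S : SubMulAction ↥X (G ⧸ H) :=
    { carrier := {b | ¬ FM b}
      smul_mem' := by
        intro c x hx
        induction x using QuotientGroup.induction_on with
        | H g =>
          have hx' : ¬ g⁻¹ * u * g ∈ K := fun h => hx ((K1 g).mpr h)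
          have h1 : c • (g : G ⧸ H) = (((c : G) * g : G) : G ⧸ H) := rfl
          show ¬ FM (c • (g : G ⧸ H))
          rw [h1, K1]
          have e : ((c : G) * g)⁻¹ * u * ((c : G) * g) = g⁻¹ * ((c : G)⁻¹ * (u * (c : G))) * g := by
            group
          rw [e, ← hXu c c.2]
          have e2 : g⁻¹ * ((c : G)⁻¹ * ((c : G) * u)) * g = g⁻¹ * u * g := by group
          rw [e2]
          exact hx' }
  have hSeven : Even (Nat.card ↥S) := hcompl
  have hfixmod := IsPGroup.card_modEq_card_fixedPoints hX2 ↥S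
  have hfixeven : Even (Nat.card ↥(MulAction.fixedPoints ↥X ↥S)) := by
    rw [Nat.even_iff] at hSeven ⊢
    rw [← hfixmod]
    exact hSeven
  -- the trivial coset is a fixed point
  have hb0 : ¬ FM ((1 : G) : G ⧸ H) := by
    rw [K1]
    simpa using huK
  have hb0fix : (⟨((1 : G) : G ⧸ H), hb0⟩ : ↥S) ∈ MulAction.fixedPoints ↥X ↥S := by
    intro c
    apply Subtype.ext
    show c • ((1 : G) : G ⧸ H) = ((1 : G) : G ⧸ H)
    have h1 : c • ((1 : G) : G ⧸ H) = (((c : G) * 1 : G) : G ⧸ H) := rfl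
    rw [h1, QuotientGroup.eq]
    simpa using hXH c.2
  -- another fixed point
  obtain ⟨⟨⟨b, hb⟩, hbfix⟩, hbne⟩ : ∃ y : ↥(MulAction.fixedPoints ↥X ↥S),
      y ≠ ⟨⟨((1 : G) : G ⧸ H), hb0⟩, hb0fix⟩ := by
    by_contra hcon
    push Not at hcon
    have : Nat.card ↥(MulAction.fixedPoints ↥X ↥S) = 1 := by
      rw [Nat.card_eq_one_iff_unique]
      exact ⟨⟨fun a b => (hcon a).trans (hcon b).symm⟩, ⟨⟨⟨_, hb0⟩, hb0fix⟩⟩⟩
    rw [this] at hfixeven
    exact absurd hfixeven (by decide)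
  induction b using QuotientGroup.induction_on with
  | H g =>
    refine ⟨g, ?_, fun h => hb ((K1 g).mpr h), ?_⟩
    · intro hgH
      apply hbne
      apply Subtype.ext
      apply Subtype.ext
      show (g : G ⧸ H) = ((1 : G) : G ⧸ H)
      rw [QuotientGroup.eq]
      simpa using hgH
    · intro x hx
      have h3 := hbfix ⟨x, hx⟩
      have h4 : (⟨x, hx⟩ : ↥X) • (g : G ⧸ H) = (g : G ⧸ H) :=
        congrArg Subtype.val h3
      have h5 : (⟨x, hx⟩ : ↥X) • (g : G ⧸ H) = ((x * g : G) : G ⧸ H) := rfl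
      rw [h5, QuotientGroup.eq] at h4
      have h6 := Subgroup.inv_mem _ h4
      have e : ((x * g)⁻¹ * g)⁻¹ = g⁻¹ * x * g := by group
      rwa [e] at h6

end Cfsg.Agent.Helper90
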