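import Cfsg.Agent.Helper94.Srg77.Facts

/-!
helper90 for helper94 (S0429 SRG77 farm #15115): piece (D3) `tri_par`.

Two lines `m = line G x w`, `m' = line G x w'` through `x`; `t (u, u') = |cn G x u ∩ nb u'|` for
`u ∈ m \ {x}`, `u' ∈ m' \ {x}`.  Every row and every column of the `4 × 4` matrix `t` sums to `4`,
an entry is `0` iff `u ~ u'`, otherwise `1` or `2`, every row / column has `0` or `2` zeros.  So a row
(column) with an entry `1`, or without zeros, is all ones.
-/

set_option autoImplicit false
set_option linter.unusedSectionVars false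
set_option linter.unusedVariables false

namespace Cfsg.Agent.Helper90.Srg77

open Finset Cfsg.Agent.Helper94.Srg77

variable {V : Type*} [Fintype V] [DecidableEq V] {G : SimpleGraph V} [DecidableRel G.Adj]

/-- the combinatorics of one row -/
theorem D3_comb {α : Type*} [DecidableEq α] (L : Finset α) (t : α → ℕ) (P : α → Prop)
    [DecidablePred P] (hL : L.card = 4) (hsum : ∑ a ∈ L, t a = 4)
    (h0 : ∀ a ∈ L, P a → t a = 0) (h12 : ∀ a ∈ L, ¬ P a → t a = 1 ∨ t a = 2)
    (hP : (L.filter P).card = 0 ∨ (L.filter P).card = 2)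
    (hyp : (∃ a ∈ L, t a = 1) ∨ (∀ a ∈ L, ¬ P a)) : ∀ a ∈ L, t a = 1 := by
  rcases hP with hP | hP
  · -- no zeros
    have hnP : ∀ a ∈ L, ¬ P a := by
      intro a ha hPa
      have : a ∈ L.filter P := mem_filter.2 ⟨ha, hPa⟩
      rw [card_eq_zero] at hP
      rw [hP] at this
      exact absurd this (notMem_empty a)
    have hle : ∀ a ∈ L, (fun _ => 1) a ≤ t a := by
      intro a ha
      rcases h12 a ha (hnP a ha) with h | h <;> simp [h]
    have hs : ∑ a ∈ L, (fun _ : α => 1) a = ∑ a ∈ L, t a := by
      rw [hsum, sum_const, hL]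
      rfl
    have := (sum_eq_sum_iff_of_le hle).1 hs
    intro a ha
    exact (this a ha).symm
  · -- two zeros: impossible
    exfalso
    have hsplit := sum_filter_add_sum_filter_not L P t
    have hz : ∑ a ∈ L.filter P, t a = 0 := by
      apply sum_eq_zero
      intro a ha
      rw [mem_filter] at ha
      exact h0 a ha.1 ha.2
    have hcard : (L.filter (fun a => ¬ P a)).card = 2 := by
      have := card_filter_add_card_filter_not (s := L) P
      omega
    have hle : ∀ a ∈ L.filter (fun a => ¬ P a), t a ≤ (fun _ => 2) a := by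
      intro a ha
      rw [mem_filter] at ha
      rcases h12 a ha.1 ha.2 with h | h <;> simp [h]
    have hs : ∑ a ∈ L.filter (fun a => ¬ P a), t a =
        ∑ a ∈ L.filter (fun a => ¬ P a), (fun _ : α => 2) a := by
      rw [sum_const, hcard]
      rw [hz, zero_add, hsum] at hsplit
      rw [hsplit]
      rfl
    have h2 := (sum_eq_sum_iff_of_le hle).1 hs
    rcases hyp with ⟨a, ha, h1⟩ | hyp
    · by_cases hPa : P a
      · rw [h0 a ha hPa] at h1
        exact absurd h1 (by norm_num)
      · have := h2 a (mem_filter.2 ⟨ha, hPa⟩)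
        rw [h1] at this
        exact absurd this (by norm_num)
    · have : L.filter P = ∅ := by
        rw [filter_eq_empty_iff]
        exact hyp
      rw [this, card_empty] at hP
      exact absurd hP (by norm_num)

/-- a neighbour of `x` has exactly one neighbour besides `x` on a line through `x` -/
theorem D3_nb_line (h : Hyp G) (f : F5a G) {x y c : V} (hxy : x ≠ y) (nxy : ¬ G.Adj x y)
    (hc : G.Adj x c) : (G.neighborFinset c ∩ (line G x y).erase x).card = 1 := by
  have hcl : c ∉ line G x y := fun hcl =>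
    f.line_noEdges hxy nxy x (left_mem_line x y) c hcl hc
  have hx : x ∈ G.neighborFinset c ∩ line G x y :=
    mem_inter.2 ⟨(G.mem_neighborFinset c x).2 hc.symm, left_mem_line x y⟩
  have h2 : (G.neighborFinset c ∩ line G x y).card = 2 := by
    rcases f.e02 hxy nxy hcl with h0 | h2
    · rw [card_eq_zero] at h0
      rw [h0] at hx
      exact absurd hx (notMem_empty x)
    · exact h2
  rw [inter_erase, card_erase_of_mem hx, h2]

/-- the row sums -/
theorem D3_sum (h : Hyp G) (f : F5a G) {x y u : V} (hxy : x ≠ y) (nxy : ¬ G.Adj x y)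
    (hux : u ≠ x) (nux : ¬ G.Adj x u) :
    ∑ u' ∈ (line G x y).erase x, (cn G x u ∩ G.neighborFinset u').card = 4 := by
  have e1 : ∀ u' : V, (cn G x u ∩ G.neighborFinset u').card =
      ∑ c ∈ cn G x u, if G.Adj u' c then 1 else 0 := by
    intro u'
    rw [← card_filter]
    congr 1
    ext c
    simp only [mem_inter, mem_filter, SimpleGraph.mem_neighborFinset]
  have e2 : ∀ c : V, (∑ u' ∈ (line G x y).erase x, if G.Adj u' c then 1 else 0) =
      (G.neighborFinset c ∩ (line G x y).erase x).card := by
    intro c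
    rw [← card_filter]
    congr 1
    ext u'
    simp only [mem_inter, mem_filter, SimpleGraph.mem_neighborFinset]
    constructor
    · rintro ⟨h1, h2⟩
      exact ⟨h2.symm, h1⟩
    · rintro ⟨h1, h2⟩
      exact ⟨h2, h1.symm⟩
  simp_rw [e1]
  rw [sum_comm]
  simp_rw [e2]
  rw [sum_congr rfl (fun c hc => D3_nb_line h f hxy nxy (mem_cn.1 hc).1)]
  rw [sum_const, h.nadj x u hux.symm nux]
  rfl

/-- a row with an entry `1`, or without zeros, is all ones -/
theorem D3_row (h : Hyp G) (f : F5a G) {x y u : V} (hxy : x ≠ y) (nxy : ¬ G.Adj x y)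
    (hux : u ≠ x) (nux : ¬ G.Adj x u) (hu : u ∉ line G x y)
    (hdis : ∀ u' ∈ line G x y, u' ∈ line G x u → u' = x)
    (hyp : (∃ u' ∈ (line G x y).erase x, (cn G x u ∩ G.neighborFinset u').card = 1) ∨
      (∀ u' ∈ (line G x y).erase x, ¬ G.Adj u u')) :
    ∀ u' ∈ (line G x y).erase x, (cn G x u ∩ G.neighborFinset u').card = 1 := by
  refine D3_comb ((line G x y).erase x) (fun u' => (cn G x u ∩ G.neighborFinset u').card)
    (fun u' => G.Adj u u') ?_ (D3_sum h f hxy nxy hux nux) ?_ ?_ ?_ hyp
  · rw [card_erase_of_mem (left_mem_line x y), f.line_card hxy nxy]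
  · intro u' hu' hadj
    show (cn G x u ∩ G.neighborFinset u').card = 0
    rw [card_eq_zero, ← subset_empty, ← h.adj u u' hadj]
    intro c hc
    rw [mem_inter, mem_cn] at hc
    rw [mem_cn]
    exact ⟨hc.1.2, (G.mem_neighborFinset u' c).1 hc.2⟩
  · intro u' hu' hnadj
    rw [mem_erase] at hu'
    have hnxu' : ¬ G.Adj x u' := f.line_noEdges hxy nxy x (left_mem_line x y) u' hu'.2
    have huu' : u ≠ u' := by
      rintro rfl
      exact hu hu'.2
    have hnot : u' ∉ line G x u := fun hmem => hu'.1 (hdis u' hu'.2 hmem)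
    exact f.tri_card hux.symm hu'.1.symm huu' nux hnxu' hnadj hnot
  · have e : ((line G x y).erase x).filter (fun u' => G.Adj u u') =
        G.neighborFinset u ∩ line G x y := by
      ext v
      simp only [mem_filter, mem_erase, mem_inter, SimpleGraph.mem_neighborFinset]
      constructor
      · rintro ⟨⟨_, h2⟩, h3⟩
        exact ⟨h3, h2⟩
      · rintro ⟨h1, h2⟩
        refine ⟨⟨?_, h2⟩, h1⟩
        rintro rfl
        exact nux h1.symm
    rw [e]
    exact f.e02 hxy nxy hu

/-- (D3) -/
theorem tri_par (h : Hyp G) (f : F5a G) {x w w' : V} (h1 : x ≠ w) (h2 : x ≠ w') (h3 : w ≠ w')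
    (n1 : ¬ G.Adj x w) (n2 : ¬ G.Adj x w') (n3 : ¬ G.Adj w w') (hw' : w' ∉ line G x w) :
    ((cn G x w ∩ G.neighborFinset w').card = 1 ↔ NoEdges G (line G x w) (line G x w')) := by
  -- the two lines meet in `x` only
  have hmeet : ∀ v ∈ line G x w, v ∈ line G x w' → v = x := by
    intro v hv hv'
    by_contra hvx
    have e1 : line G x v = line G x w := f.line_eq h1 n1 (left_mem_line x w) hv (Ne.symm hvx)
    have e2 : line G x v = line G x w' := f.line_eq h2 n2 (left_mem_line x w') hv' (Ne.symm hvx)
    apply hw'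
    rw [← e1, e2]
    exact right_mem_line x w'
  have hsymm : ∀ u u' : V, cn G x u ∩ G.neighborFinset u' = cn G x u' ∩ G.neighborFinset u := by
    intro u u'
    ext c
    simp only [mem_inter, mem_cn, SimpleGraph.mem_neighborFinset]
    tauto
  -- rows
  have hrow : ∀ u ∈ (line G x w).erase x,
      ((∃ u' ∈ (line G x w').erase x, (cn G x u ∩ G.neighborFinset u').card = 1) ∨
        (∀ u' ∈ (line G x w').erase x, ¬ G.Adj u u')) →
      ∀ u' ∈ (line G x w').erase x, (cn G x u ∩ G.neighborFinset u').card = 1 := by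
    intro u hu
    rw [mem_erase] at hu
    have hnxu : ¬ G.Adj x u := f.line_noEdges h1 n1 x (left_mem_line x w) u hu.2
    have hline : line G x u = line G x w := f.line_eq h1 n1 (left_mem_line x w) hu.2 hu.1.symm
    refine D3_row h f h2 n2 hu.1 hnxu (fun hmem => hu.1 (hmeet u hu.2 hmem)) ?_
    intro v hv hv'
    rw [hline] at hv'
    exact hmeet v hv' hv
  -- columns
  have hcol : ∀ u' ∈ (line G x w').erase x,
      ((∃ u ∈ (line G x w).erase x, (cn G x u' ∩ G.neighborFinset u).card = 1) ∨
        (∀ u ∈ (line G x w).erase x, ¬ G.Adj u' u)) →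
      ∀ u ∈ (line G x w).erase x, (cn G x u' ∩ G.neighborFinset u).card = 1 := by
    intro u' hu'
    rw [mem_erase] at hu'
    have hnxu : ¬ G.Adj x u' := f.line_noEdges h2 n2 x (left_mem_line x w') u' hu'.2
    have hline : line G x u' = line G x w' := f.line_eq h2 n2 (left_mem_line x w') hu'.2 hu'.1.symm
    refine D3_row h f h1 n1 hu'.1 hnxu (fun hmem => hu'.1 (hmeet u' hmem hu'.2)) ?_
    intro v hv hv'
    rw [hline] at hv'
    exact hmeet v hv hv'
  have hwm : w ∈ (line G x w).erase x := mem_erase.2 ⟨h1.symm, right_mem_line x w⟩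
  have hwm' : w' ∈ (line G x w').erase x := mem_erase.2 ⟨h2.symm, right_mem_line x w'⟩
  constructor
  · intro ht u hu u' hu' hadj
    by_cases hux : u = x
    · subst hux
      exact f.line_noEdges h2 n2 u (left_mem_line u w') u' hu' hadj
    by_cases hux' : u' = x
    · subst hux'
      exact f.line_noEdges h1 n1 u hu u' (left_mem_line u' w) hadj
    have hum : u ∈ (line G x w).erase x := mem_erase.2 ⟨hux, hu⟩
    have hum' : u' ∈ (line G x w').erase x := mem_erase.2 ⟨hux', hu'⟩
    have r1 := hrow w hwm (Or.inl ⟨w', hwm', ht⟩) u' hum'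
    rw [hsymm] at r1
    have r2 := hcol u' hum' (Or.inl ⟨w, hwm, r1⟩) u hum
    have r3 : cn G x u' ∩ G.neighborFinset u = ∅ := by
      rw [← subset_empty, ← h.adj u u' hadj]
      intro c hc
      rw [mem_inter, mem_cn] at hc
      rw [mem_cn]
      exact ⟨(G.mem_neighborFinset u c).1 hc.2, hc.1.2⟩
    rw [r3, card_empty] at r2
    exact absurd r2 (by norm_num)
  · intro hpar
    refine hrow w hwm (Or.inr ?_) w' hwm'
    intro u' hu'
    exact hpar w (right_mem_line x w) u' (mem_erase.1 hu').2

end Cfsg.Agent.Helper90.Srg77
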