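import Cfsg.Agent.Helper94.Srg77.Facts

/-!
helper90 for helper94 (S0429 SRG77 farm #15115): piece (LAM) `par_le`.

`X` := the lines through `x` crossing both `m` and `m'`.  Counting the triples `(u, u', c)` with
`u ∈ m \ {x}`, `u' ∈ m' \ {x}`, `c ∈ far G x` a common neighbour of `u`, `u'` in two ways gives
`16 * |X| ≤ 16 * 3`; then `15 ≥ |parBoth| + 2 + (6 + 6 - |X|)`.
-/

set_option autoImplicit false
set_option linter.unusedSectionVars false
set_option linter.unusedVariables false

namespace Cfsg.Agent.Helper90.Srg77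

open Finset Cfsg.Agent.Helper94.Srg77

variable {V : Type*} [Fintype V] [DecidableEq V] {G : SimpleGraph V} [DecidableRel G.Adj]

/-- two lines through `x` with a common vertex other than `x` coincide -/
theorem LAM_lines_meet (f : F6a G) {x : V} {m1 m2 : Finset V} (h1 : m1 ∈ linesAt G x)
    (h2 : m2 ∈ linesAt G x) {v : V} (hv1 : v ∈ m1) (hv2 : v ∈ m2) (hvx : v ≠ x) : m1 = m2 := by
  obtain ⟨y1, hy1, n1, rfl⟩ := mem_linesAt.1 h1
  obtain ⟨y2, hy2, n2, rfl⟩ := mem_linesAt.1 h2
  rw [← f.line_eq hy1.symm n1 (left_mem_line x y1) hv1 hvx.symm,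
    ← f.line_eq hy2.symm n2 (left_mem_line x y2) hv2 hvx.symm]

/-- the vertices of a line through `x` are not adjacent to `x` -/
theorem LAM_not_adj (f : F6a G) {x : V} {m1 : Finset V} (h1 : m1 ∈ linesAt G x) {v : V}
    (hv1 : v ∈ m1) : ¬ G.Adj x v := by
  obtain ⟨y1, hy1, n1, rfl⟩ := mem_linesAt.1 h1
  exact f.line_noEdges hy1.symm n1 x (left_mem_line x y1) v hv1

theorem LAM_self_mem {x : V} {m1 : Finset V} (h1 : m1 ∈ linesAt G x) : x ∈ m1 := by
  obtain ⟨y1, hy1, n1, rfl⟩ := mem_linesAt.1 h1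
  exact left_mem_line x y1

theorem LAM_card_erase (f : F6a G) {x : V} {m1 : Finset V} (h1 : m1 ∈ linesAt G x) :
    (m1.erase x).card = 4 := by
  rw [card_erase_of_mem (LAM_self_mem h1)]
  obtain ⟨y1, hy1, n1, rfl⟩ := mem_linesAt.1 h1
  rw [f.line_card hy1.symm n1]

theorem LAM_line_eq (f : F6a G) {x : V} {m1 : Finset V} (h1 : m1 ∈ linesAt G x) {v : V}
    (hv1 : v ∈ m1) (hvx : v ≠ x) : line G x v = m1 := by
  obtain ⟨y1, hy1, n1, rfl⟩ := mem_linesAt.1 h1
  exact f.line_eq hy1.symm n1 (left_mem_line x y1) hv1 hvx.symm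

/-- the double counting identity -/
theorem LAM_count (Fx M M' : Finset V) :
    ∑ c ∈ Fx, (G.neighborFinset c ∩ M).card * (G.neighborFinset c ∩ M').card =
      ∑ u ∈ M, ∑ u' ∈ M', (cn G u u' ∩ Fx).card := by
  have e1 : ∀ (c : V) (S : Finset V), (G.neighborFinset c ∩ S).card =
      ∑ u ∈ S, if G.Adj c u then 1 else 0 := by
    intro c S
    rw [← card_filter]
    congr 1
    ext u
    simp only [mem_inter, mem_filter, SimpleGraph.mem_neighborFinset]
    tauto
  have e2 : ∀ u u' : V, (cn G u u' ∩ Fx).card =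
      ∑ c ∈ Fx, (if G.Adj c u then 1 else 0) * (if G.Adj c u' then 1 else 0) := by
    intro u u'
    have : ∀ c : V, ((if G.Adj c u then 1 else 0) * (if G.Adj c u' then 1 else 0) : ℕ) =
        if (G.Adj c u ∧ G.Adj c u') then 1 else 0 := by
      intro c
      by_cases h1 : G.Adj c u <;> by_cases h2 : G.Adj c u' <;> simp [h1, h2]
    simp_rw [this]
    rw [← card_filter]
    congr 1
    ext c
    simp only [mem_inter, mem_filter, mem_cn]
    constructor
    · rintro ⟨⟨h1, h2⟩, h3⟩
      exact ⟨h3, h1.symm, h2.symm⟩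
    · rintro ⟨h3, h1, h2⟩
      exact ⟨⟨h1.symm, h2.symm⟩, h3⟩
  simp_rw [e1, e2, sum_mul_sum]
  rw [sum_comm]
  apply sum_congr rfl
  intro u _
  rw [sum_comm]

/-- two vertices on parallel lines through `x` have exactly three common neighbours far from `x` -/
theorem LAM_pair (h : Hyp G) (f : F6a G) {x : V} {m m' : Finset V} (hm : m ∈ linesAt G x)
    (hm' : m' ∈ linesAt G x) (hne : m ≠ m') (hpar : NoEdges G m m') {u u' : V}
    (hu : u ∈ m.erase x) (hu' : u' ∈ m'.erase x) : (cn G u u' ∩ far G x).card = 3 := by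
  rw [mem_erase] at hu hu'
  have huu' : u ≠ u' := by
    rintro rfl
    exact hne (LAM_lines_meet f hm hm' hu.2 hu'.2 hu.1)
  have nuu' : ¬ G.Adj u u' := hpar u hu.2 u' hu'.2
  have nxu : ¬ G.Adj x u := LAM_not_adj f hm hu.2
  have nxu' : ¬ G.Adj x u' := LAM_not_adj f hm' hu'.2
  have e1 : line G x u = m := LAM_line_eq f hm hu.2 hu.1
  have e2 : line G x u' = m' := LAM_line_eq f hm' hu'.2 hu'.1
  have hnot : u' ∉ line G x u := by
    rw [e1]
    intro hmem
    exact hne (LAM_lines_meet f hm hm' hmem hu'.2 hu'.1)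
  have h1 : (cn G x u ∩ G.neighborFinset u').card = 1 := by
    rw [f.tri_par hu.1.symm hu'.1.symm huu' nxu nxu' nuu' hnot, e1, e2]
    exact hpar
  have h4 : (cn G u u').card = 4 := h.nadj u u' huu' nuu'
  have hs : cn G u u' \ far G x = cn G x u ∩ G.neighborFinset u' := by
    ext c
    simp only [mem_sdiff, mem_inter, mem_cn, mem_far, SimpleGraph.mem_neighborFinset, not_and,
      not_not]
    constructor
    · rintro ⟨⟨ha, hb⟩, hc⟩
      have hcx : c ≠ x := by
        intro hcx
        rw [hcx] at ha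
        exact nxu ha.symm
      exact ⟨⟨hc hcx, ha⟩, hb⟩
    · rintro ⟨⟨ha, hb⟩, hc⟩
      exact ⟨⟨hb, hc⟩, fun _ => ha⟩
  have := card_inter_add_card_sdiff (cn G u u') (far G x)
  rw [hs, h1, h4] at this
  omega

/-- at most three lines through `x` cross two parallel lines through `x` -/
theorem LAM_X (h : Hyp G) (f : F6a G) {x : V} {m m' : Finset V} (hm : m ∈ linesAt G x)
    (hm' : m' ∈ linesAt G x) (hne : m ≠ m') (hpar : NoEdges G m m') :
    (crossing G x m ∩ crossing G x m').card ≤ 3 := by
  classical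
  set X := crossing G x m ∩ crossing G x m' with hX
  -- the total count is `48`
  have hN : ∑ c ∈ far G x, (G.neighborFinset c ∩ m.erase x).card *
      (G.neighborFinset c ∩ m'.erase x).card = 48 := by
    rw [LAM_count]
    rw [sum_congr rfl (fun u hu => sum_congr rfl (fun u' hu' => LAM_pair h f hm hm' hne hpar hu hu'))]
    simp only [sum_const, LAM_card_erase f hm, LAM_card_erase f hm', smul_eq_mul]
  -- the vertices `≠ x` of the lines of `X`
  set C := X.biUnion (fun m'' => m''.erase x) with hC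
  have hXl : ∀ m'' ∈ X, m'' ∈ linesAt G x := by
    intro m'' hm''
    rw [hX, mem_inter, mem_crossing] at hm''
    exact hm''.1.1
  have hCcard : C.card = 4 * X.card := by
    rw [hC, card_biUnion]
    · rw [sum_congr rfl (fun m'' hm'' => LAM_card_erase f (hXl m'' hm'')), sum_const, smul_eq_mul,
        mul_comm]
    · intro m1 h1 m2 h2 h12
      show Disjoint (m1.erase x) (m2.erase x)
      rw [disjoint_left]
      intro v hv1 hv2
      rw [mem_erase] at hv1 hv2
      exact h12 (LAM_lines_meet f (hXl m1 (mem_coe.1 h1)) (hXl m2 (mem_coe.1 h2)) hv1.2 hv2.2 hv1.1)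
  have hCsub : C ⊆ far G x := by
    intro c hc
    rw [hC, mem_biUnion] at hc
    obtain ⟨m'', hm'', hc⟩ := hc
    rw [mem_erase] at hc
    rw [mem_far]
    exact ⟨hc.1, LAM_not_adj f (hXl m'' hm'') hc.2⟩
  have hC4 : ∀ c ∈ C, (G.neighborFinset c ∩ m.erase x).card *
      (G.neighborFinset c ∩ m'.erase x).card = 4 := by
    intro c hc
    rw [hC, mem_biUnion] at hc
    obtain ⟨m'', hm'', hc⟩ := hc
    rw [mem_erase] at hc
    have hl := hXl m'' hm''
    rw [hX, mem_inter, mem_crossing, mem_crossing] at hm''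
    have nxc : ¬ G.Adj x c := LAM_not_adj f hl hc.2
    have hx : ∀ S : Finset V, x ∉ G.neighborFinset c ∩ S := by
      intro S hxS
      rw [mem_inter, SimpleGraph.mem_neighborFinset] at hxS
      exact nxc hxS.1.symm
    rw [inter_erase, inter_erase, erase_eq_of_notMem (hx m), erase_eq_of_notMem (hx m'),
      f.cross_two hm hl hm''.1.2 hc.2 hc.1, f.cross_two hm' hl hm''.2.2 hc.2 hc.1]
  have hle : ∑ c ∈ C, (G.neighborFinset c ∩ m.erase x).card *
      (G.neighborFinset c ∩ m'.erase x).card ≤ 48 := by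
    rw [← hN]
    exact sum_le_sum_of_subset hCsub
  rw [sum_congr rfl hC4, sum_const, hCcard, smul_eq_mul] at hle
  omega

/-- (LAM) -/
theorem par_le (h : Hyp G) (f : F6a G) {x : V} {m m' : Finset V} (hm : m ∈ linesAt G x)
    (hm' : m' ∈ linesAt G x) (hne : m ≠ m') (hpar : NoEdges G m m') :
    (parBoth G x m m').card ≤ 4 := by
  classical
  have hX := LAM_X h f hm hm' hne hpar
  have hA := f.crossing_card hm
  have hB := f.crossing_card hm'
  have hAB := card_union_add_card_inter (crossing G x m) (crossing G x m')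
  have hmm : NoEdges G m m := by
    obtain ⟨y1, hy1, n1, rfl⟩ := mem_linesAt.1 hm
    exact f.line_noEdges hy1.symm n1
  have hmm' : NoEdges G m' m' := by
    obtain ⟨y1, hy1, n1, rfl⟩ := mem_linesAt.1 hm'
    exact f.line_noEdges hy1.symm n1
  -- the three families are disjoint
  have hd1 : Disjoint ({m, m'} : Finset (Finset V)) (crossing G x m ∪ crossing G x m') := by
    rw [disjoint_left]
    intro l hl hl'
    rw [mem_insert, mem_singleton] at hl
    rw [mem_union, mem_crossing, mem_crossing] at hl'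
    rcases hl with rfl | rfl
    · rcases hl' with hl' | hl'
      · exact hl'.2 hmm
      · exact hl'.2 hpar.symm
    · rcases hl' with hl' | hl'
      · exact hl'.2 hpar
      · exact hl'.2 hmm'
  have hd2 : Disjoint (parBoth G x m m')
      (({m, m'} : Finset (Finset V)) ∪ (crossing G x m ∪ crossing G x m')) := by
    rw [disjoint_left]
    intro l hl hl'
    rw [mem_parBoth] at hl
    rw [mem_union, mem_insert, mem_singleton, mem_union, mem_crossing, mem_crossing] at hl'
    rcases hl' with (rfl | rfl) | hl' | hl'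
    · exact hl.2.1 rfl
    · exact hl.2.2.1 rfl
    · exact hl'.2 hl.2.2.2.1
    · exact hl'.2 hl.2.2.2.2
  have hsub : parBoth G x m m' ∪ (({m, m'} : Finset (Finset V)) ∪
      (crossing G x m ∪ crossing G x m')) ⊆ linesAt G x := by
    intro l hl
    rw [mem_union, mem_union, mem_insert, mem_singleton, mem_union, mem_parBoth, mem_crossing,
      mem_crossing] at hl
    rcases hl with hl | (rfl | rfl) | hl | hl
    · exact hl.1
    · exact hm
    · exact hm'
    · exact hl.1
    · exact hl.1
  have hcard := card_le_card hsub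
  rw [card_union_of_disjoint hd2, card_union_of_disjoint hd1, card_pair hne, f.card_linesAt x]
    at hcard
  omega

end Cfsg.Agent.Helper90.Srg77
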