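import Mathlib

set_option autoImplicit false

namespace Cfsg.Agent.Helper90

open scoped Pointwise

/-- Sylow's theorem inside a subgroup `M`, phrased in the ambient group: two `p`-subgroups `A`, `B` of `M`
can be put, after conjugating `B` by an element of `M`, inside a common `p`-subgroup of `M`. -/
theorem exists_conj_le_pgroup {G : Type*} [Group G] [Finite G] {p : ℕ} [Fact p.Prime]
    (M A B : Subgroup G) (hA : IsPGroup p A) (hB : IsPGroup p B) (hAM : A ≤ M) (hBM : B ≤ M) :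
    ∃ m ∈ M, ∃ S : Subgroup G, S ≤ M ∧ IsPGroup p S ∧ A ≤ S ∧ ∀ b ∈ B, m * b * m⁻¹ ∈ S := by
  obtain ⟨SA, hSA⟩ := (hA.comap_subtype (K := M)).exists_le_sylow
  obtain ⟨SB, hSB⟩ := (hB.comap_subtype (K := M)).exists_le_sylow
  obtain ⟨m, hm⟩ := MulAction.exists_smul_eq M SB SA
  refine ⟨m, m.2, (SA : Subgroup M).map M.subtype, ?_, SA.isPGroup'.map _, ?_, ?_⟩
  · rintro _ ⟨y, _, rfl⟩
    exact y.2
  · intro a ha
    refine ⟨⟨a, hAM ha⟩, hSA ?_, rfl⟩
    show (⟨a, hAM ha⟩ : M) ∈ A.subgroupOf M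
    rw [Subgroup.mem_subgroupOf]
    exact ha
  · intro b hb
    have hb' : (⟨b, hBM hb⟩ : M) ∈ (SB : Subgroup M) := by
      apply hSB
      show (⟨b, hBM hb⟩ : M) ∈ B.subgroupOf M
      rw [Subgroup.mem_subgroupOf]
      exact hb
    have h1 : MulAut.conj m • (⟨b, hBM hb⟩ : M) ∈ MulAut.conj m • (SB : Subgroup M) :=
      Subgroup.smul_mem_pointwise_smul _ _ _ hb'
    have h2 : (MulAut.conj m • (SB : Subgroup M)) = ((m • SB : Sylow p M) : Subgroup M) := rfl
    rw [h2, hm] at h1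
    refine ⟨_, h1, ?_⟩
    simp [MulAut.smul_def, MulAut.conj_apply]

/-- A `2`-subgroup `D` containing an element `z` whose only fixed coset of `H` is `H` itself lies in `H`,
provided the index of `H` is odd. -/
theorem le_of_unique_fixed_coset {G : Type*} [Group G] [Finite G] (H D : Subgroup G) (z : G)
    (hodd : ¬ 2 ∣ H.index) (hfix : ∀ g : G, g⁻¹ * z * g ∈ H → g ∈ H)
    (hD : IsPGroup 2 D) (hzD : z ∈ D) : D ≤ H := by
  have : Fact (Nat.Prime 2) := ⟨Nat.prime_two⟩
  have hcard : ¬ 2 ∣ Nat.card (G ⧸ H) := by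
    rwa [← Subgroup.index_eq_card]
  obtain ⟨c, hc⟩ := hD.nonempty_fixed_point_of_prime_not_dvd_card (G ⧸ H) hcard
  induction c using QuotientGroup.induction_on with
  | H a =>
    have key : ∀ d ∈ D, a⁻¹ * d * a ∈ H := by
      intro d hd
      have h1 : (⟨d, hd⟩ : D) • (QuotientGroup.mk a : G ⧸ H) = QuotientGroup.mk a := hc ⟨d, hd⟩
      have h2 : (QuotientGroup.mk (d * a) : G ⧸ H) = QuotientGroup.mk a := h1
      rw [QuotientGroup.eq] at h2
      have := H.inv_mem h2
      simpa [mul_assoc] using this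
    have haH : a ∈ H := hfix a (key z hzD)
    intro d hd
    have := key d hd
    have h3 : a * (a⁻¹ * d * a) * a⁻¹ ∈ H := H.mul_mem (H.mul_mem haH this) (H.inv_mem haH)
    have e : a * (a⁻¹ * d * a) * a⁻¹ = d := by group
    rwa [e] at h3

end Cfsg.Agent.Helper90
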