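import Mathlib
import Cfsg.Agent.Helper90.Conj

set_option autoImplicit false

/-!
A 2-subgroup `Q` of `G` with a central involution `z` such that all commutators of `Q` lie in `{1, z}`, the only
central involution of `Q` is `z`, `C_G(Q) ≤ Q` and `C_G(z) ≤ N_G(Q)` (for instance `Q = F*(C_G(z))` of symplectic
type and exponent 4).  If `b = g z g⁻¹ ∈ Q` then `z ∈ g Q g⁻¹`.
-/

namespace Cfsg.Agent.Helper90

structure SData {G : Type*} [Group G] (Q : Subgroup G) (z : G) : Prop where
  zQ : z ∈ Q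
  z1 : z ≠ 1
  zz : z * z = 1
  zc : ∀ q ∈ Q, q * z = z * q
  comm : ∀ x ∈ Q, ∀ y ∈ Q, x * y * x⁻¹ * y⁻¹ = 1 ∨ x * y * x⁻¹ * y⁻¹ = z
  cen2 : ∀ x ∈ Q, (∀ q ∈ Q, q * x = x * q) → x * x = 1 → x = 1 ∨ x = z
  self : ∀ x : G, (∀ q ∈ Q, q * x = x * q) → x ∈ Q
  norm : ∀ c : G, c * z = z * c → c ∈ Subgroup.normalizer (Q : Set G)
  two : IsPGroup 2 Q

namespace SData

variable {G : Type*} [Group G] {Q : Subgroup G} {z : G}

theorem z_inv (hS : SData Q z) : z⁻¹ = z := inv_eq_of_mul_eq_one_left hS.zz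

theorem commute_z (hS : SData Q z) {q : G} (hq : q ∈ Q) : Commute z q := (hS.zc q hq).symm

theorem cent_cases (hS : SData Q z) (x : G) (hx : ∀ q ∈ Q, q * x = x * q) (hxx : x * x = 1) :
    x = 1 ∨ x = z := hS.cen2 x (hS.self x hx) hx hxx

/-- a non-central involution `b` of `Q` is conjugate in `Q` to `z * b`. -/
theorem exists_conj (hS : SData Q z) {b : G} (hbQ : b ∈ Q) (hbb : b * b = 1) (hb1 : b ≠ 1) (hbz : b ≠ z) :
    ∃ y ∈ Q, y * b * y⁻¹ = z * b := by
  obtain ⟨q, hqQ, hqb⟩ : ∃ q ∈ Q, q * b ≠ b * q := by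
    by_contra hcon
    push Not at hcon
    rcases hS.cen2 b hbQ hcon hbb with h | h
    · exact hb1 h
    · exact hbz h
  refine ⟨q, hqQ, ?_⟩
  rcases hS.comm q hqQ b hbQ with h | h
  · exfalso
    apply hqb
    calc q * b = (q * b * q⁻¹ * b⁻¹) * (b * q) := by group
      _ = b * q := by rw [h, one_mul]
  · calc q * b * q⁻¹ = (q * b * q⁻¹ * b⁻¹) * b := by group
      _ = z * b := by rw [h]

theorem conj_eq_or (hS : SData Q z) {b q : G} (hbQ : b ∈ Q) (hqQ : q ∈ Q) :
    q * b * q⁻¹ = b ∨ q * b * q⁻¹ = z * b := by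
  rcases hS.comm q hqQ b hbQ with h | h
  · left
    calc q * b * q⁻¹ = (q * b * q⁻¹ * b⁻¹) * b := by group
      _ = b := by rw [h, one_mul]
  · right
    calc q * b * q⁻¹ = (q * b * q⁻¹ * b⁻¹) * b := by group
      _ = z * b := by rw [h]

theorem inv_conj (hS : SData Q z) {b y : G} (hyQ : y ∈ Q)
    (hyb : y * b * y⁻¹ = z * b) : y⁻¹ * b * y = z * b := by
  have hzy : Commute z y⁻¹ := (hS.commute_z hyQ).inv_right
  have h1 : b = y⁻¹ * (z * b) * y := by rw [← hyb]; group
  have h2 : y⁻¹ * (z * b) * y = z * (y⁻¹ * b * y) := by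
    rw [← mul_assoc, ← hzy.eq]; group
  have h3 : z * b = z * (z * (y⁻¹ * b * y)) := by rw [← h2, ← h1]
  rw [← mul_assoc, hS.zz, one_mul] at h3
  exact h3.symm

theorem coset_cases (hS : SData Q z) {b y q : G} (hbQ : b ∈ Q) (hyQ : y ∈ Q)
    (hyb : y * b * y⁻¹ = z * b) (hqQ : q ∈ Q) :
    q * b = b * q ∨ (y⁻¹ * q) * b = b * (y⁻¹ * q) := by
  rcases hS.conj_eq_or hbQ hqQ with h | h
  · left
    calc q * b = (q * b * q⁻¹) * q := by group
      _ = b * q := by rw [h]
  · right
    have hzy : Commute z y⁻¹ := (hS.commute_z hyQ).inv_right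
    have h1 := hS.inv_conj hyQ hyb
    calc (y⁻¹ * q) * b = y⁻¹ * (q * b * q⁻¹) * q := by group
      _ = y⁻¹ * (z * b) * q := by rw [h]
      _ = z * (y⁻¹ * b * y) * (y⁻¹ * q) := by
          rw [← mul_assoc y⁻¹ z b, ← hzy.eq]; group
      _ = z * (z * b) * (y⁻¹ * q) := by rw [h1]
      _ = b * (y⁻¹ * q) := by rw [← mul_assoc z z b, hS.zz, one_mul]

theorem commutes_all (hS : SData Q z) {b y u : G} (hbQ : b ∈ Q) (hyQ : y ∈ Q)
    (hyb : y * b * y⁻¹ = z * b)
    (hu : ∀ p ∈ Q, p * b = b * p → u * p = p * u) (huy : u * y = y * u) :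
    ∀ q ∈ Q, q * u = u * q := by
  intro q hq
  rcases hS.coset_cases hbQ hyQ hyb hq with h | h
  · exact (hu q hq h).symm
  · have h1 := hu (y⁻¹ * q) (Q.mul_mem (Q.inv_mem hyQ) hq) h
    calc q * u = y * ((y⁻¹ * q) * u) := by group
      _ = y * (u * (y⁻¹ * q)) := by rw [h1]
      _ = (y * u) * (y⁻¹ * q) := by group
      _ = (u * y) * (y⁻¹ * q) := by rw [huy]
      _ = u * q := by group

/-- `b y = z y b` when `y b y⁻¹ = z b`. -/
theorem swap_by (hS : SData Q z) {b y : G} (hbQ : b ∈ Q) (_hyQ : y ∈ Q)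
    (hyb : y * b * y⁻¹ = z * b) : b * y = z * (y * b) := by
  have hzb : Commute z b := hS.commute_z hbQ
  have h1 : y * b = z * b * y := by
    calc y * b = (y * b * y⁻¹) * y := by group
      _ = z * b * y := by rw [hyb]
  calc b * y = (z * z) * (b * y) := by rw [hS.zz, one_mul]
    _ = z * (z * b * y) := by group
    _ = z * (y * b) := by rw [h1]

theorem sq_comm (hS : SData Q z) {b y : G} (hbQ : b ∈ Q) (hyQ : y ∈ Q)
    (hyb : y * b * y⁻¹ = z * b) : (y * y) * b = b * (y * y) := by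
  have hzy : Commute z y := hS.commute_z hyQ
  have h1 := hS.swap_by hbQ hyQ hyb
  symm
  calc b * (y * y) = (b * y) * y := by group
    _ = z * (y * b) * y := by rw [h1]
    _ = z * y * (b * y) := by group
    _ = z * y * (z * (y * b)) := by rw [h1]
    _ = (z * y) * z * (y * b) := by group
    _ = (y * z) * z * (y * b) := by rw [hzy.eq]
    _ = y * (z * z) * (y * b) := by group
    _ = (y * y) * b := by rw [hS.zz]; group

/-- An involution `c` of `G` normalizing `Q` and centralizing `C_Q(b)` (`b` a non-central involution of `Q`)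
lies in `{1, z, b, z b}`. -/
theorem centralizer_cent (hS : SData Q z) {b y c : G} (hbQ : b ∈ Q) (hbb : b * b = 1)
    (hyQ : y ∈ Q) (hyb : y * b * y⁻¹ = z * b) (hcc : c * c = 1)
    (hcN : ∀ q ∈ Q, c * q * c⁻¹ ∈ Q)
    (hcP : ∀ p ∈ Q, p * b = b * p → c * p = p * c) :
    c = 1 ∨ c = z ∨ c = b ∨ c = z * b := by
  have hbinv : b⁻¹ = b := inv_eq_of_mul_eq_one_left hbb
  have hcinv : c⁻¹ = c := inv_eq_of_mul_eq_one_left hcc
  have hzb : Commute z b := hS.commute_z hbQ
  have hzy : Commute z y := hS.commute_z hyQ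
  have hcz : c * z = z * c := hcP z hS.zQ (hS.zc b hbQ).symm
  have hcb : c * b = b * c := hcP b hbQ rfl
  have hvQ : y⁻¹ * (c * y * c⁻¹) ∈ Q := Q.mul_mem (Q.inv_mem hyQ) (hcN y hyQ)
  have hv : ∀ p ∈ Q, p * b = b * p → (y⁻¹ * (c * y * c⁻¹)) * p = p * (y⁻¹ * (c * y * c⁻¹)) := by
    intro p hp hpb
    have hp'Q : y * p * y⁻¹ ∈ Q := Q.mul_mem (Q.mul_mem hyQ hp) (Q.inv_mem hyQ)
    have hzp : Commute z p := hS.commute_z hp
    have hp'b : (y * p * y⁻¹) * b = b * (y * p * y⁻¹) := by
      have h1 := hS.inv_conj hyQ hyb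
      have e : (y * p * y⁻¹) * b * (y * p * y⁻¹)⁻¹ = b := by
        calc (y * p * y⁻¹) * b * (y * p * y⁻¹)⁻¹ = y * (p * (y⁻¹ * b * y) * p⁻¹) * y⁻¹ := by group
          _ = y * (p * (z * b) * p⁻¹) * y⁻¹ := by rw [h1]
          _ = y * ((p * z) * b * p⁻¹) * y⁻¹ := by group
          _ = y * ((z * p) * b * p⁻¹) * y⁻¹ := by rw [hzp.eq]
          _ = y * (z * (p * b) * p⁻¹) * y⁻¹ := by group
          _ = y * (z * (b * p) * p⁻¹) * y⁻¹ := by rw [hpb]
          _ = (y * z) * b * y⁻¹ := by group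
          _ = (z * y) * b * y⁻¹ := by rw [hzy.eq]
          _ = z * (y * b * y⁻¹) := by group
          _ = z * (z * b) := by rw [hyb]
          _ = b := by rw [← mul_assoc, hS.zz, one_mul]
      calc (y * p * y⁻¹) * b = ((y * p * y⁻¹) * b * (y * p * y⁻¹)⁻¹) * (y * p * y⁻¹) := by group
        _ = b * (y * p * y⁻¹) := by rw [e]
    have hc1 : c * p = p * c := hcP p hp hpb
    have hc2 : c * (y * p * y⁻¹) = (y * p * y⁻¹) * c := hcP _ hp'Q hp'b
    have hc1' : c⁻¹ * p = p * c⁻¹ := by
      calc c⁻¹ * p = c⁻¹ * (p * c) * c⁻¹ := by group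
        _ = c⁻¹ * (c * p) * c⁻¹ := by rw [hc1]
        _ = p * c⁻¹ := by group
    calc (y⁻¹ * (c * y * c⁻¹)) * p = y⁻¹ * c * y * (c⁻¹ * p) := by group
      _ = y⁻¹ * c * y * (p * c⁻¹) := by rw [hc1']
      _ = y⁻¹ * (c * (y * p * y⁻¹)) * y * c⁻¹ := by group
      _ = y⁻¹ * ((y * p * y⁻¹) * c) * y * c⁻¹ := by rw [hc2]
      _ = p * (y⁻¹ * (c * y * c⁻¹)) := by group
  obtain ⟨v, hvdef⟩ : ∃ v : G, v = y⁻¹ * (c * y * c⁻¹) := ⟨_, rfl⟩
  rw [← hvdef] at hvQ hv
  have hcy : c * y * c⁻¹ = y * v := by rw [hvdef]; group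
  have hvb : v * b = b * v := hv b hbQ rfl
  have hcv : c * v = v * c := hcP v hvQ hvb
  -- `v * v = 1`
  have hvv : v * v = 1 := by
    have h1 : y = y * (v * v) := by
      calc y = (c * c) * y * (c * c)⁻¹ := by rw [hcc]; group
        _ = c * (c * y * c⁻¹) * c⁻¹ := by group
        _ = c * (y * v) * c⁻¹ := by rw [hcy]
        _ = (c * y * c⁻¹) * (c * v) * c⁻¹ := by group
        _ = (y * v) * (v * c) * c⁻¹ := by rw [hcy, hcv]
        _ = y * (v * v) := by group
    have h2 : y * 1 = y * (v * v) := by rw [mul_one]; exact h1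
    exact (mul_left_cancel h2).symm
  by_cases hvy : v * y = y * v
  · -- `v` is central in `Q`
    have hvcen := hS.commutes_all hbQ hyQ hyb hv hvy
    rcases hS.cen2 v hvQ hvcen hvv with h | h
    · -- `c` commutes with `y`
      rw [h, mul_one] at hcy
      have hcy' : c * y = y * c := by
        calc c * y = (c * y * c⁻¹) * c := by group
          _ = y * c := by rw [hcy]
      rcases hS.cent_cases c (hS.commutes_all hbQ hyQ hyb hcP hcy') hcc with h1 | h1
      · exact Or.inl h1
      · exact Or.inr (Or.inl h1)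
    · -- `c y c⁻¹ = y z`; then `c b` centralizes `Q`
      rw [h] at hcy
      have hby := hS.swap_by hbQ hyQ hyb
      have hu : ∀ p ∈ Q, p * b = b * p → (c * b) * p = p * (c * b) := by
        intro p hp hpb
        calc (c * b) * p = c * (b * p) := by group
          _ = c * (p * b) := by rw [hpb]
          _ = (c * p) * b := by group
          _ = (p * c) * b := by rw [hcP p hp hpb]
          _ = p * (c * b) := by group
      have huy : (c * b) * y = y * (c * b) := by
        calc (c * b) * y = c * (b * y) := by group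
          _ = c * (z * (y * b)) := by rw [hby]
          _ = (c * z) * (y * b) := by group
          _ = (z * c) * (y * b) := by rw [hcz]
          _ = z * ((c * y * c⁻¹) * c) * b := by group
          _ = z * ((y * z) * c) * b := by rw [hcy]
          _ = (z * y) * z * c * b := by group
          _ = (y * z) * z * c * b := by rw [hzy.eq]
          _ = y * (z * z) * (c * b) := by group
          _ = y * (c * b) := by rw [hS.zz, mul_one]
      have hcbcb : (c * b) * (c * b) = 1 := by
        calc (c * b) * (c * b) = c * (b * c) * b := by group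
          _ = c * (c * b) * b := by rw [hcb]
          _ = (c * c) * (b * b) := by group
          _ = 1 := by rw [hcc, hbb, one_mul]
      rcases hS.cent_cases (c * b) (hS.commutes_all hbQ hyQ hyb hu huy) hcbcb with h1 | h1
      · right; right; left
        calc c = (c * b) * b⁻¹ := by group
          _ = b := by rw [h1, one_mul, hbinv]
      · right; right; right
        calc c = (c * b) * b⁻¹ := by group
          _ = z * b := by rw [h1, hbinv]
  · -- impossible
    exfalso
    have hvy' : v * y = z * (y * v) := by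
      rcases hS.comm v hvQ y hyQ with h | h
      · exfalso
        apply hvy
        calc v * y = (v * y * v⁻¹ * y⁻¹) * (y * v) := by group
          _ = y * v := by rw [h, one_mul]
      · calc v * y = (v * y * v⁻¹ * y⁻¹) * (y * v) := by group
          _ = z * (y * v) := by rw [h]
    have hyy := hS.sq_comm hbQ hyQ hyb
    have h1 : c * (y * y) = (y * y) * c := hcP _ (Q.mul_mem hyQ hyQ) hyy
    have h2 : c * (y * y) * c⁻¹ = y * y := by rw [h1]; group
    have h3 : c * (y * y) * c⁻¹ = z * (y * y) := by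
      calc c * (y * y) * c⁻¹ = (c * y * c⁻¹) * (c * y * c⁻¹) := by group
        _ = (y * v) * (y * v) := by rw [hcy]
        _ = y * (v * y) * v := by group
        _ = y * (z * (y * v)) * v := by rw [hvy']
        _ = (y * z) * y * (v * v) := by group
        _ = (z * y) * y * 1 := by rw [hzy.eq, hvv]
        _ = z * (y * y) := by group
    apply hS.z1
    have h4 : z * (y * y) = y * y := h3.symm.trans h2
    calc z = (z * (y * y)) * (y * y)⁻¹ := by group
      _ = 1 := by rw [h4]; group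

end SData

end Cfsg.Agent.Helper90
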