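import Mathlib
import Cfsg.Agent.Helper90.SympPair

set_option autoImplicit false

/-!
For `SData Q z` and `b = g z g⁻¹ ∈ Q`, `b ≠ z`: some element of `G` centralizes `b` and conjugates `z` to `z b`;
consequently `z ∈ g Q g⁻¹`.
-/

namespace Cfsg.Agent.Helper90

/-- Key lemma: for `b = g z g⁻¹ ∈ Q`, `b ≠ z`, some element of `G` centralizes `b` and conjugates `z` to
`z b`. -/
theorem SData.exists_conj_z_to_zb {G : Type*} [Group G] [Finite G] {Q : Subgroup G} {z : G}
    (hE : SData Q z)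
    (g b : G) (hb : b = g * z * g⁻¹) (hbQ : b ∈ Q) (hbz : b ≠ z) :
    ∃ n : G, n * b = b * n ∧ n * z * n⁻¹ = z * b := by
  have : Fact (Nat.Prime 2) := ⟨Nat.prime_two⟩
  have hQ2 : IsPGroup 2 Q := hE.two
  -- basic facts on `b`
  have hbb : b * b = 1 := by
    rw [hb]
    calc g * z * g⁻¹ * (g * z * g⁻¹) = g * (z * z) * g⁻¹ := by group
      _ = 1 := by rw [hE.zz]; group
  have hb1 : b ≠ 1 := by
    intro h
    apply hE.z1
    calc z = g⁻¹ * (g * z * g⁻¹) * g := by group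
      _ = 1 := by rw [← hb, h]; group
  have hzb : z * b = b * z := (hE.zc b hbQ).symm
  obtain ⟨y, hyQ, hyb⟩ := hE.exists_conj hbQ hbb hb1 hbz
  -- the subgroup `C = C_G(z) ∩ C_G(b)`
  let C : Subgroup G := Subgroup.centralizer ({z} : Set G) ⊓ Subgroup.centralizer ({b} : Set G)
  have hC : ∀ c : G, c ∈ C ↔ c * z = z * c ∧ c * b = b * c := by
    intro c
    simp only [C, Subgroup.mem_inf, Subgroup.mem_centralizer_iff, Set.mem_singleton_iff,
      forall_eq]
    constructor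
    · rintro ⟨h1, h2⟩; exact ⟨h1.symm, h2.symm⟩
    · rintro ⟨h1, h2⟩; exact ⟨h1.symm, h2.symm⟩
  -- `P = C_Q(b)`
  have hP2 : IsPGroup 2 (Q ⊓ C : Subgroup G) := hQ2.to_le inf_le_left
  obtain ⟨T', hT'⟩ := (hP2.comap_subtype (K := C)).exists_le_sylow
  -- `T₀`
  have hT₀C : (T' : Subgroup C).map C.subtype ≤ C := by
    rintro _ ⟨x, _, rfl⟩
    exact x.2
  have hPT₀ : Q ⊓ C ≤ (T' : Subgroup C).map C.subtype := by
    intro p hp
    refine ⟨⟨p, hp.2⟩, hT' ?_, rfl⟩
    show (⟨p, hp.2⟩ : C) ∈ (Q ⊓ C).subgroupOf C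
    rw [Subgroup.mem_subgroupOf]
    exact hp
  have hT₀2 : IsPGroup 2 ((T' : Subgroup C).map C.subtype) := T'.isPGroup'.map _
  have hT₀max : ∀ X : Subgroup G, IsPGroup 2 X → X ≤ C → (T' : Subgroup C).map C.subtype ≤ X →
      X ≤ (T' : Subgroup C).map C.subtype := by
    intro X hX hXC hTX
    have h1 : (T' : Subgroup C) ≤ X.subgroupOf C := by
      intro t ht
      rw [Subgroup.mem_subgroupOf]
      exact hTX ⟨t, ht, rfl⟩
    have h2 : X.subgroupOf C = T' := T'.is_maximal' (hX.comap_subtype) h1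
    intro x hx
    refine ⟨⟨x, hXC hx⟩, ?_, rfl⟩
    show (⟨x, hXC hx⟩ : C) ∈ (T' : Subgroup C)
    rw [← h2, Subgroup.mem_subgroupOf]
    exact hx
  have hzT₀ : z ∈ (T' : Subgroup C).map C.subtype :=
    hPT₀ ⟨hE.zQ, (hC z).mpr ⟨rfl, hzb⟩⟩
  -- the conjugate `Qb = g Q g⁻¹`
  have hQb2 : IsPGroup 2 (Q.map (MulAut.conj g).toMonoidHom) := hQ2.map _
  have hQb_b : ∀ u ∈ Q.map (MulAut.conj g).toMonoidHom, u * b = b * u := by
    intro u hu
    rw [mem_map_conj_iff] at hu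
    have h1 := hE.zc _ hu
    rw [hb]
    calc u * (g * z * g⁻¹) = g * ((g⁻¹ * u * g) * z) * g⁻¹ := by group
      _ = g * (z * (g⁻¹ * u * g)) * g⁻¹ := by rw [h1]
      _ = g * z * g⁻¹ * u := by group
  -- elements commuting with `b` normalize `Qb`
  have hNb : ∀ c : G, c * b = b * c → c ∈ Subgroup.normalizer
      ((Q.map (MulAut.conj g).toMonoidHom : Subgroup G) : Set G) := by
    intro c hc
    have hc' : (g⁻¹ * c * g) * z = z * (g⁻¹ * c * g) := by
      rw [hb] at hc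
      calc (g⁻¹ * c * g) * z = g⁻¹ * (c * (g * z * g⁻¹)) * g := by group
        _ = g⁻¹ * ((g * z * g⁻¹) * c) * g := by rw [hc]
        _ = z * (g⁻¹ * c * g) := by group
    have hn := hE.norm _ hc'
    rw [Subgroup.mem_normalizer_iff]
    intro x
    rw [mem_map_conj_iff, mem_map_conj_iff, Subgroup.mem_normalizer_iff.mp hn (g⁻¹ * x * g)]
    have e : g⁻¹ * c * g * (g⁻¹ * x * g) * (g⁻¹ * c * g)⁻¹ = g⁻¹ * (c * x * c⁻¹) * g := by group
    rw [e]
  have hT₀N : (T' : Subgroup C).map C.subtype ≤ Subgroup.normalizer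
      ((Q.map (MulAut.conj g).toMonoidHom : Subgroup G) : Set G) := fun t ht =>
    hNb t ((hC t).mp (hT₀C ht)).2
  have hS2 : IsPGroup 2 ((T' : Subgroup C).map C.subtype ⊔ Q.map (MulAut.conj g).toMonoidHom :
      Subgroup G) := hT₀2.to_sup_of_normal_right' hQb2 hT₀N
  -- `S` centralizes `b`
  have hSb : ∀ s ∈ ((T' : Subgroup C).map C.subtype ⊔ Q.map (MulAut.conj g).toMonoidHom :
      Subgroup G), s * b = b * s := by
    have : ((T' : Subgroup C).map C.subtype ⊔ Q.map (MulAut.conj g).toMonoidHom : Subgroup G) ≤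
        Subgroup.centralizer ({b} : Set G) := by
      apply sup_le
      · intro t ht
        rw [Subgroup.mem_centralizer_iff]
        intro x hx
        rw [Set.mem_singleton_iff] at hx
        subst hx
        exact (((hC t).mp (hT₀C ht)).2).symm
      · intro u hu
        rw [Subgroup.mem_centralizer_iff]
        intro x hx
        rw [Set.mem_singleton_iff] at hx
        subst hx
        exact (hQb_b u hu).symm
    intro s hs
    have h1 := this hs
    rw [Subgroup.mem_centralizer_iff] at h1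
    exact (h1 b rfl).symm
  -- an element of `Qb` not commuting with `z`
  obtain ⟨u, huQb, huz⟩ : ∃ u ∈ Q.map (MulAut.conj g).toMonoidHom, u * z ≠ z * u := by
    by_contra hcon
    have hall : ∀ q ∈ Q, q * (g⁻¹ * z * g) = (g⁻¹ * z * g) * q := by
      intro q hq
      have h1 : (g * q * g⁻¹) * z = z * (g * q * g⁻¹) := by
        by_contra hne
        exact hcon ⟨_, conj_mem_map_conj Q g hq, hne⟩
      calc q * (g⁻¹ * z * g) = g⁻¹ * ((g * q * g⁻¹) * z) * g := by group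
        _ = g⁻¹ * (z * (g * q * g⁻¹)) * g := by rw [h1]
        _ = (g⁻¹ * z * g) * q := by group
    have hxx : (g⁻¹ * z * g) * (g⁻¹ * z * g) = 1 := by
      calc (g⁻¹ * z * g) * (g⁻¹ * z * g) = g⁻¹ * (z * z) * g := by group
        _ = 1 := by rw [hE.zz]; group
    rcases hE.cent_cases _ hall hxx with h1 | h1
    · apply hE.z1
      calc z = g * (g⁻¹ * z * g) * g⁻¹ := by group
        _ = 1 := by rw [h1]; group
    · apply hbz
      rw [hb]
      calc g * z * g⁻¹ = g * (g⁻¹ * z * g) * g⁻¹ := by rw [h1]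
        _ = z := by group
  have huS : u ∈ ((T' : Subgroup C).map C.subtype ⊔ Q.map (MulAut.conj g).toMonoidHom :
      Subgroup G) := Subgroup.mem_sup_right huQb
  have huT₀ : u ∉ (T' : Subgroup C).map C.subtype := fun h =>
    huz ((hC u).mp (hT₀C h)).1
  -- normalizer growth in the 2-group `S`
  have hnil : Group.IsNilpotent ↥((T' : Subgroup C).map C.subtype ⊔
      Q.map (MulAut.conj g).toMonoidHom : Subgroup G) := hS2.isNilpotent
  have hlt : ((T' : Subgroup C).map C.subtype).subgroupOf ((T' : Subgroup C).map C.subtype ⊔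
      Q.map (MulAut.conj g).toMonoidHom : Subgroup G) < ⊤ := by
    rw [lt_top_iff_ne_top]
    intro h
    have : (⟨u, huS⟩ : ↥((T' : Subgroup C).map C.subtype ⊔
        Q.map (MulAut.conj g).toMonoidHom : Subgroup G)) ∈
        ((T' : Subgroup C).map C.subtype).subgroupOf _ := by rw [h]; exact Subgroup.mem_top _
    rw [Subgroup.mem_subgroupOf] at this
    exact huT₀ this
  have hgrow := Group.normalizerCondition_of_isNilpotent _ hlt
  obtain ⟨n', hn'N, hn'T⟩ := SetLike.exists_of_lt hgrow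
  have hnT₀ : (n' : G) ∉ (T' : Subgroup C).map C.subtype := by
    intro h
    apply hn'T
    rw [Subgroup.mem_subgroupOf]
    exact h
  have hnb : (n' : G) * b = b * (n' : G) := hSb _ n'.2
  -- `n` normalizes `T₀`
  have hnorm : ∀ t ∈ (T' : Subgroup C).map C.subtype,
      (n' : G) * t * (n' : G)⁻¹ ∈ (T' : Subgroup C).map C.subtype := by
    intro t ht
    have htS : t ∈ ((T' : Subgroup C).map C.subtype ⊔ Q.map (MulAut.conj g).toMonoidHom :
      Subgroup G) := Subgroup.mem_sup_left ht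
    have h1 := (Subgroup.mem_normalizer_iff.mp hn'N ⟨t, htS⟩).mp
      (Subgroup.mem_subgroupOf.mpr ht)
    exact Subgroup.mem_subgroupOf.mp h1
  have hnorm' : ∀ t ∈ (T' : Subgroup C).map C.subtype,
      (n' : G)⁻¹ * t * (n' : G) ∈ (T' : Subgroup C).map C.subtype := by
    intro t ht
    have htS : t ∈ ((T' : Subgroup C).map C.subtype ⊔ Q.map (MulAut.conj g).toMonoidHom :
      Subgroup G) := Subgroup.mem_sup_left ht
    have h1 := (Subgroup.mem_normalizer_iff.mp (Subgroup.inv_mem _ hn'N) ⟨t, htS⟩).mp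
      (Subgroup.mem_subgroupOf.mpr ht)
    have h2 := Subgroup.mem_subgroupOf.mp h1
    simpa only [Subgroup.coe_mul, Subgroup.coe_inv, inv_inv] using h2
  -- `c = n z n⁻¹` is central in `T₀`
  have hcT₀ := hnorm z hzT₀
  have hcC := (hC _).mp (hT₀C hcT₀)
  have hcP : ∀ p ∈ Q, p * b = b * p →
      ((n' : G) * z * (n' : G)⁻¹) * p = p * ((n' : G) * z * (n' : G)⁻¹) := by
    intro p hp hpb
    have hpT₀ : p ∈ (T' : Subgroup C).map C.subtype :=
      hPT₀ ⟨hp, (hC p).mpr ⟨hE.zc p hp, hpb⟩⟩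
    have h1 := ((hC _).mp (hT₀C (hnorm' p hpT₀))).1
    calc ((n' : G) * z * (n' : G)⁻¹) * p
        = (n' : G) * (z * ((n' : G)⁻¹ * p * (n' : G))) * (n' : G)⁻¹ := by group
      _ = (n' : G) * (((n' : G)⁻¹ * p * (n' : G)) * z) * (n' : G)⁻¹ := by rw [h1]
      _ = p * ((n' : G) * z * (n' : G)⁻¹) := by group
  have hcN : ∀ q ∈ Q, ((n' : G) * z * (n' : G)⁻¹) * q * ((n' : G) * z * (n' : G)⁻¹)⁻¹ ∈ Q := by
    intro q hq
    exact conj_mem_of_mem_normalizer (hE.norm _ hcC.1) hq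
  refine ⟨n', hnb, ?_⟩
  have hcc : ((n' : G) * z * (n' : G)⁻¹) * ((n' : G) * z * (n' : G)⁻¹) = 1 := by
    calc ((n' : G) * z * (n' : G)⁻¹) * ((n' : G) * z * (n' : G)⁻¹) = (n' : G) * (z * z) * (n' : G)⁻¹ := by group
      _ = 1 := by rw [hE.zz]; group
  rcases hE.centralizer_cent hbQ hbb hyQ hyb hcc hcN hcP with h | h | h | h
  · exfalso
    apply hE.z1
    calc z = (n' : G)⁻¹ * ((n' : G) * z * (n' : G)⁻¹) * n' := by group
      _ = 1 := by rw [h]; group
  · -- `n` centralizes `z`: then `T₀ ⊔ ⟨n⟩` contradicts maximality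
    exfalso
    have hnz : (n' : G) * z = z * (n' : G) := by
      calc (n' : G) * z = ((n' : G) * z * (n' : G)⁻¹) * n' := by group
        _ = z * n' := by rw [h]
    have hnC : (n' : G) ∈ C := (hC _).mpr ⟨hnz, hnb⟩
    have hXle : (T' : Subgroup C).map C.subtype ⊔ Subgroup.zpowers (n' : G) ≤
        ((T' : Subgroup C).map C.subtype ⊔ Q.map (MulAut.conj g).toMonoidHom : Subgroup G) := by
      apply sup_le le_sup_left
      rw [Subgroup.zpowers_le]
      exact n'.2
    have hX2 : IsPGroup 2 ((T' : Subgroup C).map C.subtype ⊔ Subgroup.zpowers (n' : G) :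
        Subgroup G) := hS2.to_le hXle
    have hXC : (T' : Subgroup C).map C.subtype ⊔ Subgroup.zpowers (n' : G) ≤ C := by
      apply sup_le hT₀C
      rw [Subgroup.zpowers_le]
      exact hnC
    have := hT₀max _ hX2 hXC le_sup_left
    exact hnT₀ (this (Subgroup.mem_sup_right (Subgroup.mem_zpowers _)))
  · exfalso
    apply hbz
    have : b = (n' : G)⁻¹ * b * n' := by
      calc b = (n' : G)⁻¹ * (n' * b) := by group
        _ = (n' : G)⁻¹ * (b * n') := by rw [hnb]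
        _ = (n' : G)⁻¹ * b * n' := by group
    calc b = (n' : G)⁻¹ * b * n' := this
      _ = (n' : G)⁻¹ * ((n' : G) * z * (n' : G)⁻¹) * n' := by rw [h]
      _ = z := by group
  · exact h

/-- Symmetry: if `g z g⁻¹ ∈ Q` then `z ∈ g Q g⁻¹`. -/
theorem SData.z_mem_conj_of_conj_mem {G : Type*} [Group G] [Finite G] {Q : Subgroup G} {z : G}
    (hE : SData Q z)
    (g : G) (hgQ : g * z * g⁻¹ ∈ Q) : z ∈ Q.map (MulAut.conj g).toMonoidHom := by
  classical
  obtain ⟨b, hb⟩ : ∃ b : G, b = g * z * g⁻¹ := ⟨_, rfl⟩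
  have hbQ : b ∈ Q := by rw [hb]; exact hgQ
  by_cases hbz : b = z
  · -- `g` centralizes `z`, hence normalizes `Q`
    rw [mem_map_conj_iff]
    have h1 : g * z = z * g := by
      calc g * z = (g * z * g⁻¹) * g := by group
        _ = z * g := by rw [← hb, hbz]
    have h3 := hE.norm _ h1
    exact inv_conj_mem_of_mem_normalizer h3 hE.zQ
  have hbb : b * b = 1 := by
    rw [hb]
    calc g * z * g⁻¹ * (g * z * g⁻¹) = g * (z * z) * g⁻¹ := by group
      _ = 1 := by rw [hE.zz]; group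
  have hb1 : b ≠ 1 := by
    intro h
    apply hE.z1
    calc z = g⁻¹ * (g * z * g⁻¹) * g := by group
      _ = 1 := by rw [← hb, h]; group
  obtain ⟨n, hnb, hnz⟩ := hE.exists_conj_z_to_zb g b hb hbQ hbz
  obtain ⟨y, hyQ, hyb⟩ := hE.exists_conj hbQ hbb hb1 hbz
  have hyz : y * z * y⁻¹ = z := by
    rw [hE.zc y hyQ]; group
  have hnb' : n * b * n⁻¹ = b := by rw [hnb]; group
  have hninv : n⁻¹ * z * n = z * b := by
    have h1 : n * (z * b) * n⁻¹ = z := by
      calc n * (z * b) * n⁻¹ = (n * z * n⁻¹) * (n * b * n⁻¹) := by group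
        _ = (z * b) * b := by rw [hnz, hnb']
        _ = z := by rw [mul_assoc, hbb, mul_one]
    calc n⁻¹ * z * n = n⁻¹ * (n * (z * b) * n⁻¹) * n := by rw [h1]
      _ = z * b := by group
  have htz : (n * y * n⁻¹) * z * (n * y * n⁻¹)⁻¹ = b := by
    calc (n * y * n⁻¹) * z * (n * y * n⁻¹)⁻¹ = n * (y * (n⁻¹ * z * n) * y⁻¹) * n⁻¹ := by group
      _ = n * (y * (z * b) * y⁻¹) * n⁻¹ := by rw [hninv]
      _ = n * ((y * z * y⁻¹) * (y * b * y⁻¹)) * n⁻¹ := by group
      _ = n * (z * (z * b)) * n⁻¹ := by rw [hyz, hyb]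
      _ = n * b * n⁻¹ := by rw [← mul_assoc z z b, hE.zz, one_mul]
      _ = b := hnb'
  have htb : (n * y * n⁻¹) * b * (n * y * n⁻¹)⁻¹ = z := by
    have h1 : n⁻¹ * b * n = b := by
      calc n⁻¹ * b * n = n⁻¹ * (b * n) := by group
        _ = n⁻¹ * (n * b) := by rw [hnb]
        _ = b := by group
    calc (n * y * n⁻¹) * b * (n * y * n⁻¹)⁻¹ = n * (y * (n⁻¹ * b * n) * y⁻¹) * n⁻¹ := by group
      _ = n * (y * b * y⁻¹) * n⁻¹ := by rw [h1]
      _ = n * (z * b) * n⁻¹ := by rw [hyb]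
      _ = (n * z * n⁻¹) * (n * b * n⁻¹) := by group
      _ = (z * b) * b := by rw [hnz, hnb']
      _ = z := by rw [mul_assoc, hbb, mul_one]
  rw [mem_map_conj_iff]
  have h1 : ((n * y * n⁻¹)⁻¹ * g) * z = z * ((n * y * n⁻¹)⁻¹ * g) := by
    have h2 : (n * y * n⁻¹)⁻¹ * (g * z * g⁻¹) * (n * y * n⁻¹) = z := by
      rw [← hb, ← htz]; group
    calc ((n * y * n⁻¹)⁻¹ * g) * z = ((n * y * n⁻¹)⁻¹ * (g * z * g⁻¹) * (n * y * n⁻¹)) *
          ((n * y * n⁻¹)⁻¹ * g) := by group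
      _ = z * ((n * y * n⁻¹)⁻¹ * g) := by rw [h2]
  have h3 := hE.norm _ h1
  have h4 := inv_conj_mem_of_mem_normalizer h3 hbQ
  have e : ((n * y * n⁻¹)⁻¹ * g)⁻¹ * b * ((n * y * n⁻¹)⁻¹ * g) =
      g⁻¹ * ((n * y * n⁻¹) * b * (n * y * n⁻¹)⁻¹) * g := by group
  rw [e, htb] at h4
  exact h4

end Cfsg.Agent.Helper90
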