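import Mathlib
import Cfsg.Prelude.Def_ClassificationK
import Cfsg.Agent.S3762
import Cfsg.Agent.Helper29.Fitting

set_option autoImplicit false

/-!
2-groups of symplectic type and exponent dividing 4: all commutators lie in `{1, z}` for the central involution `z`,
and `z` is the only central involution (via P. Hall's theorem, S3762).
-/

namespace Cfsg.Agent.Helper90

open Cfsg
open scoped commutatorElement

theorem symp_exp_four {T : Type*} [Group T] [Finite T] (hT : Cfsg.IsOfSymplecticType T)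
    (h4 : ∀ t : T, t ^ 4 = 1) (zT : T) (hz : orderOf zT = 2) (hzc : zT ∈ Subgroup.center T) :
    (∀ x y : T, x * y * x⁻¹ * y⁻¹ = 1 ∨ x * y * x⁻¹ * y⁻¹ = zT) ∧
      (∀ x : T, x ∈ Subgroup.center T → x * x = 1 → x = 1 ∨ x = zT) := by
  classical
  have : Fact (Nat.Prime 2) := ⟨Nat.prime_two⟩
  -- central involutions
  have hcyc : IsCyclic ↥(Subgroup.center T) := hT.2 (Subgroup.center T) inferInstance inferInstance
  have hsecond : ∀ x : T, x ∈ Subgroup.center T → x * x = 1 → x = 1 ∨ x = zT := by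
    intro x hx hxx
    by_cases hx1 : x = 1
    · exact Or.inl hx1
    · right
      have h1 : orderOf (⟨x, hx⟩ : Subgroup.center T) = 2 := by
        rw [Subgroup.orderOf_mk]
        exact orderOf_eq_prime (by rw [pow_two]; exact hxx) hx1
      have h2 : orderOf (⟨zT, hzc⟩ : Subgroup.center T) = 2 := by
        rw [Subgroup.orderOf_mk]; exact hz
      have := Cfsg.Agent.Helper29.eq_of_orderOf_eq_two_of_isCyclic h1 h2
      exact congrArg Subtype.val this
  refine ⟨?_, hsecond⟩
  obtain ⟨E, R, hER, hsup, hE, hR⟩ := Cfsg.Agent.S3762.result (p := 2) hT.1 hT.2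
  -- `R` is cyclic
  have hRc : IsCyclic ↥R := by
    rcases hR with h | ⟨-, h16, h | h | h⟩
    · exact h
    · exfalso
      obtain ⟨m, ⟨e⟩⟩ := h
      have hcard : Nat.card ↥R = 2 * m := by
        rw [Nat.card_congr e.toEquiv, DihedralGroup.nat_card]
      have h1 : (e.symm (DihedralGroup.r 1) : ↥R) ^ 4 = 1 := by
        apply Subtype.ext
        rw [Subgroup.coe_pow]
        exact h4 _
      have h2 : (DihedralGroup.r 1 : DihedralGroup m) ^ 4 = 1 := by
        have := congrArg e h1
        rw [map_pow, MulEquiv.apply_symm_apply, map_one] at this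
        exact this
      have h3 := orderOf_dvd_of_pow_eq_one h2
      rw [DihedralGroup.orderOf_r_one] at h3
      have := Nat.le_of_dvd (by norm_num) h3
      omega
    · exfalso
      obtain ⟨m, ⟨e⟩⟩ := h
      have hm : m ≠ 0 := by
        intro h0
        subst h0
        have hfin : Finite (QuaternionGroup 0) := Finite.of_equiv _ e.toEquiv
        have h1 : orderOf (QuaternionGroup.a 1 : QuaternionGroup 0) = 0 := by
          rw [QuaternionGroup.orderOf_a_one]
        exact (orderOf_pos (QuaternionGroup.a 1 : QuaternionGroup 0)).ne' h1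
      have : NeZero m := ⟨hm⟩
      have hcard : Nat.card ↥R = 4 * m := by
        rw [Nat.card_congr e.toEquiv, Nat.card_eq_fintype_card, QuaternionGroup.card]
      have h1 : (e.symm (QuaternionGroup.a 1) : ↥R) ^ 4 = 1 := by
        apply Subtype.ext
        rw [Subgroup.coe_pow]
        exact h4 _
      have h2 : (QuaternionGroup.a 1 : QuaternionGroup m) ^ 4 = 1 := by
        have := congrArg e h1
        rw [map_pow, MulEquiv.apply_symm_apply, map_one] at this
        exact this
      have h3 := orderOf_dvd_of_pow_eq_one h2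
      rw [QuaternionGroup.orderOf_a_one] at h3
      have := Nat.le_of_dvd (by norm_num) h3
      omega
    · exfalso
      obtain ⟨n, hn3, -, x, y, hx, -, -⟩ := h
      have h1 : x ^ 4 = 1 := by
        apply Subtype.ext
        rw [Subgroup.coe_pow]
        exact h4 _
      have h3 := orderOf_dvd_of_pow_eq_one h1
      rw [hx] at h3
      have h5 := Nat.le_of_dvd (by norm_num) h3
      have h6 : 2 ^ 3 ≤ 2 ^ n := Nat.pow_le_pow_right (by norm_num) hn3
      omega
  -- `R` is central
  have hRcomm : ∀ a ∈ R, ∀ b ∈ R, a * b = b * a := by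
    intro a ha b hb
    obtain ⟨g, hg⟩ := hRc.exists_generator
    obtain ⟨i, hi⟩ := Subgroup.mem_zpowers_iff.mp (hg ⟨a, ha⟩)
    obtain ⟨j, hj⟩ := Subgroup.mem_zpowers_iff.mp (hg ⟨b, hb⟩)
    have : (⟨a, ha⟩ : R) * ⟨b, hb⟩ = ⟨b, hb⟩ * ⟨a, ha⟩ := by
      rw [← hi, ← hj, ← zpow_add, ← zpow_add, add_comm]
    exact congrArg Subtype.val this
  have hRcen : ∀ r ∈ R, ∀ t : T, t * r = r * t := by
    intro r hr t
    have h1 : E ⊔ R ≤ Subgroup.centralizer ({r} : Set T) := by
      apply sup_le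
      · intro e he
        rw [Subgroup.mem_centralizer_singleton_iff]
        exact hER e he r hr
      · intro b hb
        rw [Subgroup.mem_centralizer_singleton_iff]
        exact hRcomm b hb r hr
    rw [hsup] at h1
    exact Subgroup.mem_centralizer_singleton_iff.mp (h1 (Subgroup.mem_top t))
  -- decomposition
  have hdec : ∀ t : T, ∃ e ∈ E, ∃ r ∈ R, t = e * r := by
    let M : Subgroup T :=
      { carrier := {t | ∃ e ∈ E, ∃ r ∈ R, t = e * r}
        one_mem' := ⟨1, E.one_mem, 1, R.one_mem, by simp⟩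
        mul_mem' := by
          rintro _ _ ⟨e, he, r, hr, rfl⟩ ⟨e', he', r', hr', rfl⟩
          refine ⟨e * e', E.mul_mem he he', r * r', R.mul_mem hr hr', ?_⟩
          calc e * r * (e' * r') = e * (r * e') * r' := by group
            _ = e * (e' * r) * r' := by rw [hER e' he' r hr]
            _ = e * e' * (r * r') := by group
        inv_mem' := by
          rintro _ ⟨e, he, r, hr, rfl⟩
          refine ⟨e⁻¹, E.inv_mem he, r⁻¹, R.inv_mem hr, ?_⟩
          calc (e * r)⁻¹ = r⁻¹ * e⁻¹ := by group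
            _ = e⁻¹ * r⁻¹ := (hER _ (E.inv_mem he) _ (R.inv_mem hr)).symm }
    have hM : E ⊔ R ≤ M := by
      apply sup_le
      · intro e he; exact ⟨e, he, 1, R.one_mem, by simp⟩
      · intro r hr; exact ⟨1, E.one_mem, r, hr, by simp⟩
    rw [hsup] at hM
    intro t
    exact hM (Subgroup.mem_top t)
  intro x y
  obtain ⟨e, he, r, hr, rfl⟩ := hdec x
  obtain ⟨e', he', r', hr', rfl⟩ := hdec y
  have hcomm : e * r * (e' * r') * (e * r)⁻¹ * (e' * r')⁻¹ = e * e' * e⁻¹ * e'⁻¹ := by
    have h1 : r * e' = e' * r := (hER e' he' r hr).symm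
    have h2 : r' * e⁻¹ = e⁻¹ * r' := (hER _ (E.inv_mem he) r' hr').symm
    have h3 : r * r' = r' * r := hRcomm r hr r' hr'
    have h4' : r * e⁻¹ = e⁻¹ * r := (hER _ (E.inv_mem he) r hr).symm
    have h5 : r' * e'⁻¹ = e'⁻¹ * r' := (hER _ (E.inv_mem he') r' hr').symm
    have h6 : r * e'⁻¹ = e'⁻¹ * r := (hER _ (E.inv_mem he') r hr).symm
    calc e * r * (e' * r') * (e * r)⁻¹ * (e' * r')⁻¹
        = e * (r * e') * r' * r⁻¹ * e⁻¹ * r'⁻¹ * e'⁻¹ := by group
      _ = e * (e' * r) * r' * r⁻¹ * e⁻¹ * r'⁻¹ * e'⁻¹ := by rw [h1]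
      _ = e * e' * (r * r') * r⁻¹ * e⁻¹ * r'⁻¹ * e'⁻¹ := by group
      _ = e * e' * (r' * r) * r⁻¹ * e⁻¹ * r'⁻¹ * e'⁻¹ := by rw [h3]
      _ = e * e' * (r' * e⁻¹) * r'⁻¹ * e'⁻¹ := by group
      _ = e * e' * (e⁻¹ * r') * r'⁻¹ * e'⁻¹ := by rw [h2]
      _ = e * e' * e⁻¹ * e'⁻¹ := by group
  rw [hcomm]
  rcases hE with hbot | hext
  · rw [hbot, Subgroup.mem_bot] at he he'
    left
    rw [he, he']; group
  · -- commutator of `E` is its centre, of order 2
    have h1 : ⁅(⟨e, he⟩ : E), (⟨e', he'⟩ : E)⁆ ∈ commutator E :=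
      Subgroup.commutator_mem_commutator (Subgroup.mem_top _) (Subgroup.mem_top _)
    rw [hext.1.2.2] at h1
    have hval : ((⁅(⟨e, he⟩ : E), (⟨e', he'⟩ : E)⁆ : E) : T) = e * e' * e⁻¹ * e'⁻¹ := by
      simp [commutatorElement_def]
    obtain ⟨c, hc⟩ : ∃ c : E, c = ⁅(⟨e, he⟩ : E), (⟨e', he'⟩ : E)⁆ := ⟨_, rfl⟩
    rw [← hc] at h1 hval
    rw [← hval]
    -- `c` is central in `T`
    have hcT : (c : T) ∈ Subgroup.center T := by
      rw [Subgroup.mem_center_iff]
      intro t
      obtain ⟨e₁, he₁, r₁, hr₁, rfl⟩ := hdec t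
      have h2 := Subgroup.mem_center_iff.mp h1 ⟨e₁, he₁⟩
      have h2' : e₁ * (c : T) = (c : T) * e₁ := congrArg Subtype.val h2
      have h3 : r₁ * (c : T) = (c : T) * r₁ := (hER _ c.2 r₁ hr₁).symm
      calc e₁ * r₁ * (c : T) = e₁ * (r₁ * (c : T)) := by group
        _ = e₁ * ((c : T) * r₁) := by rw [h3]
        _ = (e₁ * (c : T)) * r₁ := by group
        _ = ((c : T) * e₁) * r₁ := by rw [h2']
        _ = (c : T) * (e₁ * r₁) := by group
    have hcc : (c : T) * (c : T) = 1 := by
      have h2 : (⟨c, h1⟩ : Subgroup.center E) ^ Nat.card (Subgroup.center E) = 1 := pow_card_eq_one'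
      rw [hext.2] at h2
      have h3 := congrArg (fun w : Subgroup.center E => ((w : E) : T)) h2
      simp only [Subgroup.coe_pow, Subgroup.coe_one] at h3
      rw [pow_two] at h3
      exact h3
    exact hsecond _ hcT hcc

end Cfsg.Agent.Helper90
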