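import Mathlib
import Cfsg.Prelude.Def_ClassificationK
import Cfsg.Agent.Helper90.SympPair2
import Cfsg.Agent.Helper90.SympSetup
import Cfsg.Agent.S1265

set_option autoImplicit false

/-!
`Q = F*(C_G(z))` of symplectic type and exponent dividing 4 satisfies `SData Q z`.
-/

namespace Cfsg.Agent.Helper90

open Cfsg

/-- The subgroup generated by two commuting involutions. -/
theorem closure_pair_cases {G : Type*} [Group G] {z b : G} (hzz : z * z = 1) (hbb : b * b = 1)
    (hzb : z * b = b * z) :
    ∀ u ∈ Subgroup.closure ({z, b} : Set G), u = 1 ∨ u = z ∨ u = b ∨ u = z * b := by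
  have hzinv : z⁻¹ = z := inv_eq_of_mul_eq_one_left hzz
  have hbinv : b⁻¹ = b := inv_eq_of_mul_eq_one_left hbb
  intro u hu
  induction hu using Subgroup.closure_induction with
  | mem x hx =>
    simp only [Set.mem_insert_iff, Set.mem_singleton_iff] at hx
    rcases hx with h | h
    · right; left; exact h
    · right; right; left; exact h
  | one => left; rfl
  | mul x y _ _ hx hy =>
    rcases hx with hx | hx | hx | hx <;> rcases hy with hy | hy | hy | hy <;> rw [hx, hy]
    · left; group
    · right; left; group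
    · right; right; left; group
    · right; right; right; group
    · right; left; group
    · left; exact hzz
    · right; right; right; rfl
    · right; right; left
      rw [← mul_assoc, hzz, one_mul]
    · right; right; left; group
    · right; right; right; exact hzb.symm
    · left; exact hbb
    · right; left
      rw [← mul_assoc, ← hzb, mul_assoc, hbb, mul_one]
    · right; right; right; group
    · right; right; left
      rw [hzb, mul_assoc, hzz, mul_one]
    · right; left
      rw [mul_assoc, hbb, mul_one]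
    · left
      calc z * b * (z * b) = z * (b * z) * b := by group
        _ = z * (z * b) * b := by rw [hzb]
        _ = (z * z) * (b * b) := by group
        _ = 1 := by rw [hzz, hbb, one_mul]
  | inv x _ hx =>
    rcases hx with hx | hx | hx | hx <;> rw [hx]
    · left; group
    · right; left; exact hzinv
    · right; right; left; exact hbinv
    · right; right; right
      rw [mul_inv_rev, hzinv, hbinv, hzb]

theorem sdata_of_fstar {G : Type*} [Group G] [Finite G] (z : G) (hz : orderOf z = 2)
    (hQ : Cfsg.IsOfSymplecticType ↥(Cfsg.generalizedFittingSubgroup ↥(Subgroup.centralizer ({z} : Set G))))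
    (h4 : ∀ q ∈ (Cfsg.generalizedFittingSubgroup ↥(Subgroup.centralizer ({z} : Set G))).map
      (Subgroup.centralizer ({z} : Set G)).subtype, q ^ 4 = 1) :
    SData ((Cfsg.generalizedFittingSubgroup ↥(Subgroup.centralizer ({z} : Set G))).map
      (Subgroup.centralizer ({z} : Set G)).subtype) z := by
  classical
  have hzC : z ∈ Subgroup.centralizer ({z} : Set G) := Subgroup.mem_centralizer_singleton_iff.mpr rfl
  have hz1 : z ≠ 1 := by
    intro h
    rw [h, orderOf_one] at hz
    omega
  have hzz : z * z = 1 := by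
    rw [← pow_two, ← hz]; exact pow_orderOf_eq_one z
  have hzCcen : (⟨z, hzC⟩ : Subgroup.centralizer ({z} : Set G)) ∈
      Subgroup.center ↥(Subgroup.centralizer ({z} : Set G)) := by
    rw [Subgroup.mem_center_iff]
    intro c
    apply Subtype.ext
    exact Subgroup.mem_centralizer_singleton_iff.mp c.2
  have hzF := Cfsg.Agent.Helper29.center_le_generalizedFittingSubgroup _ hzCcen
  have hzT : orderOf (⟨⟨z, hzC⟩, hzF⟩ :
      ↥(Cfsg.generalizedFittingSubgroup ↥(Subgroup.centralizer ({z} : Set G)))) = 2 := by
    rw [Subgroup.orderOf_mk, Subgroup.orderOf_mk]; exact hz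
  have hzTc : (⟨⟨z, hzC⟩, hzF⟩ :
      ↥(Cfsg.generalizedFittingSubgroup ↥(Subgroup.centralizer ({z} : Set G)))) ∈ Subgroup.center _ := by
    rw [Subgroup.mem_center_iff]
    intro t
    apply Subtype.ext
    exact Subgroup.mem_center_iff.mp hzCcen t.1
  have h4T : ∀ t : ↥(Cfsg.generalizedFittingSubgroup ↥(Subgroup.centralizer ({z} : Set G))), t ^ 4 = 1 := by
    intro t
    have := h4 ((t : ↥(Subgroup.centralizer ({z} : Set G))) : G) ⟨t.1, t.2, rfl⟩
    apply Subtype.ext
    apply Subtype.ext
    simpa using this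
  obtain ⟨hcomm, hcen⟩ := symp_exp_four hQ h4T _ hzT hzTc
  have hFn := Cfsg.Agent.Helper29.generalizedFittingSubgroup_normal ↥(Subgroup.centralizer ({z} : Set G))
  refine ⟨⟨⟨z, hzC⟩, hzF, rfl⟩, hz1, hzz, ?_, ?_, ?_, ?_, ?_, hQ.1.map _⟩
  · rintro q ⟨f, -, rfl⟩
    exact Subgroup.mem_centralizer_singleton_iff.mp f.2
  · rintro x ⟨fx, hfx, rfl⟩ y ⟨fy, hfy, rfl⟩
    rcases hcomm ⟨fx, hfx⟩ ⟨fy, hfy⟩ with h | h
    · left
      have := congrArg (fun t : ↥(Cfsg.generalizedFittingSubgroup ↥(Subgroup.centralizer ({z} : Set G))) =>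
        ((t : ↥(Subgroup.centralizer ({z} : Set G))) : G)) h
      simpa using this
    · right
      have := congrArg (fun t : ↥(Cfsg.generalizedFittingSubgroup ↥(Subgroup.centralizer ({z} : Set G))) =>
        ((t : ↥(Subgroup.centralizer ({z} : Set G))) : G)) h
      simpa using this
  · rintro x ⟨fx, hfx, rfl⟩ hxc hxx
    have h1 : (⟨fx, hfx⟩ : ↥(Cfsg.generalizedFittingSubgroup ↥(Subgroup.centralizer ({z} : Set G)))) ∈
        Subgroup.center _ := by
      rw [Subgroup.mem_center_iff]
      intro t
      apply Subtype.ext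
      apply Subtype.ext
      exact hxc _ ⟨t.1, t.2, rfl⟩
    have h2 : (⟨fx, hfx⟩ : ↥(Cfsg.generalizedFittingSubgroup ↥(Subgroup.centralizer ({z} : Set G)))) *
        ⟨fx, hfx⟩ = 1 := by
      apply Subtype.ext
      apply Subtype.ext
      exact hxx
    rcases hcen _ h1 h2 with h | h
    · left
      have := congrArg (fun t : ↥(Cfsg.generalizedFittingSubgroup ↥(Subgroup.centralizer ({z} : Set G))) =>
        ((t : ↥(Subgroup.centralizer ({z} : Set G))) : G)) h
      simpa using this
    · right
      have := congrArg (fun t : ↥(Cfsg.generalizedFittingSubgroup ↥(Subgroup.centralizer ({z} : Set G))) =>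
        ((t : ↥(Subgroup.centralizer ({z} : Set G))) : G)) h
      simpa using this
  · intro x hx
    have hxC : x ∈ Subgroup.centralizer ({z} : Set G) := by
      rw [Subgroup.mem_centralizer_singleton_iff]
      exact (hx z ⟨⟨z, hzC⟩, hzF, rfl⟩).symm
    have h1 : (⟨x, hxC⟩ : ↥(Subgroup.centralizer ({z} : Set G))) ∈ Subgroup.centralizer
        ((Cfsg.generalizedFittingSubgroup ↥(Subgroup.centralizer ({z} : Set G)) : Subgroup _) : Set _) := by
      rw [Subgroup.mem_centralizer_iff]
      intro f hf
      apply Subtype.ext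
      exact hx _ ⟨f, hf, rfl⟩
    exact ⟨⟨x, hxC⟩, Cfsg.Agent.S1265.result h1, rfl⟩
  · intro c hc
    have hcC : c ∈ Subgroup.centralizer ({z} : Set G) := Subgroup.mem_centralizer_singleton_iff.mpr hc
    apply mem_normalizer_of_conj_mem
    rintro x ⟨fx, hfx, rfl⟩
    refine ⟨⟨c, hcC⟩ * fx * ⟨c, hcC⟩⁻¹, hFn.conj_mem fx hfx ⟨c, hcC⟩, ?_⟩
    simp

end Cfsg.Agent.Helper90
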