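import Mathlib
import Cfsg.Agent.Helper22.KBalance5

/-!
# S1864 (helper31's WBal farm, #14643), leaf (W1): the weak automizer theorem

Adaptation of helper22's `Cfsg.Agent.Helper22.signalizerDelta_eq_bot_of_automizers`.
-/

set_option autoImplicit false

namespace Cfsg.Agent.Helper90.WBal

open Cfsg Cfsg.Agent.Helper31 Cfsg.Agent.Helper22

variable {G : Type*} [Group G]

open scoped commutatorElement in
/-- (W1) **weak automizer theorem.**  Let `O_{p'}(G) = 1`, `1 ≠ D ≤ A` elementary abelian `p`-subgroups,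
`A` normalizing every component.  Suppose that for every component `L` on which `D` acts faithfully and
`H = L · Δ_G(D) · A`, in the automizer `H / C_H(L)` the group `Δ(D̄)` centralizes `Ā`.  Then `Δ_G(D)`
centralizes `A`. -/
theorem signalizerDelta_le_centralizer_of_automizers [Finite G] (p : ℕ) [hp : Fact p.Prime]
    (hO : pPrimeCore p G = ⊥) (D A : Subgroup G) (hD : IsElementaryAbelian p D) (hD1 : D ≠ ⊥)
    (hDA : D ≤ A) (hA : IsElementaryAbelian p A)
    (hAL : ∀ L : Subgroup G, IsComponent L → A ≤ Subgroup.normalizer (L : Set G))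
    (h : ∀ L : Subgroup G, IsComponent L → D ⊓ Subgroup.centralizer (L : Set G) = ⊥ →
      ∀ H : Subgroup G, L ≤ H → A ≤ H → (L.subgroupOf H).Normal →
      ∀ [((Subgroup.centralizer (L : Set G)).subgroupOf H).Normal],
        signalizerDelta p ((D.subgroupOf H).map
          (QuotientGroup.mk' ((Subgroup.centralizer (L : Set G)).subgroupOf H))) ≤
        Subgroup.centralizer (((A.subgroupOf H).map
          (QuotientGroup.mk' ((Subgroup.centralizer (L : Set G)).subgroupOf H)) :
            Subgroup (↥H ⧸ (Subgroup.centralizer (L : Set G)).subgroupOf H)) :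
            Set (↥H ⧸ (Subgroup.centralizer (L : Set G)).subgroupOf H))) :
    signalizerDelta p D ≤ Subgroup.centralizer (A : Set G) := by
  classical
  set Y := signalizerDelta p D with hY
  obtain ⟨hAc, hAp⟩ := hA
  obtain ⟨hDc, hDp⟩ := hD
  have hAcomm : ∀ e ∈ A, ∀ b ∈ A, e * b = b * e := by
    intro e he b hb
    have := hAc.is_comm.comm (⟨e, he⟩ : ↥A) ⟨b, hb⟩
    exact congrArg Subtype.val this
  have hord : ∀ d ∈ D, d ≠ 1 → orderOf d = p := fun d hd hd1 =>
    orderOf_eq_prime (hDp d hd) hd1
  obtain ⟨d₀, hd₀, hd₀1⟩ : ∃ d ∈ D, d ≠ 1 := by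
    by_contra hcon
    push Not at hcon
    exact hD1 ((Subgroup.eq_bot_iff_forall _).mpr hcon)
  have hYle : ∀ d ∈ D, d ≠ 1 → Y ≤ centralizerPPrimeCore p d := fun d hd hd1 =>
    signalizerDelta_le p hd hd1
  have hAY : A ≤ Subgroup.normalizer (Y : Set G) :=
    le_normalizer_signalizerDelta p (fun e he b hb => hAcomm e he b (hDA hb))
  have hYcomp : Y ≤ compNormalizer G :=
    (hYle d₀ hd₀ hd₀1).trans (centralizerPPrimeCore_le_compNormalizer hO (hord d₀ hd₀ hd₀1))
  intro y hy
  rw [Subgroup.mem_centralizer_iff]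
  intro a ha
  set c := y * a * y⁻¹ * a⁻¹ with hc
  have hcY : c ∈ Y := by
    have h1 : a * y⁻¹ * a⁻¹ ∈ Y :=
      (Subgroup.mem_normalizer_iff.mp (hAY ha) y⁻¹).mp (Y.inv_mem hy)
    have e : c = y * (a * y⁻¹ * a⁻¹) := by rw [hc]; group
    rw [e]
    exact Y.mul_mem hy h1
  have hcomp : ∀ L : Subgroup G, IsComponent L → c ∈ Subgroup.centralizer (L : Set G) := by
    intro L hL
    by_cases hall : ∀ d ∈ D, d ≠ 1 → ⁅L, Subgroup.zpowers d⁆ = L
    · have hAN : A ≤ Subgroup.normalizer (L : Set G) := hAL L hL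
      have hDC : D ⊓ Subgroup.centralizer (L : Set G) = ⊥ := by
        rw [Subgroup.eq_bot_iff_forall]
        rintro d ⟨hd, hdC⟩
        by_contra hd1
        have h1 : ⁅L, Subgroup.zpowers d⁆ = ⊥ := by
          rw [Subgroup.commutator_comm, Subgroup.commutator_eq_bot_iff_le_centralizer,
            Subgroup.zpowers_le]
          exact hdC
        rw [hall d hd hd1] at h1
        exact Cfsg.Agent.Helper21.IsComponent.ne_bot hL h1
      have hYN : Y ≤ Subgroup.normalizer (L : Set G) := fun y hy =>
        cm_eq_self_iff.mp (mem_compNormalizer.mp (hYcomp hy) L hL)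
      set B := Y ⊔ A with hB
      have hBN : B ≤ Subgroup.normalizer (L : Set G) := sup_le hYN hAN
      have hYB : Y ≤ B := le_sup_left
      have hAB : A ≤ B := le_sup_right
      have hBY : B ≤ Subgroup.normalizer (Y : Set G) := sup_le Subgroup.le_normalizer hAY
      set H := L ⊔ B with hH
      have hLH : L ≤ H := le_sup_left
      have hBH : B ≤ H := le_sup_right
      have hHN : H ≤ Subgroup.normalizer (L : Set G) := sup_le Subgroup.le_normalizer hBN
      have hLn : (L.subgroupOf H).Normal :=
        (Subgroup.normal_subgroupOf_iff_le_normalizer hLH).mpr hHN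
      haveI hCn : ((Subgroup.centralizer (L : Set G)).subgroupOf H).Normal :=
        Subgroup.normal_subgroupOf_of_le_normalizer
          (hHN.trans (Cfsg.Agent.Helper22.normalizer_le_normalizer_centralizer L))
      have hΔ := h L hL hDC H hLH (hAB.trans hBH) hLn
      have hmem : QuotientGroup.mk' ((Subgroup.centralizer (L : Set G)).subgroupOf H)
          ⟨y, hBH (hYB hy)⟩ ∈ signalizerDelta p ((D.subgroupOf H).map
            (QuotientGroup.mk' ((Subgroup.centralizer (L : Set G)).subgroupOf H))) := by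
        rw [mem_signalizerDelta_iff]
        rintro _ ⟨d, hd, rfl⟩ hd1
        have hdD : (d : G) ∈ D := Subgroup.mem_subgroupOf.mp hd
        have hd1' : (d : G) ≠ 1 := by
          intro h1
          apply hd1
          have : d = 1 := Subtype.ext h1
          rw [this, map_one]
        have hBx : B ≤ Subgroup.centralizer ({(d : G)} : Set G) := by
          refine sup_le ((hYle d hdD hd1').trans (centralizerPPrimeCore_le_centralizer p _)) ?_
          intro b hb
          rw [Subgroup.mem_centralizer_singleton_iff]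
          exact hAcomm b hb d (hDA hdD)
        exact star hO (hord d hdD hd1') hL (hAN (hDA hdD)) B Y hBx hBN (hAB (hDA hdD)) hYB
          (hYle d hdD hd1') hBY y hy
      have hcent := hΔ hmem
      have haH : a ∈ H := hBH (hAB ha)
      have hamem : QuotientGroup.mk' ((Subgroup.centralizer (L : Set G)).subgroupOf H) ⟨a, haH⟩ ∈
          (A.subgroupOf H).map
            (QuotientGroup.mk' ((Subgroup.centralizer (L : Set G)).subgroupOf H)) :=
        Subgroup.mem_map_of_mem _ (Subgroup.mem_subgroupOf.mpr ha)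
      have hcomm := Subgroup.mem_centralizer_iff.mp hcent _ hamem
      have hcH : c ∈ H := hBH (hYB hcY)
      have hone : QuotientGroup.mk' ((Subgroup.centralizer (L : Set G)).subgroupOf H)
          ⟨c, hcH⟩ = 1 := by
        have e : (⟨c, hcH⟩ : ↥H) =
            ⟨y, hBH (hYB hy)⟩ * ⟨a, haH⟩ * ⟨y, hBH (hYB hy)⟩⁻¹ * ⟨a, haH⟩⁻¹ := rfl
        rw [e, map_mul, map_mul, map_mul, map_inv, map_inv, ← hcomm]
        group
      rw [QuotientGroup.mk'_apply, QuotientGroup.eq_one_iff, Subgroup.mem_subgroupOf] at hone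
      exact hone
    · push Not at hall
      obtain ⟨d, hd, hd1, hne⟩ := hall
      have h1 := Cfsg.Agent.S1270.result p hO d (hord d hd hd1) L hL hne
      rw [Subgroup.commutator_comm, Subgroup.commutator_eq_bot_iff_le_centralizer] at h1
      exact ((hYle d hd hd1).trans h1) hcY
  set Yc := Subgroup.zpowers c with hYc
  have hYcY : Yc ≤ Y := Subgroup.zpowers_le.mpr hcY
  have hE : layer G ≤ Subgroup.centralizer (Yc : Set G) := by
    rw [Cfsg.Agent.Helper22.layer_le_iff]
    intro L hL
    rw [Subgroup.le_centralizer_iff]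
    exact Subgroup.zpowers_le.mpr (hcomp L hL)
  have hF : fittingSubgroup G ≤ Subgroup.centralizer (Yc : Set G) := by
    rw [Cfsg.Agent.Helper22.fittingSubgroup_eq_pCore_of_pPrimeCore_eq_bot p hO]
    intro u hu
    rw [Subgroup.mem_centralizer_iff]
    intro y' hy'
    exact centralizerPPrimeCore_commute_pCore (hord d₀ hd₀ hd₀1) (hYle d₀ hd₀ hd₀1 (hYcY hy')) u hu
  have hFs : Yc ≤ Subgroup.centralizer (generalizedFittingSubgroup G : Set G) := by
    rw [Subgroup.le_centralizer_iff]
    unfold generalizedFittingSubgroup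
    exact sup_le hE hF
  have h1 : Yc ≤ generalizedFittingSubgroup G :=
    hFs.trans Cfsg.Agent.Helper21.centralizer_generalizedFittingSubgroup_le
  have hcc : c ∈ Yc := Subgroup.mem_zpowers c
  haveI : (generalizedFittingSubgroup G).Normal :=
    Cfsg.Agent.Helper21.generalizedFittingSubgroup_normal
  have hsub := isSubnormal_zpowers_of_mem_inf_centralizer (h1 hcc) (hFs hcc)
  have hcop : (Nat.card ↥(Subgroup.zpowers c)).Coprime p := by
    rw [Nat.card_zpowers]
    exact orderOf_coprime_of_mem_centralizerPPrimeCore (hYle d₀ hd₀ hd₀1 hcY)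
  have h2 := Cfsg.Agent.Helper22.le_pPrimeCore_of_isSubnormal hsub hcop
  rw [hO, le_bot_iff, Subgroup.zpowers_eq_bot] at h2
  have h3 : y * a * y⁻¹ * a⁻¹ = 1 := h2
  calc a * y = (y * a * y⁻¹ * a⁻¹)⁻¹ * (y * a) := by group
    _ = y * a := by rw [h3, inv_one, one_mul]

end Cfsg.Agent.Helper90.WBal
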