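import Mathlib
import Cfsg.Prelude.Def_Transfer
import Cfsg.Agent.Helper90.FrattiniPow

set_option autoImplicit false

/-!
Type-level data of an extraspecial 2-group `P` with central involution `z`, and the basic commutator calculus.
-/

namespace Cfsg.Agent.Helper90

open Cfsg
open scoped commutatorElement

/-- Elementwise data of an extraspecial 2-group `P` (as a type): `z` is the central involution, all commutators
and all squares lie in `{1, z}`, and the centre is `{1, z}`. -/
structure XData (P : Type*) [Group P] (z : P) : Prop where
  z1 : z ≠ 1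
  zz : z * z = 1
  zc : ∀ q : P, q * z = z * q
  comm : ∀ x y : P, x * y = y * x ∨ x * y = z * (y * x)
  sq : ∀ x : P, x * x = 1 ∨ x * x = z
  cen : ∀ x : P, (∀ q : P, q * x = x * q) → x = 1 ∨ x = z

theorem exists_xdata {P : Type*} [Group P] [Finite P] (h : Cfsg.IsExtraspecial 2 P) :
    ∃ z : P, XData P z := by
  have hcard : Nat.card (Subgroup.center P) = 2 := h.2
  obtain ⟨a, b, hab, huniv⟩ := Nat.card_eq_two_iff.mp hcard
  -- one of a, b is 1; the other is z
  have hmem : ∀ w : Subgroup.center P, w = a ∨ w = b := by
    intro w
    have : w ∈ ({a, b} : Set (Subgroup.center P)) := by rw [huniv]; trivial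
    simpa using this
  obtain ⟨zc, hzc1, hzall⟩ : ∃ zc : Subgroup.center P, zc ≠ 1 ∧ ∀ w : Subgroup.center P, w = 1 ∨ w = zc := by
    rcases hmem 1 with h1 | h1
    · refine ⟨b, fun hb => hab (by rw [← h1, hb]), fun w => ?_⟩
      rcases hmem w with hw | hw
      · left; rw [hw, h1]
      · right; exact hw
    · refine ⟨a, fun ha => hab (by rw [← h1, ha]), fun w => ?_⟩
      rcases hmem w with hw | hw
      · right; exact hw
      · left; rw [hw, h1]
  have hzmem : (zc : P) ∈ Subgroup.center P := zc.2
  have hall : ∀ w : P, w ∈ Subgroup.center P → w = 1 ∨ w = (zc : P) := by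
    intro w hw
    rcases hzall ⟨w, hw⟩ with h1 | h1
    · left; exact congrArg Subtype.val h1
    · right; exact congrArg Subtype.val h1
  have hz1 : (zc : P) ≠ 1 := fun h0 => hzc1 (Subtype.ext h0)
  have hzz : (zc : P) * zc = 1 := by
    rcases hall _ (Subgroup.mul_mem _ hzmem hzmem) with h1 | h1
    · exact h1
    · exfalso; apply hz1
      calc (zc : P) = (zc : P)⁻¹ * ((zc : P) * zc) := by group
        _ = (zc : P)⁻¹ * zc := by rw [h1]
        _ = 1 := by group
  refine ⟨zc, hz1, hzz, ?_, ?_, ?_, ?_⟩
  · intro q
    exact (Subgroup.mem_center_iff.mp hzmem q)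
  · intro x y
    have h1 : ⁅x, y⁆ ∈ commutator P :=
      Subgroup.commutator_mem_commutator (Subgroup.mem_top _) (Subgroup.mem_top _)
    rw [h.1.2.2] at h1
    rcases hall _ h1 with h2 | h2
    · left
      rw [commutatorElement_def] at h2
      calc x * y = (x * y * x⁻¹ * y⁻¹) * (y * x) := by group
        _ = y * x := by rw [h2, one_mul]
    · right
      rw [commutatorElement_def] at h2
      calc x * y = (x * y * x⁻¹ * y⁻¹) * (y * x) := by group
        _ = zc * (y * x) := by rw [h2]
  · intro x
    have h1 : x ^ 2 ∈ frattini P := pow_prime_mem_frattini h.1.1 x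
    rw [h.1.2.1, pow_two] at h1
    exact hall _ h1
  · intro x hx
    apply hall
    rw [Subgroup.mem_center_iff]
    intro g
    exact hx g

namespace XData

variable {P : Type*} [Group P] {z : P}

theorem z_inv (hX : XData P z) : z⁻¹ = z := inv_eq_of_mul_eq_one_left hX.zz

/-- Non-commuting elements "commute up to `z`". -/
theorem ncomm (hX : XData P z) {x y : P} (h : x * y ≠ y * x) : x * y = z * (y * x) := by
  rcases hX.comm x y with h1 | h1
  · exact absurd h1 h
  · exact h1

theorem z_ne_comm (hX : XData P z) {x y : P} (h : x * y = z * (y * x)) : x * y ≠ y * x := by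
  intro h1
  apply hX.z1
  have : z * (y * x) = 1 * (y * x) := by rw [one_mul, ← h, h1]
  exact mul_right_cancel this

/-- The square of a product. -/
theorem sq_mul_comm (_hX : XData P z) {x y : P} (h : x * y = y * x) :
    (x * y) * (x * y) = (x * x) * (y * y) := by
  calc (x * y) * (x * y) = x * (y * x) * y := by group
    _ = x * (x * y) * y := by rw [h]
    _ = (x * x) * (y * y) := by group

theorem sq_mul_ncomm (hX : XData P z) {x y : P} (h : x * y ≠ y * x) :
    (x * y) * (x * y) = z * ((x * x) * (y * y)) := by
  have h1 : y * x = z * (x * y) := hX.ncomm (fun h' => h h'.symm)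
  calc (x * y) * (x * y) = x * (y * x) * y := by group
    _ = x * (z * (x * y)) * y := by rw [h1]
    _ = (x * z) * (x * y) * y := by group
    _ = (z * x) * (x * y) * y := by rw [hX.zc x]
    _ = z * ((x * x) * (y * y)) := by group

/-- The centralizer of `x` is closed under products; products of two non-centralizing elements centralize. -/
theorem comm_mul_of_ncomm (hX : XData P z) {x a b : P} (ha : a * x ≠ x * a) (hb : b * x ≠ x * b) :
    (a * b) * x = x * (a * b) := by
  have h1 := hX.ncomm ha
  have h2 := hX.ncomm hb
  calc (a * b) * x = a * (b * x) := by group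
    _ = a * (z * (x * b)) := by rw [h2]
    _ = (a * z) * (x * b) := by group
    _ = (z * a) * (x * b) := by rw [hX.zc a]
    _ = z * (a * x) * b := by group
    _ = z * (z * (x * a)) * b := by rw [h1]
    _ = (z * z) * (x * a) * b := by group
    _ = x * (a * b) := by rw [hX.zz]; group

theorem ncomm_mul_of_comm_ncomm (_hX : XData P z) {x a b : P} (ha : a * x = x * a) (hb : b * x ≠ x * b) :
    (a * b) * x ≠ x * (a * b) := by
  intro h
  apply hb
  have : a * (b * x) = a * (x * b) := by
    calc a * (b * x) = (a * b) * x := by group
      _ = x * (a * b) := h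
      _ = (x * a) * b := by group
      _ = (a * x) * b := by rw [ha]
      _ = a * (x * b) := by group
  exact mul_left_cancel this

theorem ncomm_mul_of_ncomm_comm (_hX : XData P z) {x a b : P} (ha : a * x ≠ x * a) (hb : b * x = x * b) :
    (a * b) * x ≠ x * (a * b) := by
  intro h
  apply ha
  have : (a * x) * b = (x * a) * b := by
    calc (a * x) * b = a * (x * b) := by group
      _ = a * (b * x) := by rw [hb]
      _ = (a * b) * x := by group
      _ = x * (a * b) := h
      _ = (x * a) * b := by group
  exact mul_right_cancel this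

/-- `z` is fixed by every automorphism. -/
theorem aut_z (hX : XData P z) (α : MulAut P) : α z = z := by
  have hcen : ∀ q : P, q * α z = α z * q := by
    intro q
    have := congrArg α (hX.zc (α.symm q))
    simpa using this
  rcases hX.cen _ hcen with h | h
  · exfalso
    apply hX.z1
    have : α z = α 1 := by rw [h, map_one]
    exact α.injective this
  · exact h

end XData

end Cfsg.Agent.Helper90
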