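import Mathlib
import Cfsg.Agent.Helper90.XData
import Cfsg.Agent.Helper90.Singular

set_option autoImplicit false

/-!
Non-central involutions of the extraspecial group `2^{1+4}_-` (order 32, no elementary abelian subgroup of order 8):
there are exactly ten, they generate the group, and two of them commute only if they agree modulo `z`.
-/

namespace Cfsg.Agent.Helper90

open Cfsg

theorem length_le_card_of_nodup {P : Type*} [Group P] [Finite P] (A : Subgroup P) (l : List P)
    (hl : l.Nodup) (hA : ∀ x ∈ l, x ∈ A) : l.length ≤ Nat.card A := by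
  classical
  have h1 : ((l.toFinset : Finset P) : Set P) ⊆ (A : Set P) := by
    intro x hx
    simp only [List.coe_toFinset, Set.mem_ofPred_eq] at hx
    exact hA x hx
  have h2 := Set.ncard_le_ncard h1 (Set.toFinite _)
  rw [Set.ncard_coe_finset, List.toFinset_card_of_nodup hl] at h2
  have h3 : Nat.card A = (A : Set P).ncard := Nat.card_coe_set_eq (A : Set P)
  rw [h3]
  exact h2

theorem card_le_length_of_forall_mem {P : Type*} [Group P] [Finite P] (A : Subgroup P) (l : List P)
    (hA : ∀ x ∈ A, x ∈ l) : Nat.card A ≤ l.length := by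
  classical
  have h1 : (A : Set P) ⊆ ((l.toFinset : Finset P) : Set P) := by
    intro x hx
    simp only [List.coe_toFinset, Set.mem_ofPred_eq]
    exact hA x hx
  have h2 := Set.ncard_le_ncard h1 (Set.toFinite _)
  rw [Set.ncard_coe_finset] at h2
  have h3 : Nat.card A = (A : Set P).ncard := Nat.card_coe_set_eq (A : Set P)
  rw [h3]
  exact h2.trans (List.toFinset_card_le l)

namespace XData

variable {P : Type*} [Group P] {z : P}

/-- `t` is a non-central involution. -/
def IsNI (z t : P) : Prop := t * t = 1 ∧ t ≠ 1 ∧ t ≠ z

theorem isNI_mul_z (hX : XData P z) {t : P} (ht : IsNI z t) : IsNI z (t * z) := by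
  obtain ⟨h1, h2, h3⟩ := ht
  refine ⟨?_, ?_, ?_⟩
  · calc t * z * (t * z) = t * (z * t) * z := by group
      _ = t * (t * z) * z := by rw [hX.zc t]
      _ = (t * t) * (z * z) := by group
      _ = 1 := by rw [h1, hX.zz, one_mul]
  · intro h
    apply h3
    calc t = (t * z) * z⁻¹ := by group
      _ = z := by rw [h, one_mul, hX.z_inv]
  · intro h
    apply h2
    calc t = (t * z) * z⁻¹ := by group
      _ = 1 := by rw [h]; group

theorem isNI_aut (hX : XData P z) (α : MulAut P) {t : P} (ht : IsNI z t) : IsNI z (α t) := by
  obtain ⟨h1, h2, h3⟩ := ht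
  refine ⟨by rw [← map_mul, h1, map_one], ?_, ?_⟩
  · intro h
    apply h2
    apply α.injective
    rw [h, map_one]
  · intro h
    apply h3
    apply α.injective
    rw [h, hX.aut_z]

/-- The centralizer of a non-central element has index two. -/
theorem index_centralizer (hX : XData P z) {x : P} (hx1 : x ≠ 1) (hxz : x ≠ z) :
    (Subgroup.centralizer ({x} : Set P)).index = 2 := by
  have hex : ∃ a : P, a * x ≠ x * a := by
    by_contra hcon
    push Not at hcon
    rcases hX.cen x hcon with h | h
    · exact hx1 h
    · exact hxz h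
  obtain ⟨a, ha⟩ := hex
  rw [Subgroup.index_eq_two_iff]
  refine ⟨a, fun b => ?_⟩
  rw [Subgroup.mem_centralizer_singleton_iff, Subgroup.mem_centralizer_singleton_iff]
  by_cases hb : b * x = x * b
  · right
    exact ⟨hb, hX.ncomm_mul_of_comm_ncomm hb ha⟩
  · left
    exact ⟨hX.comm_mul_of_ncomm hb ha, hb⟩

section minus

variable [Finite P]

/-- In the minus-type group, two non-central involutions that are different modulo `z` do not commute. -/
theorem ncomm_of_isNI (hX : XData P z)
    (hminus : ∀ A : Subgroup P, Cfsg.IsElementaryAbelian 2 A → Nat.card ↥A ≤ 4)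
    {s t : P} (hs : IsNI z s) (ht : IsNI z t) (hts : t ≠ s) (htsz : t ≠ s * z) : s * t ≠ t * s := by
  intro hc
  have hcomm : ∀ x ∈ ({s, t, z} : Set P), ∀ y ∈ ({s, t, z} : Set P), x * y = y * x := by
    intro x hx y hy
    simp only [Set.mem_insert_iff, Set.mem_singleton_iff] at hx hy
    rcases hx with rfl | rfl | rfl <;> rcases hy with rfl | rfl | rfl
    all_goals first | rfl | exact hc | exact hc.symm | exact hX.zc _ | exact (hX.zc _).symm
  have hcommI : IsMulCommutative ↥(Subgroup.closure ({s, t, z} : Set P)) :=
    Subgroup.isMulCommutative_closure hcomm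
  have hA : IsElementaryAbelian 2 (Subgroup.closure ({s, t, z} : Set P)) := by
    refine ⟨hcommI, ?_⟩
    intro a ha
    induction ha using Subgroup.closure_induction with
    | mem x hx =>
      simp only [Set.mem_insert_iff, Set.mem_singleton_iff] at hx
      rcases hx with rfl | rfl | rfl
      · rw [pow_two]; exact hs.1
      · rw [pow_two]; exact ht.1
      · rw [pow_two]; exact hX.zz
    | one => simp
    | mul x y hx hy hx2 hy2 =>
      have hxy : x * y = y * x := by
        have := hcommI.is_comm.comm (⟨x, hx⟩ : Subgroup.closure ({s, t, z} : Set P)) ⟨y, hy⟩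
        exact congrArg Subtype.val this
      rw [pow_two] at hx2 hy2 ⊢
      rw [hX.sq_mul_comm hxy, hx2, hy2, one_mul]
    | inv x hx hx2 =>
      rw [inv_pow, hx2, inv_one]
  have hcard := hminus _ hA
  have hnodup : ([1, z, s, s * z, t] : List P).Nodup := by
    have hsz := hX.isNI_mul_z hs
    simp only [List.nodup_cons, List.mem_cons, List.not_mem_nil, or_false, not_or, List.nodup_nil,
      and_true, not_false_eq_true]
    refine ⟨⟨fun h => hX.z1 h.symm, fun h => hs.2.1 h.symm, fun h => hsz.2.1 h.symm, fun h => ht.2.1 h.symm⟩,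
      ⟨fun h => hs.2.2 h.symm, fun h => hsz.2.2 h.symm, fun h => ht.2.2 h.symm⟩,
      ⟨?_, fun h => hts h.symm⟩, fun h => htsz h.symm⟩
    intro h
    apply hX.z1
    have : s * 1 = s * z := by rw [mul_one]; exact h
    exact (mul_left_cancel this).symm
  have hmem : ∀ x ∈ ([1, z, s, s * z, t] : List P), x ∈ Subgroup.closure ({s, t, z} : Set P) := by
    intro x hx
    simp only [List.mem_cons, List.not_mem_nil, or_false] at hx
    have hsm : s ∈ Subgroup.closure ({s, t, z} : Set P) := Subgroup.subset_closure (by simp)
    have htm : t ∈ Subgroup.closure ({s, t, z} : Set P) := Subgroup.subset_closure (by simp)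
    have hzm : z ∈ Subgroup.closure ({s, t, z} : Set P) := Subgroup.subset_closure (by simp)
    rcases hx with rfl | rfl | rfl | rfl | rfl
    · exact Subgroup.one_mem _
    · exact hzm
    · exact hsm
    · exact Subgroup.mul_mem _ hsm hzm
    · exact htm
  have := length_le_card_of_nodup _ _ hnodup hmem
  simp only [List.length_cons, List.length_nil] at this
  omega

/-- A group of order 32 with `XData` has a non-central involution. -/
theorem exists_isNI (hX : XData P z) (h32 : Nat.card P = 32) : ∃ s : P, IsNI z s := by
  by_contra hcon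
  push Not at hcon
  -- every element outside {1, z} squares to z
  have hsq : ∀ x : P, x ≠ 1 → x ≠ z → x * x = z := by
    intro x hx1 hxz
    rcases hX.sq x with h | h
    · exact absurd ⟨h, hx1, hxz⟩ (hcon x)
    · exact h
  -- pick x outside {1, z}
  obtain ⟨x, hx1, hxz⟩ : ∃ x : P, x ≠ 1 ∧ x ≠ z := by
    by_contra hno
    push Not at hno
    have := card_le_length_of_forall_mem (⊤ : Subgroup P) [1, z] (by
      intro x _
      by_cases h : x = 1
      · simp [h]
      · simp [hno x h])
    rw [Subgroup.card_top, h32] at this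
    simp at this
  have hidx := hX.index_centralizer hx1 hxz
  have hcardC : Nat.card (Subgroup.centralizer ({x} : Set P)) = 16 := by
    have := Subgroup.index_mul_card (Subgroup.centralizer ({x} : Set P))
    rw [hidx, h32] at this
    omega
  obtain ⟨y, hyC, hy⟩ : ∃ y ∈ Subgroup.centralizer ({x} : Set P), y ∉ ([1, x, z, x * z] : List P) := by
    by_contra hno
    push Not at hno
    have := card_le_length_of_forall_mem _ _ hno
    rw [hcardC] at this
    simp at this
  simp only [List.mem_cons, List.not_mem_nil, or_false, not_or] at hy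
  obtain ⟨hy1, hyx, hyz, hyxz⟩ := hy
  rw [Subgroup.mem_centralizer_singleton_iff] at hyC
  have hxx := hsq x hx1 hxz
  have hyy := hsq y hy1 hyz
  have hxinv : x⁻¹ = x * z := by
    apply inv_eq_of_mul_eq_one_right
    calc x * (x * z) = (x * x) * z := by group
      _ = 1 := by rw [hxx, hX.zz]
  have hxy1 : x * y ≠ 1 := by
    intro h
    apply hyxz
    rw [← hxinv]
    exact (inv_eq_of_mul_eq_one_right h).symm
  have hxyz : x * y ≠ z := by
    intro h
    apply hyx
    have : x * y = x * x := by rw [h, hxx]
    exact mul_left_cancel this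
  have h1 := hsq (x * y) hxy1 hxyz
  rw [hX.sq_mul_comm hyC.symm, hxx, hyy, hX.zz] at h1
  exact hX.z1 h1.symm

end minus

end XData

end Cfsg.Agent.Helper90
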