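import Mathlib
import Cfsg.Agent.Helper90.XInv

set_option autoImplicit false

/-!
Counting non-central involutions in `2^{1+4}_-`: exactly ten, hence five "singular points" `{t, t z}`; they generate.
-/

namespace Cfsg.Agent.Helper90

open Cfsg

namespace XData

variable {P : Type*} [Group P] {z : P}

/-- The non-central involutions generate, given one of them and the non-commuting property. -/
theorem closure_isNI_eq_top (hX : XData P z) {s : P} (hs : IsNI z s) :
    Subgroup.closure {t : P | IsNI z t} = ⊤ := by
  rw [eq_top_iff]
  intro y _
  have hsJ : s ∈ Subgroup.closure {t : P | IsNI z t} := Subgroup.subset_closure hs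
  -- elements not commuting with s lie in J
  have hout : ∀ t : P, t * s ≠ s * t → t ∈ Subgroup.closure {t : P | IsNI z t} := by
    intro t hts
    have ht1 : t ≠ 1 := by
      intro h; apply hts; rw [h, one_mul, mul_one]
    have htz : t ≠ z := by
      intro h; apply hts; rw [h]; exact (hX.zc s).symm
    rcases hX.sq t with htt | htt
    · exact Subgroup.subset_closure ⟨htt, ht1, htz⟩
    · have h2 : (t * s) * (t * s) = 1 := by
        rw [hX.sq_mul_ncomm hts, htt, hs.1, mul_one, hX.zz]
      have h3 : t * s ≠ 1 := by
        intro h
        apply hts
        have hst : s * t = 1 := by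
          calc s * t = t⁻¹ * (t * s) * t := by group
            _ = 1 := by rw [h]; group
        rw [h, hst]
      have h4 : t * s ≠ z := by
        intro h
        apply hts
        have h6 : t = z * s⁻¹ := by rw [← h]; group
        have h7 : s * t = z := by
          rw [h6]
          calc s * (z * s⁻¹) = (s * z) * s⁻¹ := by group
            _ = (z * s) * s⁻¹ := by rw [hX.zc s]
            _ = z := by group
        rw [h, h7]
      have h5 : t * s ∈ Subgroup.closure {t : P | IsNI z t} := Subgroup.subset_closure ⟨h2, h3, h4⟩
      have : t = (t * s) * s⁻¹ := by group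
      rw [this]
      exact Subgroup.mul_mem _ h5 (Subgroup.inv_mem _ hsJ)
  by_cases hy : y * s = s * y
  · obtain ⟨a, ha⟩ : ∃ a : P, a * s ≠ s * a := by
      by_contra hcon
      push Not at hcon
      rcases hX.cen s hcon with h | h
      · exact hs.2.1 h
      · exact hs.2.2 h
    have h1 := hout _ (hX.ncomm_mul_of_comm_ncomm hy ha)
    have h2 := hout a ha
    have : y = (y * a) * a⁻¹ := by group
    rw [this]
    exact Subgroup.mul_mem _ h1 (Subgroup.inv_mem _ h2)
  · exact hout y hy

section count

variable [Fintype P] [DecidableEq P]

open Classical in
/-- The finset of non-central involutions. -/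
noncomputable def niFinset (z : P) : Finset P := Finset.univ.filter (fun t => IsNI z t)

omit [DecidableEq P] in
theorem mem_niFinset {t : P} : t ∈ niFinset z ↔ IsNI z t := by
  unfold niFinset
  simp

/-- Ten non-central involutions. -/
theorem card_niFinset (hX : XData P z) (h32 : Nat.card P = 32)
    (hminus : ∀ A : Subgroup P, Cfsg.IsElementaryAbelian 2 A → Nat.card ↥A ≤ 4) :
    (niFinset z).card = 10 := by
  classical
  obtain ⟨s, hs⟩ := hX.exists_isNI h32
  have hsz := hX.isNI_mul_z hs
  -- split according to commuting with s
  have hsplit := Finset.card_filter_add_card_filter_not (s := niFinset z) (fun t => t * s = s * t)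
  -- commuting part = {s, s z}
  have hin : (niFinset z).filter (fun t => t * s = s * t) = {s, s * z} := by
    ext t
    simp only [Finset.mem_filter, mem_niFinset, Finset.mem_insert, Finset.mem_singleton]
    constructor
    · rintro ⟨ht, htc⟩
      by_contra hne
      push Not at hne
      exact hX.ncomm_of_isNI hminus hs ht hne.1 hne.2 htc.symm
    · rintro (h | h)
      · rw [h]; exact ⟨hs, rfl⟩
      · rw [h]
        refine ⟨hsz, ?_⟩
        calc s * z * s = s * (z * s) := by group
          _ = s * (s * z) := by rw [hX.zc s]
  have hin2 : ((niFinset z).filter (fun t => t * s = s * t)).card = 2 := by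
    rw [hin, Finset.card_pair]
    intro h
    apply hX.z1
    have : s * 1 = s * z := by rw [mul_one]; exact h
    exact (mul_left_cancel this).symm
  -- the outside part
  have hO : (Finset.univ.filter (fun t : P => ¬ t * s = s * t)).card = 16 := by
    have hidx := hX.index_centralizer hs.2.1 hs.2.2
    have hcardC : Nat.card (Subgroup.centralizer ({s} : Set P)) = 16 := by
      have := Subgroup.index_mul_card (Subgroup.centralizer ({s} : Set P))
      rw [hidx, h32] at this
      omega
    have h1 := Finset.card_filter_add_card_filter_not (s := (Finset.univ : Finset P)) (fun t => t * s = s * t)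
    have h2 : (Finset.univ.filter (fun t : P => t * s = s * t)).card = 16 := by
      rw [← hcardC, Nat.card_eq_fintype_card]
      rw [Fintype.card_subtype]
      congr 1
      ext t
      simp only [Finset.mem_filter, Finset.mem_univ, true_and]
      exact Subgroup.mem_centralizer_singleton_iff.symm
    have h3 : (Finset.univ : Finset P).card = 32 := by
      rw [Finset.card_univ, ← Nat.card_eq_fintype_card, h32]
    omega
  have hOsplit := Finset.card_filter_add_card_filter_not
    (s := Finset.univ.filter (fun t : P => ¬ t * s = s * t)) (fun t => t * t = 1)
  have hbij : ((Finset.univ.filter (fun t : P => ¬ t * s = s * t)).filter (fun t => t * t = 1)).card =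
      ((Finset.univ.filter (fun t : P => ¬ t * s = s * t)).filter (fun t => ¬ t * t = 1)).card := by
    apply Finset.card_bij (fun t _ => t * s)
    · intro t ht
      simp only [Finset.mem_filter, Finset.mem_univ, true_and] at ht ⊢
      obtain ⟨htc, htt⟩ := ht
      refine ⟨?_, ?_⟩
      · intro h
        apply htc
        have : (t * s) * s = (s * t) * s := by rw [h]; group
        exact mul_right_cancel this
      · rw [hX.sq_mul_ncomm htc, htt, hs.1, mul_one, mul_one]
        exact hX.z1
    · intro a _ b _ hab
      exact mul_right_cancel hab
    · intro u hu
      simp only [Finset.mem_filter, Finset.mem_univ, true_and] at hu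
      obtain ⟨huc, huu⟩ := hu
      have huu' : u * u = z := by
        rcases hX.sq u with h | h
        · exact absurd h huu
        · exact h
      have hsinv : s⁻¹ = s := inv_eq_of_mul_eq_one_left hs.1
      refine ⟨u * s, ?_, ?_⟩
      · simp only [Finset.mem_filter, Finset.mem_univ, true_and]
        refine ⟨?_, ?_⟩
        · intro h
          apply huc
          have : (u * s) * s = (s * u) * s := by rw [h]; group
          exact mul_right_cancel this
        · rw [hX.sq_mul_ncomm huc, huu', hs.1, mul_one, hX.zz]
      · calc u * s * s = u * (s * s) := by group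
          _ = u := by rw [hs.1, mul_one]
  have hout : (niFinset z).filter (fun t => ¬ t * s = s * t) =
      (Finset.univ.filter (fun t : P => ¬ t * s = s * t)).filter (fun t => t * t = 1) := by
    ext t
    simp only [Finset.mem_filter, mem_niFinset, Finset.mem_univ, true_and]
    constructor
    · rintro ⟨ht, htc⟩
      exact ⟨htc, ht.1⟩
    · rintro ⟨htc, htt⟩
      refine ⟨⟨htt, ?_, ?_⟩, htc⟩
      · intro h; apply htc; rw [h, one_mul, mul_one]
      · intro h; apply htc; rw [h]; exact (hX.zc s).symm
  rw [hout] at hsplit
  omega

/-- The "singular point" through `t`. -/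
def pairF (z t : P) : Finset P := {t, t * z}

omit [Fintype P] in
theorem pairF_eq_iff (hX : XData P z) {t u : P} : pairF z u = pairF z t ↔ u = t ∨ u = t * z := by
  unfold pairF
  constructor
  · intro h
    have : u ∈ ({u, u * z} : Finset P) := Finset.mem_insert_self _ _
    rw [h] at this
    simpa using this
  · rintro (h | h)
    · rw [h]
    · have h2 : t * z * z = t := by
        calc t * z * z = t * (z * z) := by group
          _ = t := by rw [hX.zz, mul_one]
      rw [h, h2, Finset.pair_comm]

/-- The finset of singular points. -/
noncomputable def sigmaFinset (z : P) : Finset (Finset P) := (niFinset z).image (pairF z)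

theorem card_sigmaFinset (hX : XData P z) (h32 : Nat.card P = 32)
    (hminus : ∀ A : Subgroup P, Cfsg.IsElementaryAbelian 2 A → Nat.card ↥A ≤ 4) :
    (sigmaFinset z).card = 5 := by
  classical
  have h10 := hX.card_niFinset h32 hminus
  have h1 := Finset.card_eq_sum_card_fiberwise (f := pairF z) (s := niFinset z) (t := sigmaFinset z)
    (fun x hx => Finset.mem_image_of_mem _ hx)
  have h2 : ∀ b ∈ sigmaFinset z, ((niFinset z).filter (fun a => pairF z a = b)).card = 2 := by
    intro b hb
    unfold sigmaFinset at hb
    obtain ⟨t, ht, rfl⟩ := Finset.mem_image.mp hb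
    have : (niFinset z).filter (fun a => pairF z a = pairF z t) = {t, t * z} := by
      ext u
      simp only [Finset.mem_filter, Finset.mem_insert, Finset.mem_singleton, hX.pairF_eq_iff]
      constructor
      · exact fun h => h.2
      · intro h
        refine ⟨?_, h⟩
        rcases h with rfl | rfl
        · exact ht
        · exact mem_niFinset.mpr (hX.isNI_mul_z (mem_niFinset.mp ht))
    rw [this, Finset.card_pair]
    intro h
    apply hX.z1
    have : t * 1 = t * z := by rw [mul_one]; exact h
    exact (mul_left_cancel this).symm
  rw [Finset.sum_congr rfl h2, Finset.sum_const, smul_eq_mul, h10] at h1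
  omega

end count

end XData

end Cfsg.Agent.Helper90
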