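import Mathlib
import Cfsg.Agent.Helper90.XData

set_option autoImplicit false

/-!
The "reflection" automorphism `τ_x` of an extraspecial 2-group attached to an element `x` with `x * x = z`:
`τ_x y = y` if `y` commutes with `x`, and `τ_x y = y * x` otherwise.
-/

namespace Cfsg.Agent.Helper90

namespace XData

variable {P : Type*} [Group P] {z : P}

open Classical in
/-- The reflection map attached to `x`. -/
noncomputable def reflFun (x y : P) : P := if y * x = x * y then y else y * x

theorem reflFun_comm {x y : P} (h : y * x = x * y) : reflFun x y = y := by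
  unfold reflFun; rw [if_pos h]

theorem reflFun_ncomm {x y : P} (h : y * x ≠ x * y) : reflFun x y = y * x := by
  unfold reflFun; rw [if_neg h]

theorem reflFun_mul (hX : XData P z) {x : P} (hx : x * x = z) (a b : P) :
    reflFun x (a * b) = reflFun x a * reflFun x b := by
  by_cases ha : a * x = x * a <;> by_cases hb : b * x = x * b
  · have hab : (a * b) * x = x * (a * b) := by
      calc (a * b) * x = a * (b * x) := by group
        _ = a * (x * b) := by rw [hb]
        _ = (a * x) * b := by group
        _ = (x * a) * b := by rw [ha]
        _ = x * (a * b) := by group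
    rw [reflFun_comm hab, reflFun_comm ha, reflFun_comm hb]
  · have hab := hX.ncomm_mul_of_comm_ncomm ha hb
    rw [reflFun_ncomm hab, reflFun_comm ha, reflFun_ncomm hb]
    group
  · have hab := hX.ncomm_mul_of_ncomm_comm ha hb
    rw [reflFun_ncomm hab, reflFun_ncomm ha, reflFun_comm hb]
    calc a * b * x = a * (b * x) := by group
      _ = a * (x * b) := by rw [hb]
      _ = a * x * b := by group
  · have hab := hX.comm_mul_of_ncomm ha hb
    rw [reflFun_comm hab, reflFun_ncomm ha, reflFun_ncomm hb]
    have h2 := hX.ncomm hb
    symm
    calc a * x * (b * x) = a * x * (z * (x * b)) := by rw [h2]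
      _ = a * (x * z) * (x * b) := by group
      _ = a * (z * x) * (x * b) := by rw [hX.zc x]
      _ = a * z * (x * x) * b := by group
      _ = a * z * z * b := by rw [hx]
      _ = a * (z * z) * b := by group
      _ = a * b := by rw [hX.zz]; group

theorem reflFun_reflFun (hX : XData P z) {x : P} (hx : x * x = z) (y : P) :
    reflFun x (reflFun x y) = x * y * x⁻¹ := by
  by_cases hy : y * x = x * y
  · rw [reflFun_comm hy, reflFun_comm hy]
    calc y = (y * x) * x⁻¹ := by group
      _ = x * y * x⁻¹ := by rw [hy]
  · have h1 : (y * x) * x ≠ x * (y * x) := by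
      intro h
      apply hy
      have : (y * x) * x = (x * y) * x := by rw [h]; group
      exact mul_right_cancel this
    rw [reflFun_ncomm hy, reflFun_ncomm h1]
    have h2 := hX.ncomm hy
    -- y x = z x y, so x y = z y x
    have h3 : x * y = z * (y * x) := by
      rw [h2, ← mul_assoc, hX.zz, one_mul]
    calc y * x * x = y * (x * x) := by group
      _ = y * z := by rw [hx]
      _ = z * y := hX.zc y
      _ = z * (y * x) * x⁻¹ := by group
      _ = x * y * x⁻¹ := by rw [← h3]

theorem reflFun_injective (hX : XData P z) {x : P} (hx : x * x = z) :
    Function.Injective (reflFun x) := by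
  intro a b hab
  have h1 := congrArg (reflFun x) hab
  rw [hX.reflFun_reflFun hx, hX.reflFun_reflFun hx] at h1
  have : x * a = x * b := by
    have := congrArg (· * x) h1
    simpa using this
  exact mul_left_cancel this

/-- The reflection automorphism attached to `x` with `x * x = z`. -/
noncomputable def refl [Finite P] (hX : XData P z) {x : P} (hx : x * x = z) : MulAut P :=
  MulEquiv.ofBijective (MonoidHom.mk' (reflFun x) (hX.reflFun_mul hx))
    (Finite.injective_iff_bijective.mp (hX.reflFun_injective hx))

theorem refl_apply [Finite P] (hX : XData P z) {x : P} (hx : x * x = z) (y : P) :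
    hX.refl hx y = reflFun x y := rfl

theorem refl_comm [Finite P] (hX : XData P z) {x : P} (hx : x * x = z) {y : P} (h : y * x = x * y) :
    hX.refl hx y = y := by rw [refl_apply, reflFun_comm h]

theorem refl_ncomm [Finite P] (hX : XData P z) {x : P} (hx : x * x = z) {y : P} (h : y * x ≠ x * y) :
    hX.refl hx y = y * x := by rw [refl_apply, reflFun_ncomm h]

end XData

end Cfsg.Agent.Helper90
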