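import Mathlib
import Cfsg.Agent.Helper90.XCount
import Cfsg.Agent.Helper90.XRefl
import Cfsg.Agent.Helper90.Singular

set_option autoImplicit false

/-!
The action of `Aut(2^{1+4}_-)` on the five singular points: kernel `Inn`, image `S₅`.
-/

namespace Cfsg.Agent.Helper90

open Cfsg

namespace XData

open Pointwise

variable {P : Type*} [Group P] {z : P}

/-- `XData` gives `ExtraData` for the top subgroup. -/
theorem extraData_top (hX : XData P z) : ExtraData (⊤ : Subgroup P) z where
  zQ := Subgroup.mem_top _
  z1 := hX.z1
  zz := hX.zz
  zc := fun q _ => hX.zc q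
  comm := by
    intro x _ y _
    rcases hX.comm x y with h | h
    · left
      calc x * y * x⁻¹ * y⁻¹ = (x * y) * x⁻¹ * y⁻¹ := by group
        _ = (y * x) * x⁻¹ * y⁻¹ := by rw [h]
        _ = 1 := by group
    · right
      calc x * y * x⁻¹ * y⁻¹ = (x * y) * x⁻¹ * y⁻¹ := by group
        _ = (z * (y * x)) * x⁻¹ * y⁻¹ := by rw [h]
        _ = z := by group
  cen := fun x _ h => hX.cen x (fun q => h q (Subgroup.mem_top _))
  zmem := by
    rw [mem_center_map_iff]
    exact ⟨Subgroup.mem_top _, fun q _ => hX.zc q⟩
  zall := by
    intro w hw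
    rw [mem_center_map_iff] at hw
    exact hX.cen w (fun q => hw.2 q (Subgroup.mem_top _))

/-- A proper subgroup containing `z` is centralized by some non-central element. -/
theorem exists_centralizing [Finite P] (hX : XData P z) (M : Subgroup P) (hzM : z ∈ M) (hM : M ≠ ⊤) :
    ∃ g : P, g ≠ 1 ∧ g ≠ z ∧ ∀ m ∈ M, g * m = m * g := by
  classical
  by_contra hcon
  push Not at hcon
  apply hM
  rw [eq_top_iff]
  intro x _
  have : Fintype P := Fintype.ofFinite P
  have h1 := hX.extraData_top.double_centralizer_finset (Finset.univ.filter (fun m => m ∈ M))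
    (fun s _ => Subgroup.mem_top _) x (Subgroup.mem_top _) (by
      intro c _ hc
      have hc' : c = 1 ∨ c = z := by
        by_contra hne
        push Not at hne
        obtain ⟨m, hm, hcm⟩ := hcon c hne.1 hne.2
        apply hcm
        exact hc m (by simp [hm])
      rcases hc' with h | h
      · rw [h, one_mul, mul_one]
      · rw [h]; exact (hX.zc x).symm)
  have h2 : Subgroup.closure (((Finset.univ.filter (fun m => m ∈ M) : Finset P) : Set P) ∪ {z}) ≤ M := by
    rw [Subgroup.closure_le]
    intro w hw
    rcases hw with hw | hw
    · simpa using hw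
    · rw [Set.mem_singleton_iff] at hw
      rw [hw]; exact hzM
  exact h2 h1

section action

variable [Fintype P] [DecidableEq P]

omit [Fintype P] in
theorem smul_pairF (hX : XData P z) (α : MulAut P) (t : P) : α • pairF z t = pairF z (α t) := by
  unfold pairF
  rw [Finset.smul_finset_insert, Finset.smul_finset_singleton, MulAut.smul_def, MulAut.smul_def, map_mul,
    hX.aut_z]

/-- The set of singular points, as an invariant subset for the action of `Aut P` on finsets. -/
def sigmaSub (hX : XData P z) : SubMulAction (MulAut P) (Finset P) where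
  carrier := {S | ∃ t, IsNI z t ∧ S = pairF z t}
  smul_mem' := by
    rintro α S ⟨t, ht, rfl⟩
    exact ⟨α t, hX.isNI_aut α ht, hX.smul_pairF α t⟩

theorem card_sigmaSub (hX : XData P z) (h32 : Nat.card P = 32)
    (hminus : ∀ A : Subgroup P, Cfsg.IsElementaryAbelian 2 A → Nat.card ↥A ≤ 4) :
    Nat.card (sigmaSub hX) = 5 := by
  classical
  have h5 := hX.card_sigmaFinset h32 hminus
  have e : ↥(sigmaSub hX) ≃ {S // S ∈ sigmaFinset z} := by
    refine Equiv.subtypeEquivRight ?_
    intro S
    unfold sigmaFinset
    rw [Finset.mem_image]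
    constructor
    · rintro ⟨t, ht, rfl⟩
      exact ⟨t, mem_niFinset.mpr ht, rfl⟩
    · rintro ⟨t, ht, rfl⟩
      exact ⟨t, mem_niFinset.mp ht, rfl⟩
  rw [Nat.card_congr e, Nat.card_eq_fintype_card, Fintype.card_coe, h5]

/-- The permutation representation on singular points. -/
noncomputable def sigmaHom (hX : XData P z) : MulAut P →* Equiv.Perm (sigmaSub hX) :=
  MulAction.toPermHom (MulAut P) (sigmaSub hX)

theorem sigmaHom_apply_val (hX : XData P z) (α : MulAut P) (U : sigmaSub hX) :
    ((hX.sigmaHom α U : sigmaSub hX) : Finset P) = α • (U : Finset P) := rfl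

omit [Fintype P] [DecidableEq P] in
theorem conj_mem_pair (hX : XData P z) (g t : P) : g * t * g⁻¹ = t ∨ g * t * g⁻¹ = t * z := by
  rcases hX.comm g t with h | h
  · left
    rw [h]; group
  · right
    rw [h, hX.zc t]; group

theorem ker_sigmaHom (hX : XData P z) (h32 : Nat.card P = 32) :
    (hX.sigmaHom).ker = (MulAut.conj : P →* MulAut P).range := by
  ext α
  rw [MonoidHom.mem_ker, MonoidHom.mem_range]
  constructor
  · intro hα
    -- α fixes every singular point
    have hfix : ∀ t : P, IsNI z t → α t = t ∨ α t = t * z := by
      intro t ht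
      have h1 := hX.sigmaHom_apply_val α ⟨pairF z t, t, ht, rfl⟩
      rw [hα] at h1
      simp only [Equiv.Perm.coe_one, id_eq] at h1
      rw [hX.smul_pairF] at h1
      exact hX.pairF_eq_iff.mp h1.symm
    obtain ⟨s, hs⟩ := hX.exists_isNI h32
    have hall : ∀ y : P, α y = y ∨ α y = y * z := by
      intro y
      have hy : y ∈ Subgroup.closure {t : P | IsNI z t} := by
        rw [hX.closure_isNI_eq_top hs]; exact Subgroup.mem_top _
      induction hy using Subgroup.closure_induction with
      | mem x hx => exact hfix x hx
      | one => left; exact map_one α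
      | mul a b _ _ ha hb =>
        rw [map_mul]
        rcases ha with ha | ha <;> rcases hb with hb | hb
        · left; rw [ha, hb]
        · right; rw [ha, hb]; group
        · right; rw [ha, hb]
          calc a * z * b = a * (z * b) := by group
            _ = a * (b * z) := by rw [hX.zc b]
            _ = a * b * z := by group
        · left; rw [ha, hb]
          calc a * z * (b * z) = a * (z * b) * z := by group
            _ = a * (b * z) * z := by rw [hX.zc b]
            _ = a * b * (z * z) := by group
            _ = a * b := by rw [hX.zz, mul_one]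
      | inv a _ ha =>
        rw [map_inv]
        rcases ha with ha | ha
        · left; rw [ha]
        · right; rw [ha, mul_inv_rev, hX.z_inv, hX.zc]
    by_cases hid : ∀ y : P, α y = y
    · refine ⟨1, ?_⟩
      rw [map_one]
      ext y
      rw [hid y]; rfl
    · push Not at hid
      obtain ⟨y0, hy0⟩ := hid
      -- the fixed subgroup
      have hMne : MonoidHom.eqLocus α.toMonoidHom (MonoidHom.id P) ≠ ⊤ := by
        intro h
        apply hy0
        have : y0 ∈ MonoidHom.eqLocus α.toMonoidHom (MonoidHom.id P) := by rw [h]; exact Subgroup.mem_top _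
        exact this
      have hzM : z ∈ MonoidHom.eqLocus α.toMonoidHom (MonoidHom.id P) := hX.aut_z α
      obtain ⟨g, hg1, hgz, hgM⟩ := hX.exists_centralizing _ hzM hMne
      refine ⟨g, ?_⟩
      ext y
      rw [MulAut.conj_apply]
      by_cases hy : α y = y
      · rw [hy]
        have := hgM y hy
        rw [this]; group
      · have hyz : α y = y * z := (hall y).resolve_left hy
        have hnc : g * y ≠ y * g := by
          intro hgy
          -- then g is central
          have hcen : ∀ w : P, w * g = g * w := by
            intro w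
            by_cases hw : α w = w
            · exact (hgM w hw).symm
            · have hwz : α w = w * z := (hall w).resolve_left hw
              have h1 : α (w * y⁻¹) = w * y⁻¹ := by
                rw [map_mul, map_inv, hwz, hyz, mul_inv_rev, hX.z_inv]
                calc w * z * (z * y⁻¹) = w * (z * z) * y⁻¹ := by group
                  _ = w * y⁻¹ := by rw [hX.zz, mul_one]
              have h2 := hgM _ h1
              calc w * g = (w * y⁻¹) * (y * g) := by group
                _ = (w * y⁻¹) * (g * y) := by rw [hgy]
                _ = ((w * y⁻¹) * g) * y := by group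
                _ = (g * (w * y⁻¹)) * y := by rw [h2]
                _ = g * w := by group
          rcases hX.cen g hcen with h | h
          · exact hg1 h
          · exact hgz h
        rw [hX.ncomm hnc, hyz, hX.zc y]
        group
  · rintro ⟨g, rfl⟩
    refine Equiv.ext fun U => Subtype.ext ?_
    obtain ⟨t, ht, hU⟩ := U.2
    rw [hX.sigmaHom_apply_val, hU, hX.smul_pairF, MulAut.conj_apply]
    simp only [Equiv.Perm.coe_one, id_eq]
    rw [hU]
    exact hX.pairF_eq_iff.mpr (hX.conj_mem_pair g t)

theorem sigmaHom_surjective (hX : XData P z)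
    (hminus : ∀ A : Subgroup P, Cfsg.IsElementaryAbelian 2 A → Nat.card ↥A ≤ 4) :
    Function.Surjective (hX.sigmaHom) := by
  rw [← MonoidHom.range_eq_top, eq_top_iff, ← Equiv.Perm.closure_isSwap, Subgroup.closure_le]
  rintro σ ⟨A, B, hAB, rfl⟩
  obtain ⟨t, ht, hA⟩ := A.2
  obtain ⟨t', ht', hB⟩ := B.2
  have hne : ¬ (t' = t ∨ t' = t * z) := by
    intro h
    apply hAB
    apply Subtype.ext
    rw [hA, hB]
    exact (hX.pairF_eq_iff.mpr h).symm
  push Not at hne
  have hnc : t * t' ≠ t' * t := hX.ncomm_of_isNI hminus ht ht' hne.1 hne.2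
  have hx : (t * t') * (t * t') = z := by
    rw [hX.sq_mul_ncomm hnc, ht.1, ht'.1, mul_one, mul_one]
  refine ⟨hX.refl hx, ?_⟩
  refine Equiv.ext fun U => Subtype.ext ?_
  obtain ⟨u, hu, hU⟩ := U.2
  rw [hX.sigmaHom_apply_val, hU, hX.smul_pairF]
  rw [Equiv.swap_apply_def]
  by_cases hUA : U = A
  · rw [if_pos hUA, hB]
    have hUA' : pairF z u = pairF z t := by rw [← hU, ← hA, hUA]
    -- τ t = t'
    have htx : t * (t * t') ≠ (t * t') * t := by
      intro h
      apply hnc
      have : t * (t * t') = t * (t' * t) := by rw [h]; group
      exact mul_left_cancel this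
    have h1 : hX.refl hx t = t' := by
      rw [hX.refl_ncomm hx htx]
      calc t * (t * t') = (t * t) * t' := by group
        _ = t' := by rw [ht.1, one_mul]
    rcases hX.pairF_eq_iff.mp hUA' with h | h
    · rw [h, h1]
    · rw [h, map_mul, hX.aut_z, h1]
      exact hX.pairF_eq_iff.mpr (Or.inr rfl)
  · rw [if_neg hUA]
    by_cases hUB : U = B
    · rw [if_pos hUB, hA]
      have hUB' : pairF z u = pairF z t' := by rw [← hU, ← hB, hUB]
      have htx : t' * (t * t') ≠ (t * t') * t' := by
        intro h
        apply hnc
        have : (t' * t) * t' = (t * t') * t' := by rw [← h]; group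
        exact (mul_right_cancel this).symm
      have h0 : t' * t = z * (t * t') := hX.ncomm (fun h => hnc h.symm)
      have h1 : hX.refl hx t' = t * z := by
        rw [hX.refl_ncomm hx htx]
        calc t' * (t * t') = (t' * t) * t' := by group
          _ = (z * (t * t')) * t' := by rw [h0]
          _ = z * t * (t' * t') := by group
          _ = z * t := by rw [ht'.1, mul_one]
          _ = t * z := (hX.zc t).symm
      have h2 : t * z * z = t := by
        calc t * z * z = t * (z * z) := by group
          _ = t := by rw [hX.zz, mul_one]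
      rcases hX.pairF_eq_iff.mp hUB' with h | h
      · rw [h, h1]
        exact hX.pairF_eq_iff.mpr (Or.inr rfl)
      · rw [h, map_mul, hX.aut_z, h1, h2]
    · rw [if_neg hUB, hU]
      have hut : ¬ (u = t ∨ u = t * z) := by
        intro h
        apply hUA
        apply Subtype.ext
        rw [hU, hA]
        exact hX.pairF_eq_iff.mpr h
      have hut' : ¬ (u = t' ∨ u = t' * z) := by
        intro h
        apply hUB
        apply Subtype.ext
        rw [hU, hB]
        exact hX.pairF_eq_iff.mpr h
      push Not at hut hut'
      have h1 : t * u ≠ u * t := hX.ncomm_of_isNI hminus ht hu hut.1 hut.2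
      have h2 : t' * u ≠ u * t' := hX.ncomm_of_isNI hminus ht' hu hut'.1 hut'.2
      have h3 := hX.comm_mul_of_ncomm h1 h2
      rw [hX.refl_comm hx h3.symm]

end action

end XData

end Cfsg.Agent.Helper90
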